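import Cfsg.Agent.H33.SolvC2

/-! Base sizes of solvable linear groups: counting tools for extraspecial 2-groups in
characteristic three. -/

set_option autoImplicit false

namespace H33.Solv

open Subgroup
open scoped commutatorElement

theorem li_of_chars {K M ι J : Type*} [Field K] [AddCommGroup M] [Module K M] {x : ι → M}
    (f : J → M →ₗ[K] M) {χ : ι → J → K} (hχ : Function.Injective χ) (h0 : ∀ i, x i ≠ 0)
    (h : ∀ i j, f j (x i) = χ i j • x i) : LinearIndependent K x := by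
  classical
  refine linearIndependent_iff'.2 fun s => ?_
  induction s using Finset.induction_on with
  | empty => simp
  | insert a s ha ih =>
    intro g e
    rw [Finset.sum_insert ha] at e
    have h1 : ∀ i ∈ s, g i = 0 := fun i hi => by_contra fun hg =>
      ha (hχ (funext fun j => sub_eq_zero.1 ((mul_eq_zero.1 (ih (fun i => g i * (χ i j - χ a j)) (by
        have := congrArg (fun y => f j y - χ a j • y) e
        simp only [map_add, map_sum, map_smul, h, smul_add, Finset.smul_sum, map_zero, smul_zero,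
          sub_zero, smul_comm (χ a j), add_sub_add_left_eq_sub, ← Finset.sum_sub_distrib] at this
        simpa only [mul_smul, sub_smul, smul_sub] using this) i hi)).resolve_left hg)) ▸ hi)
    rw [Finset.sum_eq_zero fun i hi => by rw [h1 i hi, zero_smul], add_zero, smul_eq_zero] at e
    exact Finset.forall_mem_insert _ _ _ |>.2 ⟨e.resolve_right (h0 a), h1⟩

variable {G V : Type*} [Group G] [AddCommGroup V] [DistribMulAction G V]

theorem count [Finite G] [Finite V] [FaithfulSMul G V] (h : ¬ Base G V 2) (S : Set G) {s t : ℕ}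
    (h1 : ∀ g : G, (orderOf g).Prime → g ∉ S → Nat.card (fix V g) ^ 2 ≤ s)
    (h2 : ∀ g ∈ S, Nat.card (fix V g) ^ 2 ≤ t) :
    Nat.card V ^ 2 ≤ Nat.card G * s + S.ncard * t := by
  classical
  have := Fintype.ofFinite G
  have := Fintype.ofFinite V
  rw [base_two] at h
  push Not at h
  let F : G → Finset (V × V) := fun g => Finset.univ.filter fun p => g • p.1 = p.1 ∧ g • p.2 = p.2
  have hF : ∀ g, (F g).card = Nat.card (fix V g) ^ 2 := fun g => by
    rw [pow_two, ← Nat.card_prod, ← Nat.card_eq_finsetCard]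
    exact Nat.card_congr ((Equiv.subtypeEquivRight (by simp [F, mem_fix])).trans
      Equiv.subtypeProdEquivProd)
  have e : (Finset.univ : Finset (V × V)) ⊆
      (Finset.univ.filter fun g => (orderOf g).Prime ∧ g ∉ S).biUnion F ∪ S.toFinset.biUnion F :=
    fun p _ => by
      obtain ⟨g, e1, e2, x, hx⟩ := h p.1 p.2
      obtain ⟨k, hk, hp⟩ := exists_prime_pow (g := g) (by rintro rfl; exact hx (one_smul _ _))
      by_cases hS : k ∈ S <;> simp only [Finset.mem_union, Finset.mem_biUnion]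
      · exact Or.inr ⟨k, by simpa using hS, by simp [F, fix_zpow e1 hk, fix_zpow e2 hk]⟩
      · exact Or.inl ⟨k, by simp [hp, hS], by simp [F, fix_zpow e1 hk, fix_zpow e2 hk]⟩
  have := (Finset.card_le_card e).trans (Finset.card_union_le _ _)
  rw [Finset.card_univ, Fintype.card_prod, ← pow_two, ← Nat.card_eq_fintype_card] at this
  refine this.trans (add_le_add ((Finset.card_biUnion_le_card_mul _ _ s fun g hg => ?_).trans
    (Nat.mul_le_mul_right _ ?_)) ((Finset.card_biUnion_le_card_mul _ _ t fun g hg => ?_).trans ?_))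
  · exact hF g ▸ h1 g (Finset.mem_filter.1 hg).2.1 (Finset.mem_filter.1 hg).2.2
  · rw [Nat.card_eq_fintype_card]; exact Finset.card_le_univ _
  · exact hF g ▸ h2 g (Set.mem_toFinset.1 hg)
  · rw [Set.ncard_eq_toFinset_card']

theorem card_tr [Finite V] {A B : AddSubgroup V} (a : G) (h : ∀ v ∈ A, a • v ∈ B) :
    Nat.card A ≤ Nat.card B :=
  Nat.card_le_card_of_injective (fun v : A => (⟨_, h v v.2⟩ : B)) fun _ _ e =>
    Subtype.ext (MulAction.injective a (congrArg Subtype.val e))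

section Quad

variable [Finite V] {ω : G} (hω : ∀ v : V, ω • v = -v) (h3 : ∀ v : V, 3 • v = 0)
include hω

omit [Finite V] in
theorem mem_nfix {c : G} {v : V} : v ∈ fix V (ω * c) ↔ c • v = -v := by
  rw [mem_fix, mul_smul, hω, neg_eq_iff_eq_neg]

theorem card_split {Y : AddSubgroup V} {c : G} (hc : c * c = 1) (hY : ∀ v ∈ Y, c • v ∈ Y) :
    Nat.card Y ≤ Nat.card (Y ⊓ fix V c : AddSubgroup V) *
      Nat.card (Y ⊓ fix V (ω * c) : AddSubgroup V) := by
  have := card_le_ker_mul ((DistribSMul.toAddMonoidHom V c - AddMonoidHom.id V).comp Y.subtype)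
    (A := (Y ⊓ fix V c).addSubgroupOf Y) (B := Y ⊓ fix V (ω * c))
    (fun v hv => ⟨v.2, sub_eq_zero.1 hv⟩) (by
      rintro _ ⟨v, rfl⟩
      refine ⟨Y.sub_mem (hY _ v.2) v.2, (mem_nfix hω).2 ?_⟩
      change c • (c • v.1 - v.1) = -(c • v.1 - v.1)
      rw [smul_sub, ← mul_smul, hc, one_smul, neg_sub])
  rwa [Nat.card_congr (AddSubgroup.addSubgroupOfEquivOfLe inf_le_left).toEquiv] at this

include h3

theorem card_disj {A B Y : AddSubgroup V} (c : G) (hA : A ≤ Y ⊓ fix V c)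
    (hB : B ≤ Y ⊓ fix V (ω * c)) : Nat.card A * Nat.card B ≤ Nat.card Y := by
  rw [← Nat.card_prod]
  refine Nat.card_le_card_of_injective
    (fun p : A × B => (⟨p.1 + p.2, add_mem (hA p.1.2).1 (hB p.2.2).1⟩ : Y)) fun p q e =>
      AddSubgroup.add_injective_of_disjoint (AddSubgroup.disjoint_def.2 fun {x} h1 h2 => ?_)
        (congrArg Subtype.val e)
  have := (hA h1).2.symm.trans ((mem_nfix hω).1 (hB h2).2)
  rw [← h3 x, succ_nsmul, two_nsmul, add_eq_zero_iff_eq_neg.2 this, zero_add]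

variable {X : AddSubgroup V} {a b c d g : G} (xa : ∀ v ∈ X, a • v ∈ X)
  (ac : ∀ v : V, c • a • v = a • c • v) (ad : ∀ v : V, d • a • v = -(a • d • v))
include xa ac ad

theorem quad4 (xb : ∀ v ∈ X, b • v ∈ X) (bc : ∀ v : V, c • b • v = -(b • c • v)) :
    Nat.card (X ⊓ fix V c ⊓ fix V d : AddSubgroup V) ^ 4 ≤ Nat.card X := by
  have e1 := card_tr (A := X ⊓ fix V c ⊓ fix V d) (B := X ⊓ fix V c ⊓ fix V (ω * d)) a
    fun v hv => ⟨⟨xa v hv.1.1, (ac v).trans (congrArg _ hv.1.2)⟩,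
      (mem_nfix hω).2 ((ad v).trans (by rw [show d • v = v from hv.2]))⟩
  have e2 := card_disj hω h3 d (le_refl (X ⊓ fix V c ⊓ fix V d)) le_rfl
  have e3 := card_tr (A := X ⊓ fix V c) (B := X ⊓ fix V (ω * c)) b
    fun v hv => ⟨xb v hv.1, (mem_nfix hω).2 ((bc v).trans (by rw [show c • v = v from hv.2]))⟩
  have e4 := card_disj hω h3 c (le_refl (X ⊓ fix V c)) le_rfl
  have e5 := (Nat.mul_le_mul_left _ e1).trans e2
  rw [show 4 = 2 * 2 from rfl, pow_mul, pow_two, pow_two]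
  exact (Nat.mul_le_mul e5 (e5.trans e3)).trans e4

theorem quadF (xc : ∀ v ∈ X, c • v ∈ X) (xd : ∀ v ∈ X, d • v ∈ X) (hc : c * c = 1) (hd : d * d = 1)
    (cd : Commute c d) (gc : Commute g c) (gd : Commute g d) (ag : a * g = g * c * a) :
    Nat.card (X ⊓ fix V g : AddSubgroup V) ≤
      Nat.card (X ⊓ fix V c ⊓ fix V d ⊓ fix V g : AddSubgroup V) ^ 2 *
        Nat.card (X ⊓ fix V (ω * c) ⊓ fix V (ω * d) : AddSubgroup V) := by
  have k : ∀ {x y : G}, Commute x y → ∀ v ∈ fix V x, y • v ∈ fix V x := fun e v hv => by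
    rw [mem_fix, ← mul_smul, e.eq, mul_smul, mem_fix.1 hv]
  have k' : ∀ v ∈ fix V (ω * c), d • v ∈ fix V (ω * c) := fun v hv => by
    rw [mem_nfix hω] at hv ⊢
    rw [← mul_smul, cd.eq, mul_smul, hv, smul_neg]
  have ga : ∀ v ∈ fix V g, g • c • a • v = a • v := fun v hv => by
    rw [← mul_smul, ← mul_smul, ← ag, mul_smul, mem_fix.1 hv]
  have e1 := card_split hω (Y := X ⊓ fix V g) hc fun v hv => ⟨xc v hv.1, k gc v hv.2⟩
  have e2 := card_split hω (Y := X ⊓ fix V g ⊓ fix V c) hd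
    fun v hv => ⟨⟨xd v hv.1.1, k gd v hv.1.2⟩, k cd v hv.2⟩
  have e3 := card_split hω (Y := X ⊓ fix V g ⊓ fix V (ω * c)) hd
    fun v hv => ⟨⟨xd v hv.1.1, k gd v hv.1.2⟩, k' v hv.2⟩
  have e4 := card_tr (A := X ⊓ fix V g ⊓ fix V c ⊓ fix V (ω * d))
    (B := X ⊓ fix V c ⊓ fix V d ⊓ fix V g) a fun v hv => by
      have e : c • a • v = a • v := (ac v).trans (congrArg _ hv.1.2)
      refine ⟨⟨⟨xa v hv.1.1.1, e⟩, mem_fix.2 ?_⟩, (congrArg (g • ·) e).symm.trans (ga v hv.1.1.2)⟩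
      rw [ad, (mem_nfix hω).1 hv.2, smul_neg, neg_neg]
  have e5 := card_tr (A := X ⊓ fix V g ⊓ fix V (ω * c) ⊓ fix V d)
    (B := X ⊓ fix V (ω * c) ⊓ fix V (ω * d) ⊓ fix V (ω * g)) a fun v hv => by
      have e : c • a • v = -(a • v) := by rw [ac, (mem_nfix hω).1 hv.1.2, smul_neg]
      refine ⟨⟨⟨xa v hv.1.1.1, (mem_nfix hω).2 e⟩, (mem_nfix hω).2 ?_⟩, (mem_nfix hω).2 ?_⟩
      · rw [ad, show d • v = v from hv.2]
      · rw [← neg_eq_iff_eq_neg, ← smul_neg, ← e, ga v hv.1.1.2]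
  have e6 := card_disj hω h3 (A := X ⊓ fix V g ⊓ fix V (ω * c) ⊓ fix V (ω * d))
    (Y := X ⊓ fix V (ω * c) ⊓ fix V (ω * d)) g
    (fun v hv => ⟨⟨⟨hv.1.1.1, hv.1.2⟩, hv.2⟩, hv.1.1.2⟩) le_rfl
  have e7 := AddSubgroup.card_le_of_le (show X ⊓ fix V g ⊓ fix V c ⊓ fix V d ≤
    X ⊓ fix V c ⊓ fix V d ⊓ fix V g from fun v hv => ⟨⟨⟨hv.1.1.1, hv.1.2⟩, hv.2⟩, hv.1.1.2⟩)
  rw [pow_two]
  exact e1.trans (Nat.mul_le_mul (e2.trans (Nat.mul_le_mul e7 e4))
    (e3.trans ((Nat.mul_le_mul_right _ e5).trans ((mul_comm _ _).trans_le e6))))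

end Quad

theorem Sec.card_pre {W : Type*} [AddCommGroup W] {Z N : Subgroup G} {π : G → W} (h : Sec Z N π)
    (U : AddSubgroup W) : Nat.card U = Z.relIndex (h.pre U) := by
  classical
  refine Sec.card (π := fun a => if e : π a ∈ U then (⟨_, e⟩ : U) else 0)
    ⟨fun a ha b hb => ?_, fun a ha => ?_, fun w => ?_⟩
  · rw [dif_pos ha.2, dif_pos hb.2, dif_pos (mul_mem ha hb).2]
    exact Subtype.ext (h.mul a ha.1 b hb.1)
  · rw [dif_pos ha.2, ← h.zero a ha.1, Subtype.ext_iff]; rfl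
  · obtain ⟨a, ha, e⟩ := h.surj w
    exact ⟨a, ⟨ha, e ▸ w.2⟩, by rw [dif_pos (e ▸ w.2)]; exact Subtype.ext e⟩

theorem NS.sq_index [Finite G] {Z N P : Subgroup G} (h : NS Z N) (h1 : Z ≤ P) (h2 : P ≤ N)
    (hc : ∀ a ∈ P, (∀ b ∈ P, a * b = b * a) → a ∈ Z) : IsSquare (Z.relIndex P) := by
  obtain ⟨D, ⟨d1, d2, d3⟩, hmax⟩ := H2.exists_maximal_subgroup
    (fun D : Subgroup G => Z ≤ D ∧ D ≤ P ∧ ∀ a ∈ D, ∀ b ∈ D, a * b = b * a)
    ⟨Z, le_rfl, h1, fun a ha b hb => h.cent b (h.le hb) a ha⟩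
  have cP : ∀ a ∈ P, ∀ z ∈ Z, z * a = a * z := fun a ha => h.cent a (h2 ha)
  have e1 := h.ded P D D Z cP (fun a ha => cP a (d2 ha))
    (fun a ha b hb => h.comm a (h2 ha) b (h2 (d2 hb))) (fun a ha b hb => (cP a ha b hb).symm)
    fun k hk e => by
      have hD : D ≤ closure (insert k D) := fun a ha => subset_closure (Or.inr ha)
      refine hmax _ ⟨d1.trans hD, (closure_le _).2 (Set.insert_subset hk d2), fun a ha b hb =>
        congrArg Subtype.val ((isMulCommutative_closure ?_).is_comm.comm 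
          (⟨a, ha⟩ : Subgroup.closure (insert k (D : Set G))) ⟨b, hb⟩)⟩ hD ▸ subset_closure (Or.inl rfl)
      rintro x (rfl | hx) y (rfl | hy)
      exacts [rfl, e y hy, (e x hx).symm, d3 x hx y hy]
  have e2 := h.ded D Z P D (fun a ha => cP a (d2 ha)) cP
    (fun a ha b hb => h.comm a (h2 (d2 ha)) b (h2 hb)) d3 fun a ha => hc a (d2 ha)
  exact ⟨_, by rw [← relIndex_mul_relIndex Z D P d1 d2, le_antisymm e1 e2]⟩

end H33.Solv
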