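import Cfsg.Agent.H57.DPCSpec
import Cfsg.Agent.H87.Simple
import Cfsg.Agent.H2.PrimeCore

/-! S3275, slot DPC-FB: centralisers of elements of order 3 have no normal `3'`-subgroup. -/

set_option autoImplicit false
set_option linter.unusedSectionVars false

namespace H33.DpcFB

open Subgroup Cfsg H98 H48.DP H57.DPC

universe u

variable {L : Type u} [Group L] [Finite L]

theorem mem_C1 {x y : L} : x ∈ C1 y ↔ Commute y x := by
  rw [mem_centralizer_singleton_iff]; exact ⟨fun h => h.symm, fun h => h.symm⟩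

/-- If `27` divides the order, centralisers of elements of order 3 have order divisible by 9. -/
theorem nine_dvd (h27 : 27 ∣ Nat.card L) {y : L} (hy : orderOf y = 3) : 9 ∣ Nat.card (C1 y) := by
  have : Fact (Nat.Prime 3) := ⟨by norm_num⟩
  have hp : IsPGroup 3 (zpowers y) := IsPGroup.of_card (n := 1) (by rw [Nat.card_zpowers, hy]; rfl)
  obtain ⟨P, hP⟩ := hp.exists_le_sylow
  have hP27 : 27 ∣ Nat.card (P : Subgroup L) := P.pow_dvd_card_of_pow_dvd_card (n := 3) h27
  set D : Subgroup L := C1 y ⊓ P with hD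
  have hDp : IsPGroup 3 D := P.2.to_le inf_le_right
  have hyD : zpowers y ≤ D := le_inf (zpowers_le.2 (mem_C1.2 (Commute.refl y))) hP
  obtain ⟨k, hk⟩ := IsPGroup.iff_card.1 hDp
  refine dvd_trans ?_ (card_dvd_of_le (inf_le_left : D ≤ C1 y))
  by_contra h9
  have hk1 : k ≤ 1 := by
    by_contra hk1
    exact h9 (hk ▸ (pow_dvd_pow 3 (by omega : 2 ≤ k)))
  have hDy : zpowers y = D := by
    refine eq_of_le_of_card_ge hyD ?_
    rw [hk, Nat.card_zpowers, hy]
    calc 3 ^ k ≤ 3 ^ 1 := Nat.pow_le_pow_right (by norm_num) hk1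
      _ = 3 := rfl
  have : Nontrivial (P : Subgroup L) := by
    rw [← Finite.one_lt_card_iff_nontrivial]
    have := Nat.le_of_dvd Nat.card_pos hP27
    omega
  have := P.2.center_nontrivial
  obtain ⟨⟨z, hz⟩, hz1⟩ := exists_ne (1 : center (P : Subgroup L))
  have hz1' : (z : L) ≠ 1 := fun h => hz1 (Subtype.ext (Subtype.ext h))
  have hzc : ∀ g ∈ (P : Subgroup L), Commute (z : L) g := fun g hg =>
    (congrArg Subtype.val (mem_center_iff.1 hz ⟨g, hg⟩)).symm
  have hzD : (z : L) ∈ zpowers y :=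
    hDy ▸ ⟨mem_C1.2 (hzc y (hP (mem_zpowers y))).symm, z.2⟩
  have hzy : zpowers (z : L) = zpowers y := by
    refine eq_of_le_of_card_ge (zpowers_le.2 hzD) ?_
    have h1 : Nat.card (zpowers (z : L)) ∣ 3 := by
      have := card_dvd_of_le (zpowers_le.2 hzD)
      rwa [Nat.card_zpowers y, hy] at this
    rcases (Nat.dvd_prime (by norm_num)).1 h1 with h | h
    · rw [Nat.card_zpowers, orderOf_eq_one_iff] at h; exact absurd h hz1'
    · rw [h, Nat.card_zpowers, hy]
  have hPD : (P : Subgroup L) ≤ D := fun g hg => by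
    refine ⟨mem_C1.2 ?_, hg⟩
    obtain ⟨n, hn⟩ := mem_zpowers_iff.1 (hzy ▸ mem_zpowers y : y ∈ zpowers (z : L))
    rw [← hn]; exact (hzc g hg).zpow_left n
  have := Nat.le_of_dvd Nat.card_pos (dvd_trans hP27 (card_dvd_of_le hPD))
  rw [← hDy, Nat.card_zpowers, hy] at this
  omega

/-- The core has odd order when `9` divides the order of the centraliser. -/
theorem odd_core (hF : Fa L) {y : L} (hy : orderOf y = 3) (h9 : 9 ∣ Nat.card (C1 y)) :
    ¬ 2 ∣ Nat.card (pPrimeCore 3 (C1 y)) := by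
  intro h2
  have : Fact (Nat.Prime 2) := ⟨by norm_num⟩
  set Y := pPrimeCore 3 (C1 y) with hY
  have : Y.Normal := inferInstance
  obtain ⟨S⟩ : Nonempty (Sylow 2 Y) := inferInstance
  have hfr := S.normalizer_sup_eq_top
  set T : Subgroup (C1 y) := (S : Subgroup Y).map Y.subtype with hT
  have hTp : IsPGroup 2 T := S.2.map _
  have hN : 9 ∣ Nat.card (normalizer (T : Set (C1 y))) := by
    have h1 : Y.index = Y.relIndex (normalizer (T : Set (C1 y))) := by
      rw [← relIndex_sup_right, hfr, relIndex_top_right]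
    have h2 : 9 ∣ Y.index := by
      have hc : (Nat.card Y).Coprime 3 := H2.coprime_card_pPrimeCore 3 _
      rw [← Y.card_mul_index] at h9
      exact (Nat.Coprime.pow_left 2 hc.symm).dvd_of_dvd_mul_left h9
    exact h2.trans (h1 ▸ relIndex_dvd_card _ _)
  have : Nontrivial T := by
    rw [← Finite.one_lt_card_iff_nontrivial, hT, card_map_of_injective Y.subtype_injective]
    have := Nat.le_of_dvd Nat.card_pos (S.dvd_card_of_dvd_card h2)
    omega
  have := hTp.center_nontrivial
  have hZp : IsPGroup 2 (center T) := hTp.to_subgroup _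
  obtain ⟨k, hk⟩ := IsPGroup.iff_card.1 hZp
  have hk0 : 2 ∣ Nat.card (center T) := by
    rw [hk]
    refine dvd_pow_self 2 ?_
    rintro rfl
    have := Finite.one_lt_card (α := center T)
    omega
  obtain ⟨⟨t, ht⟩, ht2⟩ := exists_prime_orderOf_dvd_card' 2 hk0
  have ht2' : orderOf (((t : C1 y)) : L) = 2 := by
    rw [← ht2]; simp only [orderOf_coe, orderOf_mk]
  refine hF.c9 _ ht2' (hN.trans ?_)
  rw [← card_map_of_injective (K := normalizer (T : Set (C1 y))) (C1 y).subtype_injective]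
  refine card_dvd_of_le ?_
  rintro _ ⟨g, hg, rfl⟩
  have hs : g * (t : C1 y) * g⁻¹ ∈ T := (mem_normalizer_iff.1 hg _).1 t.2
  have hs2 : orderOf ((g * (t : C1 y) * g⁻¹ : C1 y) : L) = 2 := by
    rw [← ht2']
    exact (MulAut.conj (g : L)).orderOf_eq _
  have hc : Commute ((g * (t : C1 y) * g⁻¹ : C1 y) : L) ((t : C1 y) : L) :=
    congrArg (fun a : T => ((a : C1 y) : L)) (mem_center_iff.1 ht ⟨_, hs⟩)
  have := hF.f3 y _ _ hy hs2 ht2' (mem_C1.1 (g * (t : C1 y) * g⁻¹).2) (mem_C1.1 (t : C1 y).2) hc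
  rw [mem_C1]
  have h3 : (g : L) * ((t : C1 y) : L) * (g : L)⁻¹ = ((t : C1 y) : L) := this
  exact (mul_inv_eq_iff_eq_mul.1 h3).symm

omit [Finite L] in
theorem le_No (y : L) : C1 y ≤ No (centralizerPPrimeCore 3 y) := by
  intro g hg
  have hn : (pPrimeCore 3 (C1 y)).Normal := inferInstance
  have key : ∀ g ∈ C1 y, ∀ x ∈ centralizerPPrimeCore 3 y,
      g * x * g⁻¹ ∈ centralizerPPrimeCore 3 y := by
    rintro g hg _ ⟨x, hx, rfl⟩
    exact ⟨_, hn.conj_mem x hx ⟨g, hg⟩, rfl⟩
  refine mem_normalizer_iff.2 fun x => ⟨key g hg x, fun h => ?_⟩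
  simpa [mul_assoc] using key _ (inv_mem hg) _ h

/-- A subgroup of prime order `p` with `p² ∤ |L|` as a Sylow subgroup. -/
theorem sylow_of {p : ℕ} [Fact p.Prime] (Y : Subgroup L) (hY : Nat.card Y = p)
    (h2 : ¬ p * p ∣ Nat.card L) : ∃ P : Sylow p L, (P : Subgroup L) = Y := by
  have hp : IsPGroup p Y := IsPGroup.of_card (n := 1) (by rw [hY, pow_one])
  refine ⟨hp.toSylow ?_, rfl⟩
  intro h
  exact h2 (by rw [← Y.card_mul_index, hY]; exact Nat.mul_dvd_mul_left p h)

theorem not_normal [IsSimpleGroup L] {p : ℕ} [Fact p.Prime] (P : Sylow p L)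
    (h1 : Nat.card (P : Subgroup L) = p) (h2 : Nat.card L ≠ p) : Nat.card (Sylow p L) ≠ 1 := by
  intro h
  rw [P.card_eq_index_normalizer, index_eq_one] at h
  have hn : (P : Subgroup L).Normal := normalizer_eq_top_iff.1 h
  rcases hn.eq_bot_or_eq_top with h | h
  · rw [h, card_bot] at h1; exact (Fact.out : p.Prime).one_lt.ne h1
  · rw [h, card_top] at h1; exact h2 h1

theorem jobFB : H57.DPC.JobFB.{u} := by
  intro hCen hKN hFA L _ _ h3 y hy
  obtain ⟨hs, hnc, -⟩ := hCen L h3
  obtain ⟨-, -, -, -, o1, o2, o3⟩ := hKN L h3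
  have hF := hFA L h3
  set Y := centralizerPPrimeCore 3 y with hYdef
  have hYc : Nat.card Y = Nat.card (pPrimeCore 3 (C1 y)) :=
    card_map_of_injective (C1 y).subtype_injective
  have hc3 : (Nat.card Y).Coprime 3 := hYc ▸ H2.coprime_card_pPrimeCore 3 _
  have hYC : Y ≤ C1 y := map_subtype_le _
  have hYL : Nat.card Y ∣ Nat.card L := card_subgroup_dvd_card Y
  have hCN : C1 y ≤ No Y := le_No y
  have hdvd : ∀ a b p : ℕ, ¬ 2 ∣ Nat.card Y → Nat.card L = 2 ^ a * 3 ^ b * p → Nat.card Y ∣ p := by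
    intro a b p h2 hL
    have c2 : (Nat.card Y).Coprime 2 := ((Nat.Prime.coprime_iff_not_dvd Nat.prime_two).2 h2).symm
    rw [hL] at hYL
    exact (Nat.Coprime.mul_right (c2.pow_right a) (hc3.pow_right b)).dvd_of_dvd_mul_left hYL
  -- the two large groups
  have big : ∀ (p m : ℕ) [Fact p.Prime], 27 ∣ Nat.card L → Nat.card L = 9 * p * m → p.Coprime 9 →
      ¬ p * p ∣ Nat.card L → Nat.card Y = p →
      Nat.card (Sylow p L) ∣ m ∧ Nat.card (Sylow p L) ≠ 1 := by
    intro p m _ h27 hL hcp hpp hY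
    obtain ⟨P, hP⟩ := sylow_of Y hY hpp
    have hp := (Fact.out : p.Prime).one_lt
    refine ⟨?_, not_normal P (hP ▸ hY) ?_⟩
    · have h1 : 9 ∣ Nat.card (No Y) := (nine_dvd h27 hy).trans (card_dvd_of_le hCN)
      have h2 : p ∣ Nat.card (No Y) := hY ▸ card_dvd_of_le le_normalizer
      obtain ⟨c, hc⟩ := hcp.symm.mul_dvd_of_dvd_of_dvd h1 h2
      have h4 := (No Y).card_mul_index
      rw [P.card_eq_index_normalizer]
      have h5 : (normalizer (P : Set L)) = No Y := by rw [← hP]; rfl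
      rw [h5]
      refine ⟨c, Nat.eq_of_mul_eq_mul_left (by positivity : 0 < 9 * p) ?_⟩
      rw [← hL, ← h4, hc]; ring
    · intro h
      have : 9 ∣ p := by rw [← h]; exact dvd_trans (by norm_num) h27
      have := Nat.Coprime.eq_one_of_dvd hcp.symm this
      omega
  rw [← card_eq_one]
  rcases h3 with h | h | h
  · have hL := o1 h
    have : Fact (Nat.Prime 7) := ⟨by norm_num⟩
    have h2 : ¬ 2 ∣ Nat.card Y := fun h2 => by
      have : Fact (Nat.Prime 2) := ⟨by norm_num⟩
      obtain ⟨t, ht⟩ := exists_prime_orderOf_dvd_card' 2 h2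
      exact hF.c3 hL t y (by rw [orderOf_coe, ht]) hy (mem_C1.1 (hYC t.2))
    rcases (Nat.dvd_prime (by norm_num)).1 (hdvd 3 1 7 h2 hL) with h7 | h7
    · exact h7
    exfalso
    obtain ⟨P, hP⟩ := sylow_of Y h7 (by rw [hL]; norm_num)
    have hn1 := not_normal P (hP ▸ h7) (by rw [hL]; norm_num)
    have hm := card_sylow_modEq_one 7 L
    have h5 : (normalizer (P : Set L)) = No Y := by rw [← hP]; rfl
    have hCe : Ce Y ≤ No Y := centralizer_le_normalizer _
    have : IsCyclic Y := isCyclic_of_prime_card h7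
    have hYCe : Y ≤ Ce Y := le_centralizer Y
    have hyCe : zpowers y ≤ Ce Y := zpowers_le.2 fun g hg => (mem_C1.1 (hYC hg)).symm
    have h21 : 21 ∣ Nat.card (Ce Y) := by
      have a1 := card_dvd_of_le hYCe
      have a2 := card_dvd_of_le hyCe
      rw [h7] at a1
      rw [Nat.card_zpowers, hy] at a2
      exact (by norm_num : Nat.Coprime 3 7).mul_dvd_of_dvd_of_dvd a2 a1
    have h4 := (No Y).card_mul_index
    rw [P.card_eq_index_normalizer, h5] at hn1 hm
    obtain ⟨c, hc⟩ := h21.trans (card_dvd_of_le hCe)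
    rw [hL, hc] at h4
    have hi : (No Y).index ∣ 8 := ⟨c, by linarith [mul_comm c (No Y).index, mul_assoc 21 c (No Y).index]⟩
    have hi8 : (No Y).index = 8 := by
      have := Nat.le_of_dvd (by norm_num) hi
      unfold Nat.ModEq at hm
      omega
    have hNC : No Y ≤ Ce Y := by
      refine (eq_of_le_of_card_ge hCe ?_).ge
      rw [hi8] at h4
      have := Nat.le_of_dvd Nat.card_pos h21
      omega
    have hP' : normalizer (P : Set L) ≤ centralizer (P : Set L) := by
      rw [h5]; refine hNC.trans (le_of_eq ?_); rw [← hP]; rfl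
    have hcomp := (MonoidHom.ker_transferSylow_isComplement' P hP').card_mul_card
    have hP7 : Nat.card (P : Subgroup L) = 7 := hP ▸ h7
    rw [hP7, hL] at hcomp
    rcases (inferInstance : (MonoidHom.transferSylow P hP').ker.Normal).eq_bot_or_eq_top with h | h
    · rw [h, card_bot] at hcomp; omega
    · rw [h, card_top, hL] at hcomp; omega
  · have hL := o2 h
    have : Fact (Nat.Prime 13) := ⟨by norm_num⟩
    have h27 : 27 ∣ Nat.card L := by rw [hL]; norm_num
    have h2 : ¬ 2 ∣ Nat.card Y := hYc ▸ odd_core hF hy (nine_dvd h27 hy)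
    rcases (Nat.dvd_prime (by norm_num)).1 (hdvd 4 3 13 h2 hL) with h7 | h7
    · exact h7
    exfalso
    obtain ⟨a1, a2⟩ := big 13 48 h27 hL (by norm_num) (by rw [hL]; norm_num) h7
    have hm := card_sylow_modEq_one 13 L
    have := Nat.le_of_dvd (by norm_num) a1
    unfold Nat.ModEq at hm
    have h6 : Nat.card (Sylow 13 L) = 14 ∨ Nat.card (Sylow 13 L) = 27 ∨
      Nat.card (Sylow 13 L) = 40 := by omega
    rcases h6 with h | h | h <;> rw [h] at a1 <;> norm_num at a1
  · have hL := o3 h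
    have : Fact (Nat.Prime 7) := ⟨by norm_num⟩
    have h27 : 27 ∣ Nat.card L := by rw [hL]; norm_num
    have h2 : ¬ 2 ∣ Nat.card Y := hYc ▸ odd_core hF hy (nine_dvd h27 hy)
    rcases (Nat.dvd_prime (by norm_num)).1 (hdvd 5 3 7 h2 hL) with h7 | h7
    · exact h7
    exfalso
    obtain ⟨a1, a2⟩ := big 7 96 h27 hL (by norm_num) (by rw [hL]; norm_num) h7
    have hm := card_sylow_modEq_one 7 L
    have hf := H87.two_mul_card_dvd_factorial_sylow hnc 7 (by rw [hL]; norm_num)
    have := Nat.le_of_dvd (by norm_num) a1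
    unfold Nat.ModEq at hm
    rw [hL] at hf
    generalize Nat.card (Sylow 7 L) = n at a1 a2 hm hf this
    have h8 : n = 8 := by
      obtain ⟨k, rfl⟩ : ∃ k, n = 7 * k + 1 := ⟨n / 7, by omega⟩
      have hk : k ≤ 13 := by omega
      interval_cases k <;> omega
    rw [h8] at hf
    exact absurd hf (by decide)

end H33.DpcFB
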