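/- Four-groups acting on groups of odd order; the `Z*`-theorem modulo a normal subgroup. -/
import Cfsg.Agent.H96.QUTool
import Cfsg.Agent.H48.Two1
import Cfsg.Agent.H1.CoprimeGen
import Cfsg.Agent.H1.GSpec

set_option autoImplicit false

namespace H33.JS

open Cfsg Subgroup H98
open H1.Gold (cen cen1 nor)
open scoped commutatorElement

universe u

theorem four_aut {Γ : Type u} [Group Γ] [Finite Γ] (hΓ : Odd (Nat.card Γ)) {α β : MulAut Γ}
    (ha : α * α = 1) (hb : β * β = 1) (hc : β * α = α * β) (L : Subgroup Γ)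
    (h1 : ∀ x, α x = x → x ∈ L) (h2 : ∀ x, β x = x → x ∈ L) (h3 : ∀ x, (α * β) x = x → x ∈ L) :
    ⊤ ≤ L := by
  by_cases a1 : α = 1
  · exact fun x _ => h1 x (by simp [a1])
  by_cases b1 : β = 1
  · exact fun x _ => h2 x (by simp [b1])
  by_cases c1 : α = β
  · exact fun x _ => h3 x (by rw [← c1, ha]; rfl)
  have m := fun x => H48.mem_four (x := x) hb ha hc
  have c4 := H48.card_four hb ha hc b1 a1 c1
  have sq : ∀ x ∈ H48.four β α, x * x = 1 := fun x hx => by
    rcases (m x).1 hx with rfl | rfl | rfl | rfl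
    exacts [one_mul 1, hb, ha, by rw [mul_assoc, ← mul_assoc β, hc, mul_assoc, hb, mul_one, ha]]
  have : IsMulCommutative (H48.four β α) := ⟨⟨fun a b => Subtype.ext (by
    rw [coe_mul, coe_mul, ← inv_eq_of_mul_eq_one_right (sq _ (mul_mem a.2 b.2)), mul_inv_rev,
      inv_eq_of_mul_eq_one_right (sq _ a.2), inv_eq_of_mul_eq_one_right (sq _ b.2)])⟩⟩
  have nc : ¬ IsCyclic (H48.four β α) := fun hc => by
    have h : Monoid.exponent (H48.four β α) ∣ 2 :=
      Monoid.exponent_dvd_of_forall_pow_eq_one fun a => Subtype.ext (by simpa [pow_two] using sq _ a.2)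
    rw [IsCyclic.exponent_eq_card, c4] at h
    omega
  refine H1.le_of_cocyclic_fixed (H48.four β α).subtype ⊤ (fun _ _ _ => mem_top _) ?_ L
    fun Y hY x _ hx => ?_
  · rw [c4, card_top]
    exact (Nat.coprime_two_left.2 hΓ).pow_left 2
  · obtain ⟨⟨w, hw⟩, h4, h5⟩ := H1.exists_ne_one_of_isCyclic_quotient nc Y hY
    have h6 := hx _ h4
    rcases (m w).1 hw with rfl | rfl | rfl | rfl
    exacts [absurd rfl h5, h2 x h6, h1 x h6, h3 x h6]

variable {G : Type u} [Group G] [Finite G]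

/-- generation of a group of odd order by the centralisers in a four-group of automorphisms. -/
theorem four_gen {K B : Subgroup G} {a b : G} (hK : Odd (Nat.card K)) (na : a ∈ nor K)
    (nb : b ∈ nor K) (ha : a * a ∈ cen K) (hb : b * b ∈ cen K) (hc : ⁅a, b⁆ ∈ cen K)
    (h1 : K ⊓ cen1 a ≤ B) (h2 : K ⊓ cen1 b ≤ B) (h3 : K ⊓ cen1 (a * b) ≤ B) : K ≤ B := by
  let φ := K.normalizerMonoidHom
  have k : ∀ n : nor K, (n : G) ∈ cen K → φ n = 1 := fun n hn => by
    ext x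
    show (n : G) * x * (n : G)⁻¹ = x
    rw [← hn x x.2, mul_inv_cancel_right]
  have f : ∀ n : nor K, K ⊓ cen1 (n : G) ≤ B → ∀ x, φ n x = x → x ∈ B.subgroupOf K :=
    fun n e x hx => e ⟨x.2, mem_centralizer_singleton_iff.2
      (mul_inv_eq_iff_eq_mul.1 (congrArg Subtype.val hx)).symm⟩
  have := four_aut hK (α := φ ⟨a, na⟩) (β := φ ⟨b, nb⟩) (by rw [← map_mul]; exact k _ ha)
    (by rw [← map_mul]; exact k _ hb) (commutatorElement_eq_one_iff_mul_comm.1 (by
      rw [← map_commutatorElement]; exact k _ hc)).symm _ (f _ h1) (f _ h2)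
    (by rw [← map_mul]; exact f _ h3)
  exact subgroupOf_eq_top.1 (top_le_iff.1 this)

theorem nor_step {K : Subgroup G} {a w c : G} (ha : a ∈ nor K) (hc : c ∈ cen K)
    (e : a⁻¹ * w * a = c * w) : a ∈ nor (K ⊓ cen1 w) := mem_normalizer_of_cj_le <| by
  rintro _ ⟨o, ho, rfl⟩
  refine ⟨conj_mem_of_mem_normalizer ha ho.1, mem_centralizer_singleton_iff.2 ?_⟩
  have h1 := mem_centralizer_singleton_iff.1 ho.2
  show a * o * a⁻¹ * w = w * (a * o * a⁻¹)
  calc _ = a * (o * (a⁻¹ * w * a)) * a⁻¹ := by group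
    _ = a * ((a⁻¹ * w * a) * o) * a⁻¹ := by
      rw [e, ← mul_assoc o, hc o ho.1, mul_assoc c, h1, mul_assoc c]
    _ = _ := by group

/-- the `Z*`-theorem modulo a normal subgroup. -/
theorem zstar_mod {H Y T : Subgroup G} {w : G} (hn : H ≤ nor Y) (hT : IsSyl 2 T H) (YT : Y ≤ T)
    (hw : w ∈ T) (h2 : w * w = 1) (hi : ∀ b ∈ H, b * w * b⁻¹ ∈ T → w⁻¹ * (b * w * b⁻¹) ∈ Y) :
    ∃ K, Y ≤ K ∧ K ≤ H ∧ H ≤ nor K ∧ Odd (Y.relIndex K) ∧ ∀ b ∈ H, ⁅w, b⁆ ∈ K := by
  have := normal_subgroupOf_of_le_normalizer hn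
  let π := QuotientGroup.mk' (Y.subgroupOf H)
  have h1 := hT.subgroupOf_top.map π
  obtain ⟨N, -, n1, n2, n3⟩ := H96.H97.QU.zstar h1 (w := π ⟨w, hT.le hw⟩) ⟨_, hw, rfl⟩
    (by rw [← map_mul]; exact (congrArg π (Subtype.ext h2)).trans (map_one π)) (by
      rintro _ ⟨b, -, rfl⟩ ⟨u, hu, e⟩
      rw [← map_mul, ← map_inv, ← map_mul] at e ⊢
      have e1 : (u : G)⁻¹ * (b * w * (b : G)⁻¹) ∈ Y :=
        (QuotientGroup.eq (s := Y.subgroupOf H)).1 e
      refine ((QuotientGroup.eq (s := Y.subgroupOf H)).2 (hi b b.2 ?_)).symm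
      simpa using T.mul_mem (x := u) hu (YT e1))
  have nN : N.Normal := normal_of_top_le_normalizer (by
    rwa [map_top_of_surjective _ (QuotientGroup.mk'_surjective _)] at n1)
  refine ⟨(N.comap π).map H.subtype, fun u hu => ⟨⟨u, hT.le (YT hu)⟩, ?_, rfl⟩, map_subtype_le _,
    le_normalizer_map_subtype _, ?_, fun b hb =>
      ⟨⁅(⟨w, hT.le hw⟩ : H), (⟨b, hb⟩ : H)⁆, ?_, rfl⟩⟩
  · rw [SetLike.mem_coe, mem_comap, show π ⟨u, hT.le (YT hu)⟩ = 1 from
      (QuotientGroup.eq_one_iff (N := Y.subgroupOf H) _).2 hu]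
    exact one_mem _
  · rw [← relIndex_subgroupOf (map_subtype_le _), show ((N.comap π).map H.subtype).subgroupOf H = _
        from comap_map_eq_self_of_injective H.subtype_injective _]
    have e := relIndex_ker (N.comap π) π
    rw [QuotientGroup.ker_mk', map_comap_eq_self_of_surjective (QuotientGroup.mk'_surjective _)] at e
    rwa [e]
  · rw [SetLike.mem_coe, mem_comap, map_commutatorElement]
    exact n3 _ ⟨_, mem_top _, rfl⟩

end H33.JS
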