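/- TE2 (blueprints/TE2.md): kit for the jobs L2 and C1. -/
import Cfsg.Agent.H88.TESpec
import Cfsg.Agent.H69.Std6

set_option autoImplicit false
set_option linter.unusedSectionVars false

namespace H33.TE

open Subgroup Cfsg H98 H1.Gold H86.L34 H6 H88.TE

universe u
variable {G : Type u} [Group G]

theorem lft {a b c : G} (h : a * b = c) (t : G) : a * (b * t) = c * t := by rw [← mul_assoc, h]

theorem cj_of {g x y : G} (h : g * x = y * g) : g * x * g⁻¹ = y := by rw [h, mul_inv_cancel_right]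

theorem of_cj {g x y : G} (h : g * x * g⁻¹ = y) : g * x = y * g := by rw [← h, inv_mul_cancel_right]

theorem cj_mul (g x y : G) : g * (x * y) * g⁻¹ = g * x * g⁻¹ * (g * y * g⁻¹) := by group

theorem cj_inv {g x y : G} (h : g * x * g⁻¹ = y) : g⁻¹ * y * g = x := by rw [← h]; group

theorem com_of {g x : G} (h : g * x * g⁻¹ = x) : Commute g x := of_cj h

theorem ph0 {big : Bool} : Ph big 0 := Or.inr (Or.inl rfl)

theorem ph1 {big : Bool} : Ph big 1 := Or.inr (Or.inr rfl)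

theorem ph_add {big : Bool} {c c' : F4} (h : Ph big c) (h' : Ph big c') : Ph big (c + c') := by
  rcases h with h | rfl | rfl
  · exact Or.inl h
  · rwa [zero_add]
  · rcases h' with h | rfl | rfl
    · exact Or.inl h
    · exact ph1
    · exact ph0

theorem add_eq_zero4 {a b : F4} (h : a + b = 0) : a = b := by
  revert a b; decide

variable [Finite G] {d : Dt G} {big : Bool} {R O : Subgroup G} {r : F4 → G} {a b c e : F4} {g k : G}

theorem KA (hk : k ∈ d.K) (hg : g ∈ d.A) : Commute k g := (mem_centralizer_iff.1 hk g hg).symm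

theorem r0 (hp : Pr d big R r) : r 0 = 1 := by simpa using hp.add 0 0 ph0 ph0

theorem rr (hp : Pr d big R r) (hc : Ph big c) : r c * r c = 1 := by
  rw [← hp.add c c hc hc, F4.add_self, r0 hp]

theorem rR (hp : Pr d big R r) (hc : Ph big c) : r c ∈ R := (hp.mem _).2 ⟨c, hc, rfl⟩

theorem rK (hp : Pr d big R r) (hc : Ph big c) : r c ∈ d.K := hp.syl.le (rR hp hc)

theorem rA (hp : Pr d big R r) (hc : Ph big c) (hg : g ∈ d.A) : Commute (r c) g := KA (rK hp hc) hg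

theorem rcom (hp : Pr d big R r) (hc : Ph big c) (he : Ph big e) : Commute (r c) (r e) := by
  rw [Commute, SemiconjBy, ← hp.add _ _ hc he, ← hp.add _ _ he hc, add_comm]

theorem nor_r (hf : Fr0 d) (hp : Pr d big R r) (h : Commute g (r 1)) : g ∈ d.N :=
  H69.Std.nor_of_inv hf.std (rK hp ph1) (rr hp ph1) (fun e => one_ne_zero (hp.inj 1 ph1 e)) h

theorem u4 (hf : Fr0 d) (a b c : F4) : d.u a b c ^ 4 = 1 := by
  rw [show 4 = 2 * 2 from rfl, pow_mul, hf.hm.sq, hf.hm.sq, mul_zero, hf.hm.one]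

theorem odd_two {x : G} {n : ℕ} (h : Odd (orderOf x)) (h2 : x ^ 2 ^ n = 1) : x = 1 := by
  have := (Nat.coprime_two_right.2 h).pow_right n
  exact orderOf_eq_one_iff.1 (this.eq_one_of_dvd (orderOf_dvd_of_pow_eq_one h2))

theorem KU (hf : Fr0 d) (h : d.u a b c ∈ d.K) : a = 0 ∧ b = 0 ∧ c = 0 :=
  hf.hm.inj (odd_two (n := 2) (hf.zodd _ (hf.uA ..) h) (u4 hf ..))

theorem ru_ext (hf : Fr0 d) (hp : Pr d big R r) {c' a' b' e' : F4} (hc : Ph big c) (hc' : Ph big c')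
    (h : r c * d.u a b e = r c' * d.u a' b' e') : c = c' ∧ a = a' ∧ b = b' ∧ e = e' := by
  have h1 : d.u a' b' e' * (d.u a b e)⁻¹ = r (c' + c) := by
    rw [hp.add _ _ hc' hc, mul_inv_eq_iff_eq_mul, mul_assoc, h, ← mul_assoc, rr hp hc', one_mul]
  have h2 : d.u a' b' e' * (d.u a b e)⁻¹ = 1 := by
    have := h1 ▸ rK hp (ph_add hc' hc)
    rw [hf.hm.inv, hf.hm.mul] at this ⊢
    obtain ⟨e1, e2, e3⟩ := KU hf this
    rw [e1, e2, e3, hf.hm.one]
  obtain ⟨e1, e2, e3⟩ := hf.hm.ext (mul_inv_eq_one.1 h2)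
  exact ⟨(add_eq_zero4 (hp.inj _ (ph_add hc' hc) (h1 ▸ h2))).symm, e1.symm, e2.symm, e3.symm⟩

theorem O_odd (od : Od d R O) (h : k ∈ O) : Odd (orderOf k) :=
  od.odd.of_dvd_nat (orderOf_dvd_natCard O h)

theorem OA (od : Od d R O) (h : k ∈ O) (hg : g ∈ d.A) : Commute k g := KA (od.le h).1 hg

theorem Or' (hp : Pr d big R r) (od : Od d R O) (h : k ∈ O) (hc : Ph big c) : Commute k (r c) :=
  (mem_centralizer_iff.1 (od.le h).2 _ (rR hp hc)).symm

theorem KA_O (hf : Fr0 d) (hp : Pr d big R r) (od : Od d R O) (hk : k ∈ d.K) (hA : k ∈ d.A) :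
    k ∈ O :=
  od.mem k ⟨hk, mem_centralizer_iff.2 fun _ hx => (KA (hp.syl.le hx) hA).eq⟩ (hf.zodd k hA hk)

theorem sq_O (hf : Fr0 d) (od : Od d R O) (h : k ∈ O) (e1 : k * k * d.u a b c = 1) :
    k = 1 ∧ a = 0 ∧ b = 0 ∧ c = 0 := by
  have h1 : d.u a b c ∈ d.K := by
    rw [eq_inv_of_mul_eq_one_right e1]; exact inv_mem (mul_mem (od.le h).1 (od.le h).1)
  obtain ⟨rfl, rfl, rfl⟩ := KU hf h1
  rw [hf.hm.one, mul_one] at e1
  exact ⟨odd_two (n := 1) (O_odd od h) (by rw [pow_one, pow_two, e1]), rfl, rfl, rfl⟩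

theorem K_dec (hp : Pr d big R r) (od : Od d R O) (hk : k ∈ d.K)
    (h : ∀ c, Ph big c → Commute k (r c)) : ∃ o ∈ O, ∃ c, Ph big c ∧ k = o * r c := by
  obtain ⟨o, ho, x, hx, e⟩ := od.dec k ⟨hk, mem_centralizer_iff.2 fun x hx => by
    obtain ⟨c, hc, rfl⟩ := (hp.mem x).1 hx
    exact (h c hc).eq.symm⟩
  obtain ⟨c, hc, rfl⟩ := (hp.mem x).1 hx
  exact ⟨o, ho, c, hc, e⟩

/-- `g` centralizes `V₁` and `O` and multiplies `r c` by `u (c p) 0 (c q)`. -/
structure Mv (d : Dt G) (big : Bool) (r : F4 → G) (O : Subgroup G) (g : G) (p q : F4) : Prop where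
  v : ∀ a c, Commute g (d.u a 0 c)
  o : ∀ o ∈ O, Commute g o
  r : ∀ c, Ph big c → g * r c * g⁻¹ = r c * d.u (c * p) 0 (c * q)

theorem Mv.mul (hf : Fr0 d) {g' : G} {p q p' q' : F4} (h : Mv d big r O g p q)
    (h' : Mv d big r O g' p' q') : Mv d big r O (g * g') (p + p') (q + q') :=
  ⟨fun a c => (h.v a c).mul_left (h'.v a c), fun o ho => (h.o o ho).mul_left (h'.o o ho),
    fun c hc => by
      have : g * g' * r c * (g * g')⁻¹ = g * (g' * r c * g'⁻¹) * g⁻¹ := by group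
      rw [this, h'.r c hc, cj_mul, h.r c hc, cj_of (h.v ..).eq, mul_assoc, hf.hm.mul]
      congr 1
      exact cg _ (by ring) (by ring) (by ring)⟩

theorem Mv.inv (hf : Fr0 d) {p q : F4} (h : Mv d big r O g p q) : Mv d big r O g⁻¹ p q :=
  ⟨fun a c => (h.v a c).inv_left, fun o ho => (h.o o ho).inv_left, fun c hc => by
    have h1 : g * (r c * d.u (c * p) 0 (c * q)) * g⁻¹ = r c := by
      rw [cj_mul, h.r c hc, cj_of (h.v ..).eq, mul_assoc, hf.hm.mul]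
      simp [hf.hm.one]
    rw [inv_inv, cj_inv h1]⟩

theorem Mv.cast {p q p' q' : F4} (h : Mv d big r O g p q) (e1 : p = p') (e2 : q = q') :
    Mv d big r O g p' q' := e1 ▸ e2 ▸ h

theorem Mv.rg (hf : Fr0 d) {p q : F4} (h : Mv d big r O g p q) (hc : Ph big c) :
    r c * g = g * (r c * d.u (c * p) 0 (c * q)) := by
  rw [← (h.inv hf).r c hc]; group

/-- The centralizer of `R V₁`. -/
theorem X0 (hf : Fr d) (hp : Pr d big R r) (od : Od d R O) (h : Mv d big r O g 0 0) :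
    ∃ o ∈ O, ∃ c a e, Ph big c ∧ g = o * (r c * d.u a 0 e) := by
  have hr : ∀ c, Ph big c → Commute g (r c) := fun c hc => com_of (by
    simpa [hf.hm.one] using h.r c hc)
  obtain ⟨k, hk, a, b, e, rfl⟩ := hf.tri₁ g (nor_r hf.toFr0 hp (hr 1 ph1)) (fun e => h.v 0 e)
    fun a => ⟨0, cj_of (h.v a 0).eq⟩
  have hb : b = 0 := by
    have h1 := cj_of (h.v 1 0).eq
    have : k * d.u a b e * d.u 1 0 0 * (k * d.u a b e)⁻¹ =
      k * (d.u a b e * d.u 1 0 0 * (d.u a b e)⁻¹) * k⁻¹ := by group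
    rw [this, hf.hm.conj, cj_of (KA hk (hf.uA ..)).eq] at h1
    simpa using (hf.hm.ext h1).2.2
  subst hb
  obtain ⟨o, ho, c, hc, rfl⟩ := K_dec hp od hk fun c hc => by
    simpa using (hr c hc).mul_left (rA hp hc (hf.uA a 0 e)).symm.inv_left
  exact ⟨o, ho, c, a, e, hc, mul_assoc ..⟩

/-- Two elements with the same action. -/
theorem X1 (hf : Fr d) (hp : Pr d big R r) (od : Od d R O) {g' : G} {p q : F4}
    (h : Mv d big r O g p q) (h' : Mv d big r O g' p q) :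
    ∃ o ∈ O, ∃ c a e, Ph big c ∧ g = g' * (o * (r c * d.u a 0 e)) := by
  obtain ⟨o, ho, c, a, e, hc, e1⟩ := X0 hf hp od
    (((h'.inv hf.toFr0).mul hf.toFr0 h).cast (F4.add_self _) (F4.add_self _))
  exact ⟨o, ho, c, a, e, hc, by rw [← e1]; group⟩

theorem Mv.conj (hf : Fr0 d) (hp : Pr d big R r) (od : Od d R O) {p q : F4}
    (h : Mv d big r O g p q) (b : F4) :
    Mv d big r O (d.u 0 b 0 * g * (d.u 0 b 0)⁻¹) p (q + b * p) := by
  refine ⟨fun a c => com_of ?_, fun o ho => ?_, fun c hc => ?_⟩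
  · have : d.u 0 b 0 * g * (d.u 0 b 0)⁻¹ * d.u a 0 c * (d.u 0 b 0 * g * (d.u 0 b 0)⁻¹)⁻¹ =
      d.u 0 b 0 * (g * ((d.u 0 b 0)⁻¹ * d.u a 0 c * d.u 0 b 0) * g⁻¹) * (d.u 0 b 0)⁻¹ := by group
    rw [this, hf.hm.conj', cj_of (h.v ..).eq, hf.hm.conj]
    exact cg _ rfl rfl (by linear_combination (b * a) * F4.two_eq)
  · have := (OA od ho (hf.uA 0 b 0)).symm
    exact (this.mul_left (h.o o ho)).mul_left this.inv_left
  · have h1 := (rA hp hc (hf.uA 0 b 0)).symm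
    have : d.u 0 b 0 * g * (d.u 0 b 0)⁻¹ * r c * (d.u 0 b 0 * g * (d.u 0 b 0)⁻¹)⁻¹ =
      d.u 0 b 0 * (g * ((d.u 0 b 0)⁻¹ * r c * (d.u 0 b 0)⁻¹⁻¹) * g⁻¹) * (d.u 0 b 0)⁻¹ := by group
    rw [this, cj_of h1.inv_left.eq, h.r c hc, cj_mul, cj_of h1.eq, hf.hm.conj]
    congr 1
    exact cg _ rfl rfl (by ring)

theorem n_inv (hf : Fr0 d) : d.n⁻¹ = d.n := inv_eq_of_mul_eq_one_right hf.nn

/-- The action of `b x` and of `w y = n * b y * n⁻¹`. -/
theorem mv_b {x : G} {p : F4} (hu : ∀ a a' c, Commute x (d.u a a' c)) (ho : ∀ o ∈ O, Commute x o)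
    (hr : ∀ c, Ph big c → x * r c * x⁻¹ = r c * d.z (c * p)) : Mv d big r O x 0 p :=
  ⟨fun _ _ => hu .., ho, fun c hc => by rw [hr c hc, mul_zero]⟩

theorem mv_w (hf : Fr0 d) (hp : Pr d big R r) (od : Od d R O) {x : G} {p : F4}
    (h : Mv d big r O x 0 p) : Mv d big r O (d.n * x * d.n⁻¹) p 0 := by
  refine ⟨fun a c => com_of ?_, fun o ho => ?_, fun c hc => ?_⟩
  · rw [← hf.nu c a]
    have : d.n * x * d.n⁻¹ * (d.n * d.u c 0 a * d.n⁻¹) * (d.n * x * d.n⁻¹)⁻¹ =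
      d.n * (x * d.u c 0 a * x⁻¹) * d.n⁻¹ := by group
    rw [this, cj_of (h.v ..).eq]
  · have := (OA od ho hf.nA).symm
    exact (this.mul_left (h.o o ho)).mul_left this.inv_left
  · have h1 := (rA hp hc hf.nA).symm
    have : d.n * x * d.n⁻¹ * r c * (d.n * x * d.n⁻¹)⁻¹ =
      d.n * (x * (d.n⁻¹ * r c * d.n⁻¹⁻¹) * x⁻¹) * d.n⁻¹ := by group
    rw [this, cj_of h1.inv_left.eq, h.r c hc, cj_mul, cj_of h1.eq, hf.nu, mul_zero]

/-- The torus element acts on the `w y` by `ω²`. -/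
theorem h_w (hf : Fr0 d) (hp : Pr d big R r) (od : Od d R O) {β : F4 → G} {n : G} (nA : n ∈ d.A)
    (nn : n * n = 1) (nh : n * d.h * n * d.h ∈ d.K) (βO : ∀ x, ∀ o ∈ O, Commute (β x) o)
    (hβ : ∀ x, d.h * β x * d.h⁻¹ = β (F4.w * x)) (y : F4) :
    d.h * (n * β y * n⁻¹) * d.h⁻¹ = n * β (F4.v * y) * n⁻¹ := by
  have hk := KA_O hf hp od nh (mul_mem (mul_mem (mul_mem nA hf.hA) nA) hf.hA)
  have h1 : d.h⁻¹ * β y * d.h = β (F4.v * y) := by
    refine cj_inv ?_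
    rw [hβ, ← mul_assoc, show F4.w * F4.v = 1 from rfl, one_mul]
  have h2 : d.h * n = n * (n * d.h * n * d.h) * d.h⁻¹ := by
    simp only [← mul_assoc, nn, one_mul, mul_inv_cancel_right]
  have : d.h * (n * β y * n⁻¹) * d.h⁻¹ = d.h * n * β y * (d.h * n)⁻¹ := by group
  rw [this, h2, ← cj_of (βO (F4.v * y) _ hk).symm.eq, ← h1]
  group

end H33.TE
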