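/- TE2 (blueprints/TE2.md): job L2, the Chevalley relations on one side. -/
import Cfsg.Agent.H33.TEK

set_option autoImplicit false
set_option linter.unusedSectionVars false

namespace H33.TE

open Subgroup Cfsg H98 H1.Gold H86.L34 H6 H88.TE

universe u
variable {G : Type u} [Group G] [Finite G] {d : Dt G} {big : Bool} {R O : Subgroup G}
  {r b : F4 → G} {W B B' : G} {x y s s' c a e α ε t : F4}

theorem uu (hf : Fr0 d) (a e a' e' : F4) :
    d.u a 0 e * d.u a' 0 e' = d.u (a + a') 0 (e + e') := by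
  rw [hf.hm.mul]; exact cg _ rfl (by ring) (by ring)

theorem comm_wb (hf : Fr d) (hp : Pr d big R r) (od : Od d R O) (hW : Mv d big r O W y 0)
    (hB : Mv d big r O B 0 x) (hs : B * B = d.u 0 0 s) (hx : x ≠ 0) :
    ∃ α ε, W * B * W⁻¹ = B * d.u α 0 ε := by
  have f0 := hf.toFr0
  obtain ⟨o, ho, c, a, e, hc, h1⟩ := X1 hf hp od
    (((hW.mul f0 hB).mul f0 (hW.inv f0)).cast (by simp) (by simp)) hB
  have h2 : W * B * W⁻¹ * (W * B * W⁻¹) = d.u 0 0 s := by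
    rw [← cj_mul, hs, cj_of (hW.v ..).eq]
  have h3 : o * o * d.u 0 0 (c * x) = 1 := by
    rw [h1] at h2
    simp only [mul_assoc, (hB.o o ho).left_comm, (Or' hp od ho hc).symm.left_comm,
      fun a e => (OA od ho (hf.uA a 0 e)).symm.left_comm, fun a e => (hB.v a e).symm.left_comm,
      fun a e => (rA hp hc (hf.uA a 0 e)).symm.left_comm, lft (hB.rg f0 hc), lft (rr hp hc),
      lft hs, uu f0, one_mul] at h2
    refine mul_right_cancel (b := d.u 0 0 s) ?_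
    rw [one_mul, mul_assoc, mul_assoc, uu f0, ← h2]
    congr 2
    exact cg _ (by simp) rfl (by linear_combination (-e) * F4.two_eq)
  obtain ⟨rfl, -, -, h4⟩ := sq_O f0 od ho h3
  rw [(mul_eq_zero.1 h4).resolve_right hx, r0 hp, one_mul, one_mul] at h1
  exact ⟨a, e, h1⟩

theorem conj_w (hf : Fr d) (hp : Pr d big R r) (od : Od d R O) (hW : Mv d big r O W y 0)
    (hB : Mv d big r O B 0 (y * t)) (hw : W * W = d.u s 0 0) (hs : B * B = d.u 0 0 s')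
    (hv : Commute B (d.u 0 t 0)) (hc : W * B * W⁻¹ = B * d.u α 0 ε) :
    ∃ c a e, Ph big c ∧ d.u 0 t 0 * W * (d.u 0 t 0)⁻¹ = W * B * r c * d.u a 0 e ∧
      ε = c * y * t + s' + t * s ∧ t * a = s' + c * y * t := by
  have f0 := hf.toFr0
  obtain ⟨o, ho, c, a, e, hc', h1⟩ := X1 hf hp od ((hW.conj f0 hp od t).cast rfl (by ring))
    ((hW.mul f0 hB).cast (add_zero _) (zero_add _))
  have bw : B * W = W * (B * d.u α 0 ε) := by
    rw [← (hB.v ..).symm.eq, ← (hW.v ..).symm.left_comm, of_cj hc, mul_assoc B,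
      (hB.v ..).left_comm, lft (uu f0 ..)]
    simp [hf.hm.one]
  have h2 : d.u 0 t 0 * W * (d.u 0 t 0)⁻¹ * (d.u 0 t 0 * W * (d.u 0 t 0)⁻¹) = d.u s 0 (t * s) := by
    rw [← cj_mul, hw, hf.hm.conj]; exact cg _ rfl rfl (by ring)
  have h3 : o * o * d.u (α + c * y) 0 (ε + c * y * t + s' + t * s) = 1 := by
    rw [h1] at h2
    simp only [mul_assoc, (hB.o o ho).left_comm, (hW.o o ho).left_comm,
      (Or' hp od ho hc').symm.left_comm, fun a e => (OA od ho (hf.uA a 0 e)).symm.left_comm,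
      fun a e => (hB.v a e).symm.left_comm, fun a e => (hW.v a e).symm.left_comm,
      fun a e => (rA hp hc' (hf.uA a 0 e)).symm.left_comm, lft (hB.rg f0 hc'), lft (hW.rg f0 hc'),
      lft (rr hp hc'), lft bw, lft hs, lft hw, uu f0, one_mul] at h2
    refine mul_right_cancel (b := d.u s 0 (t * s)) ?_
    rw [one_mul, mul_assoc, mul_assoc, uu f0, ← h2]
    congr 2
    exact cg _ (by linear_combination (-a) * F4.two_eq) rfl
      (by linear_combination (t * s - e) * F4.two_eq)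
  obtain ⟨rfl, -, -, h4⟩ := sq_O f0 od ho h3
  rw [one_mul] at h1
  refine ⟨c, a, e, hc', by rw [h1, mul_assoc _ (r c)],
    by linear_combination h4 - (c * y * t + s' + t * s) * F4.two_eq, ?_⟩
  have h5 : d.u 0 t 0 * (d.u 0 t 0 * W * (d.u 0 t 0)⁻¹) * (d.u 0 t 0)⁻¹ = W * d.u 0 0 0 := by
    have : d.u 0 t 0 * d.u 0 t 0 = 1 := by rw [← pow_two, hf.hm.sq, zero_mul, hf.hm.one]
    rw [hf.hm.one, mul_one, ← mul_assoc, ← mul_assoc, this, one_mul, mul_assoc, ← mul_inv_rev, this,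
      inv_one, mul_one]
  rw [h1, cj_mul, cj_mul, cj_mul, h1, cj_of hv.symm.eq, cj_of (rA hp hc' (hf.uA ..)).symm.eq,
    hf.hm.conj] at h5
  simp only [mul_assoc, fun a e => (hB.v a e).symm.left_comm,
    fun a e => (rA hp hc' (hf.uA a 0 e)).symm.left_comm, lft (hB.rg f0 hc'), lft (rr hp hc'),
    lft hs, uu f0, one_mul, mul_right_inj] at h5
  linear_combination (hf.hm.ext h5).2.2 - (s' + c * y * t + e) * F4.two_eq

theorem conj_wb (hf : Fr d) (hp : Pr d big R r) (hW : Mv d big r O W y 0)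
    (hB : Mv d big r O B' 0 x) (hv : Commute B' (d.u 0 t 0)) (hbb : Commute B B')
    (hz : ∀ e, Commute B (d.u 0 0 e))
    (hc : W * B' * W⁻¹ = B' * d.u α 0 ε) (hc' : Ph big c)
    (h1 : d.u 0 t 0 * W * (d.u 0 t 0)⁻¹ = W * B * r c * d.u a 0 e) : t * α = c * x := by
  have f0 := hf.toFr0
  have h2 : d.u 0 t 0 * (W * B' * W⁻¹) * (d.u 0 t 0)⁻¹ = d.u 0 t 0 * W * (d.u 0 t 0)⁻¹ *
      (d.u 0 t 0 * B' * (d.u 0 t 0)⁻¹) * (d.u 0 t 0 * W * (d.u 0 t 0)⁻¹)⁻¹ := by group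
  have h3 : W * B * r c * d.u a 0 e * B' * (W * B * r c * d.u a 0 e)⁻¹ =
      W * (B * (r c * (d.u a 0 e * B' * (d.u a 0 e)⁻¹) * (r c)⁻¹) * B⁻¹) * W⁻¹ := by group
  have h4 : r c * B' * (r c)⁻¹ = B' * d.u 0 0 (c * x) := by
    rw [hB.rg f0 hc', (rA hp hc' (hf.uA ..)).eq, mul_zero]; group
  rw [hc, h1, cj_of hv.symm.eq, h3, cj_mul, cj_of hv.symm.eq, hf.hm.conj, cj_of (hB.v ..).symm.eq, h4, cj_mul B,
    cj_of hbb.eq, cj_of (hz _).eq, cj_mul, hc, cj_of (hW.v ..).eq, mul_assoc, uu f0,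
    mul_right_inj] at h2
  linear_combination (hf.hm.ext h2).2.2

/-- The conjugate `n * b y * n⁻¹`. -/
def Wn (d : Dt G) (b : F4 → G) (y : F4) : G := d.n * b y * d.n⁻¹

variable (hf : Fr d) (hp : Pr d big R r) (hb : Pre d big R r O b)
include hf hp hb

theorem pre_b (x : F4) : Mv d big r O (b x) 0 x := mv_b (hb.bu x) (hb.bO x) (hb.br x)

theorem pre_w (y : F4) : Mv d big r O (Wn d b y) y 0 := mv_w hf.toFr0 hp hb.od (pre_b hf hp hb y)

theorem pre_sq : ∃ κ, ∀ x, b x * b x = d.u 0 0 (κ * x) := by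
  choose s hs using fun x => hb.add x x
  simp only [F4.add_self, hb.zero, one_mul] at hs
  have h1 : ∀ x, s (F4.w * x) = F4.w * s x := fun x => by
    obtain ⟨e, he⟩ := hb.hb x
    have : d.h * (b x * b x) * d.h⁻¹ = b (F4.w * x) * b (F4.w * x) := by
      rw [cj_mul, he, mul_assoc, (hb.bu ..).symm.left_comm, uu hf.toFr0]
      simp [hf.hm.one]
    rw [hs, hs, hf.hu] at this
    exact (hf.hm.ext this).2.2.symm
  have h0 : s 0 = 0 := (hf.hm.inj (by rw [← mul_one (1 : G), ← hb.zero]; exact (hs 0).symm)).2.2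
  refine ⟨s 1, fun x => (hs x).trans (cg _ rfl rfl ?_)⟩
  have hw : s F4.w = s 1 * F4.w := by rw [mul_comm, ← h1, mul_one]
  cases x
  · exact h0.trans (mul_zero _).symm
  · exact (mul_one _).symm
  · exact hw
  · exact (h1 F4.w).trans (by rw [hw, mul_left_comm]; rfl)

theorem pre_rel {κ : F4} (hs : ∀ x, b x * b x = d.u 0 0 (κ * x)) :
    ∃ α ε ρ a e : F4 → F4 → F4,
      (∀ y x, Wn d b y * b x * (Wn d b y)⁻¹ = b x * d.u (α y x) 0 (ε y x)) ∧
      (∀ y t, Ph big (ρ y t)) ∧ (∀ y t, d.u 0 t 0 * Wn d b y * (d.u 0 t 0)⁻¹ =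
        Wn d b y * b (y * t) * r (ρ y t) * d.u (a y t) 0 (e y t)) ∧
      (∀ y t, ε y (y * t) = ρ y t * y * t) ∧ (∀ y t, t * a y t = κ * (y * t) + ρ y t * y * t) ∧
      ∀ y t x, t * α y x = ρ y t * x := by
  have h1 : ∀ y x, ∃ α ε, Wn d b y * b x * (Wn d b y)⁻¹ = b x * d.u α 0 ε := fun y x => by
    by_cases hx : x = 0
    · exact ⟨0, 0, by simp [hx, hb.zero, hf.hm.one]⟩
    · exact comm_wb hf hp hb.od (pre_w hf hp hb y) (pre_b hf hp hb x) (hs x) hx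
  choose α ε h1 using h1
  have hw : ∀ y, Wn d b y * Wn d b y = d.u (κ * y) 0 0 := fun y => by
    rw [Wn, ← cj_mul, hs, hf.nu]
  choose ρ a e h2 h3 h4 h5 using fun y t => conj_w hf hp hb.od (pre_w hf hp hb y)
    (pre_b hf hp hb (y * t)) (hw y) (hs _) (hb.bu ..) (h1 ..)
  exact ⟨α, ε, ρ, a, e, h1, h2, h3, fun y t => by
    linear_combination h4 y t + (κ * y * t) * F4.two_eq, h5, fun y t x =>
      conj_wb hf hp (pre_w hf hp hb y) (pre_b hf hp hb x) (hb.bu ..) (hb.com ..)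
        (fun _ => hb.bu ..) (h1 ..) (h2 ..) (h3 ..)⟩

theorem pre_two (x : F4) : b x * b x = 1 := by
  have f0 := hf.toFr0
  obtain ⟨κ, hs⟩ := pre_sq hf hp hb
  obtain ⟨α, ε, ρ, a, e, -, h2, h3, -, h5, -⟩ := pre_rel hf hp hb hs
  have k1 := h3 1 1
  have k2 := h3 1 F4.w
  have k3 := h3 1 F4.v
  rw [one_mul] at k1 k2 k3
  obtain ⟨e₁, he⟩ := hb.add F4.w 1
  have hv : d.u 0 F4.v 0 = d.u 0 F4.w 0 * d.u 0 1 0 := by rw [hf.hm.mul]; rfl
  have k4 : d.u 0 F4.v 0 * Wn d b 1 * (d.u 0 F4.v 0)⁻¹ =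
      d.u 0 F4.w 0 * (d.u 0 1 0 * Wn d b 1 * (d.u 0 1 0)⁻¹) * (d.u 0 F4.w 0)⁻¹ := by
    rw [hv]; group
  rw [k1, k3, cj_mul, cj_mul, cj_mul, k2, cj_of (hb.bu ..).symm.eq,
    cj_of (rA hp (h2 ..) (hf.uA ..)).symm.eq, hf.hm.conj] at k4
  simp only [mul_assoc, fun a e => (hb.bu 1 a 0 e).symm.left_comm,
    fun a e => (rA hp (h2 1 1) (hf.uA a 0 e)).symm.left_comm,
    fun a e => (rA hp (h2 1 F4.w) (hf.uA a 0 e)).symm.left_comm,
    lft ((pre_b hf hp hb 1).rg f0 (h2 1 F4.w)), lft he,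
    lft (hp.add _ _ (h2 1 F4.w) (h2 1 1)).symm, uu f0, mul_right_inj,
    show F4.w + 1 = F4.v from rfl] at k4
  obtain ⟨q1, q2, -⟩ := ru_ext f0 hp (h2 ..) (ph_add (h2 ..) (h2 ..)) k4
  have q3 := h5 1 1
  have q4 := h5 1 F4.w
  have q5 := h5 1 F4.v
  rw [q1, q2] at q5
  have : κ = 0 := by
    clear q1 q2 k1 k2 k3 k4 hs h5
    revert q3 q4 q5
    generalize a 1 1 = a1, a 1 F4.w = a2, ρ 1 1 = c1, ρ 1 F4.w = c2
    revert κ a1 a2 c1 c2
    decide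
  rw [hs, this, zero_mul, hf.hm.one]

theorem pre_sd (hβ : ∀ x, d.h * b x * d.h⁻¹ = b (F4.w * x)) : ∃ γ, Sd d big r b γ := by
  have f0 := hf.toFr0
  have b2 := pre_two hf hp hb
  obtain ⟨α, ε, ρ, a, e, h1, h2, h3, h4, h5, h6⟩ := pre_rel hf hp hb (κ := 0) fun x => by
    rw [b2, zero_mul, hf.hm.one]
  have hw := h_w f0 hp hb.od hf.nA hf.nn hf.nh hb.bO hβ
  have w0 : Wn d b 0 = 1 := by simp [Wn, hb.zero]
  have a0 : ∀ x, α 0 x = 0 ∧ ε 0 x = 0 := fun x => by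
    have := h1 0 x
    rw [w0, one_mul, inv_one, mul_one, left_eq_mul] at this
    exact ⟨(hf.hm.inj this).1, (hf.hm.inj this).2.2⟩
  have k1 : ∀ y, α (F4.v * y) F4.w = F4.v * α y 1 := fun y => by
    have : d.h * (Wn d b y * b 1 * (Wn d b y)⁻¹) * d.h⁻¹ = d.h * Wn d b y * d.h⁻¹ *
      (d.h * b 1 * d.h⁻¹) * (d.h * Wn d b y * d.h⁻¹)⁻¹ := by group
    rw [h1, cj_mul, hβ, hf.hu, Wn, hw, ← Wn, h1, mul_one, mul_right_inj] at this
    exact (hf.hm.ext this).1.symm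
  have k2 : ∀ y x, α y x = α y 1 * x := fun y x => by
    rw [← one_mul (α y x), h6, ← one_mul (α y 1), h6, mul_one]
  have k3 : ∀ y, α y 1 = α 1 1 * y ^ 2 := fun y => by
    have q1 := k1 1
    have q2 := k1 F4.v
    rw [k2] at q1 q2
    cases y
    · exact (a0 1).1.trans (mul_zero _).symm
    · exact (mul_one _).symm
    · change α F4.v 1 * _ = _ at q1
      change α F4.w 1 * _ = _ at q2
      revert q1 q2
      generalize α F4.v 1 = p, α F4.w 1 = q, α 1 1 = s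
      revert p q s; decide
    · change α F4.v 1 * _ = _ at q1
      revert q1
      generalize α F4.v 1 = p, α 1 1 = s
      revert p s; decide
  have k4 : ∀ y t, ρ y t = α 1 1 * y ^ 2 * t := fun y t => by
    rw [← mul_one (ρ y t), ← h6, k3, mul_comm]
  generalize α 1 1 = γ at k3 k4
  have wβ : ∀ y x, Wn d b y * b x * (Wn d b y)⁻¹ =
      b x * d.u (γ * y ^ 2 * x) 0 (γ * y * x ^ 2) := fun y x => by
    rw [h1, k2, k3]
    congr 1
    refine cg _ rfl rfl ?_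
    by_cases hy : y = 0
    · simp [hy, a0]
    · have := h4 y (y⁻¹ * x)
      rw [mul_inv_cancel_left₀ hy, k4] at this
      rw [this]; field_simp
  have vw1 : ∀ y, d.u 0 1 0 * Wn d b y * (d.u 0 1 0)⁻¹ =
      Wn d b y * b (y * 1) * r (γ * y ^ 2 * 1) * d.u (γ * y ^ 3 * 1) 0 0 := fun y => by
    have e1 := h3 y 1
    have hc := h2 y 1
    have e2 : a y 1 = γ * y ^ 3 := by have := h5 y 1; rw [k4] at this; linear_combination this
    rw [e2, mul_one] at e1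
    have nW : d.n * Wn d b y * d.n⁻¹ = b y := by
      rw [Wn, ← mul_assoc, ← mul_assoc, hf.nn, one_mul, mul_assoc, ← mul_inv_rev, hf.nn, inv_one,
        mul_one]
    have ww : Wn d b y * Wn d b y = 1 := by rw [Wn, ← cj_mul, b2]; group
    have bw : b y * Wn d b y = Wn d b y * (b y * d.u (γ * y ^ 2 * y) 0 (γ * y * y ^ 2)) := by
      rw [← wβ, inv_eq_of_mul_eq_one_right ww, ← mul_assoc, ← mul_assoc, ww, one_mul]
    have e3 := cj_of (hb.bO y _ (KA_O f0 hp hb.od hf.nv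
      (pow_mem (mul_mem hf.nA (hf.uA ..)) 3))).symm.eq
    have e4 : (d.n * d.u 0 1 0) ^ 3 * b y * ((d.n * d.u 0 1 0) ^ 3)⁻¹ =
      d.n * (d.u 0 1 0 * (d.n * (d.u 0 1 0 * (d.n * (d.u 0 1 0 * b y * (d.u 0 1 0)⁻¹) * d.n⁻¹) *
        (d.u 0 1 0)⁻¹) * d.n⁻¹) * (d.u 0 1 0)⁻¹) * d.n⁻¹ := by
      rw [pow_three]; group
    have s1 : d.n * (Wn d b y * b y * r (ρ y 1) * d.u (γ * y ^ 3) 0 (e y 1)) * d.n⁻¹ =
        b y * Wn d b y * r (ρ y 1) * d.u (e y 1) 0 (γ * y ^ 3) := by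
      rw [cj_mul, cj_mul, cj_mul, nW, hf.nu, cj_of (rA hp hc hf.nA).symm.eq, ← Wn]
    have s2 : d.u 0 1 0 * (b y * Wn d b y * r (ρ y 1) * d.u (e y 1) 0 (γ * y ^ 3)) * (d.u 0 1 0)⁻¹ =
        Wn d b y * d.u (e y 1) 0 0 := by
      rw [cj_mul, cj_mul, cj_mul, e1, cj_of (hb.bu ..).symm.eq, hf.hm.conj,
        cj_of (rA hp hc (hf.uA ..)).symm.eq]
      simp only [mul_assoc, fun a e => (hb.bu y a 0 e).symm.left_comm, lft bw, lft (b2 y),
        fun a e => (rA hp hc (hf.uA a 0 e)).symm.left_comm, lft (rr hp hc), uu f0, one_mul,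
        mul_right_inj]
      exact cg _ (by linear_combination (γ * y ^ 3) * F4.two_eq) rfl
        (by linear_combination (γ * y ^ 3 + e y 1) * F4.two_eq)
    rw [e3, cj_of (hb.bu ..).symm.eq, ← Wn, e1, s1, s2, cj_mul, nW, hf.nu, left_eq_mul] at e4
    rw [e1, (hf.hm.inj e4).2.2, k4, mul_one, mul_one, mul_one]
  have hv : ∀ y t, d.u 0 t 0 * Wn d b y * (d.u 0 t 0)⁻¹ =
      Wn d b y * b (y * t) * r (γ * y ^ 2 * t) * d.u (γ * y ^ 3 * t) 0 0 →
      d.u 0 (F4.v * t) 0 * Wn d b (F4.v * y) * (d.u 0 (F4.v * t) 0)⁻¹ =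
      Wn d b (F4.v * y) * b (F4.v * y * (F4.v * t)) * r (γ * (F4.v * y) ^ 2 * (F4.v * t)) *
        d.u (γ * (F4.v * y) ^ 3 * (F4.v * t)) 0 0 := fun y t h => by
    have : d.h * (d.u 0 t 0 * Wn d b y * (d.u 0 t 0)⁻¹) * d.h⁻¹ = d.h * d.u 0 t 0 * d.h⁻¹ *
      (d.h * Wn d b y * d.h⁻¹) * (d.h * d.u 0 t 0 * d.h⁻¹)⁻¹ := by group
    rw [h, cj_mul, cj_mul, cj_mul, hβ, hf.hu, hf.hu, Wn, hw, ← Wn,
      cj_of (rA hp (k4 .. ▸ h2 y t) hf.hA).symm.eq, mul_zero, mul_zero] at this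
    have v3 : F4.v ^ 3 = 1 := rfl
    have v2 : F4.v * F4.v = F4.w := rfl
    rw [← this, show F4.v * y * (F4.v * t) = F4.w * (y * t) by linear_combination (y * t) * v2,
      show γ * (F4.v * y) ^ 2 * (F4.v * t) = γ * y ^ 2 * t by
        linear_combination (γ * y ^ 2 * t) * v3,
      show γ * (F4.v * y) ^ 3 * (F4.v * t) = F4.v * (γ * y ^ 3 * t) by
        linear_combination (F4.v * γ * y ^ 3 * t) * v3]
  have sj : ∀ y : F4, F4.v * (F4.w * y) = y := by decide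
  refine ⟨γ, fun c => by simpa [k4] using h2 1 c, wβ, fun y t => ?_⟩
  cases t
  · change d.u 0 0 0 * _ * (d.u 0 0 0)⁻¹ = _ * b (y * 0) * r (_ * 0) * d.u (_ * 0) 0 0
    simp [hf.hm.one, hb.zero, r0 hp]
  · exact vw1 y
  · have := hv _ _ (hv _ _ (vw1 (F4.w * (F4.w * y))))
    rwa [sj, sj] at this
  · have := hv _ _ (vw1 (F4.w * y))
    rwa [sj] at this

omit hf hp hb in
theorem jobL2 : H88.TE.JobL2.{u} := fun _ _ _ _ _ _ _ _ _ hf hp hb =>
  ⟨pre_two hf hp hb, fun _ hβ => pre_sd hf hp hb hβ⟩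

end H33.TE
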