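/- TE2 (blueprints/TE2.md): job C1, the multiplication law of `P`. -/
import Cfsg.Agent.H33.TEK
import Mathlib.Algebra.QuadraticAlgebra.Basic

set_option autoImplicit false
set_option linter.unusedSectionVars false

namespace H33.TE

open Subgroup Cfsg H98 H1.Gold H86.L34 H6 H88.TE

universe u
variable {G : Type u} [Group G] [Finite G] {d : Dt G} {R O : Subgroup G} {r β w₁ w₂ : F4 → G} {t : G}

theorem charP4 : CharP F4 2 := CharTwo.of_one_ne_zero_of_two_eq_zero one_ne_zero F4.two_eq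

attribute [local instance] charP4

/-- Rewriting rules towards the normal form `w₂ w₁ β t u`. -/
structure Rl (d : Dt G) (t : G) (β w₁ w₂ : F4 → G) : Prop where
  uu : ∀ a b c a' b' c', d.u a b c * d.u a' b' c' = d.u (a + a') (b + b') (c + c' + a * b')
  bb : ∀ x y, β x * β y = β (x + y)
  w11 : ∀ x y, w₁ x * w₁ y = w₁ (x + y)
  w22 : ∀ x y, w₂ x * w₂ y = w₂ (x + y)
  tt : t * t = 1
  ub : ∀ a b c x, d.u a b c * β x = β x * d.u a b c
  ut : ∀ a b c, d.u a b c * t = t * d.u a b c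
  tb : ∀ x, t * β x = β x * (t * d.u 0 0 x)
  b1 : ∀ x y, β x * w₁ y = w₁ y * β x
  b2 : ∀ x y, β x * w₂ y = w₂ y * β x
  u1 : ∀ a b c y, d.u a b c * w₁ y = w₁ y * (β (y * b) * d.u a b c)
  u2 : ∀ a b c y, d.u a b c * w₂ y = w₂ y * (β (y * a) * d.u a b c)
  t1 : ∀ y, t * w₁ y = w₁ y * (t * d.u y 0 0)
  t2 : ∀ y, t * w₂ y = w₂ y * (t * d.u 0 y 0)

theorem add0 {f : F4 → G} (h : ∀ x y, f x * f y = f (x + y)) : f 0 = 1 := by simpa using h 0 0

theorem Rl.all (h : Rl d t β w₁ w₂) :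
    ((∀ a b c a' b' c', d.u a b c * d.u a' b' c' = d.u (a + a') (b + b') (c + c' + a * b')) ∧
    (∀ x y, β x * β y = β (x + y)) ∧ (∀ x y, w₁ x * w₁ y = w₁ (x + y)) ∧
    (∀ x y, w₂ x * w₂ y = w₂ (x + y)) ∧ t * t = 1 ∧
    (∀ a b c x, d.u a b c * β x = β x * d.u a b c) ∧ (∀ a b c, d.u a b c * t = t * d.u a b c) ∧
    (∀ x, t * β x = β x * (t * d.u 0 0 x)) ∧ (∀ x y, β x * w₁ y = w₁ y * β x) ∧
    (∀ x y, β x * w₂ y = w₂ y * β x) ∧
    (∀ a b c y, d.u a b c * w₁ y = w₁ y * (β (y * b) * d.u a b c)) ∧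
    (∀ a b c y, d.u a b c * w₂ y = w₂ y * (β (y * a) * d.u a b c)) ∧
    (∀ y, t * w₁ y = w₁ y * (t * d.u y 0 0)) ∧ (∀ y, t * w₂ y = w₂ y * (t * d.u 0 y 0))) ∧
    ((∀ a b c a' b' c' s, d.u a b c * (d.u a' b' c' * s) =
      d.u (a + a') (b + b') (c + c' + a * b') * s) ∧
    (∀ x y s, β x * (β y * s) = β (x + y) * s) ∧ (∀ x y s, w₁ x * (w₁ y * s) = w₁ (x + y) * s) ∧
    (∀ x y s, w₂ x * (w₂ y * s) = w₂ (x + y) * s) ∧ (∀ s, t * (t * s) = 1 * s) ∧
    (∀ a b c x s, d.u a b c * (β x * s) = β x * d.u a b c * s) ∧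
    (∀ a b c s, d.u a b c * (t * s) = t * d.u a b c * s) ∧
    (∀ x s, t * (β x * s) = β x * (t * d.u 0 0 x) * s) ∧
    (∀ x y s, β x * (w₁ y * s) = w₁ y * β x * s) ∧ (∀ x y s, β x * (w₂ y * s) = w₂ y * β x * s) ∧
    (∀ a b c y s, d.u a b c * (w₁ y * s) = w₁ y * (β (y * b) * d.u a b c) * s) ∧
    (∀ a b c y s, d.u a b c * (w₂ y * s) = w₂ y * (β (y * a) * d.u a b c) * s) ∧
    (∀ y s, t * (w₁ y * s) = w₁ y * (t * d.u y 0 0) * s) ∧
    (∀ y s, t * (w₂ y * s) = w₂ y * (t * d.u 0 y 0) * s)) :=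
  ⟨⟨h.uu, h.bb, h.w11, h.w22, h.tt, h.ub, h.ut, h.tb, h.b1, h.b2, h.u1, h.u2, h.t1, h.t2⟩,
    fun _ _ _ _ _ _ => lft (h.uu ..), fun _ _ => lft (h.bb ..), fun _ _ => lft (h.w11 ..),
    fun _ _ => lft (h.w22 ..), lft h.tt, fun _ _ _ _ => lft (h.ub ..), fun _ _ _ => lft (h.ut ..),
    fun _ => lft (h.tb ..), fun _ _ => lft (h.b1 ..), fun _ _ => lft (h.b2 ..),
    fun _ _ _ _ => lft (h.u1 ..), fun _ _ _ _ => lft (h.u2 ..), fun _ => lft (h.t1 ..),
    fun _ => lft (h.t2 ..)⟩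

theorem cj_cj' (n x y : G) : n * x * n⁻¹ * (n * y * n⁻¹) = n * (x * y) * n⁻¹ := by group

section
variable (hf : Fr d) (hp : Pr d false R r) (hl : Loc d false R r O β 0 0)
include hf hp hl

theorem loc_rl : Rl d (r 1) β (fun y => d.n * β y * d.n⁻¹) (fun y => d.m * β y * d.m⁻¹) := by
  have f0 := hf.toFr0
  have mb : ∀ x, Mv d false r O (β x) 0 x := fun x => mv_b (hl.βu x) (hl.βO x) (hl.βr x)
  have m1 := fun y => mv_w f0 hp hl.od (mb y)
  have tb : ∀ x, r 1 * β x = β x * (r 1 * d.u 0 0 x) := fun x => by simpa using (mb x).rg f0 ph1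
  have v2 : ∀ y b c, Commute (d.u 0 b c) (d.m * β y * d.m⁻¹) := fun y b c => by
    rw [← hf.mu c b, Commute, SemiconjBy, cj_cj', cj_cj', (hl.βu ..).eq]
  refine ⟨hf.hm.mul, fun x y => (hl.add x y).symm, fun x y => by rw [cj_cj', hl.add],
    fun x y => by rw [cj_cj', hl.add], rr hp ph1, fun _ _ _ _ => (hl.βu ..).symm.eq,
    fun _ _ _ => (rA hp ph1 (hf.uA ..)).symm.eq, tb, fun x y => ?_, fun x y => ?_,
    fun a b c y => ?_, fun a b c y => ?_, fun y => by simpa using (m1 y).rg f0 ph1, fun y => ?_⟩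
  · exact (com_of (by simpa [hf.hm.one] using hl.s₁.wβ y x)).symm.eq
  · exact (com_of (by simpa [Dt.swap, hf.hm.one] using hl.s₂.wβ y x)).symm.eq
  · have := of_cj (hl.s₁.vw y b)
    simp only [zero_mul, r0 hp, hf.hm.one, mul_one] at this
    rw [hf.hm.dec, mul_assoc, this, mul_assoc, ((m1 y).v ..).symm.left_comm,
      (hl.βu ..).symm.left_comm]
  · have := of_cj (hl.s₂.vw y a)
    simp only [Dt.swap, zero_mul, add_zero, r0 hp, hf.hm.one, mul_one] at this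
    have e : d.u a b c = d.u 0 b c * d.u a 0 0 := by rw [hf.hm.mul]; simp
    rw [e, mul_assoc, this, mul_assoc, (v2 ..).left_comm, (hl.βu ..).symm.left_comm]
  · have h1 := (rA hp ph1 hf.mA).symm
    rw [← hf.mu, ← cj_of h1.eq, cj_cj', cj_cj', cj_cj', tb]

theorem loc_ww (y y' : F4) : ∃ φ, d.n * β y * d.n⁻¹ * (d.m * β y' * d.m⁻¹) =
    d.m * β y' * d.m⁻¹ * (d.n * β y * d.n⁻¹ * (β (y * y') * d.u 0 0 φ)) := by
  have f0 := hf.toFr0
  have h := loc_rl hf hp hl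
  have o1 : ∀ o ∈ O, ∀ n ∈ d.A, ∀ y, Commute o (n * β y * n⁻¹) := fun o ho n hn y =>
    ((OA hl.od ho hn).mul_right (hl.βO y o ho).symm).mul_right (OA hl.od ho hn).inv_right
  have o2 := fun o ho => o1 o ho _ hf.mA y'
  change ∃ φ, (fun y => d.n * β y * d.n⁻¹) y * (fun y => d.m * β y * d.m⁻¹) y' =
    (fun y => d.m * β y * d.m⁻¹) y' * ((fun y => d.n * β y * d.n⁻¹) y * _)
  change ∀ o ∈ O, Commute o ((fun y => d.m * β y * d.m⁻¹) y') at o2
  generalize (fun y => d.n * β y * d.n⁻¹) = w₁, (fun y => d.m * β y * d.m⁻¹) = w₂ at h o2 ⊢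
  have z1 := add0 h.w11
  have z2 := add0 h.w22
  have zb := add0 h.bb
  set g := w₁ y * (w₂ y' * (w₁ y * (w₂ y' * β (y * y')))) with hg
  have gu : ∀ a b c, Commute g (d.u a b c) := fun a b c => by
    simp only [Commute, SemiconjBy, hg, mul_assoc, h.all, mul_right_inj, mul_left_inj]
    congr 1
    grind
  have gt : Commute g (r 1) := by
    have : g * (r 1 * d.u 0 0 0) = r 1 * g := by
      simp only [hg, mul_assoc, h.all, mul_right_inj]
      congr 2
      · grind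
      · exact cg _ (by grind) (by grind) (by grind)
    rwa [hf.hm.one, mul_one] at this
  have gb : Commute g (β 1) := by
    simp only [Commute, SemiconjBy, hg, mul_assoc, h.all, add_comm]
  obtain ⟨k, hk, e, he⟩ := hf.ker g (nor_r f0 hp gt) gu
  obtain ⟨o, ho, c, hc, rfl⟩ := K_dec hp hl.od hk fun c hc => by
    rcases hc with hc | rfl | rfl
    · exact absurd hc (by simp)
    · rw [r0 hp]; exact Commute.one_right _
    · simpa [he] using gt.mul_left (rA hp ph1 (hf.uA 0 0 e)).symm.inv_left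
  have c0 : c = 0 := by
    have := cj_of gb.symm.eq
    rw [he, cj_mul, cj_mul, cj_of (hl.βu ..).eq, cj_of (hl.βO _ _ ho).eq, hl.βr _ _ hc,
      mul_left_inj, mul_right_inj, mul_eq_left] at this
    simpa using (hf.hm.inj this).2.2
  rw [c0, r0 hp, mul_one] at he
  have k1 : w₁ y * (w₂ y' * w₁ y) = o * (w₂ y' * (β (y * y') * d.u 0 0 e)) := by
    have : w₁ y * (w₂ y' * w₁ y) = g * (β (y * y') * w₂ y') := by
      simp only [hg, mul_assoc, h.all, F4.add_self, z2, zb, mul_one]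
    rw [this, he]
    simp only [mul_assoc, h.all, mul_zero, zero_add]
  have k2 : o * o * d.u 0 0 0 = 1 := by
    have : w₁ y * (w₂ y' * w₁ y) * (w₁ y * (w₂ y' * w₁ y)) = 1 := by
      simp only [mul_assoc, h.all, F4.add_self, z2, z1, one_mul]
    rw [k1] at this
    simpa only [mul_assoc, (o2 o ho).symm.left_comm, (hl.βO _ o ho).left_comm, h.all, F4.add_self,
      (OA hl.od ho (hf.uA ..)).symm.left_comm, z2, zb, one_mul, mul_zero, add_zero] using this
  rw [(sq_O f0 hl.od ho k2).1, one_mul] at k1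
  refine ⟨e, ?_⟩
  have : w₁ y * w₂ y' = w₁ y * (w₂ y' * w₁ y) * w₁ y := by
    simp only [mul_assoc, h.all, F4.add_self, z1, mul_one]
  rw [this, k1]
  simp only [mul_assoc, h.all, mul_zero, add_zero]

omit hf hp hl in
theorem bil {φ : F4 → F4 → F4} (h1 : ∀ x y z, φ (x + y) z = φ x z + φ y z)
    (h2 : ∀ x y z, φ x (y + z) = φ x y + φ x z)
    (h3 : ∀ x y, φ (F4.v * x) (F4.v * y) = F4.w * φ x y) (x y : F4) : φ x y = φ 1 1 * (x * y) := by
  have z1 : ∀ y, φ 0 y = 0 := fun y => by simpa using h1 0 0 y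
  have z2 : ∀ y, φ y 0 = 0 := fun y => by simpa using h2 y 0 0
  have e1 : ∀ y, φ F4.v y = φ 1 y + φ F4.w y := h1 1 F4.w
  have e2 : ∀ y, φ y F4.v = φ y 1 + φ y F4.w := fun y => h2 y 1 F4.w
  have q1 : φ F4.v 1 = F4.w * φ 1 F4.w := h3 1 F4.w
  have q2 : φ 1 F4.v = F4.w * φ F4.w 1 := h3 F4.w 1
  have q3 : φ 1 1 = F4.w * φ F4.w F4.w := h3 F4.w F4.w
  rw [e1] at q1
  rw [e2] at q2
  have k : φ 1 F4.w = φ 1 1 * F4.w ∧ φ F4.w 1 = φ 1 1 * F4.w ∧ φ F4.w F4.w = φ 1 1 * F4.v := by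
    revert q1 q2 q3
    generalize φ 1 1 = A, φ 1 F4.w = B, φ F4.w 1 = C, φ F4.w F4.w = D
    revert A B C D; decide
  have l1 : ∀ x, x = 1 ∨ x = F4.w → ∀ y, φ x y = φ 1 1 * (x * y) := fun x hx y => by
    have a1 : φ x 1 = φ 1 1 * (x * 1) := by rcases hx with rfl | rfl <;> simp [k]
    have a2 : φ x F4.w = φ 1 1 * (x * F4.w) := by
      rcases hx with rfl | rfl
      · simp [k]
      · exact k.2.2
    cases y
    · exact (z2 x).trans (by rw [show F4.o = 0 from rfl, mul_zero, mul_zero])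
    · exact a1
    · exact a2
    · rw [e2, a1, a2, show F4.v = 1 + F4.w from rfl]; ring
  cases x
  · exact (z1 y).trans (by rw [show F4.o = 0 from rfl, zero_mul, mul_zero])
  · exact l1 1 (Or.inl rfl) y
  · exact l1 _ (Or.inr rfl) y
  · rw [e1, l1 1 (Or.inl rfl), l1 _ (Or.inr rfl), show F4.v = 1 + F4.w from rfl]; ring

theorem loc_w12 : ∃ e₀, ∀ y y', d.n * β y * d.n⁻¹ * (d.m * β y' * d.m⁻¹) =
    d.m * β y' * d.m⁻¹ * (d.n * β y * d.n⁻¹ * (β (y * y') * d.u 0 0 (e₀ * (y * y')))) := by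
  have f0 := hf.toFr0
  have h := loc_rl hf hp hl
  choose φ hφ using loc_ww hf hp hl
  have g1 := h_w f0 hp hl.od hf.nA hf.nn hf.nh hl.βO hl.hβ
  have g2 := h_w f0 hp hl.od hf.mA hf.mm hf.mh hl.βO hl.hβ
  have h3 : ∀ x y, φ (F4.v * x) (F4.v * y) = F4.w * φ x y := fun x y => by
    have := congrArg (fun s => d.h * s * d.h⁻¹) (hφ x y)
    rw [cj_mul, cj_mul d.h (d.m * _ * _), cj_mul d.h (d.n * _ * _), cj_mul d.h (β (x * y)), g1, g2,
      hφ, hl.hβ, hf.hu, show F4.v * x * (F4.v * y) = F4.w * (x * y) by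
        rw [mul_mul_mul_comm]; rfl, mul_right_inj, mul_right_inj, mul_right_inj] at this
    exact (hf.hm.ext this).2.2
  suffices k : ∀ x y, φ x y = φ 1 1 * (x * y) from ⟨φ 1 1, fun y y' => by rw [hφ, k y y']⟩
  refine bil ?_ ?_ h3
  all_goals
    change ∀ y y', (fun y => d.n * β y * d.n⁻¹) y * (fun y => d.m * β y * d.m⁻¹) y' =
      (fun y => d.m * β y * d.m⁻¹) y' * ((fun y => d.n * β y * d.n⁻¹) y * _) at hφ
    generalize (fun y => d.n * β y * d.n⁻¹) = w₁, (fun y => d.m * β y * d.m⁻¹) = w₂ at h hφ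
    intro x y z
  · have := mul_assoc (w₁ x) (w₁ y) (w₂ z)
    simp only [mul_assoc, h.all, hφ, fun y y' => lft (hφ y y'), mul_right_inj, mul_zero, add_zero,
      zero_add, ← add_mul] at this
    exact (hf.hm.ext this).2.2
  · have := mul_assoc (w₁ x) (w₂ y) (w₂ z)
    simp only [mul_assoc, h.all, hφ, fun y y' => lft (hφ y y'), mul_right_inj, mul_zero, add_zero,
      ← mul_add, add_comm z y] at this
    exact (hf.hm.ext this).2.2.symm.trans (add_comm ..)

end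

/-- The ring `F₄[θ] / (θ² + θ + e)`. -/
abbrev Λ (e : F4) : Type := QuadraticAlgebra F4 e 1

/-- Unitriangular coordinates over `Λ e`, with `t` acting as the conjugation. -/
structure LM (d : Dt G) (t : G) (e : F4) (p : Λ e → Λ e → Λ e → G) : Prop where
  mul : ∀ a b c a' b' c', p a b c * p a' b' c' = p (a + a') (b + b') (c + c' + a * b')
  inj : ∀ {a b c}, p a b c = 1 → a = 0 ∧ b = 0 ∧ c = 0
  t : ∀ a b c, t * p a b c * t⁻¹ = p (star a) (star b) (star c)
  u : ∀ a b c : F4, p ⟨a, 0⟩ ⟨b, 0⟩ ⟨c, 0⟩ = d.u a b c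

theorem exists_lm (hf : Fr d) (hp : Pr d false R r) (hl : Loc d false R r O β 0 0) :
    ∃ e p, LM d (r 1) e p := by
  have h := loc_rl hf hp hl
  obtain ⟨e, h12⟩ := loc_w12 hf hp hl
  change ∀ y y', (fun y => d.n * β y * d.n⁻¹) y * (fun y => d.m * β y * d.m⁻¹) y' =
    (fun y => d.m * β y * d.m⁻¹) y' * ((fun y => d.n * β y * d.n⁻¹) y * _) at h12
  generalize (fun y => d.n * β y * d.n⁻¹) = w₁, (fun y => d.m * β y * d.m⁻¹) = w₂ at h h12
  have z1 := add0 h.w11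
  have z2 := add0 h.w22
  have zb := add0 h.bb
  have ti : (r 1)⁻¹ = r 1 := inv_eq_of_mul_eq_one_right h.tt
  have re : ∀ x a b c, β x * d.u a b c = 1 → x = 0 ∧ a = 0 ∧ b = 0 ∧ c = 0 := fun x a b c e1 => by
    have : r 1 * (β x * d.u a b c) * r 1 = β x * d.u a b c * d.u 0 0 x := by
      simp only [mul_assoc, h.all, one_mul]
      congr 1
      exact cg _ (by grind) (by grind) (by grind)
    rw [e1, mul_one, one_mul, h.tt] at this
    obtain rfl := (hf.hm.inj this.symm).2.2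
    rw [zb, one_mul] at e1
    exact ⟨rfl, hf.hm.inj e1⟩
  refine ⟨e, fun a b c => w₂ b.im * (w₁ a.im * (β (a.im * b.re + c.im) * d.u a.re b.re c.re)),
    fun a b c a' b' c' => ?_, fun {a b c} e1 => ?_, fun a b c => ?_, fun a b c => ?_⟩
  · simp only [mul_assoc, h.all, fun y y' => lft (h12 y y'), QuadraticAlgebra.re_add,
      QuadraticAlgebra.im_add, QuadraticAlgebra.re_mul, QuadraticAlgebra.im_mul, mul_right_inj]
    congr 1
    · exact congrArg β (by grind)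
    · exact cg _ (by grind) (by grind) (by grind)
  · have k : r 1 * (w₂ b.im * (w₁ a.im * (β (a.im * b.re + c.im) * d.u a.re b.re c.re))) * r 1 =
        w₂ b.im * (w₁ a.im * (β (a.im * b.re + c.im) * d.u a.re b.re c.re)) *
          (β (a.im * b.im) * d.u a.im b.im (c.im + a.re * b.im)) := by
      simp only [mul_assoc, h.all, one_mul, mul_right_inj]
      congr 1
      · exact congrArg β (by grind)
      · exact cg _ (by grind) (by grind) (by grind)
    rw [e1, mul_one, one_mul, h.tt] at k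
    obtain ⟨-, k1, k2, -⟩ := re _ _ _ _ k.symm
    rw [k1, k2, z1, z2, one_mul, one_mul, zero_mul, zero_add] at e1
    obtain ⟨k3, k4, k5, k6⟩ := re _ _ _ _ e1
    exact ⟨QuadraticAlgebra.ext k4 k1, QuadraticAlgebra.ext k5 k2, QuadraticAlgebra.ext k6 k3⟩
  · simp only [ti, mul_assoc, h.all, one_mul, QuadraticAlgebra.re_star, QuadraticAlgebra.im_star,
      F4.neg_eq, mul_right_inj]
    congr 1
    · exact congrArg β (by grind)
    · exact cg _ (by grind) (by grind) (by grind)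
  · simp [z1, z2, zb]

end H33.TE
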