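/- TE2 (blueprints/TE2.md): job C1, the group `P` is unitriangular over `F₁₆` or `F₄ × F₄`. -/
import Cfsg.Agent.H33.TEC1a

set_option autoImplicit false
set_option linter.unusedSectionVars false

namespace H33.TE

open Subgroup Cfsg H98 H1.Gold H86.L34 H6 H88.TE H88.AS

universe u
variable {G : Type u} [Group G] [Finite G] {d : Dt G} {R O : Subgroup G} {r β : F4 → G} {t z : G}
  {e : F4} {p : Λ e → Λ e → Λ e → G}

theorem twoL : (2 : Λ e) = 0 := QuadraticAlgebra.ext F4.two_eq rfl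

theorem charL : CharP (Λ e) 2 := CharTwo.of_one_ne_zero_of_two_eq_zero one_ne_zero twoL

attribute [local instance] charP4 charL

theorem card4 : Nat.card F4 = 4 := by rw [Nat.card_eq_fintype_card]; rfl

theorem cardL : Nat.card (Λ e) = 16 := by
  rw [Nat.card_congr (QuadraticAlgebra.equivProd e 1), Nat.card_prod, card4]

theorem fix_mod {C P : Subgroup G} {s : G} (hC : IsPGroup 2 C) (ht : ∀ x ∈ C, t * x * t⁻¹ ∈ C)
    (tt : t * t = 1) (hs : s ∈ C) (hn : s ∉ P) : ∃ c ∈ C, c ∉ P ∧ t * c * t⁻¹ * c⁻¹ ∈ P := by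
  have key : ∀ n, ∀ x ∈ C, x ∉ P → t * x * t⁻¹ = x⁻¹ → x ^ 2 ^ n = 1 →
      ∃ c ∈ C, c ∉ P ∧ t * c * t⁻¹ * c⁻¹ ∈ P := fun n => by
    induction n with
    | zero => exact fun x _ hx _ h => absurd (by rw [pow_zero, pow_one] at h; exact h ▸ one_mem P) hx
    | succ n ih =>
      intro x hx hn hi h
      by_cases h2 : x * x ∈ P
      · exact ⟨x, hx, hn, by rw [hi, ← mul_inv_rev]; exact inv_mem h2⟩
      · exact ih _ (mul_mem hx hx) h2 (by rw [cj_mul, hi, mul_inv_rev])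
          (by rw [← pow_two, ← pow_mul, ← pow_succ', h])
  by_cases h : t * s * t⁻¹ * s⁻¹ ∈ P
  · exact ⟨s, hs, hn, h⟩
  have hx := mul_mem (ht s hs) (inv_mem hs)
  obtain ⟨n, e1⟩ := hC ⟨_, hx⟩
  refine key n _ hx h ?_ (congrArg Subtype.val e1)
  rw [inv_eq_of_mul_eq_one_right tt, mul_inv_rev, mul_inv_rev, mul_inv_rev,
    inv_eq_of_mul_eq_one_right tt, inv_inv]
  simp only [mul_assoc, lft tt, one_mul]

namespace LM
variable (h : LM d t e p)
include h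

theorem one : p 0 0 0 = 1 := by simpa using h.mul 0 0 0 0 0 0

theorem inv (a b c : Λ e) : (p a b c)⁻¹ = p a b (c + a * b) := by
  refine inv_eq_of_mul_eq_one_right ?_
  rw [h.mul, ← h.one]
  exact cg p (by grind) (by grind) (by grind)

theorem ext {a b c a' b' c' : Λ e} (e1 : p a b c = p a' b' c') : a = a' ∧ b = b' ∧ c = c' := by
  have := mul_inv_eq_one.2 e1
  rw [h.inv, h.mul] at this
  obtain ⟨h1, h2, h3⟩ := h.inj this
  exact ⟨by grind, by grind, by grind⟩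

theorem big (c0 : C0 d.K z) {x : G} (hx : KI d.K x) {a b : Λ e} (h0 : a * b = 0)
    (hn : a ≠ 0 ∨ b ≠ 0) (hc : ∀ (l : F4) c, Commute (p (l • a) (l • b) c) x) : False := by
  have ab : ∀ l l' : F4, l • a * l' • b = 0 := fun l l' => by
    rw [smul_mul_smul_comm, h0, smul_zero]
  let f : Multiplicative (F4 × Λ e) →* G := MonoidHom.mk'
    (fun y => p (y.toAdd.1 • a) (y.toAdd.1 • b) y.toAdd.2) fun y y' => by
      rw [h.mul, ab, add_zero, ← add_smul, ← add_smul]; rfl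
  have hi : Function.Injective f := (injective_iff_map_eq_one f).2 fun y hy => by
    obtain ⟨h1, h2, h3⟩ := h.inj hy
    refine Prod.ext ?_ h3
    rcases hn with hn | hn
    · exact (smul_eq_zero.1 h1).resolve_right hn
    · exact (smul_eq_zero.1 h2).resolve_right hn
  have := c0.rk5 x hx f.range (by rintro _ ⟨y, rfl⟩; exact mem_cen1.2 (hc ..).eq) (by
    rintro _ ⟨y, rfl⟩
    change p _ _ _ * p _ _ _ = 1
    rw [h.mul, ab, ← h.one]
    exact cg p (by grind) (by grind) (by grind))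
  rw [← Nat.card_congr (MonoidHom.ofInjective hi).toEquiv, Nat.card_congr Multiplicative.toAdd,
    Nat.card_prod, card4, cardL] at this
  omega

theorem noP (c0 : C0 d.K z) (a b c : Λ e) : ¬ KI d.K (p a b c) := fun hx => by
  have h1 : p a b c * p a b c = 1 := by rw [← pow_two, ← hx.1, pow_orderOf_eq_one]
  rw [h.mul] at h1
  have h0 : a * b = 0 := by have := (h.inj h1).2.2; grind
  by_cases ha : a = 0
  · refine h.big c0 hx (a := 0) (b := 1) (zero_mul _) (Or.inr one_ne_zero) fun l c' => ?_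
    rw [Commute, SemiconjBy, h.mul, h.mul, ha, smul_zero]
    exact cg p rfl (by ring) (by ring)
  · refine h.big c0 hx (a := a) (b := 0) (mul_zero _) (Or.inl ha) fun l c' => ?_
    rw [Commute, SemiconjBy, h.mul, h.mul, smul_zero, smul_mul_assoc, h0, smul_zero]
    exact cg p (by ring) (by ring) (by ring)

/-- The whole group. -/
def P : Subgroup G where
  carrier := {x | ∃ a b c, p a b c = x}
  mul_mem' := by rintro _ _ ⟨_, _, _, rfl⟩ ⟨_, _, _, rfl⟩; exact ⟨_, _, _, (h.mul ..).symm⟩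
  one_mem' := ⟨_, _, _, h.one⟩
  inv_mem' := by rintro _ ⟨_, _, _, rfl⟩; exact ⟨_, _, _, (h.inv ..).symm⟩

/-- Its centre. -/
def B : Subgroup G where
  carrier := {x | ∃ c, p 0 0 c = x}
  mul_mem' := by rintro _ _ ⟨_, rfl⟩ ⟨_, rfl⟩; exact ⟨_, by rw [h.mul, add_zero]⟩
  one_mem' := ⟨_, h.one⟩
  inv_mem' := by rintro _ ⟨_, rfl⟩; exact ⟨_, (h.inv ..).symm⟩

/-- The elements of `S` that act trivially on `P` modulo its centre. -/
def Tr {S P : Subgroup G} (hP : ∀ x, x ∈ P ↔ ∃ a b c, p a b c = x) (hS : S ≤ nor P) :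
    Subgroup G where
  carrier := {s | s ∈ S ∧ ∀ a b c, ∃ c', s * p a b c * s⁻¹ = p a b c'}
  mul_mem' := fun {x y} hx hy => ⟨mul_mem hx.1 hy.1, fun a b c => by
    obtain ⟨c', e1⟩ := hy.2 a b c
    obtain ⟨c'', e2⟩ := hx.2 a b c'
    exact ⟨c'', by rw [← e2, ← e1]; group⟩⟩
  one_mem' := ⟨one_mem _, fun a b c => ⟨c, by simp⟩⟩
  inv_mem' := fun {x} hx => ⟨inv_mem hx.1, fun a b c => by
    obtain ⟨a', b', c', e1⟩ := (hP _).1
      (H98.conj_mem_of_mem_normalizer (hS (inv_mem hx.1)) ((hP _).2 ⟨a, b, c, rfl⟩))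
    obtain ⟨c'', e2⟩ := hx.2 a' b' c'
    rw [e1, inv_inv, show x * (x⁻¹ * p a b c * x) * x⁻¹ = p a b c by group] at e2
    exact ⟨c', by rw [← e1, (h.ext e2).1, (h.ext e2).2.1]⟩⟩

end LM

theorem star_star' (a : Λ e) : star (star a) = a := star_star a

theorem LM.cp (hf : Fr d) (hp : Pr d false R r) (od : Od d R O) (c0 : C0 d.K z)
    (h : LM d (r 1) e p) {P B : Subgroup G} (hP : ∀ x, x ∈ P ↔ ∃ a b c, p a b c = x)
    (hB : ∀ x, x ∈ B ↔ ∃ c, p 0 0 c = x) : CP d.K (r 1) P B := by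
  have f0 := hf.toFr0
  have tt := rr hp ph1
  have ti : (r 1)⁻¹ = r 1 := inv_eq_of_mul_eq_one_right tt
  refine ⟨⟨orderOf_eq_prime (by rw [pow_two, tt]) fun e1 => one_ne_zero (hp.inj 1 ph1 e1), 1,
    by rw [cj_one]; exact rK hp ph1⟩, fun x hx => ?_, fun S hS hPS htS hN s hs hs' => ?_⟩
  · obtain ⟨a, b, c, rfl⟩ := (hP x).1 hx
    exact h.noP c0 a b c
  by_contra hn
  have mP : ∀ a b c, p a b c ∈ P := fun a b c => (hP _).2 ⟨a, b, c, rfl⟩
  have PC : ∀ a b c, p a b c ∈ h.Tr hP hN := fun a b c => ⟨hPS (mP ..), fun a' b' c' =>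
    ⟨c' + a * b' + b * a', by rw [h.inv, h.mul, h.mul]; exact cg p (by grind) (by grind) (by grind)⟩⟩
  obtain ⟨c, hc, hcP, h1⟩ := fix_mod (C := h.Tr hP hN) (P := P) (s := s)
    (hS.to_le fun _ hx => hx.1) (fun x hx => ⟨mul_mem (mul_mem htS hx.1) (inv_mem htS),
      fun a b c => by
        obtain ⟨c', e1⟩ := hx.2 (star a) (star b) (star c)
        refine ⟨star c', ?_⟩
        rw [← star_star' a, ← star_star' b, ← h.t, ← e1, star_star', star_star', ← h.t, ti]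
        simp only [mul_inv_rev, ti, mul_assoc]⟩) tt
    ⟨hs, fun a b c => by
      obtain ⟨c', e1⟩ := (hB _).1 (hs' _ (mP a b c))
      exact ⟨c' + c, by rw [mul_inv_eq_iff_eq_mul.1 e1.symm, h.mul, zero_add, zero_add, zero_mul,
        add_zero]⟩⟩ hn
  obtain ⟨a, b, x, e1⟩ := (hP _).1 h1
  have e2 : c * r 1 * c⁻¹ = r 1 * p a b x := by
    rw [e1, ti]; simp only [← mul_assoc, tt, one_mul]
  have e3 : p (star a) (star b) (star x) * p a b x = 1 := by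
    rw [← h.t, ti, mul_assoc (r 1 * _), ← e2, ← cj_mul, tt, mul_one, mul_inv_cancel]
  rw [h.mul] at e3
  obtain ⟨k1, k2, k3⟩ := h.inj e3
  have a0 : a.im = 0 := by simpa [add_right_comm] using congrArg QuadraticAlgebra.re k1
  have b0 : b.im = 0 := by simpa [add_right_comm] using congrArg QuadraticAlgebra.re k2
  have x0 : x.im = a.re * b.re := by
    have := congrArg QuadraticAlgebra.re k3
    simp only [QuadraticAlgebra.re_add, QuadraticAlgebra.re_mul, QuadraticAlgebra.re_star, a0, b0,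
      QuadraticAlgebra.re_zero] at this
    grind
  have e4 : p ⟨0, a.re⟩ ⟨0, b.re⟩ ⟨0, x.re⟩ * r 1 * (p ⟨0, a.re⟩ ⟨0, b.re⟩ ⟨0, x.re⟩)⁻¹ =
      r 1 * p a b x := by
    have : ∀ q : G, q * r 1 * q⁻¹ = r 1 * (r 1 * q * (r 1)⁻¹ * q⁻¹) := fun q => by
      rw [ti]; simp only [← mul_assoc, tt, one_mul]
    rw [this, h.t, h.inv, h.mul]
    congr 1
    refine cg p ?_ ?_ ?_ <;> ext <;> simp [a0, b0, x0, F4.neg_eq] <;> grind
  generalize hq : p ⟨0, a.re⟩ ⟨0, b.re⟩ ⟨0, x.re⟩ = q at e4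
  have qP : q ∈ P := hq ▸ mP ..
  have gC : q⁻¹ * c ∈ h.Tr hP hN := mul_mem (inv_mem (hq ▸ PC ..)) hc
  have gP : q⁻¹ * c ∉ P := fun k => hcP (by simpa using mul_mem qP k)
  have gt : Commute (q⁻¹ * c) (r 1) := com_of (by
    have : q⁻¹ * c * r 1 * (q⁻¹ * c)⁻¹ = q⁻¹ * (c * r 1 * c⁻¹) * q := by group
    rw [this, e2, cj_inv e4])
  generalize q⁻¹ * c = g at gC gP gt
  obtain ⟨k, hk, a, b, x, rfl⟩ := hf.tri₁ g (nor_r f0 hp gt) (fun x => com_of (by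
    obtain ⟨c1, k1⟩ := gC.2 ⟨x, 0⟩ 0 0
    obtain ⟨c2, k2⟩ := gC.2 0 1 0
    obtain ⟨c3, k3⟩ := gC.2 0 0 ⟨x, 0⟩
    have k4 : p ⟨x, 0⟩ 0 0 * p 0 1 0 = p 0 1 0 * p ⟨x, 0⟩ 0 0 * p 0 0 ⟨x, 0⟩ := by
      rw [h.mul, h.mul, h.mul]; exact cg p (by ring) (by ring) (by ring)
    have k5 := congrArg (fun s => g * s * g⁻¹) k4
    simp only [cj_mul g] at k5
    rw [k1, k2, k3, h.mul, h.mul, h.mul] at k5
    have k6 : c3 = ⟨x, 0⟩ := by linear_combination -(h.ext k5).2.2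
    rw [k6] at k3
    rw [Dt.z, ← h.u]; exact k3)) fun a => by
      obtain ⟨c1, k1⟩ := gC.2 ⟨a, 0⟩ ⟨0, 0⟩ ⟨0, 0⟩
      have k2 := h.t ⟨a, 0⟩ ⟨0, 0⟩ c1
      have k3 : Commute (r 1) (g * p ⟨a, 0⟩ ⟨0, 0⟩ ⟨0, 0⟩ * g⁻¹) := by
        rw [h.u]; exact (gt.symm.mul_right (rA hp ph1 (hf.uA ..))).mul_right gt.symm.inv_right
      rw [k1] at k3
      rw [cj_of k3.eq] at k2
      have k4 : c1.im = 0 := by simpa using congrArg QuadraticAlgebra.re (h.ext k2).2.2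
      exact ⟨c1.re, by rw [← h.u, ← h.u, k1, ← k4]⟩
  have uP : d.u a b x ∈ P := h.u .. ▸ mP ..
  have kC : k ∈ h.Tr hP hN := by
    have := mul_mem gC (inv_mem (h.u a b x ▸ PC ..) : (d.u a b x)⁻¹ ∈ _)
    rwa [mul_inv_cancel_right] at this
  obtain ⟨o, ho, c, hc, rfl⟩ := K_dec hp od hk fun c hc => by
    rcases hc with hc | rfl | rfl
    · exact absurd hc (by simp)
    · rw [r0 hp]; exact Commute.one_right _
    · simpa using gt.mul_left (rA hp ph1 (hf.uA a b x)).symm.inv_left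
  have rS : r c ∈ S := by
    rcases hc with hc | rfl | rfl
    · exact absurd hc (by simp)
    · rw [r0 hp]; exact one_mem _
    · exact htS
  obtain ⟨n, hn⟩ := hS ⟨o, by simpa using mul_mem kC.1 (inv_mem rS)⟩
  obtain rfl : o = 1 := odd_two (O_odd od ho) (congrArg Subtype.val hn)
  rcases hc with hc | rfl | rfl
  · exact absurd hc (by simp)
  · exact gP (by rwa [r0 hp, one_mul, one_mul])
  · obtain ⟨c1, k1⟩ := kC.2 ⟨0, 1⟩ 0 0
    rw [one_mul, h.t] at k1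
    simpa using congrArg QuadraticAlgebra.re (h.ext k1).1

theorem star_four (he : ∀ x : F4, x ^ 2 ≠ e + 1 * x) (a : Λ e) : star a = a ^ 4 := by
  obtain ⟨x, y⟩ := a
  rw [show 4 = 2 * 2 from rfl, pow_mul, pow_two, pow_two]
  ext <;> simp only [QuadraticAlgebra.re_mul, QuadraticAlgebra.im_mul, QuadraticAlgebra.re_star,
    QuadraticAlgebra.im_star] <;> revert e x y <;> decide

theorem LM.cf (hf : Fr d) (hp : Pr d false R r) (od : Od d R O) (c0 : C0 d.K z)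
    (h : LM d (r 1) e p) (he : ∀ x : F4, x ^ 2 ≠ e + 1 * x) : CF d.K (r 1) := by
  have : Fact (∀ x : F4, x ^ 2 ≠ e + 1 * x) := ⟨he⟩
  let _ : Fintype (Λ e) := Fintype.ofEquiv _ (QuadraticAlgebra.equivProd e 1).symm
  have hm : HM p := ⟨twoL, h.mul, h.inj⟩
  have h4 := star_four he
  exact ⟨Λ e, inferInstance, inferInstance, p, hm, by rw [← Nat.card_eq_fintype_card, cardL],
    fun a b c => by rw [h.t, h4, h4, h4], h.cp hf hp od c0 (fun _ => Iff.rfl) fun _ => hm.mem_Z⟩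

theorem LM.hm (h : LM d t e p) {ρ : F4} (hρ : ρ ^ 2 = e + 1 * ρ) :
    HM fun a b c : F4 => p (a • ⟨ρ, 1⟩) (b • ⟨ρ, 1⟩) (c • ⟨ρ, 1⟩) :=
  ⟨F4.two_eq, fun a b c a' b' c' => by
    rw [h.mul]
    refine cg p ?_ ?_ ?_ <;> ext <;> simp <;> grind, fun e1 => by
    obtain ⟨h1, h2, h3⟩ := h.inj e1
    exact ⟨by simpa using congrArg QuadraticAlgebra.im h1,
      by simpa using congrArg QuadraticAlgebra.im h2, by simpa using congrArg QuadraticAlgebra.im h3⟩⟩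

theorem LM.cs (hf : Fr d) (hp : Pr d false R r) (od : Od d R O) (c0 : C0 d.K z)
    (h : LM d (r 1) e p) {ρ : F4} (hρ : ρ ^ 2 = e + 1 * ρ) : CS d.K (r 1) (d.z 1) := by
  have h1 := h.hm hρ
  have h2 := h.hm (ρ := ρ + 1) (by grind)
  have hc : ∀ a b c a' b' c' : F4, p (a • ⟨ρ, 1⟩) (b • ⟨ρ, 1⟩) (c • ⟨ρ, 1⟩) *
      p (a' • ⟨ρ + 1, 1⟩) (b' • ⟨ρ + 1, 1⟩) (c' • ⟨ρ + 1, 1⟩) = p ⟨(a + a') * ρ + a', a + a'⟩
        ⟨(b + b') * ρ + b', b + b'⟩ ⟨(c + c') * ρ + c', c + c'⟩ := fun a b c a' b' c' => by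
    rw [h.mul]
    refine cg p ?_ ?_ ?_ <;> ext <;> simp <;> grind
  have dc : ∀ a : Λ e, ∃ x y : F4, a = ⟨(x + y) * ρ + y, x + y⟩ := fun a =>
    ⟨a.im + (a.re + a.im * ρ), a.re + a.im * ρ, by ext <;> simp only <;> grind⟩
  refine ⟨_, _, h1, h2, fun a b c a' b' c' => ?_, eq_bot_iff.2 ?_, fun a b c => ?_, ?_,
    h.cp hf hp od c0 (fun x => ⟨fun hx => ?_, ?_⟩) fun x => ⟨fun hx => ?_, ?_⟩⟩
  · rw [Commute, SemiconjBy, hc, h.mul]
    refine cg p ?_ ?_ ?_ <;> ext <;> simp <;> grind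
  · rintro _ ⟨⟨a, b, c, rfl⟩, a', b', c', e1⟩
    obtain ⟨k1, k2, k3⟩ := h.ext e1
    have : ∀ {x y : F4}, (x • ⟨ρ + 1, 1⟩ : Λ e) = y • ⟨ρ, 1⟩ → y = 0 := fun k => by
      have q1 := congrArg QuadraticAlgebra.re k
      have q2 := congrArg QuadraticAlgebra.im k
      simp only [QuadraticAlgebra.re_smul, QuadraticAlgebra.im_smul, smul_eq_mul] at q1 q2
      grind
    rw [this k1, this k2, this k3]
    exact h1.one
  · rw [h.t]
    refine cg p ?_ ?_ ?_ <;> ext <;> simp [F4.neg_eq, mul_add]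
  · rw [hc, Dt.z, ← h.u]; simp
  · exact (show h1.S ⊔ h2.S ≤ h.P from sup_le (fun _ ⟨_, _, _, k⟩ => ⟨_, _, _, k⟩)
      fun _ ⟨_, _, _, k⟩ => ⟨_, _, _, k⟩) hx
  · rintro ⟨a, b, c, rfl⟩
    obtain ⟨_, _, rfl⟩ := dc a
    obtain ⟨_, _, rfl⟩ := dc b
    obtain ⟨_, _, rfl⟩ := dc c
    rw [← hc]
    exact mul_mem_sup (h1.mem_S ..) (h2.mem_S ..)
  · refine (sup_le (c := h.B) (fun y hy => ?_) fun y hy => ?_) hx
    · obtain ⟨c, rfl⟩ := h1.mem_Z.1 hy
      exact ⟨_, by rw [zero_smul]⟩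
    · obtain ⟨c, rfl⟩ := h2.mem_Z.1 hy
      exact ⟨_, by rw [zero_smul]⟩
  · rintro ⟨c, rfl⟩
    obtain ⟨x, y, rfl⟩ := dc c
    have := mul_mem_sup (h1.mem_Z.2 ⟨x, rfl⟩) (h2.mem_Z.2 ⟨y, rfl⟩)
    rw [hc, add_zero, add_zero, zero_mul] at this
    exact this

theorem jobC1 : H88.TE.JobC1.{u} := fun _ _ _ _ _ _ _ _ hf hp hl c0 => by
  obtain ⟨e, p, h⟩ := exists_lm hf hp hl
  by_cases he : ∀ x : F4, x ^ 2 ≠ e + 1 * x
  · exact Or.inl (h.cf hf hp hl.od c0 he)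
  · obtain ⟨ρ, hρ⟩ := not_forall.1 he
    exact Or.inr (h.cs hf hp hl.od c0 (not_not.1 hρ))

end H33.TE
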