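/- SL₂(q), q odd: counting irreducible characters by degree; the McKay equality. -/
import Cfsg.Agent.H33.SL2Syl
import Cfsg.Agent.H90.SL23

namespace H33
open Matrix Cfsg H28

theorem card_irr_degree_congr {G H : Type*} [Group G] [Group H] (e : G ≃* H) (P : ℕ → Prop) :
    Nat.card {χ : IrrCharacter G // P (charDegree (χ : G → ℂ))} =
      Nat.card {χ : IrrCharacter H // P (charDegree (χ : H → ℂ))} :=
  Nat.card_congr
    { toFun := fun χ => ⟨⟨fun x => χ.1.1 (e.symm x), χ.1.2.comp_mulEquiv e.symm⟩, by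
        rw [charDegree_congr (χ := χ.1.1) (by simp)]; exact χ.2⟩
      invFun := fun χ => ⟨⟨fun x => χ.1.1 (e x), χ.1.2.comp_mulEquiv e⟩, by
        rw [charDegree_congr (χ := χ.1.1) (by simp)]; exact χ.2⟩
      left_inv := fun χ => Subtype.ext (Subtype.ext (by simp))
      right_inv := fun χ => Subtype.ext (Subtype.ext (by simp)) }

theorem card_irr_of_forall {G : Type*} [Group G] [Finite G] (P : ℕ → Prop)
    (h : ∀ χ, IsIrrCharacter G χ → P (charDegree χ)) :
    Nat.card {χ : IrrCharacter G // P (charDegree (χ : G → ℂ))} = Nat.card (ConjClasses G) := by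
  rw [Nat.card_congr (Equiv.subtypeUnivEquiv fun χ => h _ χ.2), card_irr_eq_card_conjClasses]

theorem card_odd_degree_of_inverting {N : Type*} [Group N] [Finite N] (A : Subgroup N)
    (hidx : A.index = 2) (hcomm : ∀ a ∈ A, ∀ b ∈ A, a * b = b * a)
    (hinv : ∀ g ∉ A, ∀ a ∈ A, g * a * g⁻¹ = a⁻¹)
    (h2 : Nat.card {a : N // a ∈ A ∧ a ^ 2 = 1} = 2) :
    Nat.card {χ : IrrCharacter N // ¬ 2 ∣ charDegree (χ : N → ℂ)} = 4 := by
  classical
  have hk := card_conjClasses_of_inverting A hidx hcomm hinv h2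
  have hN : Nat.card N = 2 * Nat.card A := by rw [← A.card_mul_index, hidx, mul_comm]
  have hnorm : A.Normal := Subgroup.normal_of_index_eq_two hidx
  have hd : ∀ χ : IrrCharacter N, charDegree (χ : N → ℂ) = 1 ∨ charDegree (χ : N → ℂ) = 2 :=
    fun χ => (Nat.dvd_prime Nat.prime_two).1 (hidx ▸ χ.2.charDegree_dvd_index A hcomm)
  have hs := sum_charDegree_sq (G := N)
  rw [← Finset.sum_filter_add_sum_filter_not Finset.univ
    (fun χ : IrrCharacter N => 2 ∣ charDegree (χ : N → ℂ)),
    Finset.sum_const_nat (m := 4) fun χ h => by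
      have := (Finset.mem_filter.1 h).2
      rcases hd χ with h | h <;> simp_all,
    Finset.sum_const_nat (m := 1) fun χ h => by
      have := (Finset.mem_filter.1 h).2
      rcases hd χ with h | h <;> simp_all] at hs
  have e := Finset.card_filter_add_card_filter_not (s := Finset.univ)
    (fun χ : IrrCharacter N => 2 ∣ charDegree (χ : N → ℂ))
  rw [Finset.card_univ, ← Nat.card_eq_fintype_card, card_irr_eq_card_conjClasses] at e
  rw [Nat.card_eq_fintype_card, Fintype.card_subtype]
  omega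

variable {F : Type*} [Field F]

theorem sum_irr_sl2_odd [Fintype F] (hodd : Odd (Fintype.card F)) (f : ℕ → ℕ) :
    ∑ χ : IrrCharacter (SL2 F), f (charDegree (χ : SL2 F → ℂ)) =
      f 1 + f (Fintype.card F) + (Fintype.card F - 3) / 2 * f (Fintype.card F + 1) +
      (Fintype.card F - 1) / 2 * f (Fintype.card F - 1) + 2 * f ((Fintype.card F + 1) / 2) +
      2 * f ((Fintype.card F - 1) / 2) := by
  classical
  have hF := ringChar_ne_two_iff.2 hodd
  obtain ⟨e, he⟩ := exists_isEll (F := F)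
  obtain ⟨χ₁, χ₂, H⟩ := exists_halves_rs hF
  obtain ⟨θ, h2, h1⟩ := exists_theta0 he hF
  obtain ⟨χ₃, χ₄, H'⟩ := exists_halves_cuspS he h2 h1
  have hR : ∀ χ, χ ∈ ({χ₁, χ₂} : Finset (SL2 F → ℂ)) ↔ IsHalfR χ := fun χ => by
    rw [isHalfR_iff hF H]; simp
  have hC : ∀ χ, χ ∈ ({χ₃, χ₄} : Finset (SL2 F → ℂ)) ↔ IsHalfC he χ := fun χ => by
    rw [isHalfC_iff he h2 h1 H']; simp
  have hq := card_cast_ne_zero (F := F)
  have hq1 := card_sub_one_ne_zero (F := F)
  set k : (SL2 F → ℂ) → ℂ × ℂ := fun χ => (sU χ, 2 * χ 1)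
  have k1 : ∀ χ ∈ ({fun _ => 1} : Finset (SL2 F → ℂ)), k χ = ((Fintype.card F : ℂ), 2) := by
    simp [k, sU_one]
  have k2 : ∀ χ ∈ ({stS F} : Finset (SL2 F → ℂ)),
      k χ = ((Fintype.card F : ℂ), 2 * (Fintype.card F : ℂ)) := by simp [k, sU_stS, stS_one]
  have k3 : ∀ χ ∈ rsSet F,
      k χ = (2 * (Fintype.card F : ℂ), 2 * ((Fintype.card F : ℂ) + 1)) := fun χ h => by
    obtain ⟨α, -, rfl⟩ := mem_rsSet.1 h; simp [k, sU_rs, rs_one]
  have k4 : ∀ χ ∈ cuspSSet he, k χ = (0, 2 * ((Fintype.card F : ℂ) - 1)) := fun χ h => by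
    obtain ⟨α, -, rfl⟩ := (mem_cuspSSet he).1 h; simp [k, sU_cuspS, cuspS_one]
  have k5 : ∀ χ ∈ ({χ₁, χ₂} : Finset (SL2 F → ℂ)),
      k χ = ((Fintype.card F : ℂ), (Fintype.card F : ℂ) + 1) :=
    fun χ h => Prod.ext ((hR χ).1 h).sU_eq ((hR χ).1 h).deg
  have k6 : ∀ χ ∈ ({χ₃, χ₄} : Finset (SL2 F → ℂ)), k χ = (0, (Fintype.card F : ℂ) - 1) :=
    fun χ h => Prod.ext ((hC χ).1 h).sU_eq ((hC χ).1 h).deg
  have n1 : (Fintype.card F : ℂ) ≠ 2 * Fintype.card F := fun h => hq (by linear_combination -h)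
  rw [← Finset.sum_subtype ({fun _ => 1} ∪ {stS F} ∪ rsSet F ∪ cuspSSet he ∪ {χ₁, χ₂} ∪ {χ₃, χ₄})
    (f := fun χ => f (charDegree χ)) fun χ => ⟨fun h => by
      simp only [Finset.mem_union, mem_rsSet, mem_cuspSSet, hR, hC] at h
      simp only [Finset.mem_singleton] at h
      rcases h with ((((rfl | rfl) | ⟨α, h, rfl⟩) | ⟨α, h, rfl⟩) | h) | ⟨-, _, -, -, _, H⟩
      exacts [isIrrCharacter_one, isIrr_stS, isIrr_rs_iff.2 h, isIrr_cuspS he h,
        h.2.choose_spec.irr₁, H.irr₁], fun h => by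
      simp only [Finset.mem_union, mem_rsSet, mem_cuspSSet, hR, hC]
      simp only [Finset.mem_singleton]
      rcases sl2_cases_deg he h with h | h | h | h | h | h
      exacts [.inl (.inl (.inl (.inl (.inl h.1)))), .inl (.inl (.inl (.inl (.inr h.1)))),
        .inl (.inl (.inl (.inr h.1))), .inl (.inl (.inr h.1)), .inl (.inr h.1), .inr h.1]⟩,
    Finset.sum_union, Finset.sum_union, Finset.sum_union, Finset.sum_union, Finset.sum_union,
    Finset.sum_singleton, Finset.sum_singleton, charDegree_one, charDegree_eq stS_one,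
    Finset.sum_const_nat (m := f (Fintype.card F + 1)) fun χ h => by
      rw [charDegree_eq (n := Fintype.card F + 1) (by
        have := congrArg Prod.snd (k3 χ h); push_cast; linear_combination this / 2)],
    Finset.sum_const_nat (m := f (Fintype.card F - 1)) fun χ h => by
      rw [charDegree_eq (n := Fintype.card F - 1) (by
        have := congrArg Prod.snd (k4 χ h); rw [cast_card_sub_one]; linear_combination this / 2)],
    Finset.sum_const_nat (m := f ((Fintype.card F + 1) / 2)) fun χ h => by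
      rw [charDegree_eq (n := (Fintype.card F + 1) / 2) (by
        linear_combination ((hR χ).1 h).deg / 2 - cast_half_add hodd / 2)],
    Finset.sum_const_nat (m := f ((Fintype.card F - 1) / 2)) fun χ h => by
      rw [charDegree_eq (n := (Fintype.card F - 1) / 2) (by
        linear_combination ((hC χ).1 h).deg / 2 - cast_half_sub hodd / 2)],
    Finset.card_pair H.ne, Finset.card_pair H'.ne]
  · have h1 := card_rsSet (F := F)
    have h2 := card_cuspSSet he
    have h3 := Nat.odd_iff.1 hodd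
    have h4 := Fintype.one_lt_card (α := F)
    rw [Nat.gcd_eq_right (by omega)] at h1 h2
    rw [show (rsSet F).card = (Fintype.card F - 3) / 2 by omega,
      show (cuspSSet he).card = (Fintype.card F - 1) / 2 by omega]
  · exact disj_of_key k k1 k2 fun h => hq1 (by linear_combination -(congrArg Prod.snd h) / 2)
  · simp only [Finset.disjoint_union_left]
    exact ⟨disj_of_key k k1 k3 fun h => n1 (congrArg Prod.fst h),
      disj_of_key k k2 k3 fun h => n1 (congrArg Prod.fst h)⟩
  · simp only [Finset.disjoint_union_left]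
    exact ⟨⟨disj_of_key k k1 k4 fun h => hq (congrArg Prod.fst h),
      disj_of_key k k2 k4 fun h => hq (congrArg Prod.fst h)⟩,
      disj_of_key k k3 k4 fun h => hq (by linear_combination (congrArg Prod.fst h) / 2)⟩
  · simp only [Finset.disjoint_union_left]
    exact ⟨⟨⟨disj_of_key k k1 k5 fun h => hq1 (by linear_combination -(congrArg Prod.snd h)),
      disj_of_key k k2 k5 fun h => hq1 (by linear_combination (congrArg Prod.snd h))⟩,
      disj_of_key k k3 k5 fun h => n1 (congrArg Prod.fst h).symm⟩,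
      disj_of_key k k4 k5 fun h => hq (congrArg Prod.fst h).symm⟩
  · simp only [Finset.disjoint_union_left]
    exact ⟨⟨⟨⟨disj_of_key k k1 k6 fun h => hq (congrArg Prod.fst h),
      disj_of_key k k2 k6 fun h => hq (congrArg Prod.fst h)⟩,
      disj_of_key k k3 k6 fun h => hq (by linear_combination (congrArg Prod.fst h) / 2)⟩,
      disj_of_key k k4 k6 fun h => hq1 (by linear_combination (congrArg Prod.snd h))⟩,
      disj_of_key k k5 k6 fun h => hq (congrArg Prod.fst h)⟩

theorem card_irr_degree_sl2_odd [Fintype F] (hodd : Odd (Fintype.card F)) (P : ℕ → Prop)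
    [DecidablePred P] :
    Nat.card {χ : IrrCharacter (SL2 F) // P (charDegree (χ : SL2 F → ℂ))} =
      (if P 1 then 1 else 0) + (if P (Fintype.card F) then 1 else 0) +
      (Fintype.card F - 3) / 2 * (if P (Fintype.card F + 1) then 1 else 0) +
      (Fintype.card F - 1) / 2 * (if P (Fintype.card F - 1) then 1 else 0) +
      2 * (if P ((Fintype.card F + 1) / 2) then 1 else 0) +
      2 * (if P ((Fintype.card F - 1) / 2) then 1 else 0) := by
  rw [Nat.card_eq_fintype_card, Fintype.card_subtype, Finset.card_filter]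
  exact sum_irr_sl2_odd hodd fun n => if P n then 1 else 0

theorem card_odd_degree_sl2 [Fintype F] (hodd : Odd (Fintype.card F)) :
    Nat.card {χ : IrrCharacter (SL2 F) // ¬ 2 ∣ charDegree (χ : SL2 F → ℂ)} = 4 := by
  have h3 := Nat.odd_iff.1 hodd
  have h4 := Fintype.one_lt_card (α := F)
  rw [card_irr_degree_sl2_odd hodd (¬ 2 ∣ ·), if_pos (by omega), if_pos (by omega),
    if_neg (by omega), if_neg (by omega)]
  split_ifs <;> omega

theorem mem_range_uHom {g : SL2 F} :
    g ∈ (uHom : Multiplicative F →* SL2 F).range ↔ (g : M2 F) 1 0 = 0 ∧ (g : M2 F) 0 0 = 1 := by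
  constructor
  · rintro ⟨b, rfl⟩; exact ⟨rfl, rfl⟩
  · rintro ⟨h1, h2⟩
    have h3 := sl2_diag_mul h1
    rw [h2, one_mul] at h3
    exact ⟨Multiplicative.ofAdd ((g : M2 F) 0 1), Subtype.ext
      (m2_ext h2.symm rfl h1.symm h3.symm)⟩

theorem card_range_uHom : Nat.card (uHom : Multiplicative F →* SL2 F).range = Nat.card F := by
  have : Function.Injective (uHom : Multiplicative F →* SL2 F) := fun _ _ h =>
    congrArg (fun g : SL2 F => (g : M2 F) 0 1) h
  rw [← Nat.card_congr (MonoidHom.ofInjective this).toEquiv]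
  exact Nat.card_congr Multiplicative.toAdd

theorem normalizer_range_uHom [Finite F] :
    Subgroup.normalizer ((uHom : Multiplicative F →* SL2 F).range : Set (SL2 F)) = BorS F := by
  ext g
  rw [mem_BorS]
  constructor
  · intro h
    have := (mem_range_uHom.1 ((Subgroup.mem_normalizer_iff.1 h (uS 1)).1
      ⟨Multiplicative.ofAdd 1, rfl⟩)).1
    simp only [H61.sl_mul_apply, H61.sl_inv_00, H61.sl_inv_10, uS_coe, of_apply, cons_val',
      cons_val_zero, cons_val_one, cons_val_fin_one] at this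
    exact mul_self_eq_zero.1 (by linear_combination -this)
  · intro h
    refine Subgroup.mem_normalizer_fintype fun s hs => ?_
    obtain ⟨h1, h2⟩ := mem_range_uHom.1 hs
    have h3 := sl2_diag_mul h
    refine mem_range_uHom.2 ⟨?_, ?_⟩
    · simp [H61.sl_mul_apply, H61.sl_inv_00, H61.sl_inv_10, h, h1]
    · simp [H61.sl_mul_apply, H61.sl_inv_00, H61.sl_inv_10, h, h1, h2, h3]

/-- every Sylow `p`-subgroup is conjugate to the unitriangular group -/
theorem exists_sylow_char_eq [Fintype F] (p : ℕ) [Fact p.Prime] [CharP F p] (S : Sylow p (SL2 F)) :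
    ∃ c : SL2 F, (S : Subgroup (SL2 F)) =
      (uHom : Multiplicative F →* SL2 F).range.comap (MulAut.conj c).toMonoidHom := by
  obtain ⟨n, hp, hn⟩ := FiniteField.card F p
  have h1 := Fintype.one_lt_card (α := F)
  have hU := (card_range_uHom (F := F)).trans Nat.card_eq_fintype_card
  have hi := (uHom : Multiplicative F →* SL2 F).range.card_mul_index
  rw [hU, card_sl2_eq, mul_left_comm] at hi
  have hd : p ∣ Fintype.card F := hn ▸ dvd_pow_self p n.ne_zero
  obtain ⟨c, -, hc⟩ := exists_conj_le_of_not_dvd_relIndex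
    (X := (uHom : Multiplicative F →* SL2 F).range) (H := ⊤) (by
      rw [Subgroup.relIndex_top_right, Nat.eq_of_mul_eq_mul_left (by omega) hi]
      intro h
      rcases (Nat.Prime.dvd_mul hp).1 h with h | h
      · have := Nat.dvd_sub hd h
        rw [show Fintype.card F - (Fintype.card F - 1) = 1 by omega] at this
        exact hp.not_dvd_one this
      · exact hp.not_dvd_one ((Nat.dvd_add_right hd).1 h)) S.isPGroup' le_top
  exact ⟨c, (S.is_maximal' ((IsPGroup.of_card (hU.trans hn)).of_equiv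
    (comapConjEquiv _ c).symm) hc).symm⟩

theorem IsTorus.mckay_count [Finite F] (hF : ringChar F ≠ 2) {T : Subgroup (SL2 F)}
    (hT : IsTorus T) {ℓ : ℕ} (hl : ℓ.Prime) (hℓ : ℓ ≠ 2) :
    2 * Nat.card {χ : IrrCharacter (Subgroup.normalizer (T : Set (SL2 F))) //
      ¬ ℓ ∣ charDegree (χ : Subgroup.normalizer (T : Set (SL2 F)) → ℂ)} = Nat.card T + 6 := by
  rw [card_irr_of_forall (¬ ℓ ∣ ·), hT.card_conjClasses_normalizer hF]
  intro χ hχ h
  have := hχ.charDegree_dvd_index (T.subgroupOf _) fun a ha b hb => Subtype.ext (hT.comm ha hb)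
  exact hℓ ((Nat.prime_dvd_prime_iff_eq hl Nat.prime_two).1
    (h.trans (this.trans (hT.relIndex_normalizer hF).dvd)))

theorem mckay_two [Fintype F] (hodd : Odd (Fintype.card F)) (S : Sylow 2 (SL2 F)) :
    Nat.card {χ : IrrCharacter (Subgroup.normalizer ((S : Subgroup (SL2 F)) : Set (SL2 F))) //
      ¬ 2 ∣ charDegree (χ : Subgroup.normalizer ((S : Subgroup (SL2 F)) : Set (SL2 F)) → ℂ)} =
      4 := by
  have hF := ringChar_ne_two_iff.2 hodd
  have h2 := Ring.two_ne_zero hF
  obtain ⟨T, h⟩ := exists_syl2 hodd S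
  have d8 := S.pow_dvd_card_of_pow_dvd_card (n := 3) (eight_dvd_card_sl2 hodd).1
  have hm : (-1 : SL2 F) ∈ (S : Subgroup (SL2 F)) := mem_sylow_of_pow_mem S
    (Subgroup.center_le_normalizer _ (H61.sl_mem_center_iff.2 (.inr rfl))) (by simp)
  rcases (Nat.le_of_dvd Nat.card_pos d8).eq_or_lt with h8 | h8
  · obtain ⟨h24, i, hi, w, hw, hii, hw3, hw4⟩ := h.card_normalizer hF h8.symm
    set N := Subgroup.normalizer ((S : Subgroup (SL2 F)) : Set (SL2 F))
    have hSN : (S : Subgroup (SL2 F)) ≤ N := Subgroup.le_normalizer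
    obtain ⟨φ, -, -, hφ⟩ := H90.exists_hom_SL3 (G := N) (y := ⟨w, hw⟩)
      (a := ⟨i * w⁻¹, N.mul_mem (hSN hi) (N.inv_mem hw)⟩) (z := ⟨-1, hSN hm⟩) (Subtype.ext hw3)
      (Subtype.ext hw4) (Subtype.ext (by simp)) (Subtype.ext (by simp [sq, hii]))
      (Subtype.ext (by simp)) (Subtype.ext (by simp))
    have hinj := H90.injective_of_SL3 φ fun e =>
      H61.sl_neg_one_ne_one h2 (congrArg Subtype.val (hφ.symm.trans e))
    rw [← card_irr_degree_congr (MulEquiv.ofBijective φ
      ((Nat.bijective_iff_injective_and_card φ).2 ⟨hinj, H90.card_SL3.trans h24.symm⟩)) (¬ 2 ∣ ·)]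
    have := H90.factThree
    exact card_odd_degree_sl2 (F := ZMod 3) (by rw [ZMod.card]; decide)
  · rw [card_irr_degree_congr (MulEquiv.subgroupCongr (h.normalizer_eq hF h8)) (¬ 2 ∣ ·)]
    refine card_odd_degree_of_inverting (T.subgroupOf _) (h.relIndex hF)
      (fun a ha b hb => Subtype.ext (h.tor.comm ha hb))
      (fun g hg a ha => Subtype.ext (h.tor.inv_of_not_mem (h.le g.2) hg ha)) ?_
    have hm' : (-1 : SL2 F) ∈ T := h.tor.center_le (H61.sl_mem_center_iff.2 (.inr rfl))
    rw [Nat.card_eq_two_iff]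
    refine ⟨⟨1, Subgroup.one_mem _, one_pow 2⟩, ⟨⟨-1, hm⟩, hm', Subtype.ext (by simp)⟩,
      fun h => H61.sl_neg_one_ne_one h2 (congrArg (·.1.1) h).symm, ?_⟩
    rw [Set.eq_univ_iff_forall]
    rintro ⟨⟨a, ha⟩, -, h⟩
    have := H61.sl_eq_of_mul_self_eq_one h2 (g := a) (by simpa [sq, Subtype.ext_iff] using h)
    simpa [Subtype.ext_iff] using this

theorem mckay_sl2 [Fintype F] (hodd : Odd (Fintype.card F)) (ℓ : ℕ) [Fact ℓ.Prime]
    (S : Sylow ℓ (SL2 F)) :
    Nat.card {χ : IrrCharacter (SL2 F) // ¬ ℓ ∣ charDegree (χ : SL2 F → ℂ)} =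
    Nat.card {χ : IrrCharacter (Subgroup.normalizer ((S : Subgroup (SL2 F)) : Set (SL2 F))) //
      ¬ ℓ ∣ charDegree (χ : Subgroup.normalizer ((S : Subgroup (SL2 F)) : Set (SL2 F)) → ℂ)} := by
  have hl : ℓ.Prime := Fact.out
  have hF := ringChar_ne_two_iff.2 hodd
  have h3 := Nat.odd_iff.1 hodd
  have h4 := Fintype.one_lt_card (α := F)
  by_cases hℓ : ℓ = 2
  · subst hℓ; rw [card_odd_degree_sl2 hodd, mckay_two hodd]
  by_cases hG : ℓ ∣ Nat.card (SL2 F)
  swap
  · have : Subgroup.normalizer ((S : Subgroup (SL2 F)) : Set (SL2 F)) = ⊤ := by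
      obtain ⟨k, hk⟩ := S.isPGroup'.exists_card_eq
      have h0 : k = 0 := by
        by_contra h0
        exact hG ((dvd_pow_self ℓ h0).trans (hk ▸ Subgroup.card_subgroup_dvd_card _))
      rw [h0, pow_zero, Subgroup.card_eq_one] at hk
      rw [hk]; exact Subgroup.normalizer_eq_top _
    exact (card_irr_degree_congr ((MulEquiv.subgroupCongr this).trans Subgroup.topEquiv)
      (¬ ℓ ∣ ·)).symm
  have key : ∀ n, 2 ∣ n → (ℓ ∣ n / 2 ↔ ℓ ∣ n) := by
    rintro _ ⟨m, rfl⟩
    rw [Nat.mul_div_cancel_left _ two_pos, hl.dvd_mul, Nat.prime_dvd_prime_iff_eq hl Nat.prime_two]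
    tauto
  have n1 : ¬ (ℓ ∣ Fintype.card F - 1 ∧ ℓ ∣ Fintype.card F) := fun h => hl.not_dvd_one (by
    have := Nat.dvd_sub h.2 h.1
    rwa [show Fintype.card F - (Fintype.card F - 1) = 1 by omega] at this)
  have n2 : ¬ (ℓ ∣ Fintype.card F ∧ ℓ ∣ Fintype.card F + 1) := fun h =>
    hl.not_dvd_one ((Nat.dvd_add_right h.1).1 h.2)
  have n3 : ¬ (ℓ ∣ Fintype.card F - 1 ∧ ℓ ∣ Fintype.card F + 1) := fun h =>
    hℓ ((Nat.prime_dvd_prime_iff_eq hl Nat.prime_two).1 (by
      have := Nat.dvd_sub h.2 h.1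
      rwa [show Fintype.card F + 1 - (Fintype.card F - 1) = 2 by omega] at this))
  rw [card_irr_degree_sl2_odd hodd (¬ ℓ ∣ ·)]
  simp only [key _ (show 2 ∣ Fintype.card F + 1 by omega),
    key _ (show 2 ∣ Fintype.card F - 1 by omega), hl.not_dvd_one]
  rw [card_sl2_eq, hl.dvd_mul, hl.dvd_mul] at hG
  rcases hG with h | h | h
  · obtain ⟨T, hT, -, hc, -, hN⟩ := exists_torus_sylow_sub hodd hℓ h S
    have := hT.mckay_count hF hl hℓ
    rw [card_irr_degree_congr (MulEquiv.subgroupCongr hN) (¬ ℓ ∣ ·)]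
    simp only [h, true_and] at n1 n3
    simp only [h, n1, n3, not_true, not_false_iff, if_true, if_false]
    omega
  · obtain ⟨p, hp⟩ := CharP.exists F
    obtain ⟨n, hpp, hn⟩ := FiniteField.card F p
    obtain rfl : ℓ = p := (Nat.prime_dvd_prime_iff_eq hl hpp).1 (hl.dvd_of_dvd_pow (hn ▸ h))
    obtain ⟨c, hc⟩ := exists_sylow_char_eq ℓ S
    have hN : Subgroup.normalizer ((S : Subgroup (SL2 F)) : Set (SL2 F)) =
        (BorS F).comap (MulAut.conj c).toMonoidHom := by
      rw [hc, ← normalizer_range_uHom,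
        Subgroup.comap_normalizer_eq_of_surjective _ (MulAut.conj c).surjective]
    simp only [h, true_and, and_true] at n1 n2
    rw [card_irr_degree_congr ((MulEquiv.subgroupCongr hN).trans (comapConjEquiv _ c)) (¬ ℓ ∣ ·),
      card_irr_of_forall (¬ ℓ ∣ ·), card_conjClasses_BorS hodd]
    · simp only [h, n1, n2, not_true, not_false_iff, if_true, if_false]
      omega
    · intro χ hχ h'
      have hle : (uHom : Multiplicative F →* SL2 F).range ≤ BorS F :=
        Subgroup.le_normalizer.trans normalizer_range_uHom.le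
      have : ((uHom : Multiplicative F →* SL2 F).range.subgroupOf (BorS F)).Normal :=
        Subgroup.normal_subgroupOf_of_le_normalizer normalizer_range_uHom.ge
      have h5 := hχ.charDegree_dvd_index ((uHom : Multiplicative F →* SL2 F).range.subgroupOf _)
        fun a ⟨x, hx⟩ b ⟨y, hy⟩ => Subtype.ext (by
          change (a : SL2 F) * b = b * a
          simp only [Subgroup.coe_subtype] at hx hy
          rw [← hx, ← hy, ← map_mul, ← map_mul, mul_comm])
      have h6 := ((uHom : Multiplicative F →* SL2 F).range.subgroupOf (BorS F)).card_mul_index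
      rw [Nat.card_congr (Subgroup.subgroupOfEquivOfLe hle).toEquiv, card_range_uHom, card_BorS,
        Nat.card_eq_fintype_card, mul_comm] at h6
      exact n1 (h'.trans (Nat.eq_of_mul_eq_mul_right (by omega) h6 ▸ h5))
  · obtain ⟨T, hT, -, hc, -, hN⟩ := exists_torus_sylow_add hℓ h S
    have := hT.mckay_count hF hl hℓ
    rw [card_irr_degree_congr (MulEquiv.subgroupCongr hN) (¬ ℓ ∣ ·)]
    simp only [h, and_true] at n2 n3
    simp only [h, n2, n3, not_true, not_false_iff, if_true, if_false]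
    omega

end H33
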