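/- SL₂(q): the blocks in the defining characteristic. -/
import Cfsg.Agent.H33.SL2McKay
import Cfsg.Agent.H38.CoverB
import Cfsg.Agent.H36.DefectCard
import Cfsg.Agent.H35.BSpan
import Cfsg.Agent.H37.ClassSum

namespace H33
open Matrix Cfsg H28

theorem irr_apply_central_invol {G : Type*} [Group G] [Finite G] {χ : G → ℂ}
    (hχ : IsIrrCharacter G χ) {z : G} (hz : z ∈ Subgroup.center G) (h2 : z * z = 1) :
    χ z = χ 1 ∨ χ z = -χ 1 := by
  have h1 := hχ.apply_one_ne_zero
  have := apply_mul_of_mem_charCenter h1 (hχ.center_le_charCenter hz) z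
  rw [h2, div_mul_eq_mul_div, eq_div_iff h1] at this
  exact mul_self_eq_mul_self_iff.1 this.symm

theorem centralChar_of_mem_center {G : Type*} [Group G] (χ : G → ℂ) {z : G}
    (hz : z ∈ Subgroup.center G) : centralChar χ z = χ z / χ 1 := by
  rw [centralChar, Subgroup.centralizer_eq_top_iff_subset.2 (Set.singleton_subset_iff.2 hz),
    Subgroup.index_top, Nat.cast_one, one_mul]

variable {F : Type*} [Field F] [Fintype F] {p : ℕ} [Fact p.Prime] [CharP F p]

omit [Fact p.Prime] in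
theorem char_dvd_card : p ∣ Fintype.card F := by
  obtain ⟨n, -, hn⟩ := FiniteField.card F p
  exact hn ▸ dvd_pow_self p n.ne_zero

theorem not_dvd_degree_sl2 {χ : SL2 F → ℂ} (hχ : IsIrrCharacter (SL2 F) χ)
    (h : χ 1 ≠ Fintype.card F) : ¬ p ∣ charDegree χ := by
  classical
  have hp : p.Prime := Fact.out
  have hd := char_dvd_card (F := F) (p := p)
  have h4 := Fintype.one_lt_card (α := F)
  have n1 : ¬ p ∣ Fintype.card F - 1 := fun h => hp.not_dvd_one (by
    have := Nat.dvd_sub hd h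
    rwa [show Fintype.card F - (Fintype.card F - 1) = 1 by omega] at this)
  have n2 : ¬ p ∣ Fintype.card F + 1 := fun h => hp.not_dvd_one ((Nat.dvd_add_right hd).1 h)
  obtain ⟨e, he⟩ := exists_isEll (F := F)
  have hc := hχ.cast_charDegree
  intro hdvd
  rcases sl2_cases_deg he hχ with h' | h' | h' | h' | h' | h'
  · exact hp.not_dvd_one (charDegree_eq (n := 1) (by simpa using h'.2) ▸ hdvd)
  · exact h h'.2
  · exact n2 (charDegree_eq (n := Fintype.card F + 1) (by simpa using h'.2) ▸ hdvd)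
  · exact n1 (charDegree_eq (n := Fintype.card F - 1) (by rw [cast_card_sub_one]; exact h'.2) ▸
      hdvd)
  · have : 2 * charDegree χ = Fintype.card F + 1 := by
      have := h'.2; rw [← hc] at this; exact_mod_cast this
    exact n2 (this ▸ hdvd.mul_left 2)
  · have : 2 * charDegree χ = Fintype.card F - 1 := by
      have := h'.2; rw [← hc, ← cast_card_sub_one] at this; exact_mod_cast this
    exact n1 (this ▸ hdvd.mul_left 2)

variable {M : Ideal AlgInt} [M.IsMaximal] (hM : IsPModular p M)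
include hM

theorem centralChar_mem_P {χ : SL2 F → ℂ} (hχ : IsIrrCharacter (SL2 F) χ)
    (h : χ 1 ≠ Fintype.card F) {g : SL2 F} (hs : ¬ IsSc (g : M2 F)) (hg : ¬ p ∣ orderOf g) :
    MemLocalIdeal M (centralChar χ g) := by
  rw [centralChar, mul_div_assoc, ← hχ.cast_charDegree]
  refine H35.P_mul_right ((H35.P_natCast_iff hM).2 ?_)
    (H35.div_natCast_mem_S hM (H37.char_mem_S hχ.isCharacter g) (not_dvd_degree_sl2 hχ h))
  rcases (torus_cases p hs hg).2.2 with h | h
  · rw [index_of_card_sub h]; exact char_dvd_card.mul_right _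
  · rw [index_of_card_add h]; exact char_dvd_card.mul_right _

theorem blockOf_of_deg_q {χ : IrrCharacter (SL2 F)} (h : (χ : SL2 F → ℂ) 1 = Fintype.card F) :
    blockOf M (χ : SL2 F → ℂ) = {χ} := by
  classical
  have hp : p.Prime := Fact.out
  refine H35.block_eq_singleton_of_vanish hM (H34.isPBlock_blockOf χ) (H34.self_mem_blockOf χ)
    (H35.vanish_of_nu_eq hp ?_)
  have hd := char_dvd_card (F := F) (p := p)
  have h4 := Fintype.one_lt_card (α := F)
  have n1 : ¬ p ∣ Fintype.card F - 1 := fun h => hp.not_dvd_one (by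
    have := Nat.dvd_sub hd h
    rwa [show Fintype.card F - (Fintype.card F - 1) = 1 by omega] at this)
  have n2 : ¬ p ∣ Fintype.card F + 1 := fun h => hp.not_dvd_one ((Nat.dvd_add_right hd).1 h)
  rw [charDegree_eq h, card_sl2_eq, Nat.factorization_mul (by omega) (by positivity),
    Nat.factorization_mul (by omega) (by omega)]
  simp [Nat.factorization_eq_zero_of_not_dvd n1, Nat.factorization_eq_zero_of_not_dvd n2]

theorem sameBlock_sl2_iff (hp : p ≠ 2) {χ ψ : IrrCharacter (SL2 F)}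
    (hχ : (χ : SL2 F → ℂ) 1 ≠ Fintype.card F) :
    SameBlock M (χ : SL2 F → ℂ) ψ ↔ (ψ : SL2 F → ℂ) 1 ≠ Fintype.card F ∧
      (χ : SL2 F → ℂ) (-1) / (χ : SL2 F → ℂ) 1 = (ψ : SL2 F → ℂ) (-1) / (ψ : SL2 F → ℂ) 1 := by
  have hz : (-1 : SL2 F) ∈ Subgroup.center (SL2 F) := H61.sl_mem_center_iff.2 (.inr rfl)
  have n1 := χ.2.apply_one_ne_zero
  have n2 := ψ.2.apply_one_ne_zero
  constructor
  · intro h
    refine ⟨fun hψ => hχ ?_, ?_⟩
    · have : χ ∈ blockOf M (ψ : SL2 F → ℂ) := H34.sameBlock_symm h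
      rw [blockOf_of_deg_q hM hψ] at this
      rw [this, hψ]
    · have h1 := h (-1)
      rw [centralChar_of_mem_center _ hz, centralChar_of_mem_center _ hz] at h1
      have h2 : ¬ MemLocalIdeal M (2 : ℕ) := fun h => hp
        ((Nat.prime_dvd_prime_iff_eq Fact.out Nat.prime_two).1 ((H35.P_natCast_iff hM).1 h))
      rcases irr_apply_central_invol χ.2 hz (by simp) with a | a <;>
        rcases irr_apply_central_invol ψ.2 hz (by simp) with b | b <;>
        rw [a, b] at h1 ⊢ <;> simp only [neg_div, div_self n1, div_self n2] at h1 ⊢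
      · exact (h2 (by convert h1 using 1; norm_num)).elim
      · exact (h2 (by convert H35.P_neg h1 using 1; norm_num)).elim
  · rintro ⟨hψ, h⟩
    refine H38.sameBlock_of_pRegular hM fun g hg => ?_
    by_cases hs : IsSc (g : M2 F)
    · rw [centralChar_of_mem_center _ (isSc_iff_mem_center_sl.1 hs),
        centralChar_of_mem_center _ (isSc_iff_mem_center_sl.1 hs)]
      rcases isSc_iff_sl.1 hs with rfl | rfl
      · rw [div_self n1, div_self n2, sub_self]; exact H35.P_zero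
      · rw [h, sub_self]; exact H35.P_zero
    · exact H35.P_sub (centralChar_mem_P hM χ.2 hχ hs hg) (centralChar_mem_P hM ψ.2 hψ hs hg)

omit hM in
theorem neg_one_of_deg_q {χ : SL2 F → ℂ} (hχ : IsIrrCharacter (SL2 F) χ)
    (h : χ 1 = Fintype.card F) : χ (-1) = χ 1 := by
  classical
  rw [h, sl2_deg_q hχ h, stS_scalar (isSc_iff_sl.2 (.inr rfl))]

theorem blockOf_sl2_cases (hp : p ≠ 2) (χ : IrrCharacter (SL2 F)) :
    ((χ : SL2 F → ℂ) 1 = Fintype.card F → blockOf M (χ : SL2 F → ℂ) =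
      {χ : IrrCharacter (SL2 F) | (χ : SL2 F → ℂ) 1 = Fintype.card F}) ∧
    ((χ : SL2 F → ℂ) (-1) = (χ : SL2 F → ℂ) 1 ∧ (χ : SL2 F → ℂ) 1 ≠ Fintype.card F →
      blockOf M (χ : SL2 F → ℂ) = {χ : IrrCharacter (SL2 F) |
        (χ : SL2 F → ℂ) (-1) = (χ : SL2 F → ℂ) 1 ∧ (χ : SL2 F → ℂ) 1 ≠ Fintype.card F}) ∧
    ((χ : SL2 F → ℂ) (-1) = -(χ : SL2 F → ℂ) 1 → blockOf M (χ : SL2 F → ℂ) =
      {χ : IrrCharacter (SL2 F) | (χ : SL2 F → ℂ) (-1) = -(χ : SL2 F → ℂ) 1}) := by
  classical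
  have n1 := χ.2.apply_one_ne_zero
  have key : ∀ ψ : IrrCharacter (SL2 F), (ψ : SL2 F → ℂ) (-1) = -(ψ : SL2 F → ℂ) 1 →
      (ψ : SL2 F → ℂ) 1 ≠ Fintype.card F := fun ψ h h' => ψ.2.apply_one_ne_zero (by
    linear_combination (h - neg_one_of_deg_q ψ.2 h') / 2)
  refine ⟨fun h => ?_, fun h => ?_, fun h => ?_⟩
  · rw [blockOf_of_deg_q hM h]
    ext ψ
    exact ⟨fun e => e ▸ h, fun e => Subtype.ext ((sl2_deg_q ψ.2 e).trans (sl2_deg_q χ.2 h).symm)⟩
  · ext ψ
    refine (sameBlock_sl2_iff hM hp h.2).trans ?_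
    rw [h.1, div_self n1, eq_div_iff ψ.2.apply_one_ne_zero, one_mul, and_comm, eq_comm]
    rfl
  · ext ψ
    refine (sameBlock_sl2_iff hM hp (key χ h)).trans ?_
    rw [h, neg_div, div_self n1, eq_div_iff ψ.2.apply_one_ne_zero, neg_one_mul, eq_comm]
    exact ⟨fun h => h.2, fun h => ⟨key ψ h, h⟩⟩

omit hM in
theorem exists_faithful_irr_sl2 (hF : ringChar F ≠ 2) :
    ∃ χ : IrrCharacter (SL2 F), (χ : SL2 F → ℂ) (-1) = -(χ : SL2 F → ℂ) 1 := by
  by_contra hn
  push Not at hn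
  have h1 := sum_degree_mul_apply_of_ne_one (G := SL2 F)
    (H61.sl_neg_one_ne_one (Ring.two_ne_zero hF))
  rw [Finset.sum_congr rfl fun χ _ => by
    rw [(irr_apply_central_invol χ.2 (H61.sl_mem_center_iff.2 (.inr rfl)) (by simp)).resolve_right
      (hn χ), ← sq], sum_degree_sq] at h1
  exact Nat.card_pos.ne' (Nat.cast_eq_zero.1 h1)

end H33
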