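/- Tower O8, job FFA. -/
import Cfsg.Agent.H74.O8Kit2

set_option autoImplicit false

namespace H33.O8

open Cfsg Subgroup H98 H74.O8 H74.OC

universe u

variable {G : Type u} [Group G] [Finite G]

local instance : Fact (Nat.Prime 2) := ⟨Nat.prime_two⟩

omit [Finite G] in
theorem cover {U X Y : Subgroup G} (h : ∀ x ∈ U, x ∈ X ∨ x ∈ Y) : U ≤ X ∨ U ≤ Y :=
  SubgroupClass.subset_union.1 h

theorem ffd_fix {Q T B D : Subgroup G} (f : FFD Q T B) (hQ : Q ≤ D) (hB : B ≤ D)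
    (hn : D ≤ normalizer (Q : Set G)) (hc : Nat.card D = 4 * Nat.card Q) :
    B ⊔ Q = D ∧ ∀ t ∈ D, t ∉ Q →
      oz 2 Q ⊓ centralizer ({t} : Set G) = oz 2 Q ⊓ centralizer (D : Set G) := by
  have e : B ⊔ Q = D := eq_of_le_of_card_ge (sup_le hB hQ) (by
    have h1 := H12.card_sup_mul_card_inf (hB.trans hn)
    rw [f.c1, mul_right_comm] at h1
    rw [hc, Nat.eq_of_mul_eq_mul_right Nat.card_pos h1])
  refine ⟨e, fun t ht tQ => le_antisymm (fun v hv => ⟨hv.1, ?_⟩)
    (inf_le_inf_left _ (centralizer_le (Set.singleton_subset_iff.2 ht)))⟩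
  obtain ⟨a, ha, q, hq, rfl⟩ := (mem_sup_left_norm (hB.trans hn)).1 (e.ge ht)
  rw [← e, centralizer_sup]
  refine ⟨f.cen a ha (fun r => tQ (mul_mem r hq)) ⟨hv.1, mem_centralizer_singleton_iff.2 ?_⟩,
    oz_le_centralizer Q hv.1⟩
  have h1 := mem_centralizer_singleton_iff.1 hv.2
  rw [mul_assoc, oz_le_centralizer Q hv.1 q hq, ← mul_assoc, ← mul_assoc] at h1
  exact mul_right_cancel h1

theorem exists_t0 {M Q T P₁ P₂ D₁ D₂ : Subgroup G} (p : Par M Q T P₁ P₂ D₁ D₂) :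
    D₁ ⊔ D₂ = T ∧ ∃ t ∈ D₁ ⊓ D₂, t ∉ Q := by
  have e : D₁ ⊔ D₂ = T := (p.s1.ovr' le_sup_left (sup_le p.s1.le1 p.s2.le1)).resolve_left fun e =>
    p.ne (eq_of_le_of_card_ge (e ▸ le_sup_right : D₂ ≤ D₁) (by rw [p.c1, p.c2])).symm
  refine ⟨e, SetLike.not_le_iff_exists.1 fun r => ?_⟩
  have h1 := H12.card_mul_card_le D₁ D₂
  have h2 := card_le_of_le r
  have h3 : 0 < Nat.card Q := Nat.card_pos
  rw [e, p.s1.c1, p.c1, p.c2] at h1
  nlinarith

theorem jobFFA : JobFFA.{u} := by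
  intro gam G _ _ M Q T P₁ P₂ D₁ D₂ A k big mx ty p ff hA AQ AD
  have QT := mx.le_syl p.syl
  have P1M : P₁ ≤ M := p.sup ▸ le_sup_left
  have P2M : P₂ ≤ M := p.sup ▸ le_sup_right
  have nV : M ≤ normalizer (oz 2 Q : Set G) := mx.nor_oz.ge
  have f := ff A hA AQ
  obtain ⟨eA, fx⟩ := ffd_fix f p.q2 AD ((p.s2.le1.trans p.syl.le).trans mx.nor) p.c2
  obtain ⟨eT, t, ht, tQ⟩ := exists_t0 p
  set V₁ := oz 2 Q ⊓ centralizer (D₂ : Set G) with hV
  have nv : P₂ ≤ normalizer (V₁ : Set G) :=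
    le_normalizer_inf (P2M.trans nV) (le_normalizer_centralizer p.s2.nor)
  have T1 : T ≠ ⊥ := fun e => mx.ne (le_bot_iff.1 (e ▸ QT))
  have ZV : oz 2 T ≤ V₁ := le_inf (mx.oz_le QT)
    ((oz_le_centralizer T).trans (centralizer_anti p.s2.le1))
  have V2 : IsPGroup 2 V₁ := (isPGroup_oz Q).to_inf_left
  have nn : ¬ P₁ ≤ normalizer (V₁ : Set G) := fun e => by
    have h1 := ty.gen V₁ V2 (p.sup ▸ sup_le e nv) t (p.syl.le (p.s1.le1 ht.1)) tQ (p.sq1 t ht.1)
    rw [relIndex_eq_one.2 ((fx t ht.2 tQ).ge.trans inf_le_right), one_pow] at h1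
    exact oz_ne_bot p.syl.isPGroup T1 (le_bot_iff.1 (eq_bot_of_card_le _ h1 ▸ ZV))
  have n1 : P₁ ≤ normalizer ((oz 2 Q ⊓ centralizer (D₁ : Set G) : Subgroup G) : Set G) :=
    le_normalizer_inf (P1M.trans nV) (le_normalizer_centralizer p.s1.nor)
  have b1 : ∀ B ∈ H12.maxEA 2 T, B ≤ D₁ → B ≤ Q := fun B hB h1 => by
    by_contra r
    have := (ffd_fix (ff B hB r) p.q1 h1 ((p.s1.le1.trans p.syl.le).trans mx.nor) p.c1).2 t ht.1 tQ
    exact nn (by rwa [← fx t ht.2 tQ, this])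
  have J2 : jt 2 T ≤ D₂ := H12.thompsonSubgroupOf_le_iff.2 fun B hB =>
    (cover fun b hb => p.inv b (hB.1 hb) (by
      rw [← pow_two, hB.2.1.2 b hb]; exact one_mem _)).elim (fun h => (b1 B hB h).trans p.q2) id
  have A0 : (A ⊓ Q) ⊔ oz 2 Q ≤ Q := sup_le inf_le_right (oz_le Q)
  have J1 : jt 2 Q = jt 2 D₁ := jt_eq_of_le (H12.thompsonSubgroupOf_le_iff.2 fun B hB =>
    b1 B (H12.mem_maxEA_of_sub f.mem (A0.trans p.q1) p.s1.le1 hB) hB.1) p.q1
  have nD : normalizer (D₁ : Set G) ≤ M := mx.nor_jt ▸ J1 ▸ le_normalizer_jt le_rfl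
  have eZ : oz 2 T = oz 2 Q ⊓ centralizer (D₁ : Set G) := by
    refine le_antisymm (le_inf (mx.oz_le QT) ((oz_le_centralizer T).trans
      (centralizer_anti p.s1.le1))) (le_oz (H12.ea_mono (ea_oz Q) inf_le_left)
      (inf_le_left.trans ((oz_le Q).trans QT)) ?_)
    rw [← eT, centralizer_sup]
    exact le_inf inf_le_right (((inf_le_inf_left _ (centralizer_le
      (Set.singleton_subset_iff.2 ht.1))).trans (fx t ht.2 tQ).le).trans inf_le_right)
  have P1Z : P₁ ≤ centralizer (oz 2 T : Set G) :=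
    p.s1.ncl (le_centralizer_oz T) (le_normalizer_centralizer (eZ ▸ n1))
  obtain ⟨S, hS, TS⟩ := exists_isSyl_le p.syl.isPGroup (le_top : T ≤ ⊤)
  have ZS : oz 2 S ≤ oz 2 T := oz_le_oz TS
    (((oz_le_centralizer S).trans ((centralizer_anti (QT.trans TS)).trans mx.cen)).trans QT)
  have P1S : P₁ ≤ centralizer (oz 2 S : Set G) := P1Z.trans (centralizer_anti ZS)
  have SP : S ⊓ P₁ = T := p.s1.syl.eq_of_le hS.isPGroup.to_inf_left (le_inf TS p.s1.le2) inf_le_right
  have s3 := (gam G S _ big.sp (hS.of_le (le_centralizer_oz S) le_top) (big.cen (isPGroup_oz S)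
    (oz_ne_bot hS.isPGroup fun e => T1 (le_bot_iff.1 (e ▸ TS)))) le_rfl).resolve_left fun e =>
      p.s1.nn (SP ▸ le_normalizer_inf (P1S.trans e) le_normalizer)
  set W := pCoreOf 2 (centralizer (oz 2 S : Set G))
  have WD : W ⊓ T = D₁ := by
    have h1 : W ⊓ T ≤ D₁ := (inf_le_inf_left W p.s1.le2).trans (p.s1.core s3.twoW.to_inf_left
      inf_le_right (le_normalizer_inf (P1S.trans s3.nor) le_normalizer))
    refine eq_of_le_of_card_ge h1 ?_
    have h2 := H12.card_mul_card_le W T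
    have h3 := card_le_of_le (sup_le s3.le1 TS)
    have h4 : 0 < Nat.card W := Nat.card_pos
    rw [s3.c1] at h3
    rw [p.s1.c1] at h2
    nlinarith
  have eS : T = S := by
    by_contra r
    have h1 := lt_inf_normalizer hS.isPGroup (lt_of_le_of_ne TS r)
    refine h1.ne' (p.syl.eq_of_le hS.isPGroup.to_inf_left h1.le (le_trans ?_ nD))
    exact WD ▸ le_normalizer_inf (inf_le_left.trans (s3.le2.trans s3.nor)) inf_le_right
  subst eS
  have cz : centralizer (oz 2 T : Set G) = P₁ :=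
    (eq_of_le_of_card_ge P1Z (by rw [s3.c2, p.s1.c2])).symm
  refine ⟨hS, cz, le_antisymm (le_inf ?_ ?_) (le_oz_jt (H12.ea_mono (ea_oz Q) inf_le_left)
    (inf_le_left.trans ((oz_le Q).trans QT)) (inf_le_right.trans (centralizer_anti J2))), ?_,
    fun g hg => p.self ⟨nD ?_, hg⟩, nv, fun x hx ho => ?_⟩
  · rw [← f.zj]
    refine oz_le_oz (H12.thompsonSubgroupOf_le_of_sub f.mem A0 QT) (le_trans ?_
      (H12.le_thompsonSubgroupOf (H12.mem_maxEA_of_le f.mem A0 QT)))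
    exact H12.le_of_mem_maxEA f.mem ((oz_le _).trans (jt_le T)) (ea_oz _)
      ((oz_le_centralizer _).trans (centralizer_anti (H12.le_thompsonSubgroupOf f.mem)))
  · have h1 : oz 2 (jt 2 T) ≤ oz 2 Q := by
      rw [← f.zj]
      refine oz_le_oz (H12.thompsonSubgroupOf_le_of_sub f.mem A0 QT) (le_trans ?_
        (H12.le_thompsonSubgroupOf (H12.mem_maxEA_of_le f.mem A0 QT)))
      exact H12.le_of_mem_maxEA f.mem ((oz_le _).trans (jt_le T)) (ea_oz _)
        ((oz_le_centralizer _).trans (centralizer_anti (H12.le_thompsonSubgroupOf f.mem)))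
    rw [← eA, centralizer_sup]
    exact le_inf ((oz_le_centralizer _).trans (centralizer_anti (H12.le_thompsonSubgroupOf hA)))
      (h1.trans (oz_le_centralizer Q))
  · have c1 : centralizer (V₁ : Set G) ≤ P₁ := cz ▸ centralizer_anti ZV
    have c2 : centralizer (V₁ : Set G) ≤ T := le_sup_right.trans
      ((p.s1.ovr le_sup_left (sup_le p.s1.le2 c1)).resolve_right fun e => nn (e ▸ sup_le
        (p.s2.le2.trans nv) (centralizer_le_normalizer _))).le
    refine (p.s2.ovr' (le_centralizer_iff.1 inf_le_right) c2).resolve_right fun e => nn ?_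
    refine le_normalizer_of_le_centralizer (P1Z.trans (centralizer_anti ?_))
    exact le_oz (H12.ea_mono (ea_oz Q) inf_le_left) (inf_le_left.trans ((oz_le Q).trans QT))
      (le_centralizer_iff.1 e.ge)
  · rw [← p.s1.core_eq, ← cz]
    exact normalizer_le_normalizer_pCoreOf _ (le_normalizer_centralizer (le_normalizer_oz le_rfl) hg)
  · by_contra r
    have e : V₁ ⊓ centralizer ({x} : Set G) =
        V₁ ⊓ centralizer ((D₂ ⊔ zpowers x : Subgroup G) : Set G) := by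
      rw [centralizer_sup, cen_zp, ← inf_assoc, inf_eq_left.2 (inf_le_right : V₁ ≤ _)]
    refine inf_oz_ne_bot hS.isPGroup (inf_le_left.trans (inf_le_left.trans ((oz_le Q).trans QT)))
      (e ▸ p.s2.le2.trans (le_normalizer_inf nv (le_normalizer_centralizer (p.s2.nor3 hx ho)))) r
      (ty.cen_bot big.sp (isPGroup_oz T).to_inf_right ?_)
    rw [← p.sup, ← p.s2.sup hx ho]
    exact sup_le (P1Z.trans (centralizer_anti inf_le_right)) (sup_le
      ((le_centralizer_oz T).trans (centralizer_anti inf_le_right))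
      (le_centralizer_iff.1 ((inf_le_left.trans inf_le_right).trans (cen_zp x).ge)))

end H33.O8
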