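/- A12 tower, slot WD1: recognition of `W(D₆)`. -/
import Cfsg.Agent.H51.A12Spec

set_option autoImplicit false

namespace H33.A12

open H51.X12 Subgroup Function Equiv
open H20.AF (P12 t0)
open H20.AR (Cen)

universe u

theorem even_sd : ∀ I J : Finset (Fin 6), Even I.card → Even J.card →
    Even (symmDiff I J).card := by decide +kernel

theorem even_map {I : Finset (Fin 6)} (h : Even I.card) (σ : Perm (Fin 6)) :
    Even (I.map σ.toEmbedding).card := by rwa [Finset.card_map]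

variable {W : Type*} [Group W] {H : Subgroup W} {ε : Finset (Fin 6) → W} {l : Perm (Fin 6) →* W}

theorem wr_empty (h : Wr H ε l) : ε ∅ = 1 := by
  have := h.mul ∅ ∅ (by simp) (by simp)
  rw [symmDiff_self] at this
  exact left_eq_mul.1 this

theorem wr_sq (h : Wr H ε l) {I : Finset (Fin 6)} (hI : Even I.card) : ε I * ε I = 1 := by
  rw [← h.mul I I hI hI, symmDiff_self]; exact wr_empty h

theorem wr_uniq (h : Wr H ε l) {I J : Finset (Fin 6)} {σ τ : Perm (Fin 6)} (hI : Even I.card)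
    (hJ : Even J.card) (e : ε I * l σ = ε J * l τ) : I = J ∧ σ = τ := by
  obtain ⟨h1, h2⟩ := h.inj (σ * τ⁻¹) (symmDiff J I) (even_sd _ _ hJ hI) (by
    rw [h.mul J I hJ hI, map_mul, mul_assoc, ← mul_assoc (ε I), e, map_inv, mul_assoc,
      mul_inv_cancel, mul_one, wr_sq h hJ])
  exact ⟨(symmDiff_eq_bot.1 h1).symm, mul_inv_eq_one.1 h2⟩

theorem wr_mul (h : Wr H ε l) {I J : Finset (Fin 6)} (σ τ : Perm (Fin 6)) (hI : Even I.card)
    (hJ : Even J.card) :
    ε I * l σ * (ε J * l τ) = ε (symmDiff I (J.map σ.toEmbedding)) * l (σ * τ) := by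
  rw [h.mul _ _ hI (even_map hJ σ), ← h.act σ J hJ, map_mul]; group

theorem jobWD1 : JobWD1.{u} := fun wm W _ ε l h => by
  choose σ I hI e using fun w : W => (h.mem w).1 (mem_top w)
  have key : ∀ τ J, Even J.card → I (ε J * l τ) = J ∧ σ (ε J * l τ) = τ := fun τ J hJ =>
    wr_uniq h (hI _) hJ (e _).symm
  refine ⟨MonoidHom.mk' (fun w => ep0 (I w) * la0 (σ w)) fun a b => ?_, ?_, ?_, fun J hJ => ?_⟩
  · have h1 := key (σ a * σ b) _ (even_sd _ _ (hI a) (even_map (hI b) (σ a)))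
    rw [← wr_mul h _ _ (hI a) (hI b), ← e, ← e] at h1
    rw [h1.1, h1.2, wr_mul wm.wr _ _ (hI a) (hI b)]
  · refine (injective_iff_map_eq_one _).2 fun a ha => ?_
    obtain ⟨h1, h2⟩ := wm.wr.inj _ _ (hI a) ha
    rw [e a, h1, h2, wr_empty h, map_one, mul_one]
  · ext x
    rw [wm.wr.mem]
    constructor
    · rintro ⟨w, rfl⟩; exact ⟨σ w, I w, hI w, rfl⟩
    · rintro ⟨τ, J, hJ, rfl⟩
      exact ⟨ε J * l τ, by
        show ep0 _ * la0 _ = _
        rw [(key τ J hJ).1, (key τ J hJ).2]⟩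
  · have h1 := key 1 J hJ
    rw [map_one, mul_one] at h1
    show ep0 _ * la0 _ = _
    rw [h1.1, h1.2, map_one, mul_one]

end H33.A12
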