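/- A12 tower, slot PST: a perfect subgroup of `N(E)` covering `2⁵ : A₆`. -/
import Cfsg.Agent.H33.A12WD1
import Mathlib.GroupTheory.SpecificGroups.Alternating.Centralizer

set_option autoImplicit false

namespace H33.A12

open H51.X12 Subgroup Function Equiv H14 H98 H20.X16.BV
open H20.X16 (BV pw)
open H20.AF (P12 t0)
open H20.AR (Cen)
open scoped commutatorElement

universe u

theorem ex_even {a b c d : Fin 6} (h : a ≠ b) (h' : c ≠ d) :
    ∃ σ : Perm (Fin 6), Perm.sign σ = 1 ∧ σ a = c ∧ σ b = d := by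
  have h1 : (swap (swap a c b) d * swap a c) a = c := by
    rw [Perm.mul_apply, swap_apply_left, swap_apply_of_ne_of_ne _ h']
    intro e
    exact h ((swap a c).injective (by rw [swap_apply_left]; exact e))
  have h2 : (swap (swap a c b) d * swap a c) b = d := by rw [Perm.mul_apply, swap_apply_left]
  generalize swap (swap a c b) d * swap a c = σ at h1 h2
  rcases Int.units_eq_one_or (Perm.sign σ) with e | e
  · exact ⟨σ, e, h1, h2⟩
  · obtain ⟨x, y, h3, h4, h5, h6, h7⟩ := (by decide :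
      ∀ a b : Fin 6, ∃ x y, x ≠ y ∧ a ≠ x ∧ a ≠ y ∧ b ≠ x ∧ b ≠ y) a b
    exact ⟨σ * swap x y, by rw [map_mul, e, Perm.sign_swap h3]; rfl,
      by rw [Perm.mul_apply, swap_apply_of_ne_of_ne h4 h5, h1],
      by rw [Perm.mul_apply, swap_apply_of_ne_of_ne h6 h7, h2]⟩

theorem even_pair {a b : Fin 6} (h : a ≠ b) : Even ({a, b} : Finset (Fin 6)).card := by
  rw [Finset.card_pair h]; exact even_two

theorem map_pair (σ : Perm (Fin 6)) (a b : Fin 6) :
    ({a, b} : Finset (Fin 6)).map σ.toEmbedding = {σ a, σ b} := by simp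

theorem pair_cases : ∀ x : BV 5, x ≠ 1 → x ≠ tE →
    ∃ a b : Fin 6, a ≠ b ∧ (x = epE {a, b} ∨ x = epE {a, b} * tE) := by decide +kernel

theorem psi_ep {I : Finset (Fin 6)} (h : Even I.card) : psi (iE (epE I)) = ep0 I :=
  Equiv.ext (psi_epE I h)

/-- `2⁵ : A₆` -/
def P0 : Subgroup (Perm P12) := (alternatingGroup (Fin 6)).map la0 ⊔ E.map psi

theorem la_mem {σ : Perm (Fin 6)} (h : Perm.sign σ = 1) : la0 σ ∈ P0 :=
  mem_sup_left (mem_map_of_mem _ (Perm.mem_alternatingGroup.2 h))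

theorem P0_perf (wm : WM) : ⁅P0, P0⁆ = P0 := by
  refine le_antisymm (commutator_le_self _) (sup_le ?_ ?_)
  · rw [← commutator_alternatingGroup_eq_self (α := Fin 6) (by simp), map_commutator]
    exact commutator_mono le_sup_left le_sup_left
  have key : ∀ a b : Fin 6, a ≠ b → psi (iE (epE {a, b})) ∈ ⁅P0, P0⁆ := fun a b h => by
    obtain ⟨c, h1, h2, h3⟩ := (by decide : ∀ a b : Fin 6, a ≠ b → ∃ c, a ≠ c ∧ b ≠ c ∧
      symmDiff ({b, c} : Finset (Fin 6)) {a, c} = {a, b}) a b h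
    obtain ⟨σ, s1, s2, s3⟩ := ex_even h1 h2
    have := commutator_mem_commutator (la_mem s1)
      (mem_sup_right ((wm.E _).2 ⟨_, even_pair h1, rfl⟩) : ep0 {a, c} ∈ P0)
    rwa [commutatorElement_def, wm.wr.act _ _ (even_pair h1), map_pair, s2, s3,
      inv_eq_of_mul_eq_one_right (wr_sq wm.wr (even_pair h1)),
      ← wm.wr.mul _ _ (even_pair h2) (even_pair h1), h3, ← psi_ep (even_pair h)] at this
  have ht : psi (iE tE) ∈ ⁅P0, P0⁆ := by
    rw [(by decide +kernel : tE = epE {0, 1} * epE {2, 3} * epE {4, 5}), map_mul, map_mul, map_mul,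
      map_mul]
    exact mul_mem (mul_mem (key _ _ (by decide)) (key _ _ (by decide))) (key _ _ (by decide))
  rw [← range_iE]
  rintro _ ⟨_, ⟨x, rfl⟩, rfl⟩
  by_cases h1 : x = 1
  · rw [h1, map_one, map_one]; exact one_mem _
  by_cases h2 : x = tE
  · exact h2 ▸ ht
  obtain ⟨a, b, h, rfl | rfl⟩ := pair_cases x h1 h2
  · exact key a b h
  · rw [map_mul, map_mul]; exact mul_mem (key a b h) ht

theorem la_cen (wm : WM) (σ : Perm (Fin 6)) : la0 σ ∈ Cen t0 :=
  (wm.wr.mem _).2 ⟨σ, ∅, by simp, by rw [wr_empty wm.wr, one_mul]⟩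

theorem P0_le (ps : Psi) (wm : WM) : P0 ≤ Cen t0 :=
  sup_le (by rintro _ ⟨σ, -, rfl⟩; exact la_cen wm σ) (by rintro _ ⟨x, -, rfl⟩; exact ps.le x)

theorem S0_mem (ps : Psi) (wm : WM) {x : M} (hx : x ∈ S0) : psi x ∈ P0 := by
  obtain ⟨σ, I, hI, e⟩ := (wm.wr.mem _).1 (ps.le x)
  rw [e]
  exact mul_mem (mem_sup_right ((wm.E _).2 ⟨I, hI, rfl⟩)) (la_mem ((wm.lam x σ I e).1 hx))

theorem perfect_cover {X Y : Type*} [Group X] [Finite X] [Group Y] (ρ : X →* Y) {K : Subgroup Y}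
    (h : K ≤ ρ.range) (hK : ⁅K, K⁆ = K) : ∃ L : Subgroup X, L.map ρ = K ∧ ⁅L, L⁆ = L := by
  obtain ⟨L, hL, hmin⟩ := (wellFounded_lt (α := Subgroup X)).has_min {L | L.map ρ = K}
    ⟨K.comap ρ, map_comap_eq_self h⟩
  refine ⟨L, hL, ?_⟩
  by_contra hne
  exact hmin ⁅L, L⁆ (by rw [Set.mem_ofPred_eq, map_commutator, show L.map ρ = K from hL, hK])
    (lt_of_le_of_ne (commutator_le_self _) hne)

/-- The largest perfect subgroup. -/
theorem exists_core (X : Type*) [Group X] : ∃ P : Subgroup X, P.Normal ∧ ⁅P, P⁆ = P ∧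
    ∀ L : Subgroup X, ⁅L, L⁆ = L → L ≤ P := by
  refine ⟨sSup {L | ⁅L, L⁆ = L}, ⟨fun n hn g => ?_⟩, le_antisymm (commutator_le_self _)
    (sSup_le fun L hL => ?_), fun L hL => le_sSup hL⟩
  · refine (sSup_le fun L hL => map_le_iff_le_comap.1 (le_sSup ?_) :
      _ ≤ comap (MulAut.conj g).toMonoidHom _) hn
    rw [Set.mem_ofPred_eq, ← map_commutator, show ⁅L, L⁆ = L from hL]
  · exact (show ⁅L, L⁆ = L from hL).ge.trans (commutator_mono (le_sSup hL) (le_sSup hL))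

theorem mem_of_odd {X : Type*} [Group X] [Finite X] {P K : Subgroup X} [P.Normal]
    (hK : Odd (Nat.card K)) {x l : X} (hl : l ∈ P) (h : l⁻¹ * x ∈ K) {n : ℕ} (hx : x ^ 2 ^ n = 1) :
    x ∈ P := by
  rw [← QuotientGroup.eq_one_iff]
  have h1 : ((l⁻¹ * x : X) : X ⧸ P) = x := by
    rw [QuotientGroup.mk_mul, QuotientGroup.mk_inv, (QuotientGroup.eq_one_iff l).2 hl]; simp
  have h2 : (x : X ⧸ P) ^ Nat.card K = 1 := by
    rw [← h1, ← QuotientGroup.mk_pow, show (l⁻¹ * x) ^ Nat.card K = 1 from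
      congrArg Subtype.val (pow_card_eq_one' (G := K) (x := ⟨_, h⟩)), QuotientGroup.mk_one]
  have h3 : (x : X ⧸ P) ^ 2 ^ n = 1 := by rw [← QuotientGroup.mk_pow, hx, QuotientGroup.mk_one]
  have := pow_gcd_eq_one.2 ⟨h2, h3⟩
  rwa [(Nat.Coprime.pow_right n (Nat.coprime_two_right.2 hK)).gcd_eq_one, pow_one] at this

variable {G : Type u} [Group G] [Finite G] {φ : M →* G} {N : Subgroup G} {p : N →* Perm P12}

theorem yw_mem (y : YW φ N p) (m : M) : φ m ∈ N := by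
  rw [y.eq, ← range_iE]; exact (ind_acE φ m).nor

theorem yw_act (ps : Psi) (wm : WM) (y : YW φ N p) {n : N} {σ : Perm (Fin 6)} (h : p n = la0 σ)
    {I : Finset (Fin 6)} (hI : Even I.card) :
    Cj φ n (iE (epE I)) (iE (epE (I.map σ.toEmbedding))) := by
  obtain ⟨z, -, hz⟩ := cj_of_le (cj_eq_self (y.eq.le n.2)).le (range_iE.le ⟨epE I, rfl⟩)
  have h1 : n * ⟨_, yw_mem y (iE (epE I))⟩ * n⁻¹ = ⟨_, yw_mem y z⟩ := Subtype.ext hz
  have h2 := congrArg p h1
  rw [map_mul, map_mul, map_inv, y.val, y.val, h, psi_ep hI, wm.wr.act _ _ hI,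
    ← psi_ep (even_map hI σ)] at h2
  rwa [ps.inj h2]

theorem jobPST : JobPST.{u} := fun ps wm G _ _ φ N p c y lf => by
  obtain ⟨P, hn, hp, hm⟩ := exists_core N
  obtain ⟨L, l1, l2⟩ := perfect_cover p ((P0_le ps wm).trans y.range.ge) (P0_perf wm)
  have cov : ∀ a ∈ P0, ∃ n ∈ P, p n = a := fun a ha => by
    obtain ⟨n, h1, h2⟩ := l1.ge ha
    exact ⟨n, hm L l2 h1, h2⟩
  have act : ∀ a b c d : Fin 6, a ≠ b → c ≠ d → ∃ g ∈ P.map N.subtype,
      Cj φ g (iE (epE {a, b})) (iE (epE {c, d})) ∧ Cj φ g tM tM := fun a b c d h h' => by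
    obtain ⟨σ, s1, rfl, rfl⟩ := ex_even h h'
    obtain ⟨n, h1, h2⟩ := cov _ (la_mem s1)
    refine ⟨n, mem_map_of_mem _ h1, map_pair σ a b ▸ yw_act ps wm y h2 (even_pair h), ?_⟩
    have := yw_act ps wm y h2 (I := Finset.univ) (by decide)
    rwa [Finset.map_univ_equiv, (by decide +kernel : iE (epE Finset.univ) = tM)] at this
  refine ⟨P.map N.subtype, by rw [← map_commutator, hp], fun x hx => ?_,
    (map_subtype_le _).trans y.eq.le, fun x z x1 x2 z1 z2 => ?_, ?_, ?_⟩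
  · obtain ⟨n, h1, h2⟩ := cov _ (S0_mem ps wm hx)
    obtain ⟨k, hk⟩ := c.syl.isPGroup ⟨φ x, x, rfl⟩
    have hk' : φ x ^ 2 ^ k = 1 := congrArg Subtype.val hk
    exact mem_map_of_mem N.subtype (mem_of_odd (x := ⟨_, yw_mem y x⟩) y.ker h1
      (by rw [MonoidHom.mem_ker, map_mul, map_inv, y.val, h2, inv_mul_cancel])
      (Subtype.ext hk'))
  · obtain ⟨a, b, h, e⟩ := pair_cases x x1 x2
    obtain ⟨a', b', h', e'⟩ := pair_cases z z1 z2
    obtain ⟨g, hg, h1, h2⟩ := act a b a' b' h h'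
    have ht : iE tE = tM := by decide +kernel
    have tt : tM * tM = 1 := by decide +kernel
    refine ⟨g, hg, ?_⟩
    rcases e with rfl | rfl <;> rcases e' with rfl | rfl
    · exact Or.inl h1
    · right; rwa [map_mul, ht, mul_assoc, tt, mul_one]
    · rw [map_mul, ht]; exact Or.inr (h1.mul h2)
    · rw [map_mul, map_mul, ht]; exact Or.inl (h1.mul h2)
  · obtain ⟨n, h1, h2⟩ := cov _ (la_mem (σ := swap 1 3 * swap 1 2) (by decide))
    have e1 := yw_act ps wm y h2 (I := {4, 5}) (by decide)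
    have e2 := yw_act ps wm y h2 (I := {0, 1}) (by decide)
    rw [map_pair] at e1 e2
    refine ⟨n, mem_map_of_mem _ h1, ?_, ?_⟩
    · convert e1 using 1 <;> decide +kernel
    · convert e2 using 1 <;> decide +kernel
  · have key : ∀ a : BV 6, la0 (Equiv.addRight 2) * psi (iA a) * (la0 (Equiv.addRight 2))⁻¹ =
        psi (iA (rot a)) := fun a => mul_inv_eq_iff_eq_mul.2 (Equiv.ext ((by decide +kernel :
      ∀ (a : BV 6) q, la0 (Equiv.addRight 2) (psi (iA a) q) =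
        psi (iA (rot a)) (la0 (Equiv.addRight 2) q)) a))
    obtain ⟨n₀, h0⟩ := y.range.ge (la_cen wm (Equiv.addRight 2))
    obtain ⟨n, -, h1⟩ := lf n₀ A fun x hx => by
      obtain ⟨a, rfl⟩ := range_iA.ge hx
      exact ⟨_, h0 ▸ key a⟩
    exact ⟨n, fun a => h1 _ (range_iA.le ⟨a, rfl⟩) _ (h0 ▸ key a)⟩

end H33.A12
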