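import Cfsg.Agent.H96.U2CenSpec

/-! S3275, chapter U2F, central case, slot `Walk`. -/

set_option autoImplicit false

namespace H33.CenWalk

open Subgroup Cfsg H98 H48.DP H96.U2I H96.Cen
open scoped commutatorElement

universe u

variable {G : Type u} [Group G]

/-- words with `n` powers of `y` -/
def Sw (M0 : Subgroup G) (y : G) : ℕ → G → Prop
  | 0, g => g ∈ M0
  | n + 1, g => ∃ m ∈ M0, ∃ i : ℤ, ∃ h, Sw M0 y n h ∧ g = m * y ^ i * h

variable {M0 : Subgroup G} {y : G}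

theorem Sw.left : ∀ {n : ℕ} {h m : G}, Sw M0 y n h → m ∈ M0 → Sw M0 y n (m * h)
  | 0, _, _, hh, hm => mul_mem hm hh
  | _ + 1, _, _, ⟨m', hm', i, h, hh, e⟩, hm => ⟨_, mul_mem hm hm', i, h, hh, by rw [e]; group⟩

theorem Sw.right : ∀ {n : ℕ} {h m : G}, Sw M0 y n h → m ∈ M0 → Sw M0 y n (h * m)
  | 0, _, _, hh, hm => mul_mem hh hm
  | _ + 1, _, _, ⟨m', hm', i, h, hh, e⟩, hm => ⟨m', hm', i, _, hh.right hm, by rw [e]; group⟩

theorem Sw.right' : ∀ {n : ℕ} {h m : G} (i : ℤ), Sw M0 y n h → m ∈ M0 →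
    Sw M0 y (n + 1) (h * y ^ i * m)
  | 0, h, m, i, hh, hm => ⟨h, hh, i, m, hm, rfl⟩
  | _ + 1, _, _, i, ⟨m', hm', j, h, hh, e⟩, hm =>
    ⟨m', hm', j, _, hh.right' i hm, by rw [e]; simp only [mul_assoc]⟩

theorem Sw.inv : ∀ {n : ℕ} {g : G}, Sw M0 y n g → Sw M0 y n g⁻¹
  | 0, _, hg => inv_mem hg
  | _ + 1, _, ⟨m, hm, i, h, hh, e⟩ => by
    have := hh.inv.right' (-i) (inv_mem hm)
    rwa [show h⁻¹ * y ^ (-i) * m⁻¹ = (m * y ^ i * h)⁻¹ by group, ← e] at this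

theorem cj_Uv_le {v g : G} {K : Subgroup G}
    (h : ∀ m ∈ M0, g * m * v * (g * m)⁻¹ ∈ K) : cj g (Uv M0 v) ≤ K := by
  rw [cj_le_iff, Uv, closure_le]
  rintro _ ⟨m, hm, rfl⟩
  refine mem_cj.2 ?_
  have := h m hm
  rwa [show g * m * v * (g * m)⁻¹ = g⁻¹⁻¹ * (m * v * m⁻¹) * g⁻¹ by group] at this

theorem jobWalk : JobWalk.{u} := by
  intro pair G _ _ M Q T R Q0 F y z c hz ab vx
  obtain ⟨v, hv⟩ : ∃ v, v = y * z * y⁻¹ := ⟨_, rfl⟩
  have cm := hz.cm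
  have vc := hz.vc
  rw [← hv] at ab vx cm vc
  have vU : v ∈ Uv (T ⊔ F) v := subset_closure ⟨1, one_mem _, by group⟩
  have main : ∀ n g, Sw (T ⊔ F) y n g → cj g (Uv (T ⊔ F) v) ≤ Q0 ⊓ R := by
    intro n
    induction n with
    | zero =>
      intro g hg
      refine le_inf ((cj_eq_self (vx.nU hg)).le.trans (vx.UQ.trans vx.QQ))
        (cj_Uv_le fun m hm => ab.2 _ ?_)
      exact mem_centralizer_singleton_iff.2 (vx.zM _ (mul_mem hg hm))
    | succ n ih =>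
      have s1 : ∀ g, Sw (T ⊔ F) y (n + 1) g → cj g (Uv (T ⊔ F) v) ≤ T ⊔ F := by
        rintro _ ⟨m, hm, i, h, hh, rfl⟩
        rw [← cj_cj, ← cj_cj]
        exact cj_le_of_le_of_mem ((cj_le_of_le ((ih h hh).trans inf_le_right)
          (zpow_mem c.yR i)).trans (c.RT.trans le_sup_left)) hm
      have s2 : ∀ g, Sw (T ⊔ F) y (n + 1) g → cj g (Uv (T ⊔ F) v) ≤ Q0 := by
        intro g hg
        by_cases hM : g ∈ M
        · exact (cj_le_of_le vx.UQ (c.MQ hM)).trans c.QQ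
        · exact pair G M _ Q Q0 F _ z g vx hM (s1 g hg) (s1 _ hg.inv)
      intro g hg
      refine le_inf (s2 g hg) (cj_Uv_le fun m hm => ?_)
      have hh := hg.right hm
      generalize g * m = h at hh
      by_contra hw
      have e1 := cm _ (c.QT (s2 h hh (conj_mem_cj vU))) hw
      have w' := c.QT (s2 _ hh.inv (conj_mem_cj vU))
      have e2 : h * ⁅h⁻¹ * v * h⁻¹⁻¹, v⁆ * h⁻¹ = z := by
        rw [← inv_eq_of_mul_eq_one_right hz.zz, ← e1]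
        simp only [commutatorElement_def]
        group
      by_cases hR : h⁻¹ * v * h⁻¹⁻¹ ∈ R
      · rw [commutatorElement_eq_one_iff_mul_comm.2 (mem_centralizer_iff.1 vc _ hR)] at e2
        exact hz.z1 (by rw [← e2]; group)
      · rw [cm _ w' hR] at e2
        exact hw (ab.2 h (mem_centralizer_singleton_iff.2 (mul_inv_eq_iff_eq_mul.1 e2)))
  let X : Subgroup G := ⨆ g : {g : G // ∃ n, Sw (T ⊔ F) y n g}, cj g.1 (Uv (T ⊔ F) v)
  have nX : ∀ a : G, (∀ n g, Sw (T ⊔ F) y n g → ∃ k, Sw (T ⊔ F) y k (a * g)) → a ∈ No X := by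
    intro a ha
    refine mem_normalizer_of_cj_le (cj_le_iff.2 (iSup_le fun g => cj_le_iff.1 ?_))
    obtain ⟨n, hn⟩ := g.2
    rw [cj_cj]
    exact le_iSup (fun g : {g : G // ∃ n, Sw (T ⊔ F) y n g} => cj g.1 (Uv (T ⊔ F) v))
      ⟨a * g.1, ha n _ hn⟩
  have XT : X ≤ T := iSup_le fun g => by
    obtain ⟨n, hn⟩ := g.2
    exact (main n _ hn).trans (inf_le_left.trans c.QT)
  have zX : z ∈ X := le_iSup (fun g : {g : G // ∃ n, Sw (T ⊔ F) y n g} => cj g.1 (Uv (T ⊔ F) v))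
    ⟨1, 0, one_mem (T ⊔ F)⟩ (by rw [cj_one]; exact vx.zU)
  obtain ⟨B, hB, ea, h27⟩ := c.e27
  refine c.yM (c.eq9 X B (c.syl.isPGroup.to_le XT) (fun e => hz.z1 (mem_bot.1 (e ▸ zX)))
    (hB.trans c.FM) ea (by omega)
    (fun b hb => nX b fun n g hg => ⟨n, hg.left (mem_sup_right (hB hb))⟩)
    (nX y fun n g hg => ⟨n + 1, 1, one_mem _, 1, g, hg, by group⟩))

end H33.CenWalk
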