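import Cfsg.Agent.H14.CoreBase
import Cfsg.Agent.H3.NormalRankOne

/-! A normal subgroup `R` of a `2`-group contains a normal four-group or has a cyclic subgroup of
index at most two. -/

namespace H33.GC

open Subgroup Finset H3

variable {G : Type*} [Group G]

theorem self_cent_rel [Finite G] [Group.IsNilpotent G] (R : Subgroup G) [hR : R.Normal]
    (hn : ∀ A : Subgroup G, A.Normal → A ≤ R → IsMulCommutative A → IsCyclic A) :
    ∃ a ∈ R, (zpowers a).Normal ∧ ∀ x ∈ R, x * a = a * x → x ∈ zpowers a := by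
  obtain ⟨A, -, ⟨hA1, hA3, hA2⟩, hmax⟩ := Finite.exists_le_maximal
    (p := fun A : Subgroup G => A.Normal ∧ A ≤ R ∧ IsMulCommutative A) (a := ⊥)
    ⟨inferInstance, bot_le, inferInstance⟩
  have key : ∀ n : ℕ, ∀ x ∈ R ⊓ centralizer (A : Set G), x ∈ Subgroup.upperCentralSeries G n → x ∈ A := by
    intro n
    induction n with
    | zero => intro x _ hx; rw [Subgroup.upperCentralSeries_zero, mem_bot] at hx; exact hx ▸ A.one_mem
    | succ n ih =>
      intro x hxC hx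
      rw [Subgroup.mem_upperCentralSeries_succ_iff] at hx
      have hC : (R ⊓ centralizer (A : Set G)).Normal := inferInstance
      have h1 : ∀ g : G, x * g * x⁻¹ * g⁻¹ ∈ A := fun g => ih _ (by
        simpa [mul_assoc] using mul_mem hxC (hC.conj_mem _ (inv_mem hxC) g)) (hx g)
      have h2 : zpowers x ≤ H46.Cent A := zpowers_le.2 hxC.2
      refine hmax (y := A ⊔ zpowers x) ⟨H46.normalIn_top_iff.1 ⟨le_top, ?_⟩,
        sup_le hA3 (zpowers_le.2 hxC.1), H46.comm_sup hA2 inferInstance h2⟩ le_sup_left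
        (mem_sup_right (mem_zpowers x))
      intro g _
      refine H46.mem_nrm_of_cj_le ?_
      rw [H46.cj_sup, H46.cj_zpowers, show H46.cj g A = A from H98.cj_eq_self_of_normal g A]
      refine sup_le le_sup_left (zpowers_le.2 ?_)
      simpa [mul_assoc] using mul_mem (mem_sup_left (T := zpowers x) (inv_mem (h1 g)))
        (mem_sup_right (mem_zpowers x))
  obtain ⟨a, rfl⟩ := (Subgroup.isCyclic_iff_exists_zpowers_eq_top A).mp (hn A hA1 hA3 hA2)
  obtain ⟨n, hn⟩ := Group.IsNilpotent.nilpotent G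
  refine ⟨a, hA3 (mem_zpowers a), hA1, fun x hxR hx => key n x ⟨hxR, ?_⟩ (hn ▸ mem_top x)⟩
  rintro _ ⟨k, rfl⟩
  exact ((Commute.zpow_right (a := x) (b := a) hx k).eq).symm

theorem modular_rel [Finite G] {R : Subgroup G} [hR : R.Normal] {p m : ℕ} (hp : p.Prime) (hm : 1 ≤ m)
    (hm2 : p = 2 → 2 ≤ m) {a b : G} (haR : a ∈ R) (hbR : b ∈ R) (hn : (zpowers a).Normal)
    (hself : ∀ x ∈ R, x * a = a * x → x ∈ zpowers a) (ho : orderOf a = p ^ (m + 1)) {k : ℤ}
    (hk : b * a * b⁻¹ = a ^ k) (h1 : (p : ℤ) ^ m ∣ k - 1) (hb : b ^ p ∈ zpowers a)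
    (hne : b * a ≠ a * b) :
    ∃ E : Subgroup G, E.Normal ∧ E ≤ R ∧ IsMulCommutative E ∧ ¬ IsCyclic E := by
  have h2 : (p : ℤ) ∣ k - 1 := (dvd_pow_self _ (by omega)).trans h1
  have h3 : p = 2 → (4 : ℤ) ∣ k - 1 := by
    rintro rfl
    exact (pow_dvd_pow (2 : ℤ) (hm2 rfl)).trans h1
  obtain ⟨x, hx⟩ := exists_zpow_mul_pow_eq_one hp ho hk h2 h3 hb hne
  have hc := zpow_mul_conj_of_conj_eq_zpow hk x
  have hca : a ^ x * b ∉ zpowers a := fun h =>
    hne (mul_comm_of_mem_zpowers (by simpa using mul_mem (inv_mem (zpow_mem_zpowers a x)) h))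
  have hcR : a ^ x * b ∈ R := mul_mem (zpow_mem haR x) hbR
  generalize a ^ x * b = c at hx hc hca hcR
  have hap : zpowers (a ^ p) ≤ closure ({a ^ p, c} : Set G) :=
    zpowers_le.mpr (subset_closure (by simp))
  refine ⟨closure {a ^ p, c}, ?_, (closure_le _).2 ?_, ?_, not_isCyclic_closure_pow_pair hp hm ho hx hca⟩
  · rw [← normalizer_eq_top_iff, eq_top_iff, le_normalizer_closure_iff]
    intro g _
    obtain ⟨l, hl⟩ := exists_conj_eq_zpow_of_normal hn g
    rintro y (rfl | rfl)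
    · apply hap
      rw [← conj_pow, hl, ← zpow_natCast (a ^ l), ← zpow_mul, mul_comm, zpow_mul, zpow_natCast]
      exact zpow_mem_zpowers _ _
    · have h4 : g * y * g⁻¹ * y⁻¹ ∈ zpowers a := by
        apply hself _ (mul_mem (hR.conj_mem _ hcR g) (inv_mem hcR))
        have h5 : (y * g) * a * (y * g)⁻¹ = (g * y) * a * (g * y)⁻¹ := by
          calc (y * g) * a * (y * g)⁻¹ = y * (g * a * g⁻¹) * y⁻¹ := by group
            _ = a ^ (k * l) := by rw [hl, conj_zpow_of_conj_eq_zpow hc]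
            _ = g * (y * a * y⁻¹) * g⁻¹ := by rw [hc, conj_zpow_of_conj_eq_zpow hl, mul_comm]
            _ = _ := by group
        obtain ⟨u, hu⟩ := exists_conj_eq_zpow_of_normal hn (y * g)⁻¹
        have h6 : a = (y * g) * a ^ u * (y * g)⁻¹ := by rw [← hu]; group
        have h7 : a = (g * y) * a ^ u * (g * y)⁻¹ := by
          rw [← conj_zpow, ← h5, conj_zpow]; exact h6
        calc g * y * g⁻¹ * y⁻¹ * a = (g * y) * ((y * g)⁻¹ * a * (y * g)⁻¹⁻¹) * (y * g)⁻¹ := by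
              group
          _ = ((g * y) * a ^ u * (g * y)⁻¹) * (g * y * g⁻¹ * y⁻¹) := by rw [hu]; group
          _ = _ := by rw [← h7]
      obtain ⟨z, hz⟩ := mem_zpowers_iff.mp h4
      have h5 : g * y * g⁻¹ = a ^ z * y := by rw [hz]; group
      have h6 : (a ^ z * y) ^ p = 1 := by rw [← h5, conj_pow, hx]; group
      obtain ⟨d, hd⟩ := exists_geom_sum_eq hp h2 h3
      rw [zpow_mul_pow_of_conj_eq_zpow hc, hx, mul_one, hd, ← orderOf_dvd_iff_zpow_eq_one, ho]
        at h6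
      push_cast at h6
      rw [← mul_assoc] at h6
      have h7 := (isCoprime_pow_one_add_mul (p : ℤ) d (m + 1)).dvd_of_dvd_mul_right h6
      rw [pow_succ, mul_dvd_mul_iff_right (by exact_mod_cast hp.ne_zero)] at h7
      obtain ⟨w, rfl⟩ := (dvd_pow_self (p : ℤ) (by omega : m ≠ 0)).trans h7
      rw [h5, zpow_mul, zpow_natCast]
      exact mul_mem (hap (zpow_mem_zpowers _ _)) (subset_closure (by simp))
  · rintro u (rfl | rfl)
    exacts [pow_mem haR p, hcR]
  · have h4 : c * a ^ p = a ^ p * c := by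
      have := (commute_iff_dvd_of_conj_eq_zpow hc p).mpr (by
        rw [ho]; push_cast; rw [pow_succ]; exact mul_dvd_mul_right h1 _)
      simpa using this
    apply isMulCommutative_closure
    rintro u (rfl | rfl) v (rfl | rfl)
    exacts [rfl, h4.symm, h4, rfl]


theorem idx2_rel [Finite G] (hG : IsPGroup 2 G) (R : Subgroup G) [hR : R.Normal]
    (hn : ∀ A : Subgroup G, A.Normal → A ≤ R → IsMulCommutative A → IsCyclic A) :
    ∃ a ∈ R, ∀ x ∈ R, ∀ y ∈ R, x ∉ zpowers a → y ∉ zpowers a → x * y ∈ zpowers a := by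
  have := hG.isNilpotent
  obtain ⟨a, haR, hna, hself⟩ := self_cent_rel R hn
  refine ⟨a, haR, ?_⟩
  obtain ⟨M, hM⟩ := IsPGroup.iff_orderOf.mp hG a
  rcases M with _ | m
  · rw [pow_zero, orderOf_eq_one_iff] at hM
    exact fun x hx _ _ hx' _ => absurd (hself x hx (by simp [hM])) hx'
  rcases Nat.lt_or_ge m 2 with hm | hm
  · -- `|a| ≤ 4`: everything outside `⟨a⟩` inverts `a`
    have key : ∀ x ∈ R, x ∉ zpowers a → x * a * x⁻¹ = a⁻¹ := by
      intro x hxR hx
      obtain ⟨k, hk⟩ := exists_conj_eq_zpow_of_normal hna x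
      obtain ⟨c, rfl⟩ := odd_of_conj_eq_zpow hM hk
      have h4 : (orderOf a : ℤ) ∣ 4 := by
        rw [hM]; push_cast
        exact (pow_dvd_pow (2 : ℤ) (show m + 1 ≤ 2 by omega))
      rcases Int.even_or_odd' c with ⟨d, rfl | rfl⟩
      · exact absurd (hself x hxR (by
          simpa using (commute_iff_dvd_of_conj_eq_zpow hk 1).mpr
            (h4.trans ⟨d, by ring⟩))) hx
      · rw [hk, ← zpow_neg_one, zpow_eq_zpow_iff_modEq, Int.modEq_iff_dvd]
        exact h4.trans ⟨-d - 1, by ring⟩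
    intro x hxR y hyR hx hy
    apply hself _ (mul_mem hxR hyR)
    calc x * y * a = x * (y * a * y⁻¹) * x⁻¹ * (x * y) := by group
      _ = (x * a * x⁻¹)⁻¹ * (x * y) := by rw [key y hyR hy]; group
      _ = _ := by rw [key x hxR hx, inv_inv]
  have ha : ∀ x ∈ R, x * a ^ (2 : ℤ) = a ^ (2 : ℤ) * x → x ∈ zpowers a := by
    intro x hxR hx
    by_contra hxa
    obtain ⟨k, hk⟩ := exists_conj_eq_zpow_of_normal hna x
    have h1 := (commute_iff_dvd_of_conj_eq_zpow hk 2).mp hx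
    rw [hM] at h1
    push_cast at h1
    have h2 := h1
    rw [pow_succ, mul_dvd_mul_iff_right two_ne_zero] at h2
    have h3 : x ^ 2 ∈ zpowers a := by
      apply hself _ (pow_mem hxR 2)
      obtain ⟨c, hc⟩ := odd_of_conj_eq_zpow hM hk
      have := (commute_iff_dvd_of_conj_eq_zpow (pow_conj_of_conj_eq_zpow hk 2) 1).mpr (by
        rw [hM]; push_cast
        exact h1.trans ⟨c + 1, by rw [hc]; ring⟩)
      simpa using this
    obtain ⟨E, h4, h7, h5, h6⟩ := modular_rel Nat.prime_two (by omega)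
      (fun _ => hm) haR hxR hna hself hM hk h2 h3 (fun h => hxa (hself x hxR h))
    exact h6 (hn E h4 h7 h5)
  have hb : ∀ x ∈ R, x ∉ zpowers a → x ^ 2 ∈ zpowers a →
      x * a ^ (2 : ℤ) * x⁻¹ = a ^ (-2 : ℤ) := by
    intro x hxR hx hx2
    obtain ⟨k, hk⟩ := exists_conj_eq_zpow_of_normal hna x
    rcases conj_eq_cases_two hM hk (mul_comm_of_mem_zpowers hx2) with h | h | h | h
    · exact absurd (hself x hxR h) hx
    · rw [← conj_zpow, h]; group
    · refine absurd (ha x hxR ((commute_iff_dvd_of_conj_eq_zpow h 2).mpr ?_)) hx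
      rw [hM]; exact ⟨1, by push_cast; ring⟩
    · rw [conj_zpow_of_conj_eq_zpow h, zpow_eq_zpow_iff_modEq, Int.modEq_iff_dvd, hM]
      exact ⟨-1, by push_cast; ring⟩
  have hc : ∀ x ∈ R, x ^ 2 ∈ zpowers a := by
    intro x hxR
    by_contra hx
    obtain ⟨j, h1, h2⟩ := exists_pow_notMem_pow_succ_mem hG hx
    rw [← pow_mul x 2, mul_comm 2, pow_mul] at h1 h2
    have hzR := pow_mem hxR (2 ^ j)
    generalize x ^ 2 ^ j = z at h1 h2 hzR
    obtain ⟨k, hk⟩ := exists_conj_eq_zpow_of_normal hna z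
    have h3 := hb _ (pow_mem hzR 2) h1 h2
    rw [conj_zpow_of_conj_eq_zpow (pow_conj_of_conj_eq_zpow hk 2), zpow_eq_zpow_iff_modEq,
      Int.modEq_iff_dvd, hM] at h3
    push_cast at h3
    have h4 : (2 : ℤ) ^ 3 ∣ -2 - k ^ 2 * 2 := (pow_dvd_pow (2 : ℤ) (by omega)).trans h3
    obtain ⟨c, rfl⟩ := odd_of_conj_eq_zpow hM hk
    have h5 : (-2 - (2 * c + 1) ^ 2 * 2 : ℤ) = -4 - 8 * (c ^ 2 + c) := by ring
    rw [h5] at h4
    omega
  intro x hxR y hyR hx hy
  apply ha _ (mul_mem hxR hyR)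
  calc x * y * a ^ (2 : ℤ) = x * (y * a ^ (2 : ℤ) * y⁻¹) * x⁻¹ * (x * y) := by group
    _ = (x * a ^ (2 : ℤ) * x⁻¹)⁻¹ * (x * y) := by rw [hb y hyR hy (hc y hyR)]; group
    _ = _ := by rw [hb x hxR hx (hc x hxR)]; group


open H46 in
theorem exists_nf_rel [Finite G] {S R : Subgroup G} (hS : IsPGroup 2 S) (hR : R ⊴ S) :
    (∃ z u, H48.NF S z u ∧ u ∈ R) ∨ ∃ a ∈ R, H48.Idx2 (zpowers a) R := by
  have := hR.normal_subgroupOf
  by_cases h : ∀ A : Subgroup S, A.Normal → A ≤ R.subgroupOf S → IsMulCommutative A → IsCyclic A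
  · obtain ⟨a, ha, h1⟩ := idx2_rel hS _ h
    have e : ∀ x : S, x ∈ zpowers a ↔ (x : G) ∈ zpowers (a : G) := fun x =>
      ⟨fun ⟨k, hk⟩ => ⟨k, by simp [← hk]⟩, fun ⟨k, hk⟩ => ⟨k, Subtype.ext (by simpa using hk)⟩⟩
    exact Or.inr ⟨a, ha, fun q hq r hr hq' hr' => (e _).1 (h1 ⟨q, hR.1 hq⟩ hq ⟨r, hR.1 hr⟩ hr
      (fun c => hq' ((e _).1 c)) fun c => hr' ((e _).1 c))⟩
  push Not at h
  obtain ⟨A, hA, hAR, h1, h2⟩ := h
  have : Fact (Nat.Prime 2) := ⟨Nat.prime_two⟩
  obtain ⟨U, hU, hUA, h4⟩ := H85.exists_normal_four_le hS A h1 h2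
  have hn := normalIn_map_subtype hU
  have hVR : U.map S.subtype ≤ R := by
    rintro _ ⟨v, hv, rfl⟩; exact hAR (hUA hv)
  set V := U.map S.subtype
  have hV : H48.E4 V := ⟨(H85.E2.of_isKleinFour h4).map _, by rw [card_map_subtype, h4.card_four]⟩
  have hK : IsKleinFour V := hV.1.isKleinFour (by rw [card_map_subtype, h4.card_four])
  obtain ⟨v, hv, hv1, -⟩ := hV.exists_ne 1
  obtain ⟨z, hz, hz2, hzc⟩ := H84.exists_central_orderOf_mem hS hn.1 hn.2 (ne_bot_of_mem hv hv1)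
  obtain ⟨u, hu, hu1, huz⟩ := hV.exists_ne z
  have z1 := H48.ne_one_of_two hz2
  refine Or.inl ⟨z, u, ⟨hn.1 hz, hn.1 hu, z1, hV.1 z hz, hu1, hV.1 u hu, huz,
    fun s hs => mem_cent1.2 (hzc s hs), fun x hx => ?_⟩, hVR hu⟩
  rcases (H17.kleinFour_mem_iff hK hu hz hu1 z1 huz).1 (conj_mem_of_mem_nrm (hn.2 hx) hu) with
    e | e | e | e
  · exact absurd e (H48.conj_ne_one hu1 x)
  · exact Or.inl e
  · refine absurd ?_ huz
    calc u = x⁻¹ * (x * u * x⁻¹) * x := by group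
      _ = z := by rw [e, mul_assoc, ← (hzc x hx).eq, inv_mul_cancel_left]
  · exact Or.inr e

end H33.GC
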