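/- Class sizes `1, m, m n`: general tools. -/
import Cfsg.Agent.H5.CS7
import Cfsg.Agent.H10.ModPPrime
import Cfsg.Agent.H4.ClassGraph
import Cfsg.Agent.H4.Hall
import Cfsg.Agent.H9.PBasic

set_option autoImplicit false
set_option linter.unusedSectionVars false

open Cfsg Subgroup H4 H5 H5.CS H24
open scoped commutatorElement Pointwise

namespace H33.C3

universe u
variable {G : Type u} [Group G] [Finite G]

local notation "C " x:max => Subgroup.centralizer ({x} : Set _)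

theorem nd_relIndex {E H : Subgroup G} {q : ℕ} (hq : q.Prime) (h : ∀ g ∈ H, PE q g → g ∈ E) :
    ¬ q ∣ E.relIndex H := fun e => by
  have := Fact.mk hq
  obtain ⟨P⟩ : Nonempty (Sylow q H) := inferInstance
  exact P.not_dvd_index (e.trans (index_dvd_of_le fun a ha =>
    h a a.2 (pe_coe.2 (.of_mem P.isPGroup' ha))))

theorem pi_of_pe {π : Set ℕ} {q : ℕ} (hq : q.Prime) (h : q ∈ π) {a : G} (ha : PE q a) :
    IsPiElt π a := fun r hr hd => by
  obtain ⟨k, hk⟩ := ha.exists_orderOf hq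
  rwa [(Nat.prime_dvd_prime_iff_eq hr hq).1 (hr.dvd_of_dvd_pow (hk ▸ hd))]

omit [Finite G] in
theorem cop_pi {π : Set ℕ} {a b : G} (ha : IsPiElt π a) (hb : IsPiElt πᶜ b) :
    (orderOf a).Coprime (orderOf b) := H24.coprime_of_pi ha hb

theorem dvd_ncard (S : Set G) (hS : ∀ x ∈ S, ∀ y, IsConj x y → y ∈ S) {s : ℕ}
    (h : ∀ x ∈ S, s ∣ ind x) : s ∣ S.ncard := by
  classical
  have := Fintype.ofFinite G
  rw [Set.ncard_eq_toFinset_card', Finset.card_eq_sum_card_image ConjClasses.mk]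
  refine Finset.dvd_sum fun c hc => ?_
  obtain ⟨x, hx, rfl⟩ := Finset.mem_image.1 hc
  rw [Set.mem_toFinset] at hx
  refine (h x hx).trans (dvd_of_eq ?_)
  rw [← ncard_isConj, Set.ncard_eq_toFinset_card']
  congr 1
  ext y
  simp only [Set.mem_toFinset, Set.mem_ofPred_eq, Finset.mem_filter,
    ConjClasses.mk_eq_mk_iff_isConj]
  exact ⟨fun e => ⟨hS x hx y e, e.symm⟩, fun e => e.2.symm⟩

theorem cnt (N : Subgroup G) [hN : N.Normal] {s : ℕ} (hc : (Nat.card N).Coprime s)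
    (h : ∀ x ∈ N, x ∉ center G → s ∣ ind x) : s ∣ (center G).relIndex N - 1 := by
  have h1 := dvd_ncard ((N : Set G) \ ((center G ⊓ N : Subgroup G) : Set G)) (fun x hx y e => by
    obtain ⟨g, rfl⟩ := isConj_iff.1 e
    exact ⟨hN.conj_mem x hx.1 g, fun e => conj_not_central (fun e' => hx.2 ⟨e', hx.1⟩) g e.1⟩)
    fun x hx => h x hx.1 fun e => hx.2 ⟨e, hx.1⟩
  rw [Set.ncard_sdiff (fun _ hx => hx.2), ← Nat.card_coe_set_eq, ← Nat.card_coe_set_eq] at h1
  change s ∣ Nat.card N - Nat.card (center G ⊓ N : Subgroup G) at h1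
  rw [← H4.card_inf_mul_relIndex (center G) N, ← Nat.mul_sub_one] at h1
  exact (hc.coprime_dvd_left (card_dvd_of_le inf_le_right)).symm.dvd_of_dvd_mul_left h1

theorem rel_dvd_ind (N : Subgroup G) [N.Normal] {g : G} (h : C g ⊓ N ≤ center G) :
    (center G).relIndex N ∣ ind g := by
  refine dvd_trans (dvd_of_eq ?_) (relIndex_dvd_index_of_normal_right _ N)
  rw [← inf_relIndex_right, ← inf_relIndex_right (C g)]
  congr 1
  exact le_antisymm (inf_le_inf_right _ (center_le_centralizer _)) (le_inf h inf_le_right)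

theorem lt_of (N : Subgroup G) [N.Normal] (h1 : ¬ N ≤ center G) {g : G} (h : C g ⊓ N ≤ center G)
    {s s' t : ℕ} (ht : 0 < t) (hd : ind g ∣ s' * t) (hc : (Nat.card N).Coprime s)
    (hc' : (Nat.card N).Coprime s') (hs : ∀ x ∈ N, x ∉ center G → s ∣ ind x) : s < t := by
  have h2 := Nat.le_of_dvd ht ((hc'.coprime_dvd_left (relIndex_dvd_card _ _)).dvd_of_dvd_mul_left
    ((rel_dvd_ind N h).trans hd))
  have h3 : (center G).relIndex N ≠ 1 := fun e => h1 (relIndex_eq_one.1 e)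
  have h4 : (center G).relIndex N ≠ 0 := index_ne_zero_of_finite
  have := Nat.le_of_dvd (by omega) (cnt N hc hs)
  omega

omit [Finite G] in
theorem cop {u v : G} (h : Commute (v * u * v⁻¹ * u⁻¹) u)
    (hc : (orderOf u).Coprime (orderOf (v * u * v⁻¹ * u⁻¹))) : v ∈ C u := by
  have h1 : (v * u * v⁻¹ * u⁻¹ * u) ^ orderOf u = 1 := by
    rw [inv_mul_cancel_right, conj_pow, pow_orderOf_eq_one, mul_one, mul_inv_cancel]
  rw [h.mul_pow, pow_orderOf_eq_one, mul_one] at h1
  have h2 := orderOf_eq_one_iff.1 (hc.symm.eq_one_of_dvd (orderOf_dvd_of_pow_eq_one h1))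
  rw [mul_inv_eq_one, mul_inv_eq_iff_eq_mul] at h2
  exact mem_cent_iff.2 h2

theorem fix {p : ℕ} [Fact p.Prime] (N : Subgroup G) [N.Normal] (hN : IsPGroup p N)
    (h : ¬ N ≤ center G) (P : Sylow p G) :
    ∃ v ∈ N, v ∉ center G ∧ v ^ p ∈ center G ∧ ∀ g ∈ (P : Subgroup G), ⁅v, g⁆ ∈ center G := by
  have h1 : N ≤ P := hN.le_sylow_of_normal P
  obtain ⟨v, v1, v2, v3, v4⟩ := H9.exists_central_step P.isPGroup'
    (N := (center G).subgroupOf P) (K := N.subgroupOf P) fun e => h fun x hx => e (x := ⟨x, h1 hx⟩) hx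
  exact ⟨v, v1, v2, v3, fun g hg => v4 ⟨g, hg⟩⟩

/-- The centre of the Fitting subgroup of a solvable group. -/
abbrev ZF (G : Type u) [Group G] : Subgroup G := centralizer (fittingSubgroup G : Set G)

theorem mem_ZF {g : G} (h : ∀ p : ℕ, p.Prime → g ∈ centralizer (pCore p G : Set G)) : g ∈ ZF G := by
  rw [← le_cent_iff_mem_centralizer, H2.fitting_eq_iSup_pCore]
  exact iSup_le fun p => le_cent_iff_mem_centralizer.2 (h p p.2)

theorem ZF_le [Group.IsSolvable G] {a : G} (ha : a ∈ ZF G) : ZF G ≤ C a := fun b hb =>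
  mem_cent_iff.2 (ha b (H2.centralizer_fitting_le G hb))

instance ZF_comm [Group.IsSolvable G] : IsMulCommutative (ZF G) :=
  ⟨⟨fun a b => Subtype.ext (mem_cent_iff.1 (ZF_le b.2 a.2))⟩⟩

theorem cent_pCore {q : ℕ} (hq : q.Prime) {x : G} (h : ¬ q ∣ ind x) :
    x ∈ centralizer (pCore q G : Set G) := by
  have := Fact.mk hq
  obtain ⟨k, hk⟩ := IsPGroup.iff_card.1 (H2.pCore_isPGroup q G)
  exact mem_centralizer_of_coprime_ind _ (hk ▸ ((Nat.Prime.coprime_iff_not_dvd hq).2 h).pow_left k)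

theorem ind_map_dvd {X : Type*} [Group X] (f : G →* X) (hf : Function.Surjective f) (x : G) :
    ind (f x) ∣ ind x :=
  (ind_dvd_of_le (H := (C x).map f) (by
    rintro _ ⟨y, hy, rfl⟩
    exact mem_cent_iff.2 (by rw [← map_mul, ← map_mul, mem_cent_iff.1 hy]))).trans
    (index_map_dvd _ hf)

theorem exists_lift {X : Type*} [Group X] (f : G →* X) (hf : Function.Surjective f) {π : Set ℕ}
    {x : X} (hx : IsPiElt π x) : ∃ y, IsPiElt π y ∧ f y = x := by
  obtain ⟨x, rfl⟩ := hf x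
  obtain ⟨i, j, e1, e2, e3⟩ := exists_pi_decomp π x
  have e4 : f (x ^ j) = 1 := IsPiElt.eq_one (by rw [map_pow]; exact hx.pow j) (e3.map f)
  refine ⟨_, e2, ?_⟩
  conv_rhs => rw [← e1, map_mul, e4, mul_one]

/-- If `π`-elements have `π'`-class sizes then they commute modulo a `π'`-subgroup. -/
theorem ab (π : Set ℕ) (k : ℕ) : ∀ (H : Type u) [Group H] [Finite H] [Group.IsSolvable H],
    Nat.card H = k → (∀ a : H, IsPiElt π a → ∀ p ∈ π, p.Prime → ¬ p ∣ ind a) →
    ∀ a b : H, IsPiElt π a → IsPiElt π b → IsPiElt πᶜ (a * b * a⁻¹ * b⁻¹) := by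
  induction k using Nat.strong_induction_on with
  | _ k ih =>
  intro H _ _ _ hk h a b ha hb
  by_cases e : ∃ q : ℕ, q.Prime ∧ q ∉ π ∧ pCore q H ≠ ⊥
  · obtain ⟨q, hq, h1, h2⟩ := e
    have := Fact.mk hq
    let f := QuotientGroup.mk' (pCore q H)
    have hf : Function.Surjective f := QuotientGroup.mk'_surjective _
    have h3 := ih _ (by rw [← hk]; exact card_quotient_lt _ h2) (H ⧸ pCore q H) rfl
      (fun x hx p hp hp' hd => by
        obtain ⟨x, e, rfl⟩ := exists_lift f hf hx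
        exact h _ e p hp hp' (hd.trans (ind_map_dvd f hf x))) (f a) (f b) (ha.map f) (hb.map f)
    rw [← map_inv, ← map_inv, ← map_mul, ← map_mul, ← map_mul] at h3
    generalize a * b * a⁻¹ * b⁻¹ = c at h3
    obtain ⟨i, j, e1, e2, e3⟩ := exists_pi_decomp π c
    have e4 : f (c ^ i) = 1 := IsPiElt.eq_one (e2.map f) (by rw [map_pow]; exact h3.pow i)
    rw [← e1, e2.eq_one (pi_of_pe hq h1 (.of_mem (H2.pCore_isPGroup q H)
      ((QuotientGroup.eq_one_iff _).1 e4))), one_mul]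
    exact e3
  · push Not at e
    have h1 : ∀ a : H, IsPiElt π a → a ∈ ZF H := fun a ha => mem_ZF fun p hp => by
      by_cases hp' : p ∈ π
      · exact cent_pCore hp (h a ha p hp' hp)
      · simp [e p hp hp']
    rw [mem_cent_iff.1 (ZF_le (h1 b hb) (h1 a ha)), mul_inv_cancel_right, mul_inv_cancel]
    exact IsPiElt.one _

/-- If `π'`-elements have `π'`-class sizes then they commute with the `π`-elements. -/
theorem cov [Group.IsSolvable G] (π : Set ℕ)
    (h : ∀ w : G, IsPiElt πᶜ w → ∀ p ∈ π, p.Prime → ¬ p ∣ ind w) {a w : G} (ha : IsPiElt π a)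
    (hw : IsPiElt πᶜ w) : a ∈ C w := by
  obtain ⟨L, hL⟩ := exists_isPiHall π G
  have hn : L.Normal := by
    rw [← normalizer_eq_top_iff]
    refine eq_top_of_forall_conj_mem fun x => ?_
    obtain ⟨i, j, e1, e2, e3⟩ := exists_pi_decomp π x
    obtain ⟨L1, h1, h2⟩ := exists_isPiHallOf_ge (π := π) (M := C (x ^ j)) (K := zpowers (x ^ i))
      (zpowers_le.2 (mem_cent_iff.2 ((Commute.refl x).pow_pow i j).eq))
      (by intro p hp hd; rw [Nat.card_zpowers] at hd; exact e2 p hp hd)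
    obtain ⟨g, rfl⟩ := isPiHall_conj (H := L1) ⟨h1.2.1, fun p hp hπ hd => by
      rw [← relIndex_mul_index h1.1] at hd
      exact (hp.dvd_mul.1 hd).elim (h1.2.2 p hp hπ) (h _ e3 p hπ hp)⟩ hL
    refine ⟨g, ?_⟩
    rw [normalizer_conj_smul, mem_conj_smul, show g⁻¹ * (g * x * g⁻¹) * g = x by group, ← e1]
    exact mul_mem (le_normalizer (h2 (mem_zpowers _)))
      (centralizer_le_normalizer _ (le_cent_iff_mem_centralizer.1 h1.1))
  exact le_cent_iff_mem_centralizer.2 (mem_centralizer_of_coprime_ind L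
    (H4.coprime_of_pi hL.1 fun p hp hπ => h w hw p hπ hp))
    (mem_of_coprime_index (H4.coprime_of_pi ha hL.2))

end H33.C3
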