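/- Class sizes `1, m, m n`: some non-central `π(m)`-element has class size `m`. -/
import Cfsg.Agent.H33.Cs3A
import Cfsg.Agent.H4.Product

set_option autoImplicit false
set_option linter.unusedSectionVars false

open Cfsg Subgroup H4 H5 H5.CS H24
open scoped commutatorElement Pointwise

namespace H33.C3

universe u
variable {G : Type u} [Group G] [Finite G]

local notation "C " x:max => Subgroup.centralizer ({x} : Set _)

structure Hyp (G : Type u) [Group G] (m n : ℕ) : Prop where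
  hm : 1 < m
  hn : 1 < n
  cop : m.Coprime n
  all : ∀ x : G, x ∉ center G → ind x = m ∨ ind x = m * n
  exm : ∃ x : G, ind x = m
  exmn : ∃ x : G, ind x = m * n

/-- The prime divisors of `m`. -/
abbrev pi (m : ℕ) : Set ℕ := {p | p ∣ m}

theorem cop_of_pi {m k : ℕ} {a : G} (ha : IsPiElt (pi m) a) (h : m.Coprime k) :
    (orderOf a).Coprime k :=
  Nat.coprime_of_dvd fun q hq h1 h2 => hq.one_lt.ne' (Nat.eq_one_of_dvd_coprimes h (ha q hq h1) h2)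

theorem cop_of_pi' {m : ℕ} {a : G} (ha : IsPiElt (pi m)ᶜ a) : (orderOf a).Coprime m :=
  Nat.coprime_of_dvd ha

theorem le_ZF_iff {a : G} : fittingSubgroup G ≤ C a ↔ a ∈ ZF G := le_cent_iff_mem_centralizer

namespace Hyp
variable {m n : ℕ} (h : Hyp G m n)
include h

theorem solv : Group.IsSolvable G := solvable_of_two_sizes (m := m) (n := m * n) fun g => by
  by_cases e : g ∈ center G
  · exact .inl (ind_eq_one_iff.2 e)
  · exact .inr (h.all g e)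

theorem dvd_ind {x : G} (hx : x ∉ center G) : m ∣ ind x :=
  (h.all x hx).elim (fun e => e.symm.dvd) fun e => e ▸ dvd_mul_right m n

theorem ind_dvd (x : G) : ind x ∣ m * n := by
  by_cases e : x ∈ center G
  · rw [ind_eq_one_iff.2 e]; exact one_dvd _
  · exact (h.all x e).elim (fun e => e ▸ dvd_mul_right m n) fun e => e.dvd

theorem pos : 0 < m * n := Nat.mul_pos (by have := h.hm; omega) (by have := h.hn; omega)

theorem nz {x : G} (hx : m ∣ ind x) : x ∉ center G := fun e => by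
  rw [ind_eq_one_iff.2 e, Nat.dvd_one] at hx
  exact h.hm.ne' hx

theorem not_dvd : ¬ m * n ∣ m := fun e => by
  have := Nat.le_of_dvd (by have := h.hm; omega) e
  have := h.hm
  have := h.hn
  nlinarith

theorem eq_m {x : G} (hx : x ∉ center G) (e : ind x ∣ m) : ind x = m :=
  (h.all x hx).resolve_right fun e' => h.not_dvd (e' ▸ e)

theorem min_le {a b : G} (ha : ind a = m * n) (hb : b ∈ C a)
    (hc : (orderOf a).Coprime (orderOf b)) : C a ≤ C b :=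
  cent_le_of_ind_le hb hc (ha ▸ Nat.le_of_dvd h.pos (h.ind_dvd _))

theorem eq_of_min {a b : G} (hb : ind b = m * n) (hc : C a ≤ C b) : C a = C b :=
  eq_of_le_of_index_le hc ((Nat.le_of_dvd h.pos (h.ind_dvd a)).trans hb.ge)

theorem eq_of_max {a b : G} (ha : ind a = m) (hb : b ∉ center G) (hc : C a ≤ C b) : C a = C b :=
  eq_of_le_of_index_le hc (ha.trans_le (Nat.le_of_dvd (ind_pos b) (h.dvd_ind hb)))

theorem rel_dvd {a b : G} (ha : a ∉ center G) (hb : b ∈ C a)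
    (hc : (orderOf a).Coprime (orderOf b)) : (C b).relIndex (C a) ∣ n := by
  have h1 := h.ind_dvd (a * b)
  rw [← ind_coe_mul hb hc, ind, H18.index_centralizer_coe] at h1
  exact Nat.dvd_of_mul_dvd_mul_right (by have := h.hm; omega)
    (((Nat.mul_dvd_mul_left _ (h.dvd_ind ha)).trans h1).trans (mul_comm m n).dvd)

theorem nd {p k : ℕ} (hp : p.Prime) (hpm : p ∣ m) (hk : k ∣ n) : ¬ p ∣ k := fun e =>
  hp.one_lt.ne' (Nat.eq_one_of_dvd_coprimes h.cop hpm (e.trans hk))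

theorem dvd_index : m * n ∣ (center G).index := by
  obtain ⟨x, hx⟩ := h.exmn
  exact hx ▸ index_dvd_of_le (center_le_centralizer _)

theorem nc {p : ℕ} (hp : p.Prime) (hpm : p ∣ m) (y : G) : NC p (C y) := by
  obtain ⟨u, -, u1, u2⟩ := (nc_iff hp (K := (⊤ : Subgroup G))).2 (by
    rw [relIndex_top_right]; exact (hpm.mul_right n).trans h.dvd_index)
  have h1 := (nc_iff hp).1 (⟨u, self_mem_cent u, u1, u2⟩ : NC p (C u))
  have h2 : _ * ind u = _ * ind y := (relIndex_mul_index (center_le_centralizer ({u} : Set G))).trans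
    (relIndex_mul_index (center_le_centralizer ({y} : Set G))).symm
  have h3 : p * m ∣ _ := (Nat.mul_dvd_mul h1 (h.dvd_ind u2)).trans (h2.dvd.trans
    (Nat.mul_dvd_mul_left _ (h.ind_dvd y)))
  rw [mul_comm m n, ← mul_assoc] at h3
  exact (nc_iff hp).2 ((hp.dvd_mul.1 (Nat.dvd_of_mul_dvd_mul_right (by have := h.hm; omega)
    h3)).resolve_right (h.nd hp hpm dvd_rfl))

theorem pq {p : ℕ} (hp : p.Prime) (hpm : p ∣ m) {y : G} (hy : ¬ p ∣ orderOf y) :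
    y ∈ centralizer (pCore p G : Set G) := by
  have := Fact.mk hp
  obtain ⟨u, u0, u1, u2⟩ := h.nc hp hpm y
  refine H10.pxq_elem u1.isPGroup (H2.pCore_isPGroup p G) le_normalizer_of_normal
    ((Nat.Prime.coprime_iff_not_dvd hp).2 hy).symm (le_normalizer_of_normal (K := ⊤) trivial)
    (le_cent_iff_mem_centralizer.1 (zpowers_le.2 u0)) fun t ht => ?_
  obtain ⟨k, hk⟩ := IsPGroup.iff_card.1 ((H2.pCore_isPGroup p G).comap_subtype (K := C u))
  have h1 := mem_centralizer_of_coprime_ind (x := (⟨y, mem_cent_comm u0⟩ : C u))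
    ((pCore p G).subgroupOf (C u)) (by
      rw [subgroupOf, hk, ind, H18.index_centralizer_coe]
      exact ((Nat.Prime.coprime_iff_not_dvd hp).2 (h.nd hp hpm
        (h.rel_dvd u2 (mem_cent_comm u0) (u1.coprime hp hy)))).pow_left k)
  exact mem_cent_iff.2 (congrArg Subtype.val
    (h1 ⟨t, mem_cent_iff.2 (ht.2 u (mem_zpowers u)).symm⟩ ht.1))

theorem memZF {y : G} (hy : ind y ∣ m)
    (hc : ∀ p : ℕ, p.Prime → p ∣ m → y ∈ centralizer (pCore p G : Set G)) : y ∈ ZF G :=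
  mem_ZF fun p hp => by
    by_cases e : p ∣ m
    · exact hc p hp e
    · exact cent_pCore hp fun e' => e (e'.trans hy)

theorem big {w : G} (hw : IsPiElt (pi m)ᶜ w) (e : ind w ∣ m) : w ∈ ZF G :=
  h.memZF e fun p hp hpm => h.pq hp hpm fun e' => hw p hp e' hpm

theorem ab_cent {w a b : G} (hw : IsPiElt (pi m)ᶜ w) (hw' : w ∉ center G) (ha : a ∈ C w)
    (hb : b ∈ C w) (ha' : IsPiElt (pi m) a) (hb' : IsPiElt (pi m) b) :
    IsPiElt (pi m)ᶜ (a * b * a⁻¹ * b⁻¹) :=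
  have := h.solv
  isPiElt_coe.2 (ab (pi m) _ (C w) rfl (fun t ht p hpm hp => by
    rw [ind, H18.index_centralizer_coe]
    exact h.nd hp hpm (h.rel_dvd hw' t.2 (cop_pi (isPiElt_coe.2 ht) hw).symm))
    ⟨a, ha⟩ ⟨b, hb⟩ (isPiElt_coe.1 ha') (isPiElt_coe.1 hb'))

theorem exists_prime : ∃ p : ℕ, p.Prime ∧ p ∣ m := Nat.exists_prime_and_dvd h.hm.ne'

section II
variable (h2 : ∀ u : G, IsPiElt (pi m) u → u ∉ center G → ind u = m * n)
include h2

theorem exy : ∃ (r : ℕ) (y : G), r.Prime ∧ ¬ r ∣ m ∧ PE r y ∧ y ∉ center G ∧ ind y = m ∧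
    ∀ u : G, IsPiElt (pi m) u → u ∉ center G → NC r (C u) := by
  obtain ⟨x, hx⟩ := h.exm
  obtain ⟨r, e, -, hr, -, h1, -, h3⟩ := exists_decomp_not_mem (h.nz hx.symm.dvd)
  have h4 := h.eq_m h3 (hx ▸ ind_pow_dvd x e)
  refine ⟨r, _, hr, fun e' => h.not_dvd ((h2 _ (pi_of_pe hr e' h1) h3).symm.trans h4).dvd, h1, h3,
    h4, fun u u1 u2 => ?_⟩
  obtain ⟨p, hp, hpm⟩ := h.exists_prime
  obtain ⟨t, t0, t1, t2⟩ := h.nc hp hpm (x ^ e)
  exact NC.of_ind hr ⟨_, mem_cent_comm t0, h1, h3⟩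
    ((h2 t (pi_of_pe hp hpm t1) t2).trans (h2 u u1 u2).symm)

theorem abel {u a : G} (u1 : IsPiElt (pi m) u) (u2 : u ∉ center G) (ha : a ∈ C u) : C u ≤ C a := by
  obtain ⟨r, y, hr, hrm, -, -, -, hy⟩ := h.exy h2
  obtain ⟨w, w0, w1, w2⟩ := hy u u1 u2
  have h1 : ∀ t ∈ C u, IsPiElt (pi m)ᶜ t → C u ≤ C t := fun t ht ht' =>
    h.min_le (h2 u u1 u2) ht (cop_pi u1 ht')
  have w3 := pi_of_pe (π := (pi m)ᶜ) hr hrm w1
  have h3 : ∀ a ∈ C u, ∀ b ∈ C u, IsPiElt (pi m) a → IsPiElt (pi m) b → a ∈ C b :=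
    fun a ha b hb ha' hb' => by
      have h4 := h.ab_cent w3 w2 (h1 w w0 w3 ha) (h1 w w0 w3 hb) ha' hb'
      exact C3.cop (mem_cent_iff.1 (h1 _ (mul_mem (mul_mem (mul_mem ha hb) (inv_mem ha)) (inv_mem hb))
        h4 hb)).symm (cop_pi hb' h4)
  intro b hb
  obtain ⟨i, j, e1, e2, e3⟩ := exists_pi_decomp (pi m) a
  obtain ⟨i', j', e1', e2', e3'⟩ := exists_pi_decomp (pi m) b
  refine mem_cent_comm (e1 ▸ mul_mem ?_ (mem_cent_comm (h1 _ (pow_mem ha j) e3 hb)))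
  exact mem_cent_comm (e1' ▸ mul_mem (h3 _ (pow_mem hb i') _ (pow_mem ha i) e2' e2)
    (mem_cent_comm (h1 _ (pow_mem hb j') e3' (pow_mem ha i))))

theorem caseD {x : G} (x0 : x ∈ ZF G) (x1 : IsPiElt (pi m) x) : x ∈ center G := by
  by_contra x2
  have := h.solv
  have hD : ∀ x ∈ ZF G, IsPiElt (pi m) x → x ∉ center G → ZF G = C x := fun x x0 x1 x2 =>
    le_antisymm (ZF_le x0) fun d hd => le_ZF_iff.1 ((le_ZF_iff.2 x0).trans (h.abel h2 x1 x2 hd))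
  have hi : (ZF G).index = m * n := by rw [hD x x0 x1 x2]; exact h2 x x1 x2
  obtain ⟨p, hp, hpm⟩ := h.exists_prime
  obtain ⟨g, g1, g2⟩ : ∃ g : G, PE p g ∧ g ∉ ZF G := by
    by_contra e
    push Not at e
    exact nd_relIndex (E := ZF G) (H := ⊤) hp (fun g _ => e g)
      (by rw [relIndex_top_right, hi]; exact hpm.mul_right n)
  have key : ∀ π : Set ℕ, π = pi m ∨ π = (pi m)ᶜ →
      C g ⊓ piElts π (ZF G) ZF_comm ≤ center G := by
    rintro π hπ d ⟨d1, d2, d3⟩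
    by_contra d4
    rcases hπ with rfl | rfl
    · exact g2 ((hD d d2 d3 d4).ge (mem_cent_comm d1))
    · refine g2 (mem_of_coprime_index (N := (ZF G).subgroupOf (C d)) (x := ⟨g, mem_cent_comm d1⟩) ?_)
      rw [orderOf_mk]
      refine g1.coprime hp (h.nd hp hpm ?_)
      have e := relIndex_mul_index (ZF_le d2)
      exact Nat.dvd_of_mul_dvd_mul_right (by have := h.hm; omega)
        (((Nat.mul_dvd_mul_left _ (h.dvd_ind d4)).trans (e.trans hi).dvd).trans (mul_comm m n).dvd)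
  obtain ⟨r, y, hr, hrm, y1, y2, y3, -⟩ := h.exy h2
  have y4 := pi_of_pe (π := (pi m)ᶜ) hr hrm y1
  have c1 : (Nat.card (piElts (pi m) (ZF G) ZF_comm)).Coprime n := Nat.coprime_of_dvd
    fun q hq e => h.nd hq (mem_of_dvd_card_piElts hq e) dvd_rfl
  have c2 : (Nat.card (piElts (pi m)ᶜ (ZF G) ZF_comm)).Coprime m := Nat.coprime_of_dvd
    fun q hq e => mem_of_dvd_card_piElts hq e
  have l1 := lt_of (piElts (pi m) (ZF G) ZF_comm) (fun e => x2 (e ⟨x0, x1⟩)) (key _ (.inl rfl)) (Nat.zero_lt_of_lt h.hm)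
    ((h.ind_dvd g).trans (mul_comm m n).dvd) c1 c1
    fun a ha ha' => (dvd_mul_left n m).trans (h2 a ha.2 ha').symm.dvd
  have l2 := lt_of (piElts (pi m)ᶜ (ZF G) ZF_comm) (fun e => y2 (e ⟨h.big y4 y3.dvd, y4⟩)) (key _ (.inr rfl))
    (Nat.zero_lt_of_lt h.hn) (h.ind_dvd g) c2 c2 fun a _ ha' => h.dvd_ind ha'
  omega

theorem indV {v : G} (v0 : v ∈ ZF G) (v1 : IsPiElt (pi m)ᶜ v) (v2 : v ∉ center G) : ind v = m := by
  refine (h.all v v2).resolve_right fun e => ?_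
  obtain ⟨p, hp, hpm⟩ := h.exists_prime
  obtain ⟨t, t0, t1, t2⟩ := h.nc hp hpm v
  have t3 := pi_of_pe (π := pi m) hp hpm t1
  exact t2 (h.caseD h2 (le_ZF_iff.1 ((le_ZF_iff.2 v0).trans (h.min_le e t0 (cop_pi t3 v1).symm))) t3)

theorem exv {u : G} (u1 : IsPiElt (pi m) u) (u2 : u ∉ center G) :
    ∃ v ∈ ZF G, IsPiElt (pi m)ᶜ v ∧ v ∉ center G ∧ v ∈ C u := by
  have := h.solv
  obtain ⟨r, y, hr, hrm, y1, y2, y3, hy⟩ := h.exy h2
  obtain ⟨w, w0, w1, w2⟩ := hy u u1 u2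
  have w3 := pi_of_pe (π := (pi m)ᶜ) hr hrm w1
  rcases h.all w w2 with e | e
  · exact ⟨w, h.big w3 e.dvd, w3, w2, w0⟩
  have hC := h.eq_of_min e (h.min_le (h2 u u1 u2) w0 (cop_pi u1 w3))
  have := Fact.mk hr
  obtain ⟨R, hR⟩ := w1.isPGroup.exists_le_sylow
  have hs : ∀ a : G, IsPiElt {r} a → IsPiElt (pi m)ᶜ a := fun a ha =>
    ha.mono (Set.singleton_subset_iff.2 hrm)
  obtain ⟨v, v0, v1, -, v2⟩ := fix (piElts {r} (ZF G) ZF_comm)
    (fun a => by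
      obtain ⟨k, hk⟩ := (isPiElt_singleton_iff hr).1 a.2.2
      exact ⟨k, Subtype.ext (by rw [coe_pow, ← hk, pow_orderOf_eq_one, coe_one])⟩)
    (fun e => y2 (e ⟨h.big (pi_of_pe hr hrm y1) y3.dvd, pi_of_pe hr (Set.mem_singleton r) y1⟩)) R
  refine ⟨v, v0.1, hs v v0.2, v1, C3.cop ?_ (cop_pi u1 (hs _ ?_))⟩
  · have h3 := mem_center_iff.1 (v2 w (hR (mem_zpowers w)))
    have h4 := mem_cent_iff.1 w0
    refine mem_cent_iff.1 (mul_mem (hC.ge (mem_cent_iff.2 ?_)) (inv_mem (self_mem_cent u)))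
    have h5 : v * u * v⁻¹ * (⁅v, w⁆ * w) = ⁅v, w⁆ * w * (v * u * v⁻¹) := by
      rw [commutatorElement_def]
      calc _ = v * (u * w) * v⁻¹ := by group
        _ = _ := by rw [← h4]; group
    rw [← mul_assoc, h3, mul_assoc ⁅v, w⁆, mul_assoc ⁅v, w⁆] at h5
    exact mul_left_cancel h5
  · have h3 := mul_mem v0 ((piElts_normal {r} (ZF G) ZF_comm).conj_mem _ (inv_mem v0) u)
    rw [← mul_assoc, ← mul_assoc] at h3
    exact h3.2

theorem falseII : False := by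
  have := h.solv
  obtain ⟨L, hL⟩ := exists_isPiHall (pi m) G
  have hπ : ∀ a ∈ L, IsPiElt (pi m) a := fun a ha q hq e => hL.1 q hq (e.trans (orderOf_dvd_natCard L ha))
  have h1 : ∀ v : G, IsPiElt (pi m)ᶜ v → v ∉ center G → ∀ a ∈ L ⊓ C v, ∀ b ∈ L ⊓ C v, a ∈ C b :=
    fun v v1 v2 a ha b hb => by
      have := (hπ _ (mul_mem (mul_mem (mul_mem ha.1 hb.1) (inv_mem ha.1)) (inv_mem hb.1))).eq_one
        (h.ab_cent v1 v2 ha.2 hb.2 (hπ a ha.1) (hπ b hb.1))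
      rw [mul_inv_eq_one, mul_inv_eq_iff_eq_mul] at this
      exact mem_cent_iff.2 this
  have h3 : ∀ v ∈ ZF G, IsPiElt (pi m)ᶜ v → v ∉ center G → (C v).relIndex L = m :=
    fun v v0 v1 v2 => (relIndex_eq_index_of_coprime (by
      rw [show (C v).index = m from h.indV h2 v0 v1 v2]
      exact Nat.coprime_of_dvd fun q hq e => hL.2 q hq e)).trans (h.indV h2 v0 v1 v2)
  have h4 : ∀ u ∈ L, u ∉ center G → (C u).relIndex L = m := fun u u0 u2 => by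
    obtain ⟨v, v0, v1, v2, v3⟩ := h.exv h2 (hπ u u0) u2
    rw [← h3 v v0 v1 v2, ← inf_relIndex_left, ← inf_relIndex_left L (C v)]
    congr 1
    exact le_antisymm (inf_le_inf_left _ (h.abel h2 (hπ u u0) u2 v3))
      fun a ha => ⟨ha.1, h1 v v1 v2 a ha u ⟨u0, mem_cent_comm v3⟩⟩
  have := nilpotent_of_two_sizes (G := L) (n := m) fun u => by
    rw [ind, H18.index_centralizer_coe]
    by_cases e : (u : G) ∈ center G
    · exact .inl (relIndex_eq_one.2 fun g _ => mem_cent_iff.2 (mem_center_iff.1 e g))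
    · exact .inr (h4 u u.2 e)
  obtain ⟨p, hp, hpm⟩ := h.exists_prime
  obtain ⟨⟨u, u0⟩, -, u2, u3⟩ := H9.exists_central_mod (N := (center G).subgroupOf L) (K := ⊤)
    fun e => hL.2 p hp hpm (((hpm.mul_right n).trans h.dvd_index).trans
      (index_dvd_of_le fun a ha => e (x := ⟨a, ha⟩) trivial))
  obtain ⟨v1, a0, a1, a2, a3⟩ := h.exv h2 (hπ u u0) u2
  let V := piElts (pi m)ᶜ (ZF G) ZF_comm
  have hV : V.Normal := piElts_normal _ _ _
  have hψ : ∀ t ∈ V, t * u * t⁻¹ * u⁻¹ ∈ V := fun t ht => by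
    have h5 := mul_mem ht (hV.conj_mem _ (inv_mem ht) u)
    rwa [← mul_assoc, ← mul_assoc] at h5
  have hc : ∀ t ∈ V, t * u * t⁻¹ * u⁻¹ ∈ C u → t ∈ C u := fun t ht e =>
    C3.cop (mem_cent_iff.1 e) (cop_pi (hπ u u0) (hψ t ht).2)
  by_cases e : V ≤ C u
  · refine h.hm.ne' ((h4 u u0 u2).symm.trans (relIndex_eq_one.2 fun g hg => ?_))
    by_cases e' : g ∈ center G
    · exact center_le_centralizer _ e'
    obtain ⟨v, v0, v1, v2, v3⟩ := h.exv h2 (hπ g hg) e'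
    exact h1 v v1 v2 g ⟨hg, mem_cent_comm v3⟩ u ⟨u0, mem_cent_comm (e ⟨v0, v1⟩)⟩
  obtain ⟨v, v0, v2⟩ := SetLike.not_le_iff_exists.1 e
  have hv := hψ v v0
  have h5 : ∀ s ∈ C u, s * (v * u * v⁻¹ * u⁻¹) ∉ C u := fun s hs e =>
    v2 (hc v v0 ((mul_mem_cancel_left hs).1 e))
  have h6 := mul_mem (show v1 ∈ V from ⟨a0, a1⟩) hv
  have h7 := h3 _ h6.1 h6.2 fun e => h5 v1 a3 (center_le_centralizer _ e)
  refine h5 v1 a3 (mem_cent_comm ((eq_of_le_of_index_le (G := L) (fun x hx => ?_)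
    (h7.trans (h4 u u0 u2).symm).le).ge (x := ⟨u, u0⟩) (self_mem_cent u)))
  obtain ⟨x, x0⟩ := x
  have hx : x * _ = _ * x := mem_cent_iff.1 hx
  obtain ⟨z, hz, e1⟩ : ∃ z ∈ center G, x * u * x⁻¹ = z * u :=
    ⟨_, inv_mem (u3 ⟨x, x0⟩), by simp [commutatorElement_def, mul_assoc]⟩
  have e2 : ∀ s : G, s * (z * u) = z * (s * u) := fun s => by
    rw [← mul_assoc, mem_center_iff.1 hz s, mul_assoc]
  have ha := hV.conj_mem v v0 x
  have hb := hV.conj_mem _ (mul_mem (inv_mem ha) v0) u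
  have cm : ∀ s ∈ V, ∀ t ∈ V, s * t = t * s := fun s hs t ht => mul_comm_of_mem ZF_comm hs.1 ht.1
  have e3 : x * v * x⁻¹ * v⁻¹ * u * (x * v * x⁻¹ * v⁻¹)⁻¹ * u⁻¹ =
      x * (v * u * v⁻¹ * u⁻¹) * x⁻¹ * (v * u * v⁻¹ * u⁻¹)⁻¹ := by
    calc _ = x * v * x⁻¹ * (v⁻¹ * (u * (v * (x * v * x⁻¹)⁻¹) * u⁻¹)) := by group
      _ = x * v * x⁻¹ * (u * ((x * v * x⁻¹)⁻¹ * v) * u⁻¹ * v⁻¹) := by
        rw [cm _ v0 _ (inv_mem ha), cm _ (inv_mem v0) _ hb]
      _ = z⁻¹ * (z * (x * v * x⁻¹ * u) * (x * v * x⁻¹)⁻¹ * u⁻¹ * (v * u * v⁻¹ * u⁻¹)⁻¹) := by group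
      _ = z⁻¹ * (x * v * x⁻¹ * (x * u * x⁻¹) * (x * v * x⁻¹)⁻¹ * (x * u * x⁻¹)⁻¹ * z *
          (v * u * v⁻¹ * u⁻¹)⁻¹) := by rw [← e2, e1]; group
      _ = _ := by rw [mem_center_iff.1 hz]; group
  have e4 : x * v1 * x⁻¹ ∈ C u := by
    have : x * v1 * x⁻¹ * (x * u * x⁻¹) = x * u * x⁻¹ * (x * v1 * x⁻¹) := by
      calc _ = x * (v1 * u) * x⁻¹ := by group
        _ = _ := by rw [mem_cent_iff.1 a3]; group
    rw [e1, e2, mul_assoc z] at this
    exact mem_cent_iff.2 (mul_left_cancel this)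
  have e5 := mem_cent_iff.1 (hc _ (mul_mem ha (inv_mem v0)) (by
    rw [e3, show x * (v * u * v⁻¹ * u⁻¹) * x⁻¹ * (v * u * v⁻¹ * u⁻¹)⁻¹ = (x * v1 * x⁻¹)⁻¹ *
      (x * (v1 * (v * u * v⁻¹ * u⁻¹))) * x⁻¹ * (v * u * v⁻¹ * u⁻¹)⁻¹ by group, hx,
      show (x * v1 * x⁻¹)⁻¹ * (v1 * (v * u * v⁻¹ * u⁻¹) * x) * x⁻¹ * (v * u * v⁻¹ * u⁻¹)⁻¹ =
        (x * v1 * x⁻¹)⁻¹ * v1 by group]
    exact mul_mem (inv_mem e4) a3))
  rw [e5, mul_inv_cancel_right, mul_inv_cancel, eq_comm, mul_inv_eq_one, mul_inv_eq_iff_eq_mul] at e3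
  rw [mul_assoc v1, ← e3, ← mul_assoc x v1, ← mul_assoc v1 x] at hx
  exact h1 v1 a1 a2 x ⟨x0, mem_cent_iff.2 (mul_right_cancel hx)⟩ u ⟨u0, mem_cent_comm a3⟩

end II
end Hyp
end H33.C3
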