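/- Class sizes `1, m, m n` with `m, n` coprime: the structure theorem. -/
import Cfsg.Agent.H33.Cs3B
import Cfsg.Agent.H1.CoprimeGen
import Cfsg.Agent.S3807

set_option autoImplicit false
set_option linter.unusedSectionVars false

open Cfsg Subgroup H4 H5 H5.CS H24
open scoped commutatorElement Pointwise

namespace H33.C3

universe u
variable {G : Type u} [Group G] [Finite G]

local notation "C " x:max => Subgroup.centralizer ({x} : Set _)

theorem le_of_nd {E H : Subgroup G} (h : ∀ q : ℕ, q.Prime → ¬ q ∣ E.relIndex H) : H ≤ E :=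
  relIndex_eq_one.1 (Nat.eq_one_iff_not_exists_prime_dvd.2 h)

namespace Hyp
variable {m n : ℕ} (h : Hyp G m n)
include h

theorem com {u a w : G} (u1 : IsPiElt (pi m) u) (u2 : u ∉ center G) (ha : a ∈ C u) (hw : w ∈ C u)
    (a1 : IsPiElt (pi m) a) (w1 : IsPiElt (pi m)ᶜ w) : a ∈ C w :=
  have := h.solv
  mem_cent_iff.2 (congrArg Subtype.val (mem_cent_iff.1 (cov (G := C u) (pi m) (fun t ht p hpm hp => by
    rw [ind, H18.index_centralizer_coe]
    exact h.nd hp hpm (h.rel_dvd u2 t.2 (cop_pi u1 (isPiElt_coe.2 ht))))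
    (a := ⟨a, ha⟩) (w := ⟨w, hw⟩) (isPiElt_coe.1 a1) (isPiElt_coe.1 w1))))

theorem piI {u : G} (u1 : IsPiElt (pi m) u) (hu : ind u = m) {a : G} (ha : a ∈ C u)
    (a1 : IsPiElt (pi m) a) : C u ≤ C a ∧ a ∈ ZF G := by
  have := h.solv
  have u2 := h.nz hu.symm.dvd
  obtain ⟨K, hK⟩ := exists_isPiHallOf (pi m)ᶜ (C u)
  have k1 : ∀ w ∈ K, IsPiElt (pi m)ᶜ w := fun w hw q hq e =>
    hK.2.1 q hq (e.trans (orderOf_dvd_natCard K hw))
  have k2 : ∀ q : ℕ, q.Prime → q ∣ K.index → q ∣ m := fun q hq e => by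
    rw [← relIndex_mul_index hK.1] at e
    exact (hq.dvd_mul.1 e).elim (fun e => by_contra fun e' => hK.2.2 q hq e' e) fun e => hu ▸ e
  obtain ⟨r, hr, hrn⟩ := Nat.exists_prime_and_dvd h.hn.ne'
  have k3 : ¬ m * n ∣ K.index := fun e => h.nd hr (k2 r hr ((hrn.mul_left m).trans e)) dvd_rfl hrn
  obtain ⟨w, w0, w2⟩ := SetLike.not_le_iff_exists.1 fun e : K ≤ center G =>
    k3 (h.dvd_index.trans (index_dvd_of_le e))
  have k4 : ∀ v : G, IsPiElt (pi m) v → v ∉ center G → K ≤ C v → ∀ t ∈ C v, IsPiElt (pi m) t →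
      t ∈ centralizer (K : Set G) := fun v v1 v2 e t ht t1 k hk =>
    (mem_cent_iff.1 (h.com v1 v2 ht (e hk) t1 (k1 k hk))).symm
  have key : ∀ v : G, IsPiElt (pi m) v → v ∉ center G → K ≤ C v → centralizer (K : Set G) ≤ C v :=
    fun v v1 v2 e => le_of_nd fun q hq => by
      by_cases hqm : q ∣ m
      · refine fun e' => nd_relIndex hq (fun t ht t1 => k4 v v1 v2 e t ht (pi_of_pe hq hqm t1))
          (e'.trans ?_)
        have e1 : ind v = m := (h.all v v2).resolve_right fun e' => k3 (e' ▸ ind_dvd_of_le e)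
        have e2 := (relIndex_mul_index (inf_le_left : centralizer (K : Set G) ⊓ C v ≤ _)).trans
          (relIndex_mul_index inf_le_right).symm
        rw [inf_relIndex_left, inf_relIndex_right, show (C v).index = m from e1] at e2
        exact Nat.dvd_of_mul_dvd_mul_right (Nat.zero_lt_of_lt h.hm) ((Nat.mul_dvd_mul_left _
          ((h.dvd_ind w2).trans (ind_dvd_of_le (centralizer_le (Set.singleton_subset_iff.2 w0))))).trans
          e2.dvd)
      · refine nd_relIndex hq fun t ht t1 => e (mem_of_mem_normalizer_of_coprime le_top trivial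
          (centralizer_le_normalizer _ ht) ?_)
        rw [relIndex_top_right]
        exact t1.coprime hq fun e' => hqm (k2 q hq e')
  have h1 : C u ≤ C a := by
    by_cases a2 : a ∈ center G
    · exact fun g _ => mem_cent_iff.2 (mem_center_iff.1 a2 g)
    have e : K ≤ C a := le_cent_iff_mem_centralizer.2 (k4 u u1 u2 hK.1 a ha a1)
    refine le_of_nd fun q hq => ?_
    by_cases hqm : q ∣ m
    · exact nd_relIndex hq fun t ht t1 => key a a1 a2 e (k4 u u1 u2 hK.1 t ht (pi_of_pe hq hqm t1))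
    · exact fun e' => hK.2.2 q hq hqm (e'.trans (relIndex_dvd_of_le_left _ e))
  refine ⟨h1, h.memZF (hu ▸ ind_dvd_of_le h1) fun p hp hpm => le_cent_iff_mem_centralizer.1
    (le_trans (le_trans ?_ (key u u1 u2 hK.1)) h1)⟩
  exact le_centralizer_iff.1 fun k hk => h.pq hp hpm fun e => k1 k hk p hp e hpm

theorem caseI : ∃ u : G, (C u).Normal ∧ ind u = m ∧ (∀ x ∈ C u, C u ≤ C x) ∧
    ∀ g, g ∉ C u → C g ⊓ C u ≤ center G := by
  have := h.solv
  obtain ⟨u, u1, u2, hu⟩ : ∃ u : G, IsPiElt (pi m) u ∧ u ∉ center G ∧ ind u = m := by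
    by_contra e
    push Not at e
    exact h.falseII fun u u1 u2 => (h.all u u2).resolve_left (e u u1 u2)
  have u3 := (h.piI u1 hu (self_mem_cent u) u1).2
  have hn : (C u).Normal := ⟨fun x hx g => by
    have h1 := mem_cent_iff.1 ((h.piI u1 hu (ZF_le u3 (Normal.conj_mem inferInstance u u3 g⁻¹))
      (u1.conj g⁻¹)).1 hx)
    refine mem_cent_iff.2 ?_
    calc _ = g * (x * (g⁻¹ * u * g⁻¹⁻¹)) * g⁻¹ := by group
      _ = _ := by rw [h1]; group⟩
  have h1 : ∀ k ∈ C u, IsPiElt (pi m)ᶜ k → k ∉ center G → C k ≤ C u := fun k hk k1 k2 =>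
    relIndex_eq_one.1 (Nat.eq_one_of_dvd_coprimes h.cop (hu ▸ relIndex_dvd_index_of_normal _ _)
      (h.rel_dvd k2 (mem_cent_comm hk) (cop_pi u1 k1).symm))
  have h3 : ∀ g, g ∉ C u → C g ⊓ C u ≤ center G := fun g hg x hx => by
    obtain ⟨i, j, e1, e2, e3⟩ := exists_pi_decomp (pi m) x
    have h4 : ∀ i, g ∈ C (x ^ i) := fun i => mem_cent_comm (pow_mem hx.1 i)
    refine e1 ▸ mul_mem (by_contra fun e => hg ?_) (by_contra fun e => hg ?_)
    · exact (h.eq_of_max hu e (h.piI u1 hu (pow_mem hx.2 i) e2).1).ge (h4 i)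
    · exact h1 _ (pow_mem hx.2 j) e3 e (h4 j)
  refine ⟨u, hn, hu, fun x hx g hg => ?_, h3⟩
  obtain ⟨i, j, e1, e2, e3⟩ := exists_pi_decomp (pi m) x
  refine mem_cent_comm (e1 ▸ mul_mem (mem_cent_comm ((h.piI u1 hu (pow_mem hx i) e2).1 hg)) ?_)
  have hk := pow_mem hx j
  generalize x ^ j = k at e3 hk
  by_cases k2 : k ∈ center G
  · exact center_le_centralizer _ k2
  rcases h.all k k2 with e | e
  · exact mem_cent_comm ((h.eq_of_max e u2 (h1 k hk e3 k2)).ge hg)
  refine absurd (mem_of_coprime_index (N := (center G).subgroupOf (C k)) (x := ⟨k, self_mem_cent k⟩)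
    ?_) k2
  rw [orderOf_mk]
  refine (cop_of_pi' e3).coprime_dvd_right ?_
  obtain ⟨g, -, hg⟩ := SetLike.not_le_iff_exists.1 fun e : ⊤ ≤ C u =>
    u2 (ind_eq_one_iff.1 (index_eq_one.2 (top_le_iff.1 e)))
  have h5 : _ * ind k = _ * ind u := (relIndex_mul_index (center_le_centralizer ({k} : Set G))).trans
    (relIndex_mul_index (center_le_centralizer ({u} : Set G))).symm
  have h6 := (rel_dvd_ind _ (h3 g hg)).trans (h.ind_dvd g)
  rw [e, hu, mul_comm m n, ← mul_assoc] at h5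
  rw [← Nat.eq_of_mul_eq_mul_right (Nat.zero_lt_of_lt h.hm) h5] at h6
  exact Nat.dvd_of_mul_dvd_mul_right (Nat.zero_lt_of_lt h.hn) h6

theorem main : m.Prime ∧ m ∣ n - 1 ∧ (∃ M : Subgroup G, M.Normal ∧
    (M : Set G) = {x : G | ind x = 1 ∨ ind x = m} ∧ M.index = m ∧ IsMulCommutative M) ∧
    (∃ N : Subgroup G, N.Normal ∧ (Nat.card N).Coprime m ∧ ∃ a : ℕ, N.index = m ^ a) ∧
    ∀ P : Sylow m G, Nat.card (commutator (P : Subgroup G)) = m := by
  obtain ⟨u, hn, hu, h1, h3⟩ := h.caseI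
  have u2 := h.nz hu.symm.dvd
  have hc : IsMulCommutative (C u) := ⟨⟨fun a b => Subtype.ext (mem_cent_iff.1 (h1 b b.2 a.2))⟩⟩
  have h4 : ∀ x ∈ C u, x ∉ center G → C u = C x := fun x hx e => h.eq_of_max hu e (h1 x hx)
  have h5 : ∀ x ∈ C u, x ∉ center G → ind x = m := fun x hx e => by
    rw [ind, ← h4 x hx e]; exact hu
  obtain ⟨g, -, hg⟩ := SetLike.not_le_iff_exists.1 fun e : ⊤ ≤ C u =>
    u2 (ind_eq_one_iff.1 (index_eq_one.2 (top_le_iff.1 e)))
  have hZ : (center G).relIndex (C u) * m = (center G).index :=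
    hu ▸ relIndex_mul_index (center_le_centralizer _)
  have h6 : n ∣ (center G).relIndex (C u) := Nat.dvd_of_mul_dvd_mul_right (Nat.zero_lt_of_lt h.hm)
    ((mul_comm n m).dvd.trans (hZ ▸ h.dvd_index))
  have hN : ∀ p : ℕ, p.Prime → p ∣ m → IsPGroup p (piElts {p} (C u) hc) ∧
      ¬ piElts {p} (C u) hc ≤ center G := fun p hp hpm => ⟨fun a => by
    obtain ⟨k, hk⟩ := (isPiElt_singleton_iff hp).1 a.2.2
    exact ⟨k, Subtype.ext (by rw [coe_pow, ← hk, pow_orderOf_eq_one, coe_one])⟩, fun e => by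
    obtain ⟨t, t0, t1, t2⟩ := h.nc hp hpm u
    exact t2 (e ⟨t0, pi_of_pe hp (Set.mem_singleton p) t1⟩)⟩
  have m0 : m ≠ 0 := (Nat.zero_lt_of_lt h.hm).ne'
  have h7 : ∀ p : ℕ, p.Prime → p ∣ m → ordCompl[p] m < ordProj[p] m := fun p hp hpm => by
    have := Fact.mk hp
    obtain ⟨k, hk⟩ := IsPGroup.iff_card.1 (hN p hp hpm).1
    have c1 := (Nat.coprime_ordCompl hp m0).pow_left k
    refine lt_of _ (hN p hp hpm).2 ((inf_le_inf_left _ fun x hx => hx.1).trans (h3 g hg))
      (s' := ordCompl[p] m * n) (Nat.ordProj_pos m p) ((h.ind_dvd g).trans (dvd_of_eq ?_)) (hk ▸ c1)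
      (hk ▸ c1.mul_right (((Nat.Prime.coprime_iff_not_dvd hp).2 (h.nd hp hpm dvd_rfl)).pow_left k))
      fun x hx e => (Nat.ordCompl_dvd m p).trans (h.dvd_ind e)
    rw [mul_right_comm, mul_comm _ (ordProj[p] m), Nat.ordProj_mul_ordCompl_eq_self]
  have h8 : ∀ p r : ℕ, p.Prime → r.Prime → p ≠ r → ordProj[r] m ≤ ordCompl[p] m :=
    fun p r hp hr e => Nat.le_of_dvd (Nat.ordCompl_pos p m0)
      ((Nat.coprime_pow_primes _ (m.factorization p) hr hp e.symm).dvd_of_dvd_mul_left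
        (by rw [Nat.ordProj_mul_ordCompl_eq_self]; exact Nat.ordProj_dvd m r))
  obtain ⟨p, hp, hpm⟩ := h.exists_prime
  have h9 : ∀ r : ℕ, r.Prime → r ∣ m → r = p := fun r hr hrm => by
    by_contra e
    have := h7 p hp hpm
    have := h7 r hr hrm
    have := h8 r p hr hp e
    have := h8 p r hp hr (Ne.symm e)
    omega
  have := Fact.mk hp
  have hcP : ∀ P : Sylow p G, m.Coprime (P : Subgroup G).index := fun P =>
    Nat.coprime_of_dvd fun q hq e => h9 q hq e ▸ P.not_dvd_index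
  let K := piElts (pi m)ᶜ (C u) hc
  have cK : (Nat.card K).Coprime m := Nat.coprime_of_dvd fun q hq e => mem_of_dvd_card_piElts hq e
  have iK : ∀ q : ℕ, q.Prime → q ∣ K.index → q ∣ m := fun q hq e => by
    rw [← relIndex_mul_index (show K ≤ C u from fun x hx => hx.1)] at e
    exact (hq.dvd_mul.1 e).elim (fun e => by_contra fun e' =>
      nd_relIndex (E := K) hq (fun t ht t1 => ⟨ht, pi_of_pe hq e' t1⟩) e) fun e => hu ▸ e
  have rK : (center G).relIndex K = n := by
    refine Nat.dvd_antisymm ((cK.coprime_dvd_left (relIndex_dvd_card _ _)).dvd_of_dvd_mul_left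
      ((rel_dvd_ind K ((inf_le_inf_left _ fun x hx => hx.1).trans (h3 g hg))).trans (h.ind_dvd g))) ?_
    have e := (dvd_mul_left n m).trans h.dvd_index
    rw [← relIndex_mul_index (le_sup_left : center G ≤ center G ⊔ K), relIndex_sup_left] at e
    exact (Nat.coprime_of_dvd fun q hq e1 e2 => h.nd hq
      (iK q hq (e2.trans (index_dvd_of_le le_sup_right))) dvd_rfl e1).dvd_of_dvd_mul_right e
  obtain ⟨P⟩ : Nonempty (Sylow p G) := inferInstance
  obtain ⟨v, v0, v1, v2, v3⟩ := fix _ (hN p hp hpm).1 (hN p hp hpm).2 P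
  have hv := h4 v v0.1 v1
  have v4 : ∀ x : G, x * v * x⁻¹ * v⁻¹ ∈ center G := fun x => by
    obtain ⟨a, ha, b, hb, rfl⟩ := exists_mul_of_coprime_relIndex (A := (P : Subgroup G)) (B := C u)
      (D := ⊤) (by rw [relIndex_top_right, relIndex_top_right]; exact (hu ▸ hcP P :).symm) (mem_top x)
    convert inv_mem (v3 a ha.1) using 1
    calc _ = a * (b * v) * b⁻¹ * a⁻¹ * v⁻¹ := by group
      _ = _ := by rw [mem_cent_iff.1 (hv.le hb.1), commutatorElement_def]; group
  let χ : G →* center G := MonoidHom.mk' (fun x => ⟨_, v4 x⟩) fun a b => Subtype.ext (by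
    change _ = a * v * a⁻¹ * v⁻¹ * (b * v * b⁻¹ * v⁻¹)
    rw [mem_center_iff.1 (v4 b)]
    calc _ = a * (b * v * b⁻¹ * v⁻¹) * v * a⁻¹ * v⁻¹ := by group
      _ = _ := by rw [mem_center_iff.1 (v4 b)]; group)
  have hχ : ∀ x, x ∈ C u ↔ χ x = 1 := fun x => by
    rw [hv, mem_cent_iff, Subtype.ext_iff]
    change _ ↔ x * v * x⁻¹ * v⁻¹ = 1
    rw [mul_inv_eq_one, mul_inv_eq_iff_eq_mul]
  have hQ : IsMulCommutative (G ⧸ C u) := by
    refine ⟨⟨fun a b => ?_⟩⟩
    obtain ⟨a, rfl⟩ := QuotientGroup.mk_surjective a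
    obtain ⟨b, rfl⟩ := QuotientGroup.mk_surjective b
    rw [← QuotientGroup.mk_mul, ← QuotientGroup.mk_mul, QuotientGroup.eq, hχ, map_mul, map_inv,
      map_mul, map_mul, inv_mul_eq_one]
    exact Subtype.ext (mem_center_iff.1 (χ b).2 _)
  have hcyc : IsCyclic (G ⧸ C u) := by
    by_contra e
    have := H1.le_of_noncyclic_fixed e (QuotientGroup.lift (C u) (MulAut.conjNormal (H := K))
      fun x hx => MulEquiv.ext fun k => Subtype.ext (by
        rw [MulAut.conjNormal_apply, mem_cent_iff.1 (h1 k k.2.1 hx), mul_inv_cancel_right]; rfl))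
      ⊤ (fun _ _ _ => trivial) (by rw [card_top]; exact (hu ▸ cK :).symm)
      ((center G).subgroupOf K) fun a a1 k _ e => by
        obtain ⟨a, rfl⟩ := QuotientGroup.mk_surjective a
        have e1 : a * k * a⁻¹ = k := congrArg Subtype.val e
        exact h3 a (mt (QuotientGroup.eq_one_iff a).2 a1)
          ⟨mem_cent_iff.2 (mul_inv_eq_iff_eq_mul.1 e1).symm, k.2.1⟩
    exact h.hn.ne' (rK.symm.trans (index_eq_one.2 (top_le_iff.1 this)))
  obtain rfl : m = p := by
    refine (Nat.dvd_antisymm hpm ?_).symm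
    rw [← hu, ind, index_eq_card, ← IsCyclic.exponent_eq_card]
    refine Monoid.exponent_dvd_of_forall_pow_eq_one fun a => ?_
    obtain ⟨a, rfl⟩ := QuotientGroup.mk_surjective a
    rw [← QuotientGroup.mk_pow, QuotientGroup.eq_one_iff, hχ, map_pow]
    refine Subtype.ext ?_
    change (a * v * a⁻¹ * v⁻¹) ^ p = 1
    have e := (show Commute (a * v * a⁻¹ * v⁻¹) v from (mem_center_iff.1 (v4 a) v).symm).mul_pow p
    rw [inv_mul_cancel_right, conj_pow, mem_center_iff.1 v2, mul_inv_cancel_right] at e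
    exact mul_eq_right.1 e.symm
  refine ⟨hp, rK ▸ cnt K cK fun x _ => h.dvd_ind, ⟨C u, hn, Set.ext fun x => ⟨fun hx => ?_,
    fun hx => by_contra fun e => ?_⟩, hu, hc⟩, ⟨K, inferInstance, cK, _,
    Nat.eq_prime_pow_of_unique_prime_dvd index_ne_zero_of_finite fun hq e => h9 _ hq (iK _ hq e)⟩,
    fun P => ?_⟩
  · by_cases e : x ∈ center G
    · exact .inl (ind_eq_one_iff.2 e)
    · exact .inr (h5 x hx e)
  · have e1 := h6.trans (rel_dvd_ind _ (h3 x e))
    exact h.hn.ne' (hx.elim (fun e2 => Nat.dvd_one.1 (e2 ▸ e1))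
      fun e2 => Nat.eq_one_of_dvd_coprimes h.cop (e2 ▸ e1) dvd_rfl)
  have e1 : (C u).relIndex P = m := (relIndex_eq_index_of_coprime
    (by rw [show (C u).index = m from hu]; exact hcP P)).trans hu
  have e2 : ¬ IsMulCommutative P := fun e => h.hm.ne' (e1.symm.trans (relIndex_eq_one.2 fun x hx =>
    hv.ge (mem_cent_iff.2 (mul_comm_of_mem e hx ((hN m hp hpm).1.le_sylow_of_normal P v0)))))
  have e3 := (Cfsg.Agent.S3807.result m P.isPGroup' e2 ((C u).subgroupOf P) inferInstance e1).1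
  have e4 : (center P).index ∣ m * m := by
    obtain ⟨k, hk⟩ := P.isPGroup'.index (center P)
    have e5 : (center P).index ∣ m * m * n := by
      refine ((index_dvd_of_le (H := (center G).subgroupOf P) fun x hx => mem_center_iff.2 fun y =>
        Subtype.ext (mem_center_iff.1 hx y)).trans (relIndex_dvd_index_of_normal _ _)).trans ?_
      rw [← hZ, mul_right_comm]
      exact Nat.mul_dvd_mul_right ((rel_dvd_ind _ (h3 g hg)).trans (h.ind_dvd g)) _
    exact (hk ▸ h.cop.pow_left k :).dvd_of_dvd_mul_right e5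
  rw [e3] at e4
  exact ((Nat.dvd_prime hp).1 (Nat.dvd_of_mul_dvd_mul_left hp.pos e4)).resolve_left fun e =>
    e2 ((commutator_eq_bot_iff _).1 (card_eq_one.1 e))

end Hyp
end H33.C3
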