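import Cfsg.Agent.H20.DGSpec

/-! # S3579, tower DG, slot F4 -/

set_option autoImplicit false

namespace H33.DgF4

open Subgroup MulAction Cfsg H98 H20.DG

universe u v

theorem burn {G : Type u} [Group G] [Finite G] {p : ℕ} [Fact p.Prime] {A H : Subgroup G}
    (h : IsSyl p A H) (hc : H ⊓ normalizer (A : Set G) ≤ centralizer (A : Set G)) :
    ∃ R : Subgroup G, R ≤ H ∧ ¬ p ∣ Nat.card R ∧ (∀ g ∈ H, ∀ r ∈ R, g * r * g⁻¹ ∈ R) ∧
      ∀ g ∈ H, ∃ r ∈ R, ∃ a ∈ A, g = r * a := by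
  obtain ⟨P, rfl⟩ := h.exists_sylow_map
  have hP : normalizer ((P : Subgroup H) : Set H) ≤ centralizer ((P : Subgroup H) : Set H) :=
    fun x hx y hy => Subtype.ext
      (hc ⟨x.2, le_normalizer_map H.subtype ⟨x, hx, rfl⟩⟩ y ⟨y, hy, rfl⟩)
  have h1 := MonoidHom.not_dvd_card_ker_transferSylow P hP
  have h2 := MonoidHom.ker_transferSylow_isComplement' P hP
  have h3 : (MonoidHom.transferSylow P hP).ker.Normal := MonoidHom.normal_ker _
  generalize (MonoidHom.transferSylow P hP).ker = N at h1 h2 h3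
  refine ⟨N.map H.subtype, map_subtype_le _, ?_, ?_, ?_⟩
  · rw [card_map_of_injective H.subtype_injective]
    exact h1
  · rintro g hg _ ⟨r, hr, rfl⟩
    exact ⟨⟨g, hg⟩ * r * ⟨g, hg⟩⁻¹, h3.conj_mem r hr _, rfl⟩
  · intro g hg
    obtain ⟨⟨r, a⟩, e⟩ := h2.2 ⟨g, hg⟩
    exact ⟨r, ⟨r, r.2, rfl⟩, a, ⟨a, a.2, rfl⟩, (congrArg Subtype.val e).symm⟩

/-- A subgroup of order prime to `p`, normalised by `A`, fixes a point of a regular orbit. -/
theorem fix_pt {G : Type u} {Ω : Type v} [Group G] [Finite G] [MulAction G Ω] {p : ℕ}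
    (hp : p.Prime) {A K : Subgroup G} {Δ : Set Ω} (hA : Nat.card A = p) (hK : ¬ p ∣ Nat.card K)
    (hn : ∀ a ∈ A, ∀ k ∈ K, a * k * a⁻¹ ∈ K) (hΔ : Δ.ncard = p) (ho : IsOr A Δ)
    (hs : ∀ k ∈ K, ∀ d ∈ Δ, k • d ∈ Δ) {d : Ω} (hd : d ∈ Δ) : ∀ k ∈ K, k • d = d := by
  have : Fact p.Prime := ⟨hp⟩
  intro k hk
  by_contra hne
  obtain ⟨a, ha, e⟩ := (ho d hd _).1 (hs k hk d hd)
  have ha1 : (⟨a, ha⟩ : A) ≠ 1 := by
    intro h1
    have : a = 1 := congrArg Subtype.val h1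
    rw [this, one_smul] at e
    exact hne e.symm
  have hpow : ∀ n : ℕ, ∃ k' ∈ K, k' • d = a ^ n • d := by
    intro n
    induction n with
    | zero => exact ⟨1, one_mem _, by rw [pow_zero]⟩
    | succ n ih =>
      obtain ⟨k', hk', e'⟩ := ih
      refine ⟨a * k' * a⁻¹ * k, mul_mem (hn a ha k' hk') hk, ?_⟩
      rw [mul_smul, ← e, mul_smul, inv_smul_smul, mul_smul, e', pow_succ', mul_smul]
  have hob : Δ = Ob K d := by
    ext b
    refine ⟨fun hb => ?_, fun ⟨k', hk', e'⟩ => e' ▸ hs k' hk' d hd⟩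
    obtain ⟨a', ha', e'⟩ := (ho d hd b).1 hb
    have hz : (⟨a', ha'⟩ : A) ∈ Submonoid.powers (⟨a, ha⟩ : A) :=
      mem_powers_of_prime_card hA ha1
    obtain ⟨n, hn'⟩ := hz
    have : a ^ n = a' := congrArg Subtype.val hn'
    obtain ⟨k', hk', e''⟩ := hpow n
    exact ⟨k', hk', by rw [e'', this, e']⟩
  rw [hob, ncard_Ob] at hΔ
  exact hK (hΔ ▸ relIndex_dvd_card _ _)

theorem jobF4 : H20.DG.JobF4.{u, v} := by
  intro G Ω _ _ _ _ p q A H c Γ hp hq hq2 hpq hA hS hN hAc hc hH hΓ hO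
  have : Fact p.Prime := ⟨hp⟩
  have : Fact q.Prime := ⟨hq⟩
  have hcyc : IsCyclic A := isCyclic_of_prime_card hA
  have hAA : A ≤ centralizer (A : Set G) := fun x hx y hy =>
    congrArg Subtype.val ((IsCyclic.isMulCommutative (α := A)).is_comm.comm ⟨y, hy⟩ ⟨x, hx⟩)
  obtain ⟨R, hRH, hRp, hRn, hdec⟩ := burn hS (hN.trans hAA)
  have hAc' : ∀ a ∈ A, a • c = c := fun a ha => hAc ha
  have hst : ∀ g ∈ H, ∀ x ∈ Γ, g • x ∈ Γ := fun g hg x hx => (hH x hx _).2 ⟨g, hg, rfl⟩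
  -- `K = R_c` fixes `Γ`
  have hK : ∀ k ∈ R, k • c = c → ∀ d ∈ Γ, k • d = d := by
    intro k hk hkc d hd
    by_cases hdc : d = c
    · rw [hdc, hkc]
    refine fix_pt hp (K := R ⊓ stabilizer G c) hA ?_ ?_ ?_ hO ?_ ⟨hd, hdc⟩ k ⟨hk, hkc⟩
    · exact fun h => hRp (h.trans (card_dvd_of_le inf_le_left))
    · intro a ha k hk
      exact ⟨hRn a (hS.le ha) k hk.1, (stabilizer G c).mul_mem ((stabilizer G c).mul_mem (hAc ha) hk.2)
        ((stabilizer G c).inv_mem (hAc ha))⟩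
    · rw [Set.ncard_sdiff_singleton_of_mem hc, hΓ]
      rfl
    · intro k hk x hx
      refine ⟨hst k (hRH hk.1) x hx.1, fun e => hx.2 ?_⟩
      have h2 : k • c = c := hk.2
      have h3 : k • x = k • c := by rw [h2]; exact e
      exact (smul_left_cancel_iff k).1 h3
  have hob : Γ = Ob R c := by
    ext b
    refine ⟨fun hb => ?_, fun ⟨r, hr, e⟩ => e ▸ hst r (hRH hr) c hc⟩
    obtain ⟨g, hg, e⟩ := (hH c hc b).1 hb
    obtain ⟨r, hr, a, ha, rfl⟩ := hdec g hg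
    exact ⟨r, hr, by rw [← e, mul_smul, hAc' a ha]⟩
  have hidx : ((stabilizer G c).subgroupOf R).index = 2 * q := by
    rw [← hpq, ← hΓ, hob, ncard_Ob]
    rfl
  have hnor : ((stabilizer G c).subgroupOf R).Normal := by
    refine ⟨fun k hk r => ?_⟩
    have h1 : (k : G) • c = c := hk
    change ((r : G) * k * (r : G)⁻¹) • c = c
    rw [mul_smul, mul_smul, hK k k.2 h1 _ (hst _ (inv_mem (hRH r.2)) c hc), smul_inv_smul]
  set K := (stabilizer G c).subgroupOf R with hKd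
  have hcard : Nat.card (R ⧸ K) = 2 * q := hidx
  have : Fact (Nat.Prime 2) := ⟨Nat.prime_two⟩
  obtain ⟨x1, hx1⟩ := exists_prime_orderOf_dvd_card' (G := R ⧸ K) 2 (hcard ▸ dvd_mul_right 2 q)
  obtain ⟨x2, hx2⟩ := exists_prime_orderOf_dvd_card' (G := R ⧸ K) q (hcard ▸ dvd_mul_left q 2)
  obtain ⟨r1, rfl⟩ := QuotientGroup.mk_surjective x1
  obtain ⟨r2, rfl⟩ := QuotientGroup.mk_surjective x2
  have hm : ∀ (r : R) (l : ℕ), l.Prime → orderOf (QuotientGroup.mk r : R ⧸ K) = l →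
      (r : G) • c ∈ Γ \ {c} := by
    intro r l hl ho
    refine ⟨hst _ (hRH r.2) c hc, fun e => ?_⟩
    have h1 : (QuotientGroup.mk r : R ⧸ K) = 1 := (QuotientGroup.eq_one_iff r).2 e
    rw [h1, orderOf_one] at ho
    exact hl.one_lt.ne ho
  obtain ⟨a, ha, e⟩ := (hO _ (hm r1 2 Nat.prime_two hx1) _).1 (hm r2 q hq hx2)
  have h11 : ((r1 : G) * r1) • c = c := by
    have h1 : (QuotientGroup.mk (r1 ^ 2) : R ⧸ K) = 1 := by
      rw [QuotientGroup.mk_pow, ← hx1, pow_orderOf_eq_one]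
    have h2 : ((r1 ^ 2 : R) : G) • c = c := (QuotientGroup.eq_one_iff _).1 h1
    rwa [pow_two] at h2
  let s : R := ⟨a * r1 * a⁻¹, hRn a (hS.le ha) r1 r1.2⟩
  have hac : a⁻¹ • c = c := hAc' _ (inv_mem ha)
  have hs1 : (QuotientGroup.mk r2 : R ⧸ K) = QuotientGroup.mk s := by
    refine QuotientGroup.eq.2 ?_
    change ((r2 : G)⁻¹ * (a * r1 * a⁻¹)) • c = c
    rw [mul_smul, mul_smul, hac, mul_smul, e, inv_smul_smul]
  have hs2 : (QuotientGroup.mk s : R ⧸ K) ^ 2 = 1 := by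
    rw [← QuotientGroup.mk_pow, pow_two]
    refine (QuotientGroup.eq_one_iff _).2 ?_
    change ((a * r1 * a⁻¹) * (a * r1 * a⁻¹) : G) • c = c
    have h3 : ((a * r1 * a⁻¹) * (a * r1 * a⁻¹) : G) = a * ((r1 * r1) * a⁻¹) := by group
    rw [h3, mul_smul, mul_smul, hac, h11, hAc' a ha]
  have hd : q ∣ 2 := by
    rw [← hx2, hs1]
    exact orderOf_dvd_of_pow_eq_one hs2
  exact hq2 ((Nat.prime_dvd_prime_iff_eq hq Nat.prime_two).1 hd)

end H33.DgF4
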