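import Cfsg.Agent.H48.DNASpec
import Cfsg.Agent.H2.PrimeCore
import Cfsg.Agent.H14.Local

/-! # S3275, chapter alpha, slot QX -/

set_option autoImplicit false

namespace H33.DnaQX

open Subgroup Cfsg H98 H48.DP H57.DPC H48.DP2

universe u

theorem jobQX : H48.DP2.JQX.{u} := by
  intro g0 u1 G _ _ M Q B W C h hB hBM hBW hC hC1 hW
  have : Fact (Nat.Prime 2) := ⟨Nat.prime_two⟩
  obtain ⟨X, ⟨hX, hX1, hWX⟩, hmax⟩ :=
    (Set.toFinite {X : Subgroup G | IsPGroup 2 X ∧ X ≠ ⊥ ∧ W ≤ No X}).exists_maximal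
      ⟨C, hC, hC1, hW⟩
  have hH : No X ≠ ⊤ := H98.DP0C.no_ne_top h.toHyp hX hX1
  have hXO : X ≤ O2 (No X) := H98.le_pCoreOf hX le_normalizer le_rfl
  have hOX : O2 (No X) ≤ X := by
    refine hmax ⟨H98.isPGroup_pCoreOf _, ?_, H98.le_normalizer_pCoreOf_of_le hWX⟩ hXO
    intro h0
    exact hX1 (le_bot_iff.1 (h0 ▸ hXO))
  have hO3 : O2 (No X) ≤ O3p (No X) :=
    map_mono (H2.pCore_le_pPrimeCore_of_coprime (by decide))
  have hBH : B ≤ No X := hBW.trans hWX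
  have hXM : X ≤ M :=
    hXO.trans (hO3.trans (g0 G M Q (No X) B h hH hB (le_inf hBH hBM)).1)
  have hQH : Q ⊓ No X ≤ X :=
    (u1 G M Q (No X) B h hH hBH ⟨B, hBM, hB, le_rfl⟩ (le_trans (by norm_num) hB.2)).trans hOX
  have hQ : IsPGroup 2 Q := h.o2 ▸ H98.isPGroup_pCoreOf M
  have hXN : X ≤ No Q := h.no ▸ hXM
  have hS : IsPGroup 2 (X ⊔ Q : Subgroup G) := H14.isPGroup_sup_of_le_normalizer hX hQ hXN
  refine ⟨X, hX, hWX, ?_, hXM, hH⟩
  by_contra hn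
  have hlt : X < X ⊔ Q := lt_of_le_of_ne le_sup_left fun e => hn (e ▸ le_sup_right)
  obtain ⟨s, ⟨hs1, hs2⟩, hs3⟩ := SetLike.exists_of_lt (H98.lt_inf_normalizer hS hlt)
  obtain ⟨a, ha, q, hq, rfl⟩ := (H98.mem_sup_left_norm hXN).1 hs1
  have hqN : q ∈ No X := by
    have := (No X).mul_mem ((No X).inv_mem (le_normalizer ha)) hs2
    simpa using this
  exact hs3 (X.mul_mem ha (hQH ⟨hq, hqN⟩))

end H33.DnaQX
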