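import Cfsg.Agent.H33.E6N1a

/-! Chapter E6 of `blueprints/PS3B.md`, job N1: the Sylow facts. -/

set_option autoImplicit false
set_option linter.unusedSectionVars false
set_option maxRecDepth 100000
set_option synthInstance.maxSize 2048

open Cfsg Subgroup H98 H42.L3 H7.PS H39.F22 H39.E6 H78.F22
open H56.L3 (Ce Nz)
open H28.PS (SL3 Zt)
open H84.PS (V2)
open scoped Matrix

namespace H33.E6

universe u

theorem card_v : Nat.card {v : V5 // v 2 = 0} = 81 := by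
  rw [Nat.card_eq_fintype_card]; decide +kernel

variable {G : Type*} [Group G] [Finite G] {E : Dat G} {a g p q y : G} {i j : Fin 3}
  {T : Subgroup G}

section

variable (e : E0 E)
include e

theorem memJ : y ∈ E.J ↔ y ∈ Ce E.z ∧ ∀ i, y ∈ Ce (E.c i) := e.hj.Jeq ▸ mem_JJ

theorem zJ' : E.z ∈ E.J := e.hj.Jeq ▸ zJ e.h3 e.hj.cQ

theorem cJ' (i : Fin 3) : E.c i ∈ E.J := e.hj.Jeq ▸ cJ e.h3 e.hj.cQ i

theorem tJ : E.t ∈ E.J := (memJ e).2 ⟨Bz e.hj.tB, fun i => mem_Ce.2 (e.hj.tc i)⟩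

theorem nrJ' (hz : g ∈ Ce E.z) (hc : ∀ i, ∃ j, g * E.c i * g⁻¹ = E.c j) : g ∈ nr E.J :=
  e.hj.Jeq ▸ nrJ (D := E.D) ((mem_Ce'.1 hz).symm ▸ z_cnJ) fun i =>
    let ⟨j, k⟩ := hc i; k ▸ c_cnJ j

theorem S0K : E.S0 ≤ E.K := (SO e.h3 e.hj).trans OO_le

theorem SY : E.S0 ≤ E.Y := le_inf (sup_le (sup_le
  (fun _ k => mem_Ce.2 (QQc e.h3 (by decide) k (e.hj.cQ 0)))
  fun _ k => mem_Ce.2 (QQc e.h3 (by decide) k (e.hj.cQ 0))) (zpowers_le.2 (mem_Ce.2 (e.hj.tc 0))))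
  (S0K e)

theorem S3J (hy : y ∈ E.S0) (y3 : y ^ 3 = 1) (n : y ∉ E.Q 1 ⊔ E.Q 2) : y ∈ E.J := by
  obtain ⟨q, hq, k, rfl⟩ := (memS e.h3 e.hj).1 hy
  rcases z3 k with rfl | rfl | rfl
  · exact (n (by rwa [zp_zero, mul_one])).elim
  · rw [zp_one] at y3 ⊢
    exact SJ e.h3 e.hj hq y3
  · rw [zp_neg (e.hj.hz ▸ (H3.dc e.h3 E.h).ord), zp_one] at y3 ⊢
    have h2 : (q * E.t⁻¹)⁻¹ = E.t * q⁻¹ * E.t⁻¹ * E.t := by group
    refine inv_mem_iff.1 (h2 ▸ SJ e.h3 e.hj (conj_mem_of_mem_normalizer (le_normalizer_sup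
      (H := E.D.B) (fun _ k => (BN k 1).2) (fun _ k => (BN k 2).2) e.hj.tB) (inv_mem hq)) ?_)
    rw [← h2, inv_pow, y3, inv_one]

theorem ab12 (hT : T ≤ E.Q 1 ⊔ E.Q 2) (ab : T ≤ cn T) : Nat.card T ≠ 81 := fun k => by
  have h := e.h3
  have h1 := H12.card_sup_mul_card_inf ((h.QQ 1 2 (by decide)).trans (centralizer_le_normalizer _))
  rw [le_antisymm (fun _ e => infQ h (by decide) e.1 e.2) (le_inf (co h 1).zle (co h 2).zle :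
    zpowers E.D.z ≤ E.D.Q 1 ⊓ E.D.Q 2), Nat.card_zpowers, h.ord, (co h 1).card, (co h 2).card] at h1
  change Nat.card ↥(E.Q 1 ⊔ E.Q 2) * _ = _ at h1
  have h2 : ∀ i, Nat.card ↥(T ⊔ E.Q i) * Nat.card ↥(T ⊓ E.Q i) = 81 * 27 := fun i => by
    rw [H12.card_sup_mul_card_inf fun x hx => (BN (QB h (sup_le (Qle 1) (Qle 2) (hT hx))) i).2, k,
      (co h i).card]
  have h3 : Nat.card ↥(T ⊓ E.Q 2) ≤ 9 := by
    obtain ⟨n, hn, k⟩ := (Nat.dvd_prime_pow (m := 3) Nat.prime_three).1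
      (((co h 2).card ▸ card_dvd_of_le inf_le_right : Nat.card ↥(T ⊓ E.Q 2) ∣ 27))
    rcases hn.eq_or_lt with rfl | hn
    · have := inf_eq_right.1 (eq_of_le_of_card_ge inf_le_right ((co h 2).card.trans k.symm).le)
      exact ((co h 2).not_le_cn (this.trans (ab.trans (centralizer_anti this)))).elim
    · exact k ▸ Nat.pow_le_pow_right three_pos (Nat.le_of_lt_succ hn)
  have h4 : T ⊔ E.Q 2 = E.Q 1 ⊔ E.Q 2 := eq_of_le_of_card_ge (sup_le hT le_sup_right) (by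
    have := h2 2
    have := Nat.mul_le_mul_left (Nat.card ↥(T ⊔ E.Q 2)) h3
    omega)
  have h5 : T ⊓ E.Q 1 ≤ zpowers E.z := fun a ha => (co h 1).center ha.2 (centralizer_anti
    (le_sup_left.trans h4.ge) (le_centralizer_iff.1 (sup_le (le_centralizer_iff.1
      (zpowers_le.2 (ab ha.1))) (le_centralizer_iff.1 (zpowers_le.2 (h.QQ 1 2 (by decide) ha.2))))
      (mem_zpowers a)))
  have h6 := card_le_of_le h5
  have h7 := card_le_of_le (sup_le hT le_sup_left : T ⊔ E.Q 1 ≤ _)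
  rw [Nat.card_zpowers, h.ord] at h6
  have := Nat.mul_le_mul h7 h6
  rw [h2] at this
  omega

theorem mvJ (hq : q ∈ E.Q i) : ∃ p ∈ E.R i, p * q * p⁻¹ ∈ E.J := by
  by_cases n : q ∈ zpowers E.z
  · exact ⟨1, one_mem _, by simpa using zpowers_le.2 (zJ' e) n⟩
  obtain ⟨p, hp, k, hk⟩ := mv e hq n (e.hj.cQ i) (e.hj.cz i)
  exact ⟨p, hp, hk ▸ mul_mem (zp_mem' (zJ' e) k) (cJ' e i)⟩

theorem ord3 (hy : y ∈ E.S0) (y3 : y ^ 3 = 1) : ∃ k ∈ E.Y, k * y * k⁻¹ ∈ E.I := by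
  by_cases n : y ∈ E.Q 1 ⊔ E.Q 2
  swap
  · exact ⟨1, one_mem _, by simpa using mem_inf.2 ⟨S3J e hy y3 n, S0K e hy⟩⟩
  obtain ⟨a, ha, b, hb, rfl⟩ := (mem_sup_left_norm
    ((e.h3.QQ 1 2 (by decide)).trans (centralizer_le_normalizer _))).1 n
  obtain ⟨p, hp, k1⟩ := mvJ e ha
  obtain ⟨q, hq, k2⟩ := mvJ e hb
  have RY : ∀ i, 0 ≠ i → E.R i ≤ E.Y := fun i k p hp =>
    mem_inf.2 ⟨mem_Ce.2 (Rc e hp k _ (e.hj.cQ 0)).symm, (RN e hp).2 0⟩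
  have h1 := mul_mem (RY 1 (by decide) hp) (RY 2 (by decide) hq)
  refine ⟨_, h1, mem_inf.2 ⟨?_, mul_mem (mul_mem h1.2 (S0K e hy)) (inv_mem h1.2)⟩⟩
  have h2 := Rc e hp (j := 2) (by decide) _ ((co e.h3 2).conj_mem (BN (RB e hq) 2) hb)
  have : p * q * (a * b) * (p * q)⁻¹ = p * a * p⁻¹ * (q * b * q⁻¹) := by
    calc _ = p * (q * a) * q⁻¹ * p⁻¹ * (p * (q * b * q⁻¹)) * p⁻¹ := by group
      _ = _ := by rw [← h2, ← Rc e hq (j := 1) (by decide) a ha]; group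
  exact this ▸ mul_mem k1 k2

theorem el_Ce (hy : y ∈ Ce E.t) (hz : y ∈ Ce E.z) (a b : ZMod 3) :
    y * el E.z E.t E.c a b (Pi.single 0 1) * y⁻¹ = zp E.t a * zp E.z b * (y * E.c 0 * y⁻¹) := by
  rw [el_eq, cc_single, ← conj_mul, ← conj_mul, zp_conj hy, zp_conj hz]

theorem cI (hy : y ∈ cn E.I) (y3 : y ^ 3 = 1) : y ∈ E.J := by
  have h := e.h3
  have C := co h 0
  have k : ∀ x ∈ E.J, x ∈ E.K → y ∈ Ce x := fun x h1 h2 => mem_Ce.2 (hy x ⟨h1, h2⟩).symm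
  have yz := k _ (zJ' e) (Ce_symm (Bz (ty e 0).B))
  have yt := k _ (tJ e) (mem_Ce.2 (e.hj.tr 0))
  have yc : ∀ j, j ≠ 0 → y ∈ Ce (E.c j) := fun j n =>
    k _ (cJ' e j) (mem_Ce.2 (e.hj.rc 0 j n _ (e.hj.cQ j)))
  have hB := BN (B_two e yz yc) 0
  have tB := BN e.hj.tB 0
  have h1 := C.conj_mem hB (e.hj.cQ 0)
  have h2 := (((H84.PS.sl_one _).2 (m3 h e.hj.tB e.hj.t3 0)).2.2
    (fun n => e.hj.tm 0 (by rw [n, one_pow])) _
    (H84.PS.fix_of_comm C tB (e.hj.cQ 0) (e.hj.tc 0).symm)).2 _ (H84.PS.fix_of_comm C tB h1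
      (mem_Ce.1 (mul_mem (mul_mem yt (mem_Ce.2 (e.hj.tc 0).symm)) (inv_mem yt))))
  obtain ⟨s, hs⟩ := C.conj_of_m hB (e.hj.cQ 0) (H84.PS.fix_of C hB
    (m3 h (B_two e yz yc) y3 0) (e.hj.cQ 0) ((C.comm_iff h1 (e.hj.cQ 0)).2 h2))
  have h3 := Zt_cj ((e.hj.zset 1 (-1) (Pi.single 0 1)).2
    ⟨fun n => one_ne_zero (e.hj.el_inj _ _ _ n).1, by decide⟩) y
  rw [el_Ce e yt yz, hs, ← mul_assoc, mul_assoc (zp _ _), ← zp_add h.ord, ← cc_single (c := E.c) 0,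
    ← el_eq] at h3
  rw [(by decide : ∀ s : ZMod 3, ∀ a : Fin 3 → ZMod 3, a = Pi.single 0 1 →
    a 0 * a 0 + a 1 * a 1 + a 2 * a 2 + 1 * 1 * (-1 + s) = 0 → s = 0) s _ rfl
    ((e.hj.zset _ _ _).1 h3).2, zp_zero, one_mul] at hs
  refine (memJ e).2 ⟨yz, fun j => ?_⟩
  by_cases n : j = 0
  exacts [n ▸ mem_Ce'.2 hs, yc j n]

end

variable (n : NJ E)
include n

theorem φ0 : E.φ 0 = 1 := left_eq_mul.1 ((n.add 0 0).symm.trans (by rw [add_zero])).symm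

theorem Jab : E.J ≤ cn E.J := fun x hx y hy => by
  obtain ⟨u, rfl⟩ := (n.memJ x).1 hx
  obtain ⟨v, rfl⟩ := (n.memJ y).1 hy
  rw [← n.add, ← n.add, add_comm]

theorem J3 (hy : y ∈ E.J) : y ^ 3 = 1 := by
  obtain ⟨v, rfl⟩ := (n.memJ y).1 hy
  rw [pow_three', ← n.add, ← n.add, (by decide +kernel : ∀ v : V5, v + v + v = 0), φ0 n]

theorem cardI : Nat.card E.I = 81 := by
  rw [← card_v]
  refine (Nat.card_congr (Equiv.ofBijective (fun v : {v : V5 // v 2 = 0} =>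
    (⟨E.φ v, (n.memI _).2 ⟨v, v.2, rfl⟩⟩ : E.I)) ⟨fun u v k => Subtype.ext (sub_eq_zero.1
      (n.inj _ (mul_eq_right.1 (show _ * E.φ v = _ from ?_)))), fun y => ?_⟩)).symm
  · rw [← n.add, sub_add_cancel]
    exact congrArg Subtype.val k
  · obtain ⟨v, hv, k⟩ := (n.memI y).1 y.2
    exact ⟨⟨v, hv⟩, Subtype.ext k⟩

variable (e : E0 E)
include e

theorem IS : E.I ≤ E.S0 := fun y hy => by
  obtain ⟨v, hv, rfl⟩ := (n.memI y).1 hy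
  have q1 : E.Q 1 ≤ E.S0 := le_sup_left.trans le_sup_left
  refine mul_mem (mul_mem (zp_mem' (mem_sup_right (mem_zpowers _)) _)
    (zp_mem' (q1 (e.h3.sd 1).zmem) _)) (mul_mem (mul_mem ?_ (zp_mem' (q1 (e.hj.cQ 1)) _))
    (zp_mem' (mem_sup_left (mem_sup_right (e.hj.cQ 2))) _))
  change zp _ (v 2) ∈ _
  rw [hv, zp_zero]
  exact one_mem _

theorem wcI (hT : T ≤ E.S0) (ab : T ≤ cn T) (t3 : ∀ a ∈ T, a ^ 3 = 1) (k : Nat.card T = 81) :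
    T = E.I := by
  obtain ⟨s, hs, ns⟩ := SetLike.not_le_iff_exists.1 fun l => ab12 e l ab k
  refine eq_of_le_of_card_ge (le_inf (fun y hy => ?_) (hT.trans (S0K e))) ((cardI n).trans k.symm).le
  by_cases l : y ∈ E.Q 1 ⊔ E.Q 2
  · exact (mul_mem_cancel_right (S3J e (hT hs) (t3 s hs) ns)).1 (S3J e (hT (mul_mem hy hs))
      (t3 _ (mul_mem hy hs)) fun l' => ns ((mul_mem_cancel_left l).1 l'))
  · exact S3J e (hT hy) (t3 y hy) l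

theorem SI : E.S0 ≤ nr E.I := fun s hs => cj_eq_self_iff.1 (wcI n e
  ((cj_mono s (IS n e)).trans (cj_eq_self (le_normalizer hs)).le)
  ((cj_mono s (inf_le_left.trans ((Jab n).trans (centralizer_anti inf_le_left)))).trans
    (cj_centralizer s _).le) (by
    rintro _ ⟨a, ha, rfl⟩
    rw [← map_pow, J3 n ha.1, map_one]) (by rw [card_cj, cardI n]))

theorem nI : nr E.I ≤ nr E.J := fun g hg => mem_normalizer_of_cj_le (by
  rintro _ ⟨a, ha, rfl⟩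
  exact cI e (conj_cn' hg (centralizer_anti inf_le_left (Jab n ha)))
    (by rw [← map_pow, J3 n ha, map_one]))

theorem nIY (hg : g ∈ E.K ⊓ nr E.I) : g ∈ E.Y ∨ g * E.r 0 ∈ E.Y := by
  have oc : orderOf (E.c 0) = 3 := orderOf_eq_prime (J3 n (cJ' e 0)) fun k =>
    e.hj.cz 0 (k ▸ one_mem _)
  obtain ⟨v, hv⟩ := (n.memJ _).1 (conj_mem_of_mem_normalizer (nI n e hg.2) (cJ' e 0))
  have h1 : E.φ (Pi.single 2 (v 2)) = zp (E.c 0) (v 2) := by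
    simp [Dat.φ, el_eq, cc, zp_zero]
  have h2 := (n.memI _).2 ⟨v - Pi.single 2 (v 2), by simp, rfl⟩
  rw [← sub_add_cancel v (Pi.single 2 (v 2)), n.add, h1] at hv
  generalize E.φ (v - Pi.single 2 (v 2)) = w at hv h2
  have h3 : E.r 0 * (g * E.c 0 * g⁻¹) * (E.r 0)⁻¹ = (g * E.c 0 * g⁻¹)⁻¹ := by
    rw [← conj_mul, ← conj_mul, ← conj_inv, mem_Ce'.1 (Ce_symm hg.1), e.hj.rcr, conj_inv]
  rw [← hv, ← conj_mul, mem_Ce'.1 (Ce_symm h2.2), zp_cj, e.hj.rcr, zp, zp, inv_pow, mul_inv_rev,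
    ← Jab n (inv_mem (pow_mem (cJ' e 0) _)) _ (inv_mem h2.1), mul_left_inj, eq_inv_iff_mul_eq_one] at h3
  rw [show w = 1 by rw [← J3 n h2.1, pow_three, h3, mul_one], one_mul] at hv
  rcases z3 (v 2) with k | k | k <;> rw [k] at hv
  · rw [zp_zero, eq_comm, conj_eq_one_iff] at hv
    exact (e.hj.cz 0 (hv ▸ one_mem _)).elim
  · exact .inl (mem_inf.2 ⟨mem_Ce'.2 (by rw [← hv, zp_one]), hg.1⟩)
  · refine .inr (mem_inf.2 ⟨mem_Ce'.2 ?_, mul_mem hg.1 (mem_Ce.2 rfl)⟩)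
    calc _ = g * (E.r 0 * E.c 0 * (E.r 0)⁻¹) * g⁻¹ := by group
      _ = _ := by rw [e.hj.rcr, ← conj_inv, ← hv, zp_neg oc, zp_one, inv_inv]

theorem rf : RF E where
  memR _ _ := memR e
  RB _ _ := RB e
  Rinj _ _ := Rinj e
  Ronto := Ronto e
  cardR := cardR e
  Rr _ j _ hp := (RN e hp).2 j
  rR := rR e
  RR _ _ := RR e
  R3 _ _ := R3 e
  nR _ _ := nR e
  πQ := πQ e
  πR i := cjR e (CeN e.hj.πz) (e.hj.πr i)
  πJ := nrJ' e e.hj.πz fun i => ⟨_, e.πc i⟩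
  cz _ := cz e
  nI := nI n e
  nIY _ := nIY n e
  cardI := cardI n
  IS := IS n e
  SY := SY e
  SI := SI n e
  wcI _ := wcI n e
  ord3 _ := ord3 e

omit n e in
theorem jobN1 : JobN1.{u} := fun _ _ _ _ e n => rf n e

end H33.E6
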