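import Cfsg.Agent.H39.E6Spec
import Cfsg.Agent.H78.F22K

/-! Chapter E6 of `blueprints/PS3B.md`, job N1: the quaternion groups `R i`. -/

set_option autoImplicit false
set_option linter.unusedSectionVars false
set_option maxRecDepth 100000
set_option synthInstance.maxSize 2048

open Cfsg Subgroup H98 H42.L3 H7.PS H39.F22 H39.E6 H78.F22
open H56.L3 (Ce Nz)
open H28.PS (SL3 Zt)
open H84.PS (V2)
open scoped Matrix

namespace H33.E6

theorem two_fix : ∀ (σ : Equiv.Perm (Fin 3)) (i : Fin 3), (∀ j, j ≠ i → σ j = j) → σ = 1 := by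
  decide +kernel

theorem card_q8 : Nat.card {A : SL3 // A ^ 4 = 1} = 8 := by
  rw [Nat.card_eq_fintype_card]; decide +kernel

variable {G : Type*} [Group G] [Finite G] {E : Dat G} {a g p q y : G} {i j : Fin 3}

/-- the generating set of `R i` -/
def MR (E : Dat G) (i : Fin 3) (p : G) : Prop :=
  p ∈ Ce (E.r i) ∧ (∀ j, j ≠ i → p ∈ cn (E.Q j)) ∧ p ^ 4 = 1

variable (e : E0 E)
include e

theorem ty (i : Fin 3) : Ty E.D i (E.r i) := jty e.h3 e.hj i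

theorem B_two (hp : p ∈ Ce E.z) (n : ∀ j, j ≠ i → p ∈ Ce (E.c j)) : p ∈ E.D.B :=
  B_of e.h3 hp (two_fix _ i fun j k => sg_eq e.h3 (CeN hp) (e.hj.cQ j) (e.hj.cz j)
    ((mem_Ce'.1 (n j k)).symm ▸ e.hj.cQ j))

/-- an element that centralizes `r i` and the two other factors lies in `NN` -/
theorem toN (hp : p ∈ Ce (E.r i)) (n : ∀ j, j ≠ i → p ∈ cn (E.Q j)) : p ∈ NN e.h3 E.r := by
  have h := e.h3
  obtain ⟨l, hl⟩ := exists_ne i
  have hB := B_two e ((co h l).cn_le (n l hl)).1 fun j k => mem_Ce.2 (n j k _ (e.hj.cQ j)).symm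
  refine ⟨by_contra fun k => ((hw_of0 h e.hv).bs p hB k).1 l (by
    rw [(co h l).m_cn (n l hl), one_pow]), fun j => ?_⟩
  by_cases k : j = i
  · exact k ▸ hp
  obtain ⟨s, hs⟩ := exists_zp h.ord ((co h j).center ((ty e j).comQ h hB)
    (mul_mem (conj_cn' (BN (ty e j).B j).2 (n j k)) (inv_mem (n j k))))
  rw [mul_inv_eq_iff_eq_mul] at hs
  have h2 : E.r j * (E.r j * p * (E.r j)⁻¹) * (E.r j)⁻¹ = p := by
    calc _ = E.r j * E.r j * p * (E.r j * E.r j)⁻¹ := by group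
      _ = p := by rw [(ty e j).sq]; simp
  rw [hs, ← conj_mul, zp_conj (Bz (ty e j).B), hs, ← mul_assoc, ← zp_add h.ord, mul_eq_right] at h2
  rw [(by decide : ∀ k : ZMod 3, k + k = 0 → k = 0) s (zp_eq_one h.ord h2), zp_zero, one_mul] at hs
  exact Ce_symm (mem_Ce'.2 hs)

theorem MR.N (hp : MR E i p) : p ∈ NN e.h3 E.r := toN e hp.1 hp.2.1

theorem four_mul (hp : p ∈ NN e.h3 E.r) (hq : q ∈ NN e.h3 E.r) (h1 : p ^ 4 = 1) (h2 : q ^ 4 = 1) :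
    (p * q) ^ 4 = 1 := by
  obtain ⟨R, hR, R4, dec⟩ := exR e.h3 (ty e)
  have k : ∀ p ∈ NN e.h3 E.r, p ^ 4 = 1 → p ∈ R := fun p hp h1 => by
    obtain ⟨u, hu, p', hp', rfl⟩ := dec p hp
    rw [(show Commute u p' from (comm_of_mem (Bz (hR hp').1.1) hu).symm).mul_pow, R4 p' hp',
      mul_one] at h1
    rwa [eq_one_of_four e.h3.ord hu h1, one_mul]
  exact R4 _ (mul_mem (k p hp h1) (k q hq h2))

theorem memR : p ∈ E.R i ↔ MR E i p := by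
  let S : Subgroup G :=
    { carrier := {p | MR E i p}
      one_mem' := ⟨one_mem _, fun _ _ => one_mem _, one_pow _⟩
      mul_mem' := fun ha hb => ⟨mul_mem ha.1 hb.1, fun j k => mul_mem (ha.2.1 j k) (hb.2.1 j k),
        four_mul e (ha.N e) (hb.N e) ha.2.2 hb.2.2⟩
      inv_mem' := fun ha => ⟨inv_mem ha.1, fun j k => inv_mem (ha.2.1 j k), by
        rw [inv_pow, ha.2.2, inv_one]⟩ }
  exact SetLike.ext_iff.1 (closure_eq S) p

theorem RN (hp : p ∈ E.R i) : p ∈ NN e.h3 E.r := ((memR e).1 hp).N e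

theorem RB (hp : p ∈ E.R i) : p ∈ E.D.B := (RN e hp).1.1

theorem Rc (hp : p ∈ E.R i) (k : j ≠ i) : p ∈ cn (E.Q j) := ((memR e).1 hp).2.1 j k

theorem R4 (hp : p ∈ E.R i) : p ^ 4 = 1 := ((memR e).1 hp).2.2

theorem Rm (hp : p ∈ E.R i) (k : j ≠ i) : E.D.m j p = 1 := (co e.h3 j).m_cn (Rc e hp k)

theorem Rinj (hp : p ∈ E.R i) (k : E.D.m i p = 1) : p = 1 :=
  eq_one_of_four e.h3.ord (Nz1 e.h3 (ty e) (RN e hp) fun j => by
    by_cases l : j = i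
    exacts [l ▸ k, Rm e hp l]) (R4 e hp)

theorem Ronto (i : Fin 3) (A : SL3) (hA : A ^ 4 = 1) : ∃ p ∈ E.R i, E.D.m i p = A := by
  have h := e.h3
  obtain ⟨p, hp, k⟩ := e.full (Function.update 1 i A) fun j => by
    by_cases l : j = i
    · rw [l, Function.update_self, hA]
    · rw [Function.update_of_ne l, Pi.one_apply, one_pow]
  obtain ⟨p', hp', k'⟩ := onN h (ty e) hp
  obtain ⟨R, hR, R4, dec⟩ := exR h (ty e)
  obtain ⟨u, hu, s, hs, rfl⟩ := dec p' hp'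
  have k2 : ∀ j, E.D.m j s = Function.update (1 : Fin 3 → SL3) i A j := fun j => by
    rw [← k, ← k', m_mul h (QB h (zQ h hu)) (hR hs).1.1, mQ h (zQ h hu), one_mul]
  exact ⟨s, (memR e).2 ⟨(hR hs).2 i, fun j l => (co h j).cn_of_four (BN (hR hs).1.1 j)
    (by rw [k2, Function.update_of_ne l, Pi.one_apply]) (R4 s hs), R4 s hs⟩,
    by rw [k2, Function.update_self]⟩

theorem cardR (i : Fin 3) : Nat.card (E.R i) = 8 := by
  rw [← card_q8]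
  refine Nat.card_congr (Equiv.ofBijective (fun p => ⟨E.D.m i p, (RN e p.2).1.2 i⟩)
    ⟨fun p q k => Subtype.ext (inv_mul_eq_one.1 (Rinj e (mul_mem (inv_mem p.2) q.2) ?_)),
      fun A => ?_⟩)
  · rw [m_mul e.h3 (inv_mem (RB e p.2)) (RB e q.2), m_inv e.h3 (RB e p.2), inv_mul_eq_one]
    exact congrArg Subtype.val k
  · obtain ⟨p, hp, k⟩ := Ronto e i A.1 A.2
    exact ⟨⟨p, hp⟩, Subtype.ext k⟩

theorem rR (i : Fin 3) : E.r i ∈ E.R i := (memR e).2 ⟨mem_Ce.2 rfl, e.hj.rc i, by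
  rw [show (4 : ℕ) = 2 * 2 from rfl, pow_mul, pow_two (E.r i), e.hj.rsq, one_pow]⟩

theorem RR (k : i ≠ j) : E.R i ≤ cn (E.R j) := fun p hp q hq => by
  have h := e.h3
  have h1 := mul_mem (mul_mem (RN e hq) (RN e hp)) (inv_mem (RN e hq))
  have := eq_one_of_four h.ord (Nz1 h (ty e) (mul_mem h1 (inv_mem (RN e hp))) fun l => by
    rw [m_mul h h1.1.1 (inv_mem (RB e hp)), m_conj h (RB e hq) (RB e hp), m_inv h (RB e hp)]
    by_cases n : l = i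
    · rw [Rm e hq (n ▸ k)]; simp
    · rw [Rm e hp n]; simp) (four_mul e h1 (inv_mem (RN e hp)) (by
      rw [conj_pow, R4 e hp]; simp) (by rw [inv_pow, R4 e hp, inv_one]))
  rwa [mul_inv_eq_one, mul_inv_eq_iff_eq_mul] at this

theorem R3 (hp : p ∈ Ce E.z ⊓ Ce (E.r i)) (n : ∀ j, j ≠ i → p ∈ Ce (E.c j))
    (o : (orderOf p).Coprime 3) : p ∈ E.R i := by
  have h := e.h3
  have hB := B_two e hp.1 n
  obtain ⟨s, hs⟩ := exists_pow_eq_self_of_coprime o.symm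
  have k : ∀ j, j ≠ i → E.D.m j p = 1 := fun j l => by
    rw [← hs, m_pow h (pow_mem hB 3), m_pow h hB, (H84.PS.sl_stab _ _ (H84.PS.lne (co h j)
      (e.hj.cQ j) (e.hj.cz j)) (H84.PS.fix_of_comm (co h j) (BN hB j) (e.hj.cQ j)
        (mem_Ce.1 (n j l)).symm)).1, one_pow]
  have k1 : ∀ j, j ≠ i → p ∈ cn (E.Q j) := fun j l =>
    hs ▸ pow_mem ((co h j).cube_cn (BN hB j) (k j l)) s
  have k2 := toN e hp.2 k1
  have k3 := cube_of_mem h.ord (Nz1 h (ty e) (pow_mem k2 4) fun j => by rw [m_pow h hB, k2.1.2])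
  refine (memR e).2 ⟨hp.2, k1, ?_⟩
  rw [← hs, ← pow_mul, ← pow_mul, show 3 * (s * 4) = 4 * 3 * s by ring, pow_mul, pow_mul, k3, one_pow]

theorem sg_r (hg : g ∈ Nz E.z) (k : g * E.r i * g⁻¹ = E.r j) : sg E.D g i = j := by
  obtain ⟨l, rfl⟩ := (sg E.D g).surjective j
  refine congrArg _ (by_contra fun n => neg_ne ((ty e (sg E.D g l)).neg.symm.trans
    ((co e.h3 _).m_cn ?_)))
  exact k ▸ sg_cn e.h3 hg (e.hj.rc i l (Ne.symm n))

theorem cjR (hg : g ∈ Nz E.z) (k : g * E.r i * g⁻¹ = E.r j) : cj g (E.R i) = E.R j := by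
  refine eq_of_le_of_card_ge ?_ (by rw [card_cj, cardR e, cardR e])
  rintro _ ⟨p, hp, rfl⟩
  refine (memR e).2 ⟨k ▸ conj_mem_Ce ((RN e hp).2 i) g, fun l n => ?_, by
    rw [← map_pow, R4 e hp, map_one]⟩
  obtain ⟨l, rfl⟩ := (sg E.D g).surjective l
  exact sg_cn e.h3 hg (Rc e hp fun n' => n (n' ▸ sg_r e hg k))

theorem nR (hg : g ∈ Nz E.z ⊓ Ce (E.r i)) : g ∈ nr (E.R i) :=
  cj_eq_self_iff.1 (cjR e hg.1 (mem_Ce'.1 hg.2))

theorem πQ (i : Fin 3) : cj E.π (E.Q i) = E.Q (i + 1) :=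
  sg_r e (CeN e.hj.πz) (e.hj.πr i) ▸ sg_spec e.h3 (CeN e.hj.πz) i

theorem mv (ha : a ∈ E.Q i) (n : a ∉ zpowers E.z) (hq : q ∈ E.Q i) (n' : q ∉ zpowers E.z) :
    ∃ p ∈ E.R i, ∃ k, p * a * p⁻¹ = zp E.z k * q := by
  have C := co e.h3 i
  obtain ⟨A, hA, k⟩ := H84.PS.sl_tr _ _ (H84.PS.lne C ha n) (H84.PS.lne C hq n')
  obtain ⟨p, hp, rfl⟩ := Ronto e i A hA
  exact ⟨p, hp, C.eq_zp (C.conj_mem (BN (RB e hp) i) ha) hq (by rw [C.act _ (BN (RB e hp) i) _ ha, k])⟩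

theorem cz (hg : g ∈ Nz E.z ⊓ E.K) : ∃ p ∈ E.R 0, p⁻¹ * g ∈ E.Y := by
  have h := e.h3
  have h1 : g * E.c 0 * g⁻¹ ∈ E.Q 0 := by
    have := sg_spec h hg.1 0
    rw [sg_r e hg.1 (mem_Ce'.1 hg.2)] at this
    exact this.le (conj_mem_cj (e.hj.cQ 0))
  obtain ⟨p, hp, k, hk⟩ := mv e (e.hj.cQ 0) (e.hj.cz 0) h1 fun n => e.hj.cz 0 (by
    rwa [← cj_eq_self hg.1, conj_mem_cj_iff] at n)
  have iv : ∀ u ∈ E.K, E.r 0 * (u * E.c 0 * u⁻¹) * (E.r 0)⁻¹ = (u * E.c 0 * u⁻¹)⁻¹ := fun u hu => by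
    rw [← conj_mul, ← conj_mul, ← conj_inv, mem_Ce'.1 (Ce_symm hu), e.hj.rcr, conj_inv]
  have h2 := iv p ((RN e hp).2 0)
  rw [hk, ← conj_mul, iv g hg.2, zp_conj (Bz (ty e 0).B), mul_inv_rev (zp _ _), ← zp_neg h.ord,
    zp_comm ((co h 0).le_Ce (inv_mem h1)), mul_left_inj] at h2
  rw [(by decide : ∀ k : ZMod 3, k = -k → k = 0) k (zp_inj h.ord h2), zp_zero, one_mul] at hk
  refine ⟨p, hp, mem_inf.2 ⟨mem_Ce'.2 ?_, mul_mem (inv_mem ((RN e hp).2 0)) hg.2⟩⟩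
  calc _ = p⁻¹ * (g * E.c 0 * g⁻¹) * p := by group
    _ = _ := by rw [← hk]; group

end H33.E6
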