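import Cfsg.Agent.H33.E6Ya

/-! Chapter E6 of `blueprints/PS3B.md`, job Y: the group `Y = C(c 0, r 0)`. -/

set_option autoImplicit false
set_option linter.unusedSectionVars false
set_option maxRecDepth 100000
set_option synthInstance.maxSize 2048

open Cfsg Subgroup H98 H42.L3 H7.PS H39.F22 H39.E6 H78.F22
open H56.L3 (Ce Nz)
open H28.PS (SL3 Zt HD HA WCQ Concl Side AA)
open H84.PS (V2)
open scoped Matrix

namespace H33.E6

universe u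

section

variable {G : Type*} [Group G] [Finite G] {E : Dat G} {a g p q y : G} {i j : Fin 3}

theorem XY : E.X ≤ E.Y := (closure_le _).2 fun _ k => k.1

theorem nX : E.Y ≤ nr E.X := fun c hc => mem_normalizer_of_cj_le (map_le_iff_le_comap.2
  ((closure_le _).2 fun x hx => subset_closure ⟨mul_mem (mul_mem hc hx.1) (inv_mem hc), by
    show (c * x * c⁻¹) ^ 3 = 1
    rw [conj_pow, hx.2]; simp⟩))

variable (e : E0 E)
include e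

theorem sylY : IsSyl 3 E.S0 E.Y := (syl e.h3 e.hv e.hj).of_le (SY e) inf_le_right

theorem n7 : ¬ 3 ^ 7 ∣ Nat.card E.Y := fun k => by
  have := Nat.pow_le_pow_right (n := 3) (by norm_num)
    ((Nat.prime_three.pow_dvd_iff_le_factorization Nat.card_pos.ne').1 k)
  rw [← (sylY e).card_eq, sylc e.h3 e.hj] at this
  norm_num at this

theorem S0X : E.S0 ≤ E.X := sup_le (sup_le
  (fun a ha => subset_closure ⟨QY e (by decide) ha, (e.h3.sd 1).cube a ha⟩)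
  fun a ha => subset_closure ⟨QY e (by decide) ha, (e.h3.sd 2).cube a ha⟩)
  (zpowers_le.2 (subset_closure ⟨SY e (mem_sup_right (mem_zpowers _)), e.hj.t3⟩))

theorem nS0 : nr E.S0 ≤ Nz E.z := fun _ hg => mem_Nz.2 (sylz e.h3 e.hj
  (conj_mem_of_mem_normalizer hg (mem_sup_left (mem_sup_left (e.h3.sd 1).zmem)))
  (conj_cn' hg fun _ k => mem_Ce.1 (sup_le (sup_le (co e.h3 1).le_Ce (co e.h3 2).le_Ce)
    (zpowers_le.2 (Bz e.hj.tB)) k)))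

theorem frat (hg : g ∈ E.Y) : ∃ k ∈ E.X, k⁻¹ * g ∈ Nz E.z := by
  obtain ⟨a, ha, k, hk, h⟩ := ((sylY e).of_le (S0X e) XY).frattini_mem (inv_mem (nX hg))
  exact ⟨k⁻¹, inv_mem hk, inv_mem_iff.1 (by
    rw [mul_inv_rev, h, inv_inv, mul_inv_cancel_right]; exact nS0 e ha)⟩

theorem eX (c : Concl E.Y) : E.X.subgroupOf E.Y = generalizedFittingSubgroup E.Y := by
  obtain ⟨s1, -, i1⟩ := of_concl c (n7 e)
  have z3 := z_cube e.h3.ord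
  have hN : (E.X.subgroupOf E.Y).Normal := (normal_subgroupOf_iff_le_normalizer XY).2 nX
  have k : ∀ x : E.Y, (x : G) ^ 3 = 1 → x ∈ generalizedFittingSubgroup E.Y := fun x hx =>
    le_of_index i1 (isPGroup_zpowers (k := 1) (Subtype.ext hx)) (mem_zpowers x)
  refine le_antisymm (fun x hx => ?_) (subgroupOf_eq_top.1 (((hN.subgroupOf _).eq_bot_or_eq_top
    ).resolve_left fun k' => Zt_ne e.h3 ⟨1, .inl (by simp)⟩ (congrArg Subtype.val (disjoint_def.1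
      (subgroupOf_eq_bot.1 k') (x := ⟨_, zY e⟩) (subset_closure ⟨zY e, z3⟩) (k _ z3)))))
  exact (mem_map_iff_mem E.Y.subtype_injective).1 ((closure_le
    ((generalizedFittingSubgroup E.Y).map E.Y.subtype)).2
      (fun y hy => mem_map_of_mem _ (k ⟨y, hy.1⟩ hy.2)) hx)

theorem swY (s : Swap E.D) : ∃ g ∈ E.Y, g ∈ Ce E.z ∧ cj g (E.Q 2) = E.Q 1 := by
  have h := e.h3
  obtain ⟨g, hg, k0, k1⟩ := s
  have t0 := (ty e 0).conj h hg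
  rw [sg_of h (CeN hg) k0] at t0
  obtain ⟨u, hu, k2, -⟩ := t0.rel h (ty e 0)
  have uz := mul_mem ((co h 0).le_Ce hu) hg
  obtain ⟨p, hp, k3⟩ := cz e ⟨CeN uz, mem_Ce'.2 (Eq.trans (by group) k2)⟩
  refine ⟨_, k3, mul_mem (inv_mem (Bz (RB e hp))) uz, ?_⟩
  rw [← cj_cj, ← cj_cj, ((sg12 e (CeN hg) (sg_of h (CeN hg) k0)).resolve_left fun k =>
    (co h 2).not_le_cn (by simpa only [k.2.symm.trans k1] using h.QQ 1 2 (by decide))).1,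
    cj_eq_self (BN (QiB h 0 hu) 1).2, cj_eq_self (BN (inv_mem (RB e hp)) 1).2]

variable (n : NJ E)
include n

theorem nwY {z : E.Y} (hz : (z : G) = E.z) : NW z (Ce z) := by
  have ι := E.Y.subtype_injective
  have tY := SY e (mem_sup_right (mem_zpowers E.t))
  have zt : Zt E.z E.t := ⟨_, .inl e.hj.hz⟩
  refine ⟨⟨_, tY⟩, (Ce_map ι).1 (hz.symm ▸ Bz e.hj.tB : E.t ∈ Ce (z : G)), ?_,
    fun k => jnQ e.h3 e.hj (zQ e.h3 (hz ▸ (zp_map ι).2 k : E.t ∈ zpowers E.z))⟩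
  obtain ⟨g, hg, k | k | k⟩ := n.typ _ ⟨tJ e, tY.2⟩ (Zt_ne e.h3 zt)
  · exact ⟨⟨g, hg.1⟩⁻¹, .inl (Subtype.ext (by simp [hz, ← k, mul_assoc]))⟩
  · exact (e.hj.cz 1 (wc12 e (mem_sup_left (e.hj.cQ 1)) (k ▸ Zt_cj zt g))).elim
  · exact (e.hj.cz 2 (infQ e.h3 (i := 1) (by decide) ((mul_mem_cancel_left (e.hj.cQ 1)).1
      ((co e.h3 1).zle (wc12 e (mul_mem (mem_sup_left (e.hj.cQ 1)) (mem_sup_right (e.hj.cQ 2)))
        (k ▸ Zt_cj zt g : Zt E.z E.b)))) (e.hj.cQ 2))).elim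

theorem inv_r0 (ha : a ∈ E.J) (h3 : E.r 0 * a * (E.r 0)⁻¹ = a⁻¹) : ∃ k, a = zp (E.c 0) k := by
  obtain ⟨v, rfl⟩ := (n.memJ _).1 ha
  have h1 : E.φ (Pi.single 2 (v 2)) = zp (E.c 0) (v 2) := by
    simp [Dat.φ, el_eq, cc, zp_zero]
  have h2 := (n.memI _).2 ⟨v - Pi.single 2 (v 2), by simp, rfl⟩
  rw [← sub_add_cancel v (Pi.single 2 (v 2)), n.add, h1] at h3 ⊢
  generalize E.φ (v - Pi.single 2 (v 2)) = w at h2 h3
  rw [← conj_mul, mem_Ce'.1 (Ce_symm h2.2), zp_cj, e.hj.rcr, zp, zp, inv_pow, mul_inv_rev,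
    ← Jab n (inv_mem (pow_mem (cJ' e 0) _)) _ (inv_mem h2.1), mul_left_inj,
    eq_inv_iff_mul_eq_one] at h3
  exact ⟨_, by rw [show w = 1 by rw [← J3 n h2.1, pow_three, h3, mul_one], one_mul]⟩

theorem ccN (hg : g ∈ Nz E.z) (hc : g ∈ Ce (E.c 0)) : ∃ k : ℕ, g * E.c 0 ^ k ∈ E.K := by
  have h := e.h3
  have s0 := sg_eq h hg (e.hj.cQ 0) (e.hj.cz 0) ((mem_Ce'.1 hc).symm ▸ e.hj.cQ 0)
  have k1 : ∀ j, j ≠ 0 → g * E.r 0 * g⁻¹ * E.r 0 ∈ cn (E.Q j) := fun j k => by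
    refine mul_mem ?_ (e.hj.rc 0 j k)
    obtain ⟨j, rfl⟩ := (sg E.D g).surjective j
    exact sg_cn h hg (e.hj.rc 0 j fun l => k (l ▸ s0))
  have ri : (E.r 0)⁻¹ = E.r 0 := inv_eq_of_mul_eq_one_right (e.hj.rsq 0)
  obtain ⟨k, hk⟩ := inv_r0 e n (a := g * E.r 0 * g⁻¹ * E.r 0) ((memJ e).2
    ⟨((co h 1).cn_le (k1 1 (by decide))).1, fun j => by
      by_cases l : j = 0
      · subst l
        refine mem_Ce'.2 ?_
        calc _ = g * (E.r 0 * (g⁻¹ * (E.r 0 * E.c 0 * (E.r 0)⁻¹) * g⁻¹⁻¹) * (E.r 0)⁻¹) * g⁻¹ := by group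
          _ = _ := by
            rw [e.hj.rcr, ← conj_inv, mem_Ce'.1 (inv_mem hc), ← conj_inv, e.hj.rcr, inv_inv,
              mem_Ce'.1 hc]
      · exact mem_Ce.2 (k1 j l _ (e.hj.cQ j)).symm⟩) (by
    simp only [mul_inv_rev, inv_inv, ri, mul_assoc, e.hj.rsq, mul_one])
  refine ⟨k.val, mem_Ce'.2 ?_⟩
  have c3 : zp (E.c 0) k ^ 3 = 1 := J3 n (zp_mem' (cJ' e 0) k)
  have h1 : E.r 0 * (zp (E.c 0) k)⁻¹ * (E.r 0)⁻¹ = zp (E.c 0) k := by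
    rw [← conj_inv, zp_cj, e.hj.rcr, zp, zp, inv_pow, inv_inv]
  calc _ = g * zp (E.c 0) k * g⁻¹ * (g * (E.r 0 * (zp (E.c 0) k)⁻¹ * (E.r 0)⁻¹) * g⁻¹) *
        (g * E.r 0 * g⁻¹ * E.r 0) * (E.r 0)⁻¹ := by simp only [zp]; group
    _ = _ := by rw [h1, zp_conj hc, hk, ← pow_three', c3, one_mul, ri]

end

variable {G : Type u} [Group G] [Finite G] {E : Dat G} (e : E0 E) (n : NJ E)
include e n

theorem rigY (rig : Rig.{u}) (Γ : Type u) [Group Γ] [Finite Γ] (ψ : E.Y →* Γ) (z : E.Y)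
    (hz : (z : G) = E.z) (hψ : Function.Injective ψ) (hN : Nz (ψ z) ≤ ψ.range)
    (hW : ∀ (g : Γ) (y : E.Y), (y : G) ∈ E.Q 1 ⊔ E.Q 2 → g * ψ z * g⁻¹ = ψ y →
      (y : G) ∈ zpowers E.z) : ψ.range = ⊤ :=
  rig E.Y Γ (dY E z) ψ (haY e hz) (wcqY e hz) (nwY e n hz) (n7 e) hψ hN fun g y hy k =>
    (zp_map E.Y.subtype_injective).1 (hz.symm ▸ hW g y ((eQ e).le hy) k : _ ∈ zpowers (z : G))

theorem ccY (rig : Rig.{u}) (g : G) (hg : g ∈ Ce (E.c 0)) : ∃ k : ℕ, g * E.c 0 ^ k ∈ E.K := by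
  have oc : orderOf (E.c 0) = 3 := orderOf_eq_prime (J3 n (cJ' e 0)) fun k =>
    e.hj.cz 0 (k ▸ one_mem _)
  have cC : zpowers (E.c 0) ≤ Ce (E.c 0) := zpowers_le.2 (mem_Ce.2 rfl)
  let N := (zpowers (E.c 0)).subgroupOf (Ce (E.c 0))
  have hN : N.Normal := (normal_subgroupOf_iff_le_normalizer cC).2 CeN'
  let ψ : E.Y →* Ce (E.c 0) ⧸ N := (QuotientGroup.mk' N).comp (inclusion inf_le_left)
  have eq : ∀ (a : Ce (E.c 0)) (y : E.Y), (a : Ce (E.c 0) ⧸ N) = ψ y →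
      ∃ k, (a : G) = y * zp (E.c 0) k := fun a y k =>
    (exists_zp oc ((QuotientGroup.eq (s := N) (a := ⟨y, y.2.1⟩)).1 k.symm)).imp fun _ =>
      inv_mul_eq_iff_eq_mul.1
  have rg : ∀ (a : Ce (E.c 0)) (k : ℕ), (a : G) * E.c 0 ^ k ∈ E.K →
      (a : Ce (E.c 0) ⧸ N) ∈ ψ.range := fun a k hk =>
    ⟨⟨_, mul_mem a.2 (cC (pow_mem (mem_zpowers _) k)), hk⟩, QuotientGroup.eq.2 (by
      show ((a : G) * E.c 0 ^ k)⁻¹ * a ∈ zpowers (E.c 0)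
      simp)⟩
  let z0 : Ce (E.c 0) := ⟨E.z, (zY e).1⟩
  have := rigY e n rig _ ψ ⟨_, zY e⟩ rfl ((injective_iff_map_eq_one _).2 fun y k =>
    Subtype.ext (c0_one e ((QuotientGroup.eq_one_iff (N := N) ⟨y, y.2.1⟩).1 k) y.2.2)) (fun γ k => by
      obtain ⟨a, rfl⟩ := QuotientGroup.mk_surjective γ
      obtain ⟨y, hy, k1⟩ := (MonoidHom.map_zpowers ψ _).ge (mem_Nz.1 k)
      obtain ⟨s, hs⟩ := exists_zp e.h3.ord ((zp_map E.Y.subtype_injective).2 hy)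
      obtain ⟨l, hl⟩ := eq (a * z0 * a⁻¹) y k1.symm
      rw [show (y : G) = _ from hs] at hl
      change (a : G) * E.z * (a : G)⁻¹ = _ at hl
      rw [zc0 e (s := s) (k := l) (hl ▸ Zt_conj (D := E.D) a), zp_zero, mul_one] at hl
      obtain ⟨k, hk⟩ := ccN e n (mem_Nz.2 (hl ▸ zp_mem s)) a.2
      exact rg a k hk) (fun γ y hy k => by
      obtain ⟨a, rfl⟩ := QuotientGroup.mk_surjective γ
      obtain ⟨l, hl⟩ := eq (a * z0 * a⁻¹) y k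
      change (a : G) * E.z * (a : G)⁻¹ = _ at hl
      have h1 := Zt_cj (Zt_cj (Zt_conj (D := E.D) a) (E.r 0)) (a : G)⁻¹
      have h2 : E.r 0 * (a * E.z * (a : G)⁻¹) * (E.r 0)⁻¹ = a * E.z * (a : G)⁻¹ * zp (E.c 0) l := by
        rw [hl, ← conj_mul, mem_Ce'.1 (Ce_symm y.2.2), zp_cj, e.hj.rcr, mul_assoc, ← zp_add oc,
          (by decide : ∀ l : ZMod 3, l + l = -l), zp_neg oc, zp, zp, inv_pow]
      rw [h2, ← conj_mul, zp_conj (inv_mem a.2), show (a : G)⁻¹ * (a * E.z * (a : G)⁻¹) * (a : G)⁻¹⁻¹ =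
        zp E.z 1 by rw [zp_one]; group] at h1
      rw [zc0 e h1, zp_zero, mul_one] at hl
      exact wc12 e hy (hl ▸ Zt_conj (D := E.D) a))
  obtain ⟨y, hy⟩ := this.ge (mem_top ((⟨g, hg⟩ : Ce (E.c 0)) : Ce (E.c 0) ⧸ N))
  obtain ⟨l, hl⟩ := eq _ y hy.symm
  refine ⟨(-l).val, ?_⟩
  change g = _ at hl
  rw [hl, mul_assoc, ← zp, ← zp_add oc, add_neg_cancel, zp_zero, mul_one]
  exact y.2.2

omit e n in
theorem jobY : JobY.{u} := by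
  intro hub rig hr G _ _ E e n _
  have ι := E.Y.subtype_injective
  have ha := haY e (z := ⟨_, zY e⟩) rfl
  have c := hub _ _ ha (wcqY e rfl) (nwY e n rfl)
  have eX := eX e c
  obtain ⟨-, c1, i1⟩ := of_concl c (n7 e)
  have i2 := (of_concl0 c).2.2
  obtain ⟨⟨F, _, _, hF, ⟨φ⟩⟩, c2⟩ := c
  rw [← eX] at φ c1 i1 i2 c2
  obtain ⟨h1, h2⟩ := hr _ _ ha (wcqY e rfl) (nwY e n rfl) (n7 e) ⟨_, RY e (by decide) (rR e 2)⟩
    (rR e 2) (e.hj.rm 2) ⟨_, QY e (by decide) (e.hj.cQ 2)⟩ (e.hj.cQ 2)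
    (fun k => e.hj.cz 2 ((zp_map ι).2 k)) ⟨_, QY e (by decide) (e.hj.cQ 1)⟩ (e.hj.cQ 1)
    fun k => e.hj.cz 1 ((zp_map ι).2 k)
  refine ⟨⟨F, _, _, hF, ⟨(subgroupOfEquivOfLe XY).symm.trans φ⟩⟩, eq_bot_iff.2 fun g hg =>
    congrArg Subtype.val (c2.le (x := ⟨g, hg.1⟩) fun x hx => Subtype.ext (hg.2 x hx)),
    fun g hg g' hg' k k' => ?_, fun _ => frat e, fun s k => ?_, ccY e n rig, ?_, rigY e n rig⟩
  · rcases (Nat.dvd_prime Nat.prime_two).1 ((Nat.Coprime.dvd_mul_right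
      ((Nat.Prime.coprime_iff_not_dvd Nat.prime_three).2 i1).symm).1 i2) with l | l
    · exact (k ((index_eq_one.1 l).ge (mem_top ⟨g, hg⟩))).elim
    · exact (mul_mem_iff_of_index_two l (a := ⟨g, hg⟩) (b := ⟨g', hg'⟩)).2 (iff_of_false k k')
  · obtain ⟨g, hg, k1, k2⟩ := swY e s
    have := h2 ⟨⟨g, hg⟩, (Ce_map ι).1 k1, cj_sub k2⟩
    rw [← card_top, ← subgroupOf_eq_top.2 k, c1] at this
    omega
  · have := hr_push ι h1
    rwa [show map E.Y.subtype (Ce _) = E.Y ⊓ Ce (E.r 2) from Subgroup.ext fun x =>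
      ⟨fun ⟨y, hy, k⟩ => k ▸ ⟨y.2, (Ce_map ι).2 hy⟩, fun k => ⟨⟨x, k.1⟩, (Ce_map ι).1 k.2, rfl⟩⟩,
      show map E.Y.subtype (dY E _).R1 = E.R 2 from map_subgroupOf_eq_of_le (RY e (by decide)),
      show map E.Y.subtype (cn _) = E.I from Subgroup.ext fun x => ⟨by
        rintro ⟨y, hy, rfl⟩
        obtain ⟨k0, k2, k1⟩ := H84.PS.mem_cnA.1 hy
        refine ⟨(memJ e).2 ⟨(Ce_map ι).2 k0, fun j => ?_⟩, y.2.2⟩
        rcases f3 j with rfl | rfl | rfl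
        exacts [y.2.1, (Ce_map ι).2 k1, (Ce_map ι).2 k2], fun k =>
        have ⟨k0, k1⟩ := (memJ e).1 k.1
        ⟨⟨x, k1 0, k.2⟩, H84.PS.mem_cnA.2 ⟨(Ce_map ι).1 k0, (Ce_map ι).1 (k1 2),
          (Ce_map ι).1 (k1 1)⟩, rfl⟩⟩] at this

end H33.E6
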