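import Cfsg.Agent.H33.E6N1
import Cfsg.Agent.H33.E6Rig0

/-! Chapter E6 of `blueprints/PS3B.md`, job Y: the configuration of row S2994 inside `Y`. -/

set_option autoImplicit false
set_option linter.unusedSectionVars false
set_option maxRecDepth 100000
set_option synthInstance.maxSize 2048

open Cfsg Subgroup H98 H42.L3 H7.PS H39.F22 H39.E6 H78.F22
open H56.L3 (Ce Nz)
open H28.PS (SL3 Zt HD HA WCQ Concl Side AA)
open H84.PS (V2)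
open scoped Matrix

namespace H33.E6

section Push

variable {Y Γ : Type*} [Group Y] [Group Γ] {ψ : Y →* Γ} {C R J : Subgroup Y} {z r c : Y}

theorem Zt_map (h : Zt z c) : Zt (ψ z) (ψ c) := let ⟨g, e⟩ := h; ⟨ψ g, by
  simpa only [map_mul, map_inv] using e.imp (congrArg ψ) (congrArg ψ)⟩

theorem of_le_map {Θ : Subgroup Γ} (h : Θ ≤ C.map ψ) : ∃ Θ0 : Subgroup Y, Θ0.map ψ = Θ :=
  ⟨_, map_comap_eq_self (h.trans (map_le_range ψ C))⟩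

theorem hr_push (hψ : Function.Injective ψ) (h : HR C z r c R J) :
    HR (C.map ψ) (ψ z) (ψ r) (ψ c) (R.map ψ) (J.map ψ) := by
  have k : ∀ Θ, Inv (C.map ψ) (ψ z) (ψ c) Θ → ∃ Θ0 : Subgroup Y, Θ0.map ψ = Θ ∧ Inv C z c Θ0 :=
    fun Θ i => by
      obtain ⟨Θ0, rfl⟩ := of_le_map i.1
      exact ⟨Θ0, rfl, (map_le_map_iff_of_injective hψ).1 i.1, card_map_of_injective hψ ▸ i.2.1,
        (nr_map hψ).1 i.2.2.1, (nr_map hψ).1 i.2.2.2⟩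
  refine ⟨fun Θ Θ' i i' => ?_, fun Θ N i h1 h2 => ?_, fun Θ E i h1 h2 h3 => ?_,
    fun M h1 h2 => map_le_iff_le_comap.2 (h.gen _
      (fun g hg => h1 ⟨mem_map_of_mem ψ hg.1, (Nz_map hψ).2 hg.2⟩)
      fun g hg => h2 ⟨mem_map_of_mem ψ hg.1, (nr_map hψ).2 hg.2⟩)⟩
  · obtain ⟨Θ, rfl, i0⟩ := k Θ i
    obtain ⟨Θ', rfl, i1⟩ := k Θ' i'
    rintro _ ⟨a, ha, rfl⟩ _ ⟨b, hb, rfl⟩
    simpa only [map_mul, map_inv] using (zp_map hψ).2 (h.com Θ Θ' i0 i1 a ha b hb)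
  · obtain ⟨Θ, rfl, i0⟩ := k Θ i
    exact map_le_iff_le_comap.2 (h.le Θ _ i0 (map_le_iff_le_comap.1 h1) fun g hg =>
      le_normalizer_comap ψ (h2 ⟨mem_map_of_mem ψ hg.1, (nr_map hψ).2 hg.2⟩))
  · obtain ⟨Θ, rfl, i0⟩ := k Θ i
    obtain ⟨E, rfl⟩ := of_le_map (h1.trans inf_le_left)
    rintro _ ⟨⟨a, ha, rfl⟩, hc⟩
    exact (zp_map hψ).2 (h.ext Θ E i0 (le_inf
      ((map_le_map_iff_of_injective hψ).1 (h1.trans inf_le_left))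
      ((map_le_map_iff_of_injective hψ).1 (h1.trans inf_le_right))) (card_map_of_injective hψ ▸ h2)
      (fun x hx k => h3 _ (mem_map_of_mem ψ hx) (Zt_map k)) ⟨ha, (cn_map hψ).1 hc⟩)

theorem cj_sub {H A B : Subgroup Γ} {g : H} (e : cj (g : Γ) A = B) :
    cj g (A.subgroupOf H) = B.subgroupOf H := by
  ext x
  rw [mem_cj, mem_subgroupOf, mem_subgroupOf, ← e, mem_cj]
  rfl

end Push

variable {G : Type*} [Group G] [Finite G] {E : Dat G} {a g p q y : G} {i j : Fin 3}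

/-- the data in `Y` -/
def dY (E : Dat G) (z : E.Y) : HD E.Y :=
  ⟨z, (E.Q 2).subgroupOf E.Y, (E.Q 1).subgroupOf E.Y, (E.R 2).subgroupOf E.Y,
    (E.R 1).subgroupOf E.Y, fun a => E.D.l 2 a, fun a => E.D.l 1 a, fun a => E.D.m 2 a,
    fun a => E.D.m 1 a⟩

variable (e : E0 E)
include e

theorem QY (k : i ≠ 0) : E.Q i ≤ E.Y := fun a ha => mem_inf.2
  ⟨mem_Ce.2 (QQc e.h3 k ha (e.hj.cQ 0)), mem_Ce.2 (e.hj.rc 0 i k a ha)⟩

theorem RY (k : i ≠ 0) : E.R i ≤ E.Y := fun _ hp =>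
  mem_inf.2 ⟨mem_Ce.2 (Rc e hp k.symm _ (e.hj.cQ 0)).symm, (RN e hp).2 0⟩

theorem zY : E.z ∈ E.Y := QY e (i := 1) (by decide) (e.h3.sd 1).zmem

theorem sideG (k : j ≠ i) : Side E.z (E.Q i) (E.Q j) (E.R i) (E.D.l i) (E.D.m i) :=
  have s := e.h3.sd i
  ⟨s.zmem, s.cube, s.l_mul, s.l_ker, s.l_surj, s.comm, s.act, s.m_mul,
    fun _ hp => ⟨BN (RB e hp) i, Rc e hp k⟩, fun _ => Rinj e, Ronto e i, fun _ => R4 e⟩

theorem cn12 : E.Q 1 ⊔ E.Q 2 ≤ cn (E.Q 0) :=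
  sup_le (e.h3.QQ 1 0 (by decide)) (e.h3.QQ 2 0 (by decide))

theorem kerY (hg : g ∈ E.Y) (hz : g ∈ Ce E.z) (n : ∀ j, j ≠ 0 → g ∈ nr (E.Q j) ∧ E.D.m j g = 1) :
    g ∈ E.Q 1 ⊔ E.Q 2 := by
  have h := e.h3
  have hB := B_of h hz (two_fix _ 0 fun j k => sg_of h (CeN hz) (cj_eq_self (n j k).1))
  have hP : E.D.P g := by_contra fun k => ((hw_of0 h e.hv).bs g hB k).1 1 (by
    rw [(n 1 (by decide)).2, one_pow])
  refine (Q12 h (ty e)).2 ⟨h.ker g hB fun j => ?_, hg.2⟩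
  by_cases k : j = 0
  · exact k ▸ (sl_q8 _ (hP.2 0)).2 _ (H84.PS.lne (co h 0) (e.hj.cQ 0) (e.hj.cz 0))
      (H84.PS.fix_of_comm (co h 0) (BN hB 0) (e.hj.cQ 0) (mem_Ce.1 hg.1).symm)
  · exact (n j k).2

theorem wc12 (hy : y ∈ E.Q 1 ⊔ E.Q 2) (k : Zt E.z y) : y ∈ zpowers E.z :=
  ((hw_of0 e.h3 e.hv).wt y (sup_le (Qle 1) (Qle 2) hy) k).resolve_right fun n => n 0 (cn12 e hy)

theorem sg12 (hg : g ∈ Nz E.z) (k : sg E.D g 0 = 0) :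
    cj g (E.Q 2) = E.Q 2 ∧ cj g (E.Q 1) = E.Q 1 ∨ cj g (E.Q 2) = E.Q 1 ∧ cj g (E.Q 1) = E.Q 2 := by
  rw [sg_spec e.h3 hg, sg_spec e.h3 hg]
  rcases (by decide : ∀ σ : Equiv.Perm (Fin 3), σ 0 = 0 →
    σ 1 = 1 ∧ σ 2 = 2 ∨ σ 1 = 2 ∧ σ 2 = 1) _ k with ⟨k, k'⟩ | ⟨k, k'⟩ <;> rw [k, k']
  exacts [.inl ⟨rfl, rfl⟩, .inr ⟨rfl, rfl⟩]

variable {z : E.Y}

theorem eQ : (dY E z).Q = (E.Q 1 ⊔ E.Q 2).subgroupOf E.Y :=
  (sup_comm _ _).trans (subgroupOf_sup (QY e (by decide)) (QY e (by decide))).symm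

variable (hz : (z : G) = E.z)
include hz

theorem sideY (hi : i ≠ 0) (hj : j ≠ 0) (k : j ≠ i) : Side z ((E.Q i).subgroupOf E.Y)
    ((E.Q j).subgroupOf E.Y) ((E.R i).subgroupOf E.Y) (fun a => E.D.l i a) fun a => E.D.m i a :=
  side_pull E.Y.subtype_injective (l := E.D.l i) (m := E.D.m i) (by
    rw [map_subgroupOf_eq_of_le (QY e hi), map_subgroupOf_eq_of_le (QY e hj),
      map_subgroupOf_eq_of_le (RY e hi), subtype_apply, hz]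
    exact sideG e k)

theorem haY : HA (dY E z) := by
  have h := e.h3
  have ι := E.Y.subtype_injective
  have nq : ∀ {j} {c : E.Y}, j ≠ 0 → c ∈ nr ((E.Q j).subgroupOf E.Y) → (c : G) ∈ nr (E.Q j) :=
    fun k hc => map_subgroupOf_eq_of_le (QY e k) ▸ (nr_map ι).2 hc
  refine ⟨(orderOf_coe z).symm.trans (hz ▸ h.ord), sideY e hz (by decide) (by decide) (by decide),
    sideY e hz (by decide) (by decide) (by decide),
    fun a ha b hb => Subtype.ext (h.QQ 2 1 (by decide) ha b hb),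
    fun a ha b hb => Subtype.ext (RR e (i := 2) (j := 1) (by decide) ha b hb), fun c k e1 e2 => ?_,
    fun c k => ?_, fun g k => ?_⟩
  · refine (eQ e).ge (kerY e c.2 (hz ▸ (Ce_map ι).2 k.1.1) fun j n => ?_)
    rcases f3 j with rfl | rfl | rfl
    exacts [(n rfl).elim, ⟨nq n k.2, e2⟩, ⟨nq n k.1.2, e1⟩]
  · have h1 : ∀ j, j ≠ 0 → (c : G) ∈ cn (E.Q j) := fun j n a ha => congrArg Subtype.val
      (k ⟨a, QY e n ha⟩ ((eQ e).ge (by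
        rcases f3 j with rfl | rfl | rfl
        exacts [(n rfl).elim, mem_sup_left ha, mem_sup_right ha])))
    have h2 := kerY e c.2 ((co h 1).cn_le (h1 1 (by decide))).1 fun j n =>
      ⟨centralizer_le_normalizer _ (h1 j n), (co h j).m_cn (h1 j n)⟩
    refine (zp_map ι).1 (hz.symm ▸ cnQ h fun j => ?_ : (c : G) ∈ zpowers (z : G))
    by_cases n : j = 0
    exacts [n ▸ cn12 e h2, h1 j n]
  · have h1 : (g : G) ∈ Nz E.z := hz ▸ (Nz_map ι).2 k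
    exact (sg12 e h1 (sg_r e h1 (mem_Ce'.1 g.2.2))).imp (fun k => ⟨cj_sub k.1, cj_sub k.2⟩)
      fun k => ⟨cj_sub k.1, cj_sub k.2⟩

theorem wcqY : WCQ (dY E z) := fun g k => (zp_map E.Y.subtype_injective).1
  (hz.symm ▸ wc12 e ((eQ e).le k) ⟨g, .inl (hz ▸ rfl)⟩ : _ ∈ zpowers (z : G))

omit hz in
theorem c0_one (k : a ∈ zpowers (E.c 0)) (ha : a ∈ E.K) : a = 1 := by
  have c3 := (e.h3.sd 0).cube _ (e.hj.cQ 0)
  refine zpow_inf (orderOf_eq_prime c3 fun k => e.hj.cz 0 (k ▸ one_mem _)) (fun n => e.hj.cz 0 ?_) k ha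
  have := e.hj.rcr 0
  rw [mem_Ce'.1 (Ce_symm n), eq_inv_iff_mul_eq_one] at this
  exact sq_mem c3 (this ▸ one_mem _)

omit hz in
theorem zc0 {s k : ZMod 3} (h : Zt E.z (zp E.z s * zp (E.c 0) k)) : k = 0 := by
  have : el E.z E.t E.c 0 s (Pi.single 0 k) = zp E.z s * zp (E.c 0) k := by
    simp [el_eq, cc, zp_zero]
  exact (by decide : ∀ s k : ZMod 3, ∀ a : Fin 3 → ZMod 3, a = Pi.single 0 k →
    a 0 * a 0 + a 1 * a 1 + a 2 * a 2 + 1 * 0 * s = 0 → k = 0) s k _ rfl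
    ((e.hj.zset _ _ _).1 (this ▸ h)).2

end H33.E6
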