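/- Tower EA, job BF: freely acting automizers of order 3 and 15 on a defect group of order 16. -/
import Cfsg.Agent.H68.EaSpec

set_option autoImplicit false

open scoped MonoidAlgebra

namespace H33.EaBF

open Cfsg H28 H34 H35 H36 H39 H24.KB H24.Ols Subgroup H68.EA

universe u

theorem num {ι : Type*} (s : Finset ι) (d : ι → ℤ) (h0 : ∀ i ∈ s, d i ≠ 0)
    (h1 : ∑ i ∈ s, d i ^ 2 = 16) (h2 : s.card = 8) : ∀ i ∈ s, ¬ 2 ∣ d i := by
  classical
  intro j hj hd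
  have h3 : ∑ i ∈ s, (d i ^ 2 - 1) = 8 := by
    rw [Finset.sum_sub_distrib, h1, Finset.sum_const, h2]; norm_num
  have h4 : ∀ i ∈ s, 0 ≤ d i ^ 2 - 1 := fun i hi => by
    have := sq_pos_of_ne_zero (h0 i hi); omega
  have h5 : 3 ≤ d j ^ 2 - 1 := by
    obtain ⟨c, hc⟩ := hd
    have : 0 < c ^ 2 := sq_pos_of_ne_zero fun h => h0 j hj (by rw [hc, h, mul_zero])
    rw [hc, mul_pow]; omega
  have key : ∀ x : ℤ, x ≠ 0 → x ^ 2 < 9 → 3 ∣ x ^ 2 - 1 := fun x x0 hx => by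
    have a : -3 < x := by nlinarith
    have b : x < 3 := by nlinarith
    interval_cases x <;> simp_all
  have h6 : (3 : ℤ) ∣ ∑ i ∈ s, (d i ^ 2 - 1) := Finset.dvd_sum fun i hi => key _ (h0 i hi) (by
    by_cases e : i = j
    · subst e
      have := Finset.single_le_sum h4 hi
      obtain ⟨c, hc⟩ := hd
      rw [hc, mul_pow] at this ⊢
      omega
    · have := Finset.add_le_sum h4 hi hj e
      omega)
  omega

theorem jobBF : JobBF.{u} := by
  intro hEV G _ _ M _ B D e h hc h16 hf hI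
  classical
  have := Fact.mk h.hM.1
  have := charP_F h.hM
  have hab := H24.KB.le_cen_of_comm hc
  have hD : D ≠ ⊥ := by rintro rfl; simp at h16
  have hfree : ∀ g ∈ St ⊤ D e, ∀ x ∈ D, x ≠ 1 → g * x * g⁻¹ = x → g ∈ Cen D :=
    fun g hg x hx x1 h1 => by
      obtain ⟨α, h2, h3⟩ := exists_AI hg
      have := hf α h2 ⟨x, hx⟩ (mt Subtype.ext_iff.1 x1) (Subtype.ext ((h3 _).trans h1))
      exact mem_cen_iff_conj.2 fun y hy => by rw [← h3 ⟨y, hy⟩, this]; rfl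
  have hl := h.rank_of_free hab hfree
  obtain ⟨r, h2, h3, -⟩ := h.frob_count hab hfree hD
  rw [← card_AI, h16] at h2
  have col : ∀ v : D, v ≠ 1 → v ^ 2 = 1 → _ := fun v v1 v2 =>
    exists_col' h hab (hl v v1) fun t ht =>
      ⟨1, one_mem _, by rw [pow_eq_pow_mod t v2, show t % 2 = 1 by omega, pow_one]; rfl⟩
  intro χ hχ
  by_contra hne
  rcases hI with hI | ⟨hsq, hI⟩
  · obtain ⟨v, hv⟩ := exists_prime_orderOf_dvd_card' (G := D) 2 (h16 ▸ ⟨8, rfl⟩)
    obtain ⟨d, -, -, d0, d1, d2⟩ := col v (by rintro rfl; simp at hv) (hv ▸ pow_orderOf_eq_one v)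
    rw [rank_eq_top h hab hI.le, ← card_bF] at h3
    rw [h16] at d1
    rw [hI] at h2 h3
    exact num _ d d0 d1 (by omega) χ (mem_bF.2 hχ) ((d2 χ (mem_bF.2 hχ)).2 hne)
  · obtain ⟨R, h1, hR, hcj⟩ := exists_reps h
    have h5 := hR.card_eq h.hM h.hB hcj
    rw [← Finset.add_sum_erase _ _ h1, h.rank_one, Finset.sum_congr rfl fun u hu =>
      hl u (Finset.ne_of_mem_erase hu), Finset.sum_const, smul_eq_mul, mul_one] at h5
    rw [hI] at h2
    obtain ⟨v, hv⟩ := Finset.card_eq_one.1 (show (R.erase 1).card = 1 by omega)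
    have v1 : v ≠ 1 := Finset.ne_of_mem_erase (hv ▸ Finset.mem_singleton_self v)
    obtain ⟨d, -, d3, -, -, d2⟩ := col v v1 (hsq v)
    obtain ⟨ξ, hξ, hξ0⟩ := H35.exists_height_zero 2 ⟨χ, hχ⟩
    have hξχ : ξ ≠ χ := fun m => hne (m ▸ hξ0)
    have a1 : (2 : ℤ) ∣ d χ := (d2 χ (mem_bF.2 hχ)).2 hne
    have a2 : ¬ (2 : ℤ) ∣ d ξ := fun m => (d2 ξ (mem_bF.2 hξ)).1 m hξ0
    have sum : ∀ f : IrrCharacter G → ℤ, ∑ ψ ∈ bF B,
        f ψ * ((if ψ = χ then d ξ else 0) - if ψ = ξ then d χ else 0) = f χ * d ξ - f ξ * d χ :=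
      fun f => by simp [mul_sub, Finset.sum_sub_distrib, mem_bF.2 hχ, mem_bF.2 hξ]
    have h6 := hEV G M B D e h hsq hD R hcj
      (fun ψ => (if ψ = χ then d ξ else 0) - if ψ = ξ then d χ else 0) fun w hw w1 φ _ => by
        obtain rfl : w = v := Finset.mem_singleton.1 (hv ▸ Finset.mem_erase.2 ⟨w1, hw⟩)
        refine mul_left_cancel₀ (a := (Nat.card D : ℂ)) (by rw [h16]; norm_num) ?_
        rw [Finset.mul_sum, mul_zero, Finset.sum_congr rfl fun ψ _ => by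
          rw [← mul_assoc, d3, ← Int.cast_mul, ← Int.cast_mul], ← Int.cast_sum, sum]
        push_cast
        ring
    have h7 := sum fun _ => 1
    simp only [one_mul] at h7
    rw [h7] at h6
    obtain ⟨k, hk⟩ := h6
    omega

end H33.EaBF
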