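import Cfsg.Agent.H33.F22B
import Cfsg.Agent.H7.PSA

/-! Chapter F22 of `blueprints/PS3B.md`, job A: the structure of `C(z)`. -/

set_option autoImplicit false
set_option linter.unusedSectionVars false

open Cfsg Subgroup H98 H42.L3 H56.L3 H39.F22 H7.PS
open H28.PS (SL3 Zt)
open scoped Matrix commutatorElement

namespace H33.F22

universe u

variable {G : Type*} [Group G]

/-- a group whose commutators are powers of the central element `z` -/
structure Bs (z : G) (Q : Subgroup G) : Prop where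
  ord : orderOf z = 3
  zmem : z ∈ Q
  le : Q ≤ Ce z
  comm : ∀ x ∈ Q, ∀ y ∈ Q, ∃ k, x * y = zp z k * (y * x)

namespace Bs

variable {z : G} {Q : Subgroup G} (h : Bs z Q) {x y x' : G}
include h

theorem spec (hx : x ∈ Q) (hy : y ∈ Q) : x * y = zp z (bf z x y) * (y * x) := by
  obtain ⟨k, hk⟩ := h.comm x hx y hy
  rw [bf_eq h.ord hk]; exact hk

theorem mulL (hx : x ∈ Q) (hx' : x' ∈ Q) (hy : y ∈ Q) :
    bf z (x * x') y = bf z x y + bf z x' y := bf_eq h.ord (by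
  calc x * x' * y = x * (x' * y) := by group
    _ = x * zp z (bf z x' y) * y * x' := by rw [h.spec hx' hy]; group
    _ = zp z (bf z x' y) * (x * y) * x' := by rw [zp_comm (h.le hx)]; group
    _ = _ := by rw [h.spec hx hy, add_comm, zp_add h.ord]; group)

theorem skew (hx : x ∈ Q) (hy : y ∈ Q) : bf z y x = -bf z x y := bf_eq h.ord (by
  rw [h.spec hx hy, zp_neg h.ord]; group)

theorem self (x : G) : bf z x x = 0 := bf_eq h.ord (by rw [zp_zero, one_mul])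

theorem zL (hx : x ∈ zpowers z) (hy : y ∈ Q) : bf z x y = 0 :=
  bf_eq h.ord (by rw [zp_zero, one_mul, comm_of_mem (h.le hy) hx])

theorem invL (hx : x ∈ Q) (hy : y ∈ Q) : bf z x⁻¹ y = -bf z x y := by
  rw [eq_neg_iff_add_eq_zero, ← h.mulL (inv_mem hx) hx hy, inv_mul_cancel, h.zL (one_mem _) hy]

theorem powL (hx : x ∈ Q) (hy : y ∈ Q) (n : ℕ) : bf z (x ^ n) y = n * bf z x y := by
  induction n with
  | zero => simp [h.zL (one_mem _) hy]
  | succ n ih => rw [pow_succ, h.mulL (pow_mem hx n) hx hy, ih]; push_cast; ring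

theorem mulR (hx : x ∈ Q) (hx' : x' ∈ Q) (hy : y ∈ Q) :
    bf z y (x * x') = bf z y x + bf z y x' := by
  rw [h.skew (mul_mem hx hx') hy, h.mulL hx hx' hy, h.skew hx hy, h.skew hx' hy]; ring

theorem conj {c : G} (hc : c ∈ Ce z) (hx : x ∈ Q) (hy : y ∈ Q) :
    bf z (c * x * c⁻¹) (c * y * c⁻¹) = bf z x y := bf_eq h.ord (by
  calc c * x * c⁻¹ * (c * y * c⁻¹) = c * (x * y) * c⁻¹ := by group
    _ = c * zp z (bf z x y) * (y * x) * c⁻¹ := by rw [h.spec hx hy]; group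
    _ = _ := by rw [zp_comm hc]; group)

theorem pair (nc : ¬ Q ≤ cn Q) : ∃ p ∈ Q, ∃ q ∈ Q, bf z p q = 1 := by
  obtain ⟨q, hq, h1⟩ := SetLike.not_le_iff_exists.1 nc
  obtain ⟨p, hp, h2⟩ : ∃ p ∈ Q, bf z p q ≠ 0 := by
    by_contra hn
    push Not at hn
    exact h1 fun p hp => by rw [h.spec hp hq, hn p hp, zp_zero, one_mul]
  rcases (by decide : ∀ k : ZMod 3, k ≠ 0 → k = 1 ∨ -k = 1) _ h2 with e | e
  · exact ⟨p, hp, q, hq, e⟩
  · exact ⟨q, hq, p, hp, by rw [h.skew hp hq, e]⟩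

/-- coordinates on a non-abelian group of order `27` -/
theorem co [Finite G] (card : Nat.card Q = 27) (nc : ¬ Q ≤ cn Q) : ∃ l m, Co z Q l m := by
  classical
  obtain ⟨p, hp, q, hq, e⟩ := h.pair nc
  let l : G → Fin 2 → ZMod 3 := fun a => ![bf z a q, bf z p a]
  let M : G → Matrix (Fin 2) (Fin 2) (ZMod 3) := fun c =>
    !![bf z (c * p * c⁻¹) q, bf z (c * q * c⁻¹) q; bf z p (c * p * c⁻¹), bf z p (c * q * c⁻¹)]
  let m : G → SL3 := fun c => if hc : (M c).det = 1 then ⟨M c, hc⟩ else 1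
  have l0 : ∀ a, l a 0 = bf z a q := fun _ => rfl
  have l1 : ∀ a, l a 1 = bf z p a := fun _ => rfl
  have hw : ∀ i j : ZMod 3, ∀ y ∈ Q, bf z (p ^ i.val * q ^ j.val) y = i * bf z p y + j * bf z q y :=
    fun i j y hy => by
      rw [h.mulL (pow_mem hp _) (pow_mem hq _) hy, h.powL hp hy, h.powL hq hy]; simp
  have hsurj : ∀ v, ∃ a ∈ Q, l a = v := fun v => by
    refine ⟨p ^ (v 0).val * q ^ (v 1).val, mul_mem (pow_mem hp _) (pow_mem hq _), ?_⟩
    ext i
    fin_cases i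
    · change l _ 0 = v 0
      rw [l0, hw _ _ _ hq, e, h.self]; ring
    · change l _ 1 = v 1
      rw [l1, h.skew (mul_mem (pow_mem hp _) (pow_mem hq _)) hp, hw _ _ _ hp, h.self,
        h.skew hp hq, e]; ring
  have hmul : ∀ a ∈ Q, ∀ b ∈ Q, l (a * b) = l a + l b := fun a ha b hb => by
    ext i
    fin_cases i
    · exact h.mulL ha hb hq
    · exact h.mulR ha hb hp
  have hz : ∀ a ∈ zpowers z, l a = 0 := fun a e0 => by
    ext i
    fin_cases i
    · exact h.zL e0 hq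
    · change bf z p a = 0
      rw [h.skew (zpowers_le.2 h.zmem e0) hp, h.zL e0 hp, neg_zero]
  have hk : ∀ a ∈ Q, l a = 0 → a ∈ zpowers z := fun a ha e0 => by
    let f : Q →* Multiplicative (Fin 2 → ZMod 3) :=
      { toFun := fun a => .ofAdd (l a)
        map_one' := by simp [hz 1 (one_mem _)]
        map_mul' := fun a b => by simp [hmul _ a.2 _ b.2, ofAdd_add] }
    have hs : Function.Surjective f := fun v => by
      obtain ⟨a, ha, e⟩ := hsurj v.toAdd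
      exact ⟨⟨a, ha⟩, by simp [f, e]⟩
    have hc := f.ker.card_mul_index
    rw [index_ker, MonoidHom.range_eq_top.2 hs, card_top, card,
      show Nat.card (Multiplicative (Fin 2 → ZMod 3)) = 9 by simp] at hc
    have := eq_of_le_of_card_ge (H := (zpowers z).subgroupOf Q) (K := f.ker)
      (fun a ha => ofAdd_eq_one.2 (hz a ha)) (by
        rw [Nat.card_congr (subgroupOfEquivOfLe (zpowers_le.2 h.zmem)).toEquiv, Nat.card_zpowers,
          h.ord]
        omega)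
    exact this.ge (show (⟨a, ha⟩ : Q) ∈ f.ker from ofAdd_eq_one.2 e0)
  have hex : ∀ a ∈ Q, ∀ y ∈ Q, bf z a y = l a 0 * bf z p y + l a 1 * bf z q y := by
    intro a ha y hy
    have hw1 : p ^ (l a 0).val * q ^ (l a 1).val ∈ Q := mul_mem (pow_mem hp _) (pow_mem hq _)
    have h1 := hk (a * (p ^ (l a 0).val * q ^ (l a 1).val)⁻¹) (mul_mem ha (inv_mem hw1)) (by
      ext i
      fin_cases i
      · change bf z _ q = 0
        rw [h.mulL ha (inv_mem hw1) hq, h.invL hw1 hq, hw _ _ _ hq, e, h.self, l0]; ring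
      · change bf z p _ = 0
        rw [h.skew (mul_mem ha (inv_mem hw1)) hp, h.mulL ha (inv_mem hw1) hp,
          h.invL hw1 hp, hw _ _ _ hp, h.skew hp hq, e, h.self, l1, h.skew hp ha]; ring)
    have h2 := h.zL h1 hy
    rw [h.mulL ha (inv_mem hw1) hy, h.invL hw1 hy, hw _ _ _ hy] at h2
    linear_combination h2
  have hco : ∀ a ∈ Q, ∀ b ∈ Q, bf z a b = l a 0 * l b 1 - l a 1 * l b 0 := fun a ha b hb => by
    rw [hex a ha b hb, l1 b, l0 b, h.skew hb hq]; ring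
  have hm : ∀ c ∈ Ce z ⊓ nr Q, (m c).1 = M c := fun c hc => by
    have : (M c).det = 1 := by
      have h1 := hco _ (conj_mem_of_mem_normalizer hc.2 hp) _ (conj_mem_of_mem_normalizer hc.2 hq)
      rw [h.conj hc.1 hp hq, e, l0, l1, l0, l1] at h1
      rw [Matrix.det_fin_two_of]
      linear_combination -h1
    exact congrArg Subtype.val (dif_pos this : m c = ⟨M c, this⟩)
  have hact : ∀ c ∈ Ce z ⊓ nr Q, ∀ a ∈ Q, l (c * a * c⁻¹) = (m c).1 *ᵥ l a := by
    intro c hc a ha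
    have key : ∀ y ∈ Q, bf z (c * a * c⁻¹) y =
        l a 0 * bf z (c * p * c⁻¹) y + l a 1 * bf z (c * q * c⁻¹) y := fun y hy => by
      have hy' : c⁻¹ * y * c ∈ Q := conj_mem_of_mem_normalizer' hc.2 hy
      have e1 : y = c * (c⁻¹ * y * c) * c⁻¹ := by group
      rw [e1, h.conj hc.1 ha hy', h.conj hc.1 hp hy', h.conj hc.1 hq hy', hex a ha _ hy']
    have hm' : ∀ a ∈ Q, c * a * c⁻¹ ∈ Q := fun a ha => conj_mem_of_mem_normalizer hc.2 ha
    rw [hm c hc]
    ext i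
    fin_cases i
    · simp only [M, Matrix.mulVec, dotProduct, Fin.sum_univ_two, Fin.zero_eta, Matrix.of_apply,
        Matrix.cons_val', Matrix.cons_val_zero, Matrix.cons_val_one, Matrix.cons_val_fin_one]
      rw [l0, key q hq]; ring
    · simp only [M, Matrix.mulVec, dotProduct, Fin.sum_univ_two, Fin.mk_one, Matrix.of_apply,
        Matrix.cons_val', Matrix.cons_val_zero, Matrix.cons_val_one, Matrix.cons_val_fin_one]
      rw [l1, h.skew (hm' a ha) hp, key p hp, h.skew (hm' p hp) hp, h.skew (hm' q hq) hp]; ring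
  refine ⟨l, m, h.ord, h.zmem, hmul, fun a ha => ⟨hk a ha, hz a⟩, hsurj, fun a ha b hb => ?_, hact,
    fun c hc d hd => sl_ext fun v => ?_⟩
  · rw [← hco a ha b hb]; exact h.spec ha hb
  · obtain ⟨a, ha, rfl⟩ := hsurj v
    rw [← hact _ (mul_mem hc hd) a ha, Matrix.SpecialLinearGroup.coe_mul, ← Matrix.mulVec_mulVec,
      ← hact d hd a ha, ← hact c hc _ (conj_mem_of_mem_normalizer hd.2 ha)]
    congr 1; group

end Bs

theorem sl_com : ∀ A B : SL3, ⁅A, B⁆ ^ 4 = 1 := by decide +kernel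

theorem sl_cube : ∀ A B : SL3, A ^ 3 = 1 → B ^ 3 = 1 → ⁅⁅A, B⁆, A⁆ = 1 → (A * B) ^ 3 = 1 := by
  decide +kernel

theorem sl_four : ∀ A B : SL3, A * B = B * A ∨ A * B = -(B * A) → ⁅B, A ^ 4⁆ = 1 := by decide +kernel

theorem sl_12 : ∀ A : SL3, (A ^ 4) ^ 3 = 1 := by decide +kernel

variable [Finite G] {D : D3 G}

theorem H0.comm (h : H0 D) {a b : G} (ha : a ∈ D.B) (hb : b ∈ D.B) (i : Fin 3) :
    D.m i ⁅a, b⁆ = ⁅D.m i a, D.m i b⁆ :=
  map_commutatorElement (h.co i).mh ⟨a, Bi ha i⟩ ⟨b, Bi hb i⟩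

theorem core (h : H0 D) {P : Subgroup G} (hP : P ≤ h.Ps) (hn : Ce D.z ≤ nr P)
    (hneg : ∀ i, ∃ r ∈ P, D.m i r = -1 ∧ ∀ j, j ≠ i → D.m j r = 1) (hQ : Nz D.z ≤ nr D.QQ)
    (h2 : ∀ N ≤ Ce D.z, Ce D.z ≤ nr N → (∀ x ∈ N, x ^ 4 ∈ D.QQ) → N ≤ P)
    (h3 : ∀ N ≤ Ce D.z, Ce D.z ≤ nr N → IsPGroup 3 N → N ≤ D.QQ) : H3 D ∧ h.Ps = P := by
  have hPz : P ≤ Ce D.z := fun p hp => B_le (hP hp).1
  have hNP : ∀ g ∈ Nz D.z, cj g P ≤ P := fun g hg => h2 _ (cj_le_of_le hPz (Nz_nr hg))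
    (by rw [nr, ← cj_normalizer, ← cj_eq_self (Nz_nr hg)]; exact cj_mono g hn) (by
      rintro _ ⟨x, hx, rfl⟩
      rw [← map_pow]
      exact conj_mem_of_mem_normalizer (hQ hg) (h.mem_Ps.1 (hP hx)).2)
  have hp : Pm D := fun g hg => by
    have : ∀ i, ∃ j, cj g (D.Q i) = D.Q j := fun i => by
      obtain ⟨r, hr, e, e'⟩ := hneg i
      have hB := (hP hr).1
      have hs := (hP (hNP g hg (conj_mem_cj hr))).1
      have h1 : (g * r * g⁻¹) ^ 2 ∈ D.QQ := by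
        rw [conj_pow]
        refine conj_mem_of_mem_normalizer (hQ hg) ((h.pow_mem_iff hB 2).2 fun j => ?_)
        by_cases f : j = i
        · rw [f, e]; decide +kernel
        · rw [e' j f, one_pow]
      obtain ⟨j, hj⟩ : ∃ j, D.m j (g * r * g⁻¹) = -1 := by
        by_contra hn
        have := conj_mem_of_mem_normalizer' (hQ hg) (h.ker hs fun j => (sl_sq _ (by
          rw [← pow_two]; exact (h.pow_mem_iff hs 2).1 h1 j)).resolve_right fun f => hn ⟨j, f⟩)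
        rw [show g⁻¹ * (g * r * g⁻¹) * g = r by group] at this
        exact sl_ne (e.symm.trans (h.mQ this i))
      refine ⟨j, (eq_of_le_of_card_ge (fun a ha => mem_cj.2 (h.mem_of_neg hB e e'
        (conj_mem_of_mem_normalizer' (hQ hg) (le_QQ j ha)) ?_))
        (by rw [card_cj, (h.co i).card, (h.co j).card])).symm⟩
      convert conj_zp (inv_mem hg) ((m_neg_iff (h.co j) (Bi hs j)).1 hj a ha) using 1
      group
    choose σ hσ using this
    have hi : Function.Injective σ := fun i j e => by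
      by_contra f
      exact h.ne f (cj_inj.1 ((hσ i).trans (e ▸ (hσ j).symm)))
    exact ⟨Equiv.ofBijective σ hi.bijective_of_finite, hσ⟩
  have hz : Ce D.z ≤ Nz D.z := Ce_le_Nz
  refine ⟨⟨h.ord, fun i => ⟨(h.co i).zmem, fun _ => h.cube, (h.co i).l_mul, (h.co i).l_ker,
    (h.co i).l_surj, (h.co i).comm, (h.co i).act, (h.co i).m_mul⟩, h.QQ, fun _ => h.ker, h.cen, hp,
    h.neg, fun g hg e => ?_⟩, le_antisymm (h2 _ (fun p hp => B_le hp.1) (hz.trans (h.nP hp))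
      fun x hx => (h.mem_Ps.1 hx).2) hP⟩
  let M : Subgroup G :=
    { carrier := {x | x ∈ D.B ⊓ stab h.Ps D.QQ ∧ x ^ 3 ∈ D.QQ}
      one_mem' := ⟨one_mem _, by rw [one_pow]; exact one_mem _⟩
      mul_mem' := fun {a b} ha hb => ⟨mul_mem ha.1 hb.1,
        (h.pow_mem_iff (mul_mem ha.1.1 hb.1.1) 3).2 fun i => by
          have hc : ⁅a, b⁆ ∈ D.B := comm_le _ (commutator_mem_commutator ha.1.1 hb.1.1)
          rw [h.mul ha.1.1 hb.1.1]
          refine sl_cube _ _ ((h.pow_mem_iff ha.1.1 3).1 ha.2 i) ((h.pow_mem_iff hb.1.1 3).1 hb.2 i) ?_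
          rw [← h.comm ha.1.1 hb.1.1, ← h.comm hc ha.1.1]
          exact h.mQ (ha.1.2.2 _ ⟨hc, fun j => by rw [h.comm ha.1.1 hb.1.1, sl_com]⟩) i⟩
      inv_mem' := fun ha => ⟨inv_mem ha.1, by rw [inv_pow]; exact inv_mem ha.2⟩ }
  have hM : M ≤ D.QQ := h3 M (fun x hx => B_le hx.1.1) (fun c hc => mem_normalizer_of_cj_le (by
      rintro _ ⟨x, hx, rfl⟩
      exact ⟨conj_mem_of_mem_normalizer (le_normalizer_inf (H0.nB hp)
        (le_normalizer_stab (h.nP hp) hQ) (hz hc)) hx.1, by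
          rw [← map_pow]; exact conj_mem_of_mem_normalizer (hQ (hz hc)) hx.2⟩))
    (isPGroup_of_forall_pow_mem h.pQ fun x hx => ⟨1, hx.2⟩)
  have h4 := pow_mem hg 4
  refine h.mem_Ps.2 ⟨hg, hM ⟨⟨h4, B_nr h4, fun p hp' => h.ker
    (comm_le _ (commutator_mem_commutator hp'.1 h4)) fun i => ?_⟩,
    (h.pow_mem_iff h4 3).2 fun i => by rw [h.pow hg, sl_12]⟩⟩
  rw [h.comm hp'.1 h4, h.pow hg, sl_four _ _ (e p hp' i)]

theorem nw {z : G} (ho : orderOf z = 3) (S : Sylow 3 G) (hz : zpowers z ≤ S)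
    (h : ¬ IsWeaklyClosed (zpowers z) S) : NW z (Ce z) := by
  by_contra hn
  have k : ∀ g : G, g * z * g⁻¹ ∈ Ce z → g ∈ Nz z := fun g hg => by
    by_contra f
    exact hn ⟨_, hg, ⟨g, .inl rfl⟩, fun e => f (mem_Nz.2 e)⟩
  have hS : (S : Subgroup G) ≤ Ce z := by
    by_contra f
    obtain ⟨n, hn1, hn2⟩ := SetLike.exists_of_lt (lt_inf_normalizer (Q := S ⊓ Ce z) S.isPGroup'
      (inf_lt_left.2 f))
    have h1 := k n (conj_mem_of_mem_normalizer hn1.2 ⟨zpowers_le.1 hz, mem_Ce.2 rfl⟩).2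
    have h2 : n * n ∈ Ce z := mem_Ce'.2 (by
      rw [show n * n * z * (n * n)⁻¹ = n * (n * z * n⁻¹) * n⁻¹ by group]
      rcases mem_cases ho (mem_Nz.1 h1) with e | e | e
      · rw [show z = 1 by simpa using e]; simp
      · rw [e, e]
      · rw [e, ← conj_inv, e, inv_inv])
    obtain ⟨m, hm⟩ := isPGroup_iff_forall.1 S.isPGroup' n hn1.1
    obtain ⟨j, hj⟩ : Odd (3 ^ m) := Odd.pow (by decide)
    have := pow_mem h2 (j + 1)
    rw [← pow_two, ← pow_mul, show 2 * (j + 1) = 3 ^ m + 1 by omega, pow_succ, hm, one_mul] at this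
    exact hn2 ⟨hn1.1, this⟩
  exact h ⟨hz, fun g hg => cj_eq_self (k g (hS (hg (conj_mem_cj (mem_zpowers z)))))⟩

theorem jobA : JobA.{u} := by
  intro G _ _ H Q hQ _ hX _ hZ P hP hc Q₁ Q₂ Q₃ hle hz hx h27 hcom hsup hnor h4 hneg Z hZ' hH S hZS hW
  obtain ⟨z, ho, rfl⟩ : ∃ z, orderOf z = 3 ∧ Z = zpowers z := by
    have c3 : Nat.card Z = 3 := by
      rw [hZ', card_map_of_injective (subtype_injective _), ← hZ,
        card_map_of_injective (subtype_injective _), hX.2]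
    obtain ⟨z, e⟩ := exists_prime_orderOf_dvd_card' (G := Z) 3 c3.symm.dvd
    have e' : orderOf (z : G) = 3 := by rw [orderOf_coe, e]
    exact ⟨z, e', (eq_of_le_of_card_ge (zpowers_le.2 z.2) (by rw [c3, Nat.card_zpowers, e'])).symm⟩
  obtain rfl : H = Ce z := by rw [hH, zpowers_eq_closure, centralizer_closure]
  have hZm : ∀ c : Ce z, c ∈ center (Ce z) ↔ (c : G) ∈ zpowers z := fun c => by
    rw [hZ']; exact (mem_map_iff_mem (subtype_injective _)).symm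
  have hz0 : (⟨z, mem_Ce.2 rfl⟩ : Ce z) ∈ center (Ce z) := (hZm _).2 (mem_zpowers z)
  let R : Fin 3 → Subgroup (Ce z) := ![Q₁, Q₂, Q₃]
  have all : ∀ {p : Subgroup (Ce z) → Prop}, p Q₁ ∧ p Q₂ ∧ p Q₃ → ∀ i, p (R i) := fun h i => by
    fin_cases i
    exacts [h.1, h.2.1, h.2.2]
  have hR : ∀ i, R i ∈ [Q₁, Q₂, Q₃] := all (p := (· ∈ [Q₁, Q₂, Q₃])) (by simp)
  have hco : ∀ i, ∃ l m, Co z ((R i).map (Ce z).subtype) l m := fun i => by
    have h1 := all (p := (· ≤ Q)) hle i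
    have h2 := all (p := fun X => Nat.card X = 27) h27 i
    refine Bs.co ⟨ho, ⟨_, all (p := (center (Ce z) ≤ ·)) hz i hz0, rfl⟩, map_subtype_le _, ?_⟩
      (by rw [card_map_of_injective (subtype_injective _), h2]) fun e => ?_
    · rintro _ ⟨x, hx, rfl⟩ _ ⟨y, hy, rfl⟩
      obtain ⟨k, hk⟩ := exists_zp ho ((hZm ⁅x, y⁆).1 (hZ.le ⟨⁅(⟨x, h1 hx⟩ : Q), ⟨y, h1 hy⟩⁆, by
        rw [← hX.1.2.2]; exact commutator_mem_commutator (mem_top _) (mem_top _), rfl⟩))
      refine ⟨k, ?_⟩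
      rw [← hk]
      simp only [commutatorElement_def, coe_mul, coe_inv, coe_subtype]
      group
    · have h3 := (all (p := fun X => IsExtraspecial 3 X) hx i).2
      rw [show center (R i) = ⊤ from top_le_iff.1 fun a _ => mem_center_iff.2 fun b =>
        Subtype.ext (Subtype.ext (e ⟨a, a.2, rfl⟩ b ⟨b, b.2, rfl⟩)), card_top, h2] at h3
      omega
  choose l m hco using hco
  let D : D3 G := ⟨z, fun i => (R i).map (Ce z).subtype, l, m⟩
  have hQQ : D.QQ = Q.map (Ce z).subtype := by rw [← hsup, Subgroup.map_sup, Subgroup.map_sup]; rfl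
  have mQ : ∀ x : Ce z, (x : G) ∈ D.QQ ↔ x ∈ Q := fun x => by
    rw [hQQ]; exact mem_map_iff_mem (subtype_injective _)
  have QQ : ∀ i j, i ≠ j → D.Q i ≤ cn (D.Q j) := by
    have : ∀ i j, i ≠ j → ∀ a ∈ R i, ∀ b ∈ R j, a * b = b * a := fun i j e a ha b hb => by
      fin_cases i <;> fin_cases j
      exacts [absurd rfl e, hcom.1 a ha b hb, hcom.2.1 a ha b hb, (hcom.1 b hb a ha).symm,
        absurd rfl e, hcom.2.2 a ha b hb, (hcom.2.1 b hb a ha).symm, (hcom.2.2 b hb a ha).symm,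
        absurd rfl e]
    rintro i j e _ ⟨a, ha, rfl⟩ _ ⟨b, hb, rfl⟩
    exact congrArg Subtype.val (this j i e.symm b hb a ha)
  have PB : ∀ x ∈ P, (x : G) ∈ D.B := fun x hx => mem_B.2 ⟨x.2, fun i => mem_normalizer_of_cj_le (by
    rintro _ ⟨_, ⟨q, hq, rfl⟩, rfl⟩
    exact ⟨_, hnor x hx _ (hR i) q hq, rfl⟩)⟩
  have neg : ∀ i, ∃ r ∈ P.map (Ce z).subtype, D.m i r = -1 ∧ ∀ j, j ≠ i → D.m j r = 1 := fun i => by
    obtain ⟨x, hx, e, e'⟩ := hneg _ (hR i)
    refine ⟨x, ⟨x, hx, rfl⟩, (m_neg_iff (hco i) (Bi (PB x hx) i)).2 ?_,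
      fun j hj => (m_one_iff (hco j) (Bi (PB x hx) j)).2 ?_⟩ <;> rintro _ ⟨q, hq, rfl⟩
    · exact (hZm _).1 (e q hq)
    · refine (hZm _).1 (e' _ (hR j) (fun f => (hco i).not_le_cn ?_) q hq)
      exact (map_mono f.ge).trans (QQ j i hj)
  have h : H0 D := by
    refine ⟨hco, QQ, fun c hc => ?_, fun i => ?_⟩
    · have hc' : c ∈ Ce z := mem_Ce.2 (hc z (le_QQ 0 (hco 0).zmem)).symm
      have h1 : (⟨c, hc'⟩ : Ce z) ∈ Q := hQ.ge (H14.centralizer_fstar_le fun x hx =>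
        Subtype.ext (hc x ((mQ x).2 (hQ.ge hx))))
      exact (hZm ⟨c, hc'⟩).1 (hZ.le ⟨⟨_, h1⟩, mem_center_iff.2 fun x =>
        Subtype.ext (Subtype.ext (hc _ ((mQ x).2 x.2))), rfl⟩)
    · obtain ⟨_, ⟨x, hx, rfl⟩, e⟩ := neg i
      exact ⟨x, PB x hx, e⟩
  have hPn : P.Normal := hP ▸ Normal.comap inferInstance _
  have h3 : D.QQ = (pCore 3 (Ce z)).map (Ce z).subtype := by
    rw [hQQ, le_antisymm (H2.le_pCore hX.1.1) ((H14.pCore_le_fstar 3).trans hQ.ge)]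
  obtain ⟨k1, k2⟩ := core h (P := P.map (Ce z).subtype) (by
      rintro _ ⟨x, hx, rfl⟩
      refine ⟨PB x hx, fun i => ?_⟩
      rw [coe_subtype, ← h.pow (PB x hx)]
      refine (m_one_iff (hco i) (Bi (pow_mem (PB x hx) 4) i)).2 ?_
      rintro _ ⟨q, hq, rfl⟩
      exact (hZm _).1 (h4 x hx _ (hR i) q hq))
    (le_normalizer_map_subtype P) neg
    (by rw [h3]; exact Nz_nr.trans (normalizer_le_normalizer_map_subtype _))
    (fun N h1 h2 h3 x hx => by
      have := (normal_subgroupOf_iff_le_normalizer h1).2 h2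
      have := Normal.map this _ (QuotientGroup.mk'_surjective Q)
      refine ⟨⟨x, h1 hx⟩, hP.ge (H2.le_pCore (p := 2)
        (N := (N.subgroupOf (Ce z)).map (QuotientGroup.mk' Q)) (isPGroup_iff_forall.2 ?_)
        ⟨_, hx, rfl⟩), rfl⟩
      rintro _ ⟨y, hy, rfl⟩
      exact ⟨2, by rw [← map_pow]; exact (QuotientGroup.eq_one_iff _).2 ((mQ _).1 (h3 y hy))⟩)
    fun N h1 h2 h4 => h3.ge.trans' (H2.le_map_pCore_subtype h1 h2 h4)
  refine ⟨D, k1, h.c128_iff.2 ?_, rfl, h3, nw ho S hZS hW⟩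
  rw [← index_ker, h.ker_μ, ← relIndex, k2, hQQ, relIndex_map_map_of_injective _ _
    (subtype_injective _), ← QuotientGroup.ker_mk' Q, relIndex_ker, hP,
    map_comap_eq_self_of_surjective (QuotientGroup.mk'_surjective Q), hc]
  rfl

end H33.F22
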