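import Cfsg.Agent.H39.F22Spec
import Cfsg.Agent.H84.PSB0

/-! Chapter F22 of `blueprints/PS3B.md`: the base group of `C(z)`. -/

set_option autoImplicit false
set_option linter.unusedSectionVars false

open Cfsg Subgroup H98 H42.L3 H56.L3 H39.F22 H7.PS
open H28.PS (SL3)
open scoped Matrix

namespace H33.F22

theorem sl_mul4 : ∀ A B : SL3, A ^ 4 = 1 → B ^ 4 = 1 → (A * B) ^ 4 = 1 := by decide +kernel

theorem sl_34 : ∀ A : SL3, A ^ 3 = 1 → A ^ 4 = 1 → A = 1 := fun A h3 h4 => by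
  rwa [show (4 : ℕ) = 3 + 1 from rfl, pow_succ, h3, one_mul] at h4

theorem sl_ne : (-1 : SL3) ≠ 1 := by decide +kernel

variable {G : Type*} [Group G] {D : D3 G} {g p x : G} {i j : Fin 3}

theorem mem_B : g ∈ D.B ↔ g ∈ Ce D.z ∧ ∀ i, g ∈ nr (D.Q i) :=
  ⟨fun h => ⟨h.1.1.1, fun i => by fin_cases i; exacts [h.1.1.2, h.1.2, h.2]⟩,
    fun h => ⟨⟨⟨h.1, h.2 0⟩, h.2 1⟩, h.2 2⟩⟩

theorem Bi (hg : g ∈ D.B) (i : Fin 3) : g ∈ Ce D.z ⊓ nr (D.Q i) :=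
  ⟨(mem_B.1 hg).1, (mem_B.1 hg).2 i⟩

theorem B_le : D.B ≤ Ce D.z := fun _ h => (mem_B.1 h).1

theorem le_QQ (i : Fin 3) : D.Q i ≤ D.QQ := by
  fin_cases i
  exacts [le_sup_left.trans le_sup_left, le_sup_right.trans le_sup_left, le_sup_right]

theorem QQ_le {K : Subgroup G} (h : ∀ i, D.Q i ≤ K) : D.QQ ≤ K := sup_le (sup_le (h 0) (h 1)) (h 2)

theorem QQ_eq (i : Fin 3) : D.QQ = D.Q i ⊔ (D.Q (i + 1) ⊔ D.Q (i + 2)) :=
  le_antisymm (QQ_le fun j => by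
    rcases (by decide : ∀ i j : Fin 3, j = i ∨ j = i + 1 ∨ j = i + 2) i j with rfl | rfl | rfl
    exacts [le_sup_left, le_sup_left.trans le_sup_right, le_sup_right.trans le_sup_right])
    (sup_le (le_QQ _) (sup_le (le_QQ _) (le_QQ _)))

theorem B_nr : D.B ≤ nr D.QQ :=
  le_normalizer_sup (le_normalizer_sup (fun _ h => (Bi h 0).2) fun _ h => (Bi h 1).2)
    fun _ h => (Bi h 2).2

theorem conj_zp [Finite G] {z u : G} (hg : g ∈ Nz z) (hu : u ∈ zpowers z) :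
    g * u * g⁻¹ ∈ zpowers z := conj_mem_of_mem_normalizer hg hu

theorem Nz_nr [Finite G] {z : G} : Nz z ≤ nr (Ce z) := fun g hg =>
  mem_normalizer_of_cj_le fun x hx => by
    have h2 := comm_of_mem (mem_cj.1 hx) (mem_Nz.1 (inv_mem hg))
    refine mem_Ce.2 ?_
    calc x * z = g * (g⁻¹ * x * g * (g⁻¹ * z * g⁻¹⁻¹)) * g⁻¹ := by group
      _ = _ := by rw [h2]; group

section Co

variable {z : G} {Q1 : Subgroup G} {l : G → Fin 2 → ZMod 3} {m : G → SL3} (h : Co z Q1 l m)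
include h

theorem m_one_iff (hg : g ∈ Ce z ⊓ nr Q1) :
    m g = 1 ↔ ∀ a ∈ Q1, g * a * g⁻¹ * a⁻¹ ∈ zpowers z := by
  refine ⟨fun e a ha => ?_, fun e => h.m_eq_one_of hg fun a ha => ?_⟩
  · obtain ⟨k, hk⟩ := h.conj_of_m hg ha (by simp [e])
    rw [hk, mul_inv_cancel_right]; exact zp_mem k
  · have := (h.l_ker _ (h.zle (e a ha))).2 (e a ha)
    rwa [h.l_mul _ (h.conj_mem hg ha) _ (inv_mem ha), h.l_inv ha, add_neg_eq_zero] at this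

theorem m_neg_iff (hg : g ∈ Ce z ⊓ nr Q1) :
    m g = -1 ↔ ∀ a ∈ Q1, g * a * g⁻¹ * a ∈ zpowers z := by
  refine ⟨fun e a ha => (h.l_ker _ (mul_mem (h.conj_mem hg ha) ha)).1 ?_,
    fun e => h.m_eq_of hg fun a ha => ?_⟩
  · rw [h.l_mul _ (h.conj_mem hg ha) _ ha, h.act g hg a ha, e]; simp [Matrix.neg_mulVec]
  · have := (h.l_ker _ (h.zle (e a ha))).2 (e a ha)
    rw [h.l_mul _ (h.conj_mem hg ha) _ ha, add_eq_zero_iff_eq_neg] at this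
    rw [this]; simp [Matrix.neg_mulVec]

end Co

/-- the part of `H3` that does not concern the action of `N(⟨z⟩)` -/
structure H0 (D : D3 G) : Prop where
  co : ∀ i, Co D.z (D.Q i) (D.l i) (D.m i)
  QQ : ∀ i j, i ≠ j → D.Q i ≤ cn (D.Q j)
  cen : cn D.QQ ≤ zpowers D.z
  neg : ∀ i, ∃ r ∈ D.B, D.m i r = -1 ∧ ∀ j, j ≠ i → D.m j r = 1

theorem h0_of (h : H3 D) : H0 D :=
  ⟨fun i => ⟨h.ord, (h.sd i).zmem, (h.sd i).l_mul, (h.sd i).l_ker, (h.sd i).l_surj, (h.sd i).comm,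
    (h.sd i).act, (h.sd i).m_mul⟩, h.QQ, h.cen, h.neg⟩

/-- `N(⟨z⟩)` permutes the factors -/
def Pm (D : D3 G) : Prop := ∀ g ∈ Nz D.z, ∃ σ : Equiv.Perm (Fin 3), ∀ i, cj g (D.Q i) = D.Q (σ i)

namespace H0

variable (h : H0 D)
include h

theorem ord : orderOf D.z = 3 := (h.co 0).ord

theorem Q_le (i : Fin 3) : D.Q i ≤ D.B := fun x hx => mem_B.2 ⟨(h.co i).le_Ce hx, fun j => by
  by_cases e : i = j
  · exact e ▸ le_normalizer hx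
  · exact centralizer_le_normalizer _ (h.QQ i j e hx)⟩

theorem QB : D.QQ ≤ D.B := QQ_le h.Q_le

theorem mul (hg : g ∈ D.B) (hp : p ∈ D.B) (i : Fin 3) : D.m i (g * p) = D.m i g * D.m i p :=
  (h.co i).m_mul _ (Bi hg i) _ (Bi hp i)

theorem inv (hg : g ∈ D.B) (i : Fin 3) : D.m i g⁻¹ = (D.m i g)⁻¹ := (h.co i).m_inv (Bi hg i)

theorem pow (hg : g ∈ D.B) (i : Fin 3) (n : ℕ) : D.m i (g ^ n) = D.m i g ^ n :=
  (h.co i).m_pow (Bi hg i) n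

theorem mQ (hx : x ∈ D.QQ) (i : Fin 3) : D.m i x = 1 := by
  have : D.QQ ≤ (h.co i).mh.ker.map (Ce D.z ⊓ nr (D.Q i)).subtype := QQ_le fun j a ha =>
    ⟨⟨a, Bi (h.Q_le j ha) i⟩, by
      by_cases e : j = i
      · exact (h.co i).m_mem (e ▸ ha)
      · exact (h.co i).m_cn (h.QQ j i e ha), rfl⟩
  obtain ⟨a, ha, rfl⟩ := this hx
  exact ha

theorem ker (hg : g ∈ D.B) (e : ∀ i, D.m i g = 1) : g ∈ D.QQ := by
  have k : ∀ i, ∀ g ∈ D.B, (∀ i, D.m i g = 1) → ∃ w ∈ D.Q i, w⁻¹ * g ∈ cn (D.Q i) ∧ w⁻¹ * g ∈ D.B ∧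
      (∀ j, D.m j (w⁻¹ * g) = 1) ∧ ∀ j, j ≠ i → g ∈ cn (D.Q j) → w⁻¹ * g ∈ cn (D.Q j) := by
    intro i g hg e
    obtain ⟨w, hw, f⟩ := (h.co i).inner (Bi hg i) (e i)
    have hw' := inv_mem (h.Q_le i hw)
    exact ⟨w, hw, f, mul_mem hw' hg,
      fun j => by rw [h.mul hw' hg, e, h.mQ (inv_mem (le_QQ i hw)), mul_one],
      fun j hj hc => mul_mem (inv_mem (h.QQ i j hj.symm hw)) hc⟩
  obtain ⟨a, ha, a1, a2, a3, -⟩ := k 0 g hg e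
  obtain ⟨b, hb, b1, b2, b3, b4⟩ := k 1 _ a2 a3
  obtain ⟨c, hc, c1, -, -, c4⟩ := k 2 _ b2 b3
  have : c⁻¹ * (b⁻¹ * (a⁻¹ * g)) ∈ cn D.QQ := by
    simp only [cn, centralizer_sup]
    exact ⟨⟨c4 0 (by decide) (b4 0 (by decide) a1), c4 1 (by decide) b1⟩, c1⟩
  have := le_QQ 0 ((h.co 0).zle (h.cen this))
  rwa [mul_mem_cancel_left (inv_mem (le_QQ 2 hc)), mul_mem_cancel_left (inv_mem (le_QQ 1 hb)),
    mul_mem_cancel_left (inv_mem (le_QQ 0 ha))] at this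

theorem pow_mem_iff (hg : g ∈ D.B) (n : ℕ) : g ^ n ∈ D.QQ ↔ ∀ i, D.m i g ^ n = 1 :=
  ⟨fun e i => by rw [← h.pow hg, h.mQ e], fun e => h.ker (pow_mem hg n) fun i => by rw [h.pow hg, e]⟩

theorem ne (e : i ≠ j) : D.Q i ≠ D.Q j := fun e' => (h.co j).not_le_cn (e'.ge.trans (h.QQ i j e))

theorem cube (hx : x ∈ D.Q i) : x ^ 3 = 1 := by
  obtain ⟨r, hr, e, -⟩ := h.neg i
  exact (h.co i).cube_of_neg (Bi hr i) e hx

theorem memQ (i : Fin 3) (hx : x ∈ D.QQ) :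
    ∃ a ∈ D.Q i, ∃ b ∈ D.Q (i + 1), ∃ c ∈ D.Q (i + 2), x = a * (b * c) := by
  obtain ⟨e1, e2, e3⟩ := (by decide : ∀ i : Fin 3, i ≠ i + 1 ∧ i ≠ i + 2 ∧ i + 1 ≠ i + 2) i
  rw [QQ_eq i, mem_sup_left_norm (le_normalizer_sup
    (le_normalizer_of_le_centralizer (h.QQ _ _ e1)) (le_normalizer_of_le_centralizer (h.QQ _ _ e2)))] at hx
  obtain ⟨a, ha, w, hw, rfl⟩ := hx
  obtain ⟨b, hb, c, hc, rfl⟩ := (mem_sup_left_norm
    (le_normalizer_of_le_centralizer (h.QQ _ _ e3))).1 hw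
  exact ⟨a, ha, b, hb, c, hc, rfl⟩

theorem com (e : i ≠ j) {a b : G} (ha : a ∈ D.Q i) (hb : b ∈ D.Q j) : Commute a b :=
  (h.QQ i j e ha b hb).symm

theorem cubeQ (hx : x ∈ D.QQ) : x ^ 3 = 1 := by
  obtain ⟨a, ha, b, hb, c, hc, rfl⟩ := h.memQ 0 hx
  rw [((h.com (by decide) ha hb).mul_right (h.com (by decide) ha hc)).mul_pow,
    (h.com (by decide) hb hc).mul_pow, h.cube ha, h.cube hb, h.cube hc, mul_one, mul_one]

theorem pQ : IsPGroup 3 D.QQ := isPGroup_iff_forall.2 fun _ hx => ⟨1, h.cubeQ hx⟩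

/-- the elements inverted modulo `z` by a sign change -/
theorem mem_of_neg {r : G} (hr : r ∈ D.B) (e : D.m i r = -1) (e' : ∀ j, j ≠ i → D.m j r = 1)
    (hx : x ∈ D.QQ) (f : r * x * r⁻¹ * x ∈ zpowers D.z) : x ∈ D.Q i := by
  obtain ⟨e1, e2, e3⟩ := (by decide : ∀ i : Fin 3, i ≠ i + 1 ∧ i ≠ i + 2 ∧ i + 1 ≠ i + 2) i
  obtain ⟨a, ha, b, hb, c, hc, rfl⟩ := h.memQ i hx
  have h1 := (m_neg_iff (h.co i) (Bi hr i)).1 e a ha
  have h2 := (m_one_iff (h.co _) (Bi hr _)).1 (e' _ e1.symm) b hb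
  have h3 := (m_one_iff (h.co _) (Bi hr _)).1 (e' _ e2.symm) c hc
  have k : ∀ {u x : G}, u ∈ zpowers D.z → x ∈ D.QQ → x * u = u * x := fun hu hx =>
    comm_of_mem (B_le (h.QB hx)) hu
  have hw : b * c ∈ D.QQ := mul_mem (le_QQ _ hb) (le_QQ _ hc)
  have h4 : (b * c) ^ 2 ∈ zpowers D.z := by
    generalize hu : r * a * r⁻¹ * a = u at h1
    generalize hv : r * b * r⁻¹ * b⁻¹ = v at h2
    generalize hw' : r * c * r⁻¹ * c⁻¹ = w at h3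
    have : r * (a * (b * c)) * r⁻¹ * (a * (b * c)) = u * (v * (w * (b * c) ^ 2)) := by
      calc _ = r * a * r⁻¹ * a * (a⁻¹ * (r * b * r⁻¹ * b⁻¹) * (b * (r * c * r⁻¹ * c⁻¹)) * (c * a) *
            (b * c)) := by group
        _ = u * (v * a⁻¹ * (w * b) * (a * c) * (b * c)) := by
          rw [hu, hv, hw', k h2 (inv_mem (le_QQ _ ha)), k h3 (le_QQ _ hb), (h.com e2 ha hc).eq]
        _ = u * (v * (a⁻¹ * w) * (b * a) * c * (b * c)) := by group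
        _ = _ := by rw [k h3 (inv_mem (le_QQ _ ha)), ← (h.com e1 ha hb).eq, pow_two]; group
    rwa [this, mul_mem_cancel_left h1, mul_mem_cancel_left h2, mul_mem_cancel_left h3] at f
  have h5 : b * c = ((b * c) ^ 2)⁻¹ := by rw [eq_inv_iff_mul_eq_one, ← pow_succ', h.cubeQ hw]
  exact mul_mem ha ((h.co i).zle (h5 ▸ inv_mem h4))

/-- the preimage of `O₂(C(z) / Q)` -/
def Ps : Subgroup G where
  carrier := {p | D.P p}
  one_mem' := ⟨one_mem _, fun i => by rw [(h.co i).m_one, one_pow]⟩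
  mul_mem' := fun ha hb => ⟨mul_mem ha.1 hb.1, fun i => by
    rw [h.mul ha.1 hb.1]; exact sl_mul4 _ _ (ha.2 i) (hb.2 i)⟩
  inv_mem' := fun ha => ⟨inv_mem ha.1, fun i => by rw [h.inv ha.1, inv_pow, ha.2, inv_one]⟩

theorem mem_Ps : p ∈ h.Ps ↔ p ∈ D.B ∧ p ^ 4 ∈ D.QQ :=
  and_congr_right fun hp => (h.pow_mem_iff hp 4).symm

theorem QP : D.QQ ≤ h.Ps := fun _ hx => h.mem_Ps.2 ⟨h.QB hx, pow_mem hx 4⟩

/-- the matrices of the elements of `P` -/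
def μ : h.Ps →* (Fin 3 → SL3) where
  toFun p i := D.m i p
  map_one' := funext fun i => (h.co i).m_one
  map_mul' a b := funext fun i => h.mul a.2.1 b.2.1 i

theorem ker_μ : h.μ.ker = D.QQ.subgroupOf h.Ps := by
  ext p
  exact ⟨fun e => h.ker p.2.1 (congrFun e), fun e => funext (h.mQ e)⟩

theorem c128_iff : C128 D ↔ Nat.card h.μ.range = 128 := by
  rw [C128, ← Nat.card_coe_set_eq]
  exact Eq.congr_left (Nat.card_congr (Equiv.subtypeEquivRight fun A =>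
    ⟨fun ⟨p, hp, e⟩ => ⟨⟨p, hp⟩, funext e⟩, fun ⟨p, e⟩ => ⟨p, p.2, congrFun e⟩⟩))

variable [Finite G]

theorem m_tr (hg : g ∈ Nz D.z) (e : cj g (D.Q i) = D.Q j) (hp : p ∈ D.B) (hp' : g * p * g⁻¹ ∈ D.B)
    (f : D.m i p = 1) : D.m j (g * p * g⁻¹) = 1 := by
  refine (m_one_iff (h.co j) (Bi hp' j)).2 fun a ha => ?_
  have := conj_zp hg ((m_one_iff (h.co i) (Bi hp i)).1 f _ (mem_cj.1 (e.ge ha)))
  convert this using 1
  group

omit h in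
theorem nB (hp : Pm D) : Nz D.z ≤ nr D.B := fun g hg => mem_normalizer_of_cj_le (by
  obtain ⟨σ, hσ⟩ := hp g hg
  rintro _ ⟨x, hx, rfl⟩
  refine mem_B.2 ⟨conj_mem_of_mem_normalizer (Nz_nr hg) (B_le hx), fun i => ?_⟩
  rw [← σ.apply_symm_apply i, ← hσ, nr, ← cj_normalizer]
  exact conj_mem_cj (Bi hx _).2)

omit h in
theorem nQ (hp : Pm D) : Nz D.z ≤ nr D.QQ := fun g hg => mem_normalizer_of_cj_le (by
  obtain ⟨σ, hσ⟩ := hp g hg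
  simp only [cj_sup, hσ]
  exact sup_le (sup_le (le_QQ _) (le_QQ _)) (le_QQ _))

theorem nP (hp : Pm D) : Nz D.z ≤ nr h.Ps := fun g hg => mem_normalizer_of_cj_le (by
  rintro _ ⟨x, hx, rfl⟩
  obtain ⟨h1, h2⟩ := h.mem_Ps.1 hx
  exact h.mem_Ps.2 ⟨conj_mem_of_mem_normalizer (nB hp hg) h1, by
    rw [← map_pow]; exact conj_mem_of_mem_normalizer (nQ hp hg) h2⟩)

end H0

end H33.F22
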