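import Cfsg.Agent.H33.F22B
import Cfsg.Agent.H3.AutP

/-! Chapter F22 of `blueprints/PS3B.md`, job N: the Sylow `3`-subgroups of `C(z) / Q`. -/

set_option autoImplicit false
set_option linter.unusedSectionVars false

open Cfsg Subgroup H98 H42.L3 H56.L3 H39.F22 H7.PS
open H28.PS (SL3)
open scoped Matrix

namespace H33.F22

universe u

theorem sl_sgn : ∀ A B : SL3, A * A = 1 → B * B = 1 → A * B * (A * B) = 1 := by decide +kernel

theorem sl_cen : ∀ A B : SL3, A * A = 1 → B * A * B⁻¹ = A := by decide +kernel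

theorem sl_q8 : ∀ A B : SL3, A ^ 4 = 1 → B ^ 4 = 1 →
    (A * B)⁻¹ * (B * A) * ((A * B)⁻¹ * (B * A)) = 1 := by decide +kernel

theorem sl_pm : ∀ A B : SL3, B⁻¹ * (A * B * A⁻¹) * (B⁻¹ * (A * B * A⁻¹)) = 1 →
    A * B = B * A ∨ A * B = -(B * A) := by decide +kernel

theorem sl_tr : ∀ A B : SL3, A⁻¹ * B * (A⁻¹ * B) = 1 → B * B = 1 → A * A = 1 := by decide +kernel

/-- the signs -/
def S0 : Subgroup SL3 where
  carrier := {A | A * A = 1}
  one_mem' := mul_one 1
  mul_mem' := sl_sgn _ _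
  inv_mem' := fun {A} h => by
    change A⁻¹ * A⁻¹ = 1
    rw [← mul_inv_rev, show A * A = 1 from h, inv_one]

/-- the sign patterns -/
def S3 : Subgroup (Fin 3 → SL3) := Subgroup.pi Set.univ fun _ => S0

theorem mem_S3 {A : Fin 3 → SL3} : A ∈ S3 ↔ ∀ i, A i * A i = 1 :=
  ⟨fun h i => h i trivial, fun h i _ => h i⟩

instance : S3.Normal := ⟨fun A hA B => mem_S3.2 fun i => by
  rw [show (B * A * B⁻¹) i = A i from sl_cen _ _ (mem_S3.1 hA i)]; exact mem_S3.1 hA i⟩

theorem card_S3 : Nat.card S3 = 8 := by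
  have h : Nat.card {A : SL3 // A * A = 1} = 2 := by
    rw [Nat.card_eq_fintype_card]; decide +kernel
  rw [Nat.card_congr ((Equiv.subtypeEquivRight fun _ => mem_S3).trans
    (Equiv.subtypePiEquivPi (p := fun _ (A : SL3) => A * A = 1))), Nat.card_fun, h, Nat.card_fin]
  rfl

theorem card_SL3 : Nat.card SL3 = 24 := by rw [Nat.card_eq_fintype_card]; decide +kernel

variable {G : Type*} [Group G] {D : D3 G}

theorem S3_le (h : H0 D) : S3 ≤ h.μ.range := fun A hA => by
  choose r hr e e' using h.neg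
  have hP : ∀ i, r i ∈ h.Ps := fun i => ⟨hr i, fun j => by
    by_cases f : j = i
    · rw [f, e]; decide +kernel
    · rw [e' i j f, one_pow]⟩
  have k : ∀ i, Pi.mulSingle i (A i) ∈ h.μ.range := fun i => by
    rcases sl_sq _ (mem_S3.1 hA i) with f | f <;> rw [f]
    · rw [Pi.mulSingle_one]; exact one_mem _
    · refine ⟨⟨r i, hP i⟩, funext fun j => ?_⟩
      by_cases f : j = i
      · rw [f, Pi.mulSingle_eq_same]; exact e i
      · rw [Pi.mulSingle_eq_of_ne f]; exact e' i j f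
  have : A = Pi.mulSingle 0 (A 0) * Pi.mulSingle 1 (A 1) * Pi.mulSingle 2 (A 2) := by
    ext1 i; fin_cases i <;> simp
  rw [this]
  exact mul_mem (mul_mem (k 0) (k 1)) (k 2)

theorem jobN : JobN.{u} := by
  intro G _ _ D h3 hc T hT hT3
  have h := h0_of h3
  have hp : Pm D := h3.perm
  let N := S3.comap h.μ
  have hN : ∀ p : h.Ps, p ∈ N ↔ ∀ i, D.m i p * D.m i p = 1 := fun _ => mem_S3
  have hN' : ∀ p : h.Ps, p ∈ N ↔ (p : G) ^ 2 ∈ D.QQ := fun p => by
    rw [hN, h.pow_mem_iff p.2.1]; simp only [pow_two]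
  have hTz : T ≤ Nz D.z := fun g hg => mem_Nz.2 (by rw [mem_Ce'.1 (hT hg)]; exact mem_zpowers _)
  have cN : N.index = 16 := by
    have h1 := card_mul_index (S3.subgroupOf h.μ.range)
    rw [h.c128_iff.1 hc, Nat.card_congr (subgroupOfEquivOfLe (S3_le h)).toEquiv, card_S3] at h1
    rw [index_comap, relIndex]
    omega
  let φ := H5.quotAut ((normalizerMonoidHom h.Ps).comp (inclusion (hTz.trans (h.nP hp)))) N
    fun t p e => (hN' _).2 (by
      change ((t : G) * p * (t : G)⁻¹) ^ 2 ∈ _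
      rw [conj_pow]
      exact conj_mem_of_mem_normalizer (H0.nQ hp (hTz t.2)) ((hN' p).1 e))
  have hA : Nat.card (MulAut (h.Ps ⧸ N)) = 20160 := by
    rw [H3.card_mulAut_of_elementary (p := 2) (r := 4) (fun a b => ?_) (fun a => ?_) cN]
    · decide
    · obtain ⟨a, rfl⟩ := QuotientGroup.mk_surjective a
      obtain ⟨b, rfl⟩ := QuotientGroup.mk_surjective b
      exact QuotientGroup.eq.2 (mem_S3.2 fun i => by
        simp only [map_mul, map_inv]; exact sl_q8 _ _ (a.2.2 i) (b.2.2 i))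
    · obtain ⟨a, rfl⟩ := QuotientGroup.mk_surjective a
      refine (QuotientGroup.eq_one_iff (a ^ 2)).2 ((hN' _).2 ?_)
      rw [coe_pow, ← pow_mul]
      exact (h.mem_Ps.1 a.2).2
  have hk : φ.ker ≤ D.QQ.subgroupOf T := fun t ht => by
    have e : ∀ p ∈ h.Ps, ∀ i, (D.m i p)⁻¹ * D.m i (t * p * (t : G)⁻¹) *
        ((D.m i p)⁻¹ * D.m i (t * p * (t : G)⁻¹)) = 1 := fun p hp' i => by
      have h1 := DFunLike.congr_fun (MonoidHom.mem_ker.1 ht) ((⟨p, hp'⟩ : h.Ps) : h.Ps ⧸ N)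
      rw [H5.quotAut_mk, MulAut.one_apply, eq_comm, QuotientGroup.eq] at h1
      have := mem_S3.1 h1 i
      simp only [map_mul, map_inv] at this
      exact this
    obtain ⟨n, hn⟩ := isPGroup_iff_forall.1 hT3 t t.2
    obtain ⟨σ, hσ⟩ := hp t (hTz t.2)
    have hB : (t : G) ∈ D.B := by
      rcases (by decide : ∀ σ : Equiv.Perm (Fin 3), (∀ i, σ (σ i) = i) ∨
        ∀ j, j = 0 ∨ j = σ 0 ∨ j = σ (σ 0)) σ with f | f
      · have h1 : (t : G) * t ∈ D.B := mem_B.2 ⟨hT (mul_mem t.2 t.2), fun i =>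
          cj_eq_self_iff.1 (by rw [← cj_cj, hσ, hσ, f])⟩
        obtain ⟨j, hj⟩ : Odd (3 ^ n) := Odd.pow (by decide)
        have := pow_mem h1 (j + 1)
        rwa [← pow_two, ← pow_mul, show 2 * (j + 1) = 3 ^ n + 1 by omega, pow_succ, hn, one_mul] at this
      · have st : ∀ p ∈ h.Ps, ∀ i, D.m i p * D.m i p = 1 → D.m (σ i) p * D.m (σ i) p = 1 := by
          intro p hp' i e'
          have h1 := conj_mem_of_mem_normalizer (H0.nB hp (hTz t.2)) hp'.1
          refine sl_tr _ _ (e p hp' _) ?_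
          rw [← h.mul h1 h1, conj_mul]
          exact h.m_tr (hTz t.2) (hσ i) (mul_mem hp'.1 hp'.1) (by rw [← conj_mul]; exact mul_mem h1 h1)
            (by rw [h.mul hp'.1 hp'.1, e'])
        have h1 : N = S0.comap ((Pi.evalMonoidHom (fun _ => SL3) 0).comp h.μ) := by
          ext p
          refine (hN p).trans ⟨fun e => e 0, fun e j => ?_⟩
          rcases f j with rfl | rfl | rfl
          exacts [e, st _ p.2 _ e, st _ p.2 _ (st _ p.2 _ e)]
        rw [h1, index_comap] at cN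
        have h2 := (cN ▸ relIndex_dvd_card _ _).trans (card_subgroup_dvd_card _)
        rw [card_SL3] at h2
        omega
    have hP := h3.faith t hB fun p hp' i => sl_pm _ _ (by
      have := e p hp' i
      rwa [h.mul (mul_mem hB hp'.1) (inv_mem hB), h.mul hB hp'.1, h.inv hB] at this)
    exact h.ker hB fun i => sl_34 _ (H84.PS.m3 (h.co i) (Bi hB i) hn) (hP.2 i)
  obtain ⟨n, hn⟩ := hT3.index φ.ker
  have h1 : 3 ^ n ∣ 9 * 2240 := by
    rw [← hn, index_ker]
    exact (card_subgroup_dvd_card _).trans hA.dvd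
  exact (index_dvd_of_le hk).trans (hn ▸ (Nat.Coprime.pow_left n (by norm_num)).dvd_of_dvd_mul_right h1)

end H33.F22
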