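import Cfsg.Agent.H74.FSp2

/-! FUSMC (blueprints/FUSMC.md): the case `E = γ 2`, jobs J0 and JA. -/

set_option autoImplicit false
set_option linter.unusedSectionVars false

namespace H33.FJ
open Cfsg H92 H92.Es H93 H92.P5 Subgroup H74.FT H74.FM Module
open scoped commutatorElement

universe u
variable {Ω : Type u} [Group Ω] [Finite Ω] {S Y K : Subgroup Ω} {γ : ℕ → Subgroup Ω}
  {p n a b L κ : ℕ} [hp : Fact p.Prime]

/-- an invariant subgroup below the top of a chief factor lies in the bottom -/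
theorem con_le (m : MX p n S γ) (hS : S ≤ Y) (c : Con γ Y a b) (hb : b ≤ n) (hK : Y ≤ Nm K)
    (h : K ≤ γ (a + 1)) : K ≤ γ b := by
  have lt := c.lt
  have n1 : Y ≤ Nm (K ⊔ γ b) := fun g hg => mem_Nm_sup (hK hg) (c.n2 hg)
  have l : K ⊔ γ b ≤ γ (a + 1) := sup_le h (m.anti lt)
  obtain ⟨k, -, -, e⟩ := m.eq_of_normal (hS.trans n1) (l.trans (m.anti (by omega)))
  rw [e] at n1 l
  refine (le_sup_left.trans e.le).trans (m.anti ?_)
  by_contra r
  refine c.no k ?_ (by omega) n1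
  by_contra q
  exact m.nle (i := k) (by omega) (by omega) l

theorem jobJ0 : JobJ0.{u} := by
  classical
  intro Ω _ _ S p n hp F γ ⟨hF, m⟩ κ P z
  have h4 := m.four
  have hS : S ≤ Aut F (γ 2) := (le_inf le_rfl (m.nmS 2)).trans (Nm_le_Aut F _)
  have nb : ∀ k, n ≤ k → Aut F (γ 2) ≤ Nm (γ k) := fun k hk g _ => m.bot hk ▸ nm_bot g
  have ex : ∀ k, ∃ j, (k < j ∧ Aut F (γ 2) ≤ Nm (γ j)) ∧
      ∀ i < j, ¬ (k < i ∧ Aut F (γ 2) ≤ Nm (γ i)) := fun k =>
    have e : ∃ j, k < j ∧ Aut F (γ 2) ≤ Nm (γ j) := ⟨k + n + 1, by omega, nb _ (by omega)⟩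
    ⟨_, Nat.find_spec e, fun _ => Nat.find_min e⟩
  choose f f1 f2 using ex
  let c : ℕ → ℕ := fun i => Nat.rec 2 (fun _ k => f k) i
  have c1 : ∀ i, c i < c (i + 1) ∧ Aut F (γ 2) ≤ Nm (γ (c (i + 1))) := fun i => f1 _
  have c2 : ∀ i, i + 2 ≤ c i ∧ Aut F (γ 2) ≤ Nm (γ (c i)) := fun i => by
    induction i with
    | zero => exact ⟨le_rfl, Aut_le_Nm F _⟩
    | succ i ih => exact ⟨by have := (c1 i).1; omega, (c1 i).2⟩
  obtain ⟨x, hx, hx'⟩ := m.ex (i := 1) (by omega)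
  have xS := m.le 1 hx
  obtain ⟨i, hi⟩ : ∃ i, x ∉ Tv (γ (c i)) (γ (c (i + 1))) := by
    by_contra r
    push Not at r
    exact hx' (H70.FM.mem_chain hF P.ess (fun i => γ (c i)) (N := n)
      (fun i => ⟨m.anti (by have := (c2 i).1; omega), (c2 i).2⟩) (m.bot (by have := (c2 n).1; omega))
      ⟨xS, m.nmS 2 xS⟩ (mem_Tv_self (m.nmS 2 xS)) r)
  have no : ∀ j, c i < j → j < c (i + 1) → ¬ Aut F (γ 2) ≤ Nm (γ j) := fun j a b r =>
    f2 (c i) j b ⟨a, r⟩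
  obtain ⟨L, hL⟩ := Nat.exists_eq_add_of_le (c1 i).1.le
  have C : Con γ (Aut F (γ 2)) (c i) (c i + L) := hL ▸ ⟨(c1 i).1, (c2 i).2, (c1 i).2, no⟩
  have a2 : 2 ≤ c i := by have := (c2 i).1; omega
  rw [hL] at hi
  generalize c i = a at C a2 hi
  have lt := C.lt
  have L2 : 2 ≤ L := by
    by_contra r
    obtain rfl : L = 1 := by omega
    exact hi (m.tvS a xS)
  have an : a < n := by
    by_contra r
    exact hi ⟨m.nmS _ xS, fun y hy => by rw [m.bot (by omega), mem_bot] at hy; simp [hy]⟩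
  have le : a + L ≤ n := by
    by_contra r
    exact C.no n an (by omega) (nb n le_rfl)
  have pw : ∀ y ∈ γ a, y ^ p ∈ γ (a + L) := fun y hy =>
    con_le m hS C le (K := closure {w | ∃ y ∈ γ a, w = y ^ p}) (fun g hg => mem_Nm_of_le (by
      rw [cj_closure, closure_le]
      rintro _ ⟨_, ⟨y, hy, rfl⟩, rfl⟩
      exact subset_closure ⟨_, conj_mem_of_Nm (C.n1 hg) hy, conj_pow.symm⟩)) ((closure_le _).2 (by
      rintro _ ⟨y, hy, rfl⟩
      exact m.anti (by have := hp.out.two_le; omega) (m.pow2 a2 hy).1)) (subset_closure ⟨y, hy, rfl⟩)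
  refine ⟨a, L, a2, le, ?_, ?_, C, tv_of_le ((m.le 2).trans (m.nmS _)) (con_le m hS C le
    (fun g hg => mem_Nm_commutator (Aut_le_Nm F _ hg) (C.n1 hg))
    ((m.com (by omega) (by omega)).trans (m.anti (by omega)))), pw, fun r => hi (r hx)⟩
  · by_contra r
    obtain ⟨y, hy, hy'⟩ := m.ex an
    exact (m.pow2 a2 hy).2 hy' (by omega) (m.anti (by omega) (pw y hy))
  · refine or_iff_not_imp_right.2 fun r => ?_
    by_contra q
    exact C.no (n - 1) (by omega) (by omega) (z.resolve_left r)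

theorem pow_mem_two (m : MX p n S γ) {y : Ω} (hy : y ∈ S) : y ^ p ∈ γ 2 := by
  have h4 := m.four
  have s0 := m.sp (i := 0) (by omega)
  have s1 := m.sp (i := 1) (by omega)
  rw [m.zero] at s0
  by_cases e : y ∈ γ 1
  · exact s1.pow e
  by_contra r
  have h1 : S = γ 2 ⊔ zpowers y := le_antisymm (s0.le_of (s1.le_of le_sup_left (s0.pow hy) r
    (mem_sup_right (pow_mem (mem_zpowers y) p))) hy e (mem_sup_right (mem_zpowers y)))
    (sup_le (m.le 2) (zpowers_le.2 hy))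
  exact m.nle (i := 2) (j := 3) (by omega) (by omega) (m.top ▸ le_of_tv (tv_cyc h1 (m.nmS 3) (m.tvS 2)))

/-- an eigenvector of `Aut F S` on `S / γ 2` outside `γ 1` -/
theorem exists_eig (v : JobAvg.{u}) {F : FusionSystem S} (m : MX p n S γ)
    (r : ∀ t ∈ Aut F S, om p γ 0 t = 1 → t ∈ S ⊔ Ct S) :
    ∃ s ∈ S, s ∉ γ 1 ∧ ∀ t ∈ Aut F S, (s ^ (om p γ 0 t).val)⁻¹ * (t * s * t⁻¹) ∈ γ 2 := by
  have h4 := m.four
  have s0 := m.sp (i := 0) (by omega)
  obtain ⟨d, π, ρ, c, -⟩ := exists_sec (p := p) (m.le 2) m.top.le fun y hy => pow_mem_two m hy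
  have nS := Aut_le_Nm F S
  have nn : Aut F S ≤ Nm S ⊓ Nm (γ 2) := le_inf nS (nS.trans (m.nm 2))
  have mul : ∀ g ∈ Aut F S, ∀ h ∈ Aut F S, om p γ 0 (g * h) = om p γ 0 g * om p γ 0 h :=
    fun g hg h hh => wt_mul s0 (m.nm _ (nS hg)) (m.nm _ (nS hg)) (m.nm _ (nS hh)) (m.nm _ (nS hh))
  have ne : ∀ g ∈ Aut F S, om p γ 0 g ≠ 0 := fun g hg => m.om_ne (nS hg) (by omega)
  obtain ⟨y, hy, hy'⟩ := s0.ex
  have yS := m.le 0 hy
  obtain ⟨T, t1, t2, t3⟩ := v (Aut F S) (om p γ 0) (fun g => ρ g (π y)) 1 ne mul fun g hg h hh e => by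
    have k := mul_mem (inv_mem hg) hh
    have := mul g hg _ k
    rw [mul_inv_cancel_left, ← e, left_eq_mul₀ (ne g hg)] at this
    rw [c.congr (nn hg) (sup_le (tv_of_le (m.nmS 2) m.top.le) (fun a ha => mem_Tv_of_Ct ha
      (Ct_le_Nm _ (Ct_anti (m.le 2) ha))) (r _ k this))]
  obtain ⟨s, hs, e⟩ := c.co.surj (∑ t ∈ T, (om p γ 0 t ^ 1)⁻¹ • ρ t (π y))
  refine ⟨s, hs, fun q => hy' ?_, fun h hh => ?_⟩
  · have k : π s - (T.card : ZMod p) • π y ∈ c.sb (γ 1) := by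
      rw [e, Nat.cast_smul_eq_nsmul, ← Finset.sum_const, ← Finset.sum_sub_distrib]
      refine Submodule.sum_mem _ fun t ht => ?_
      have := Submodule.smul_mem _ (om p γ 0 t)⁻¹ (c.wt s0 (nn (t1 t ht)) (t := t) (by simp [one_mem])
        (m.nm _ (nS (t1 t ht))) (m.nm _ (nS (t1 t ht))) (c.mk_mem yS hy))
      rwa [smul_sub, inv_smul_smul₀ (ne t (t1 t ht)), ← pow_one (om p γ 0 t)] at this
    have := sub_mem (c.mk_mem hs q) k
    rwa [sub_sub_cancel, Submodule.smul_mem_iff _ t2, c.mem_sb' (m.succ 1) yS] at this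
  · rw [← c.co.eq_iff (pow_mem hs _) (conj_mem_of_Nm (nS hh) hs), ← c.smul _ hs, ← c.app h (nn hh) s hs,
      e, ← pow_one (om p γ 0 h), ← t3 h hh, map_sum]
    exact Finset.sum_congr rfl fun t ht => by rw [map_smul, c.rp.app (nn hh) (nn (t1 t ht))]

theorem arith {q l : ℕ} (h1 : 1 ≤ l) (h2 : l < q) (h3 : 3 * (l + 1) < 2 * (q + 1)) :
    ∃ r i, 1 ≤ r ∧ i ≤ l ∧ l * r + i = q ∧ r * (l + l) + 1 * (l + l) < q * (1 + 2) := by
  have e := Nat.div_add_mod (q - 1) l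
  have e' := Nat.mod_lt (q - 1) h1
  have e1 : 1 ≤ (q - 1) / l := Nat.div_pos (by omega) h1
  refine ⟨(q - 1) / l, (q - 1) % l + 1, e1, e', by omega, ?_⟩
  generalize (q - 1) / l = r at e e1
  rw [mul_add, mul_comm r]
  rcases e1.eq_or_lt with rfl | f
  · omega
  · have := Nat.mul_le_mul_left l f
    omega

theorem jobJA (v : JobAvg.{u}) (r : JobRed.{u}) : JobJA.{u} := by
  intro Ω _ _ S p n hp F γ c κ P a L j hX
  obtain ⟨r1, r2, -⟩ := r p n F γ c
  obtain ⟨hF, m⟩ := c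
  have h4 := m.four
  have p5 := P.p5
  have a2 := j.a2
  have le := j.le
  have hL := j.hL
  have lt := j.con.lt
  have nS := Aut_le_Nm F S
  have L2 : 2 ≤ L := by
    by_contra q
    obtain rfl : L = 1 := by omega
    exact j.nt ((m.le 1).trans (m.tvS a))
  obtain ⟨l, rfl⟩ : ∃ l, L = l + 1 := ⟨L - 1, by omega⟩
  have ext : ∀ h ∈ XE F (γ 2), ∃ t ∈ Aut F S, h⁻¹ * t ∈ Ct (γ 2) := fun h hh => by
    obtain ⟨t, a, b⟩ := P.ext h hh
    obtain ⟨t', a', b'⟩ := r1 t a fun k hk => by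
      rcases hk.eq_or_lt with rfl | hk
      exacts [Aut_le_Nm F _ a, Nm_of_div_Ct (hX k hk hh) (Ct_anti (m.anti hk) b)]
    exact ⟨t', a', div_trans b (Ct_anti (m.succ 1) b')⟩
  obtain ⟨s, hs, hs', es⟩ := exists_eig v m (r2 κ P.toPw)
  obtain ⟨x, hx, hx'⟩ := m.ex (i := 1) (by omega)
  have xS := m.le 1 hx
  obtain ⟨d, π, ρ, c, -⟩ := exists_sec (p := p) (m.anti lt.le)
    ((commutator_mono (m.anti a2) le_rfl).trans (le_of_tv j.tv)) j.pow
  have nG : Aut F (γ 2) ≤ Nm (γ a) ⊓ Nm (γ (a + (l + 1))) := le_inf j.con.n1 j.con.n2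
  have nN : Nm S ≤ Nm (γ a) ⊓ Nm (γ (a + (l + 1))) := le_inf (m.nm _) (m.nm _)
  have R := c.rp.mono nG
  have U := Sec.uni m c le hs fun i h1 h2 w hw hw' => j.ne.elim
    (fun e => m.unif hs hs' (by omega) (by omega) hw hw')
    fun e => m.unif' hs hs' (m.M_eq e ▸ hs') (by omega) (by omega) hw hw'
  have E := seA2 hF P.ess.2.1 ⟨hs, m.nmS 2 hs⟩ ⟨xS, m.nmS 2 xS⟩ hx'
    (fun q => hs' (sup_le (m.succ 1) (zpowers_le.2 hx) q)) (pow_mem_two m hs) (pow_mem_two m xS)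
    (com_symm (m.cS hx hs))
  have D : RD (g2 p 1 2) (t2 p s x) ρ l := R.rd2 U.anti U.top U.bot
    (Nm_le_Aut F _ ⟨hs, m.nmS 2 hs⟩) (Nm_le_Aut F _ ⟨xS, m.nmS 2 xS⟩) U.sh
    (c.sh (V := fun i => γ (a + i)) (nN (le_Nm S xS)) fun i y _ hy => by
      rcases Nat.lt_or_ge i l with q | q
      · refine Or.inl ?_
        rw [show a + (i + 2) = 1 + (a + i) + 1 by omega]
        exact j.ne.elim (fun e => m.ne le_rfl (by omega) (by omega)) (fun e => m.ne_of e le_rfl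
          (by omega)) (commutator_mem_commutator hx hy)
      · exact Or.inr (m.anti (by omega) (com_symm (m.cS hy xS))))
  have fin : ∀ i, 1 ≤ i → i ≤ l →
      ¬ ∀ g ∈ Aut F (γ 2), ∀ w ∈ c.sb (γ (a + i)), ρ g w ∈ c.sb (γ (a + i)) := fun i h1 h2 q =>
    j.con.no (a + i) (by omega) (by omega) fun g hg =>
      c.nm_of (m.anti (by omega)) (m.anti (by omega)) (nG hg) (q g hg)
  have hσ : ρ s = ρ s - 1 + 1 := (sub_add_cancel _ _).symm
  have rg : ∀ i, LinearMap.range (lg (ρ s) ^ i) = c.sb (γ (a + i)) := fun i => by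
    rw [hσ, lg_pow (by omega) U.nil, U.range_pow]
  have n2 : ∀ i ≤ l, ∀ g ∈ Aut F (γ 2), ρ g * lg (ρ s) ^ i * ρ g⁻¹ ≠ 0 := fun i hi g hg =>
    R.conj_ne hg fun q => U.ne i (by omega) (by rw [← rg, q]; simp)
  have key : ∀ h ∈ Aut F (γ 2), h ∈ XE F (γ 2) → ∃ α : ZMod p, α ≠ 0 ∧
      (∀ i, Sem (Aut F (γ 2)) (fun g => ρ g * lg (ρ s) ^ i * ρ g⁻¹) h (α ^ i)) ∧
      ∀ i ≤ l, ∀ w ∈ c.sb (γ (a + i)), ρ h w - α ^ (a + i + κ) • w ∈ c.sb (γ (a + i + 1)) := by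
    intro h hh hh'
    obtain ⟨t, ht, e⟩ := ext h hh'
    have e' := Ct_anti (m.anti a2) e
    have tN := nN (nS ht)
    have α0 := m.om_ne (nS ht) (k := 0) (by omega)
    refine ⟨_, α0, fun i => R.sem_end hh (R.pow_conj (lg_conj ?_ α0 ?_) i), fun i hi w hw => ?_⟩
    · rw [hσ]; exact add_one_pow_p (U.pow_eq_zero_iff.2 (by omega))
    · have sN := nN (le_Nm S hs)
      rw [← c.congr (nG hh) (mem_Tv_of_Ct e' (Ct_le_Nm _ (Ct_anti c.le e'))), ← c.rp.pow sN,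
        ← c.congr (pow_mem sN _) (j.tv (es t ht)), ← c.rp.mul _ tN _ sN,
        ← c.rp.mul _ (mul_mem (mul_mem tN sN) (inv_mem tN)) _ tN, inv_mul_cancel_right]
    · rw [← P.pw t (nS ht) _ (by omega) (j.ne.imp (fun _ => by omega) fun q => ⟨by omega, q⟩)]
      exact c.wt (m.sp (by omega)) (nG hh) e' (m.nm _ (nS ht)) (m.nm _ (nS ht)) hw
  have one : ∀ {α : ZMod p}, α ≠ 0 → ∀ {e}, p - 1 ∣ e → α ^ e = 1 := pow_eq_one_of_dvd
  by_cases q : 3 * (l + 1) < 2 * p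
  · obtain ⟨r, i, h1, h2, h3, h5⟩ := arith (q := p - 1) (l := l) (by omega) (by omega) (by omega)
    refine fin l (by omega) le_rfl fun g hg => ?_
    have := E.line2 (R.dg_end E.mem D (lg (ρ s) ^ l)) (R.dg_end E.mem D (lg (ρ s) ^ i)) (n2 i h2)
      h1 h5 (fun h hh hh' => by
        obtain ⟨α, α0, k1, -⟩ := key h hh hh'
        exact ⟨_, _, by rw [← pow_mul, pow_one, ← pow_add]; exact one α0 h3.symm.dvd, k1 l, k1 i⟩) hg
    rw [← rg l]
    exact (R.end_inv hg this).1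
  obtain ⟨y, y1, y2⟩ : ∃ y < p - 1, p - 1 ∣ a + l + κ + y := by
    refine ⟨(a + l + κ) * (p - 2) % (p - 1), Nat.mod_lt _ (by omega), ?_⟩
    rw [Nat.dvd_iff_mod_eq_zero, Nat.add_mod_mod, ← mul_one_add, show 1 + (p - 2) = p - 1 by omega,
      Nat.mul_mod_left]
  have hb : 1 * l + 1 * (l + l) < (g2 p 1 2).b := by change _ < (p - 1) * (1 + 2); omega
  by_cases q' : y ≤ l
  · obtain ⟨z, z1, z2⟩ := SetLike.not_le_iff_exists.1 (U.ne l (by omega))
    refine fin l (by omega) le_rfl fun g hg w hw => ?_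
    have := E.line2 (R.dg_vec E.mem D z) (R.dg_end E.mem D (lg (ρ s) ^ y)) (n2 y q') le_rfl hb
      (fun h hh hh' => by
        obtain ⟨α, α0, k1, k2⟩ := key h hh hh'
        exact ⟨_, _, by rw [pow_one, pow_one, ← pow_add]; exact one α0 y2,
          R.sem_vec hh (sub_eq_zero.1 (U.toFlag.eq_zero le_rfl (k2 l le_rfl z z1))), k1 y⟩) hg
    obtain ⟨e, f⟩ := U.step l z z1 z2 w hw
    obtain ⟨e', f'⟩ := Submodule.mem_span_singleton.1 this
    rw [sub_eq_zero.1 (U.toFlag.eq_zero le_rfl f), map_smul, ← f', R.one]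
    exact Submodule.smul_mem _ _ (Submodule.smul_mem _ _ z1)
  · refine fin 1 le_rfl (by omega) fun g hg w hw => ?_
    have := E.line2 (R.dg_cov E.mem D (c.sb (γ (a + 1))).mkQ)
      (R.dg_end E.mem D (lg (ρ s) ^ (2 * (p - 1) - (l + y))))
      (n2 (2 * (p - 1) - (l + y)) (by omega)) le_rfl hb
      (fun h hh hh' => by
        obtain ⟨α, α0, k1, k2⟩ := key h hh hh'
        refine ⟨(α ^ (a + κ))⁻¹, _, ?_, R.sem_cov hh (LinearMap.ext fun u => ?_), k1 _⟩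
        · rw [pow_one, pow_one, inv_mul_eq_one₀ (pow_ne_zero _ α0)]
          refine mul_right_cancel₀ (pow_ne_zero (l + y) α0) ?_
          rw [← pow_add, ← pow_add, one α0 (e := a + κ + (l + y)) (by convert y2 using 1; omega),
            one α0 ⟨2, by omega⟩]
        · have := (Submodule.Quotient.eq _).2 (k2 0 (by omega) (ρ h⁻¹ u) (U.toFlag.mem0 _))
          rw [R.app_inv hh] at this
          simp only [LinearMap.comp_apply, Submodule.mkQ_apply, LinearMap.smul_apply]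
          rw [eq_inv_smul_iff₀ (pow_ne_zero _ α0)]
          exact this.symm) (inv_mem hg)
    obtain ⟨e', f'⟩ := Submodule.mem_span_singleton.1 this
    have := LinearMap.congr_fun f' w
    simp only [inv_one, inv_inv, R.one, LinearMap.comp_apply, Submodule.mkQ_apply,
      LinearMap.smul_apply, End.one_apply, (Submodule.Quotient.mk_eq_zero _).2 hw, smul_zero] at this
    exact (Submodule.Quotient.mk_eq_zero _).1 this.symm

end H33.FJ
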