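import Cfsg.Agent.H63.KgvSpec
import Cfsg.Agent.H33.Brauer
import Cfsg.Agent.H28.GenChar

/-! # Tower KGV, slot JBI: Brauer induction. -/

set_option autoImplicit false

namespace H33.KgvBI

open Cfsg H63.Kgv

universe u

theorem em_congr {K : Type} [Field K] [Fintype K] (θ : Kˣ →* ℂˣ) {E E' : Type u} [Group E]
    [Group E'] {χ : E → ℂ} {χ' : E' → ℂ} {y : E} {y' : E'}
    (h : ∀ j : ℕ, χ (y ^ j) = χ' (y' ^ j)) : em θ χ y = em θ χ' y' := by
  classical
  have e : Eg θ χ y = Eg θ χ' y' := by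
    funext m
    simp only [Eg, h]
  exact congrArg (fun P : (Kˣ → ℕ) → Prop =>
    @dite (Kˣ → ℕ) (∃ m, P m) (Classical.propDecidable _) (fun h => h.choose) fun _ => 0) e

theorem gam_congr {K : Type} [Field K] [Fintype K] (θ : Kˣ →* ℂˣ) {E E' : Type u} [Group E]
    [Group E'] {p : ℕ} (H : ZMod p → Kˣ → ℂ) (d : ℕ) {χ : E → ℂ} {χ' : E' → ℂ} (t : ZMod p)
    {y : E} {y' : E'} (h : ∀ j : ℕ, χ (y ^ j) = χ' (y' ^ j)) :
    gam θ H d χ t y = gam θ H d χ' t y' := by
  rw [gam, gam, em_congr θ h]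

theorem job : H63.Kgv.JBI.{u} := by
  intro gc _ vr p _ M K _ _ θ a Hf hs E _ _ hE β hβ hp heg
  classical
  obtain ⟨g1, g2, g3, -, -, g6, -, -⟩ := gc p E
  have hcl : ∀ t, IsClassFunction E (gam θ Hf 1 β t) := fun t g h =>
    gam_congr θ Hf 1 t fun j => by
      rw [conj_pow]
      exact isClassFunction_of_isGeneralizedCharacter hβ _ _
  have key : ∀ f ∈ indSpan (IsElem (G := E)), Good p E fun t y => f y * gam θ Hf 1 β t y := by
    intro f hf
    induction hf using AddSubgroup.closure_induction with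
    | mem f hf =>
      obtain ⟨H, ψ, ⟨q, hq, hH⟩, hψ, rfl⟩ := hf
      obtain ⟨k1, -, k3, k4, -⟩ := gc p H
      have h1 : Good p H (gam θ Hf 1 fun x : H => β x) :=
        vr p M K θ a Hf hs H ((Subgroup.card_subgroup_dvd_card H).trans hE)
          (isNilpotent_of_isElementary hq hH) _ (H28.Cfsg.IsGeneralizedCharacter.restrict hβ H)
          (fun y => hp y) fun y => heg y
      have h2 := k3 _ _ (k4 ψ 0 (H28.Cfsg.IsCharacter.isGeneralizedCharacter hψ)) h1
      have h3 : Good p H fun t (x : H) => ψ x * gam θ Hf 1 β t x := by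
        refine k1 _ _ h2 fun t _ y => ?_
        rw [mul_zero, ee, AddChar.map_zero_eq_one, one_mul]
        exact congrArg _ (gam_congr θ Hf 1 t fun j => rfl)
      refine g1 _ _ ((gc p E).2.2.2.2.2.2.1 H _ h3) fun t _ y => ?_
      rw [indFun_mul_res H ψ (hcl t)]
      rfl
    | zero => exact g1 _ _ (g6 0) fun t _ y => by simp
    | add f f' _ _ h1 h2 => exact g1 _ _ (g2 _ _ h1 h2) fun t _ y => by simp [add_mul]
    | neg f _ h1 => exact g1 _ _ (g3 _ _ (g6 (-1)) h1) fun t _ y => by simp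
  exact g1 _ _ (key _ one_mem_indSpan_elem) fun t _ y => (one_mul _).symm

end H33.KgvBI
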