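import Cfsg.Agent.H53.KUSpec

/-! Tower KU, slot Ba: a polarity of a finite projective plane has an absolute point. -/

set_option autoImplicit false

namespace H33.KuBa

open Module

theorem card_nz {F P : Type} [Field F] [Finite F] [AddCommGroup P] [Module F P] [Fintype P]
    [DecidableEq P] (p : ℕ) [CharP F p] (W : Submodule F P) [DecidablePred (· ∈ W)] (hW : W ≠ ⊥) :
    ∑ y : {y : P // y ≠ 0}, (if y.1 ∈ W then (1 : ZMod p) else 0) = -1 := by
  have := Fintype.ofFinite F
  have h1 : ∑ y : P, (if y ∈ W then (1 : ZMod p) else 0) = 0 := by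
    rw [Finset.sum_boole, ← Fintype.card_subtype, ← Nat.card_eq_fintype_card]
    have h2 : Nat.card {y : P // y ∈ W} = Nat.card F ^ finrank F W := Module.natCard_eq_pow_finrank
    have h3 : finrank F W ≠ 0 := fun h => hW (Submodule.finrank_eq_zero.1 h)
    have hp : p.Prime := CharP.char_is_prime F p
    obtain ⟨n, -, hn⟩ := FiniteField.card F p
    rw [h2, Nat.card_eq_fintype_card, hn]
    push_cast
    rw [ZMod.natCast_self, zero_pow n.ne_zero, zero_pow h3]
  rw [Fintype.sum_eq_add_sum_subtype_ne _ 0] at h1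
  simp only [W.zero_mem, if_true] at h1
  exact eq_neg_of_add_eq_zero_right h1

theorem jobBa : H53.KU.JobBa := by
  classical
  intro F V _ _ _ _ P H h3 h1 h2
  have : Module.Finite F P := Module.finite_of_finrank_pos (by omega)
  have : Finite P := Module.finite_of_finite F
  have := Fintype.ofFinite P
  obtain ⟨p, hp⟩ := CharP.exists F
  have : Fact p.Prime := ⟨CharP.char_is_prime F p⟩
  let U : P → Submodule F P := fun x => (H x.1).comap P.subtype
  have hU : ∀ x : P, x ≠ 0 → 2 ≤ finrank F (U x) := by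
    intro x hx
    have hx' : x.1 ≠ 0 := fun h => hx (Subtype.ext h)
    have h4 : U x ⊔ Submodule.span F {x} = ⊤ := by
      refine eq_top_iff.2 fun v _ => ?_
      obtain ⟨s, hs⟩ := (h1 x.1 x.2 hx').2 v.1 v.2
      exact Submodule.mem_sup.2 ⟨v - s • x, hs, s • x,
        Submodule.smul_mem _ _ (Submodule.mem_span_singleton_self x), sub_add_cancel _ _⟩
    have h5 := Submodule.finrank_sup_add_finrank_inf_eq (U x) (Submodule.span F {x})
    rw [h4, finrank_top, h3, finrank_span_singleton hx] at h5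
    omega
  have hI : ∀ x z : P, x ≠ 0 → z ≠ 0 → U x ⊓ U z ≠ ⊥ := by
    intro x z hx hz h
    have h5 := Submodule.finrank_sup_add_finrank_inf_eq (U x) (U z)
    have h6 := Submodule.finrank_le (U x ⊔ U z)
    have := hU x hx
    have := hU z hz
    rw [h, finrank_bot] at h5
    omega
  have hsym : ∀ x y : {y : P // y ≠ 0}, y.1 ∈ U x.1 ↔ x.1 ∈ U y.1 := by
    have : ∀ x y : {y : P // y ≠ 0}, y.1 ∈ U x.1 → x.1 ∈ U y.1 := fun x y h =>
      h2 _ x.1.2 _ y.1.2 (fun h => x.2 (Subtype.ext h)) (fun h => y.2 (Subtype.ext h)) h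
    exact fun x y => ⟨this x y, this y x⟩
  let A : Matrix {y : P // y ≠ 0} {y : P // y ≠ 0} (ZMod p) :=
    fun x y => if y.1 ∈ U x.1 then 1 else 0
  let J : Matrix {y : P // y ≠ 0} {y : P // y ≠ 0} (ZMod p) := fun _ _ => 1
  have hA2 : A * A = -J := by
    ext x z
    rw [Matrix.mul_apply, Matrix.neg_apply, ← card_nz p (U x.1 ⊓ U z.1) (hI _ _ x.2 z.2)]
    refine Finset.sum_congr rfl fun y _ => ?_
    simp only [A, Submodule.mem_inf, hsym y z]
    by_cases a : y.1 ∈ U x.1 <;> by_cases b : y.1 ∈ U z.1 <;> simp [a, b]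
  have hAJ : A * J = -J := by
    ext x z
    rw [Matrix.mul_apply, Matrix.neg_apply, ← card_nz p (U x.1 ⊓ U x.1) (hI _ _ x.2 x.2)]
    refine Finset.sum_congr rfl fun y _ => ?_
    simp [A, J]
  have hk : ∀ k : ℕ, A ^ (k + 2) = J ∨ A ^ (k + 2) = -J := by
    intro k
    induction k with
    | zero => right; rw [zero_add, pow_two, hA2]
    | succ k ih =>
      rw [show k + 1 + 2 = k + 2 + 1 from rfl, pow_succ']
      rcases ih with h | h
      · right; rw [h, hAJ]
      · left; rw [h, Matrix.mul_neg, hAJ, neg_neg]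
  have hT : Matrix.trace A = 0 := by
    refine Finset.sum_eq_zero fun x _ => ?_
    have := (h1 x.1.1 x.1.2 (fun h => x.2 (Subtype.ext h))).1
    exact if_neg this
  have hJ : Matrix.trace J = -1 := by
    have hb : (⊤ : Submodule F P) ≠ ⊥ := fun h => by
      have h7 := finrank_top F P
      rw [h, finrank_bot] at h7
      omega
    rw [← card_nz p ⊤ hb]
    exact Finset.sum_congr rfl fun x _ => by simp [J, Matrix.diag]
  have h8 := ZMod.trace_pow_card A
  obtain ⟨k, hk2⟩ : ∃ k, p = k + 2 := ⟨p - 2, by have := (Fact.out : p.Prime).two_le; omega⟩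
  have h9 : A ^ p = J ∨ A ^ p = -J := by
    have := hk k
    rwa [← hk2] at this
  rw [hT, zero_pow (Fact.out : p.Prime).ne_zero] at h8
  rcases h9 with h | h
  · rw [h, hJ] at h8; exact one_ne_zero (neg_eq_zero.1 h8)
  · rw [h, Matrix.trace_neg, hJ, neg_neg] at h8; exact one_ne_zero h8

end H33.KuBa
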