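/- Tower KU, job P3: a rank three subgroup of `SU_n(q)` with at least three orbits on isotropic points
has the index of a point stabiliser. -/
import Cfsg.Agent.H53.KUKit

set_option autoImplicit false

namespace H33.KuP3

open Cfsg H59 H53.WU H53.KU Module

variable {S : HS}

theorem dc_iff (K : Subgroup S.G) (x : S.V) (g g' : S.G) :
    DC K (S.Ps x) g g' ↔ ∃ k ∈ K, ∃ c : S.Fˣ, g'.1 x = (c : S.F) • k.1 (g.1 x) := by
  constructor
  · rintro ⟨k, hk, p, ⟨a, ha⟩, rfl⟩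
    refine ⟨k, hk, a, ?_⟩
    change k.1 (g.1 (p.1 x)) = _
    rw [ha, map_smul, map_smul]
  · rintro ⟨k, hk, c, h⟩
    refine ⟨k, hk, (k * g)⁻¹ * g', ⟨c, ?_⟩, by group⟩
    change (k * g).1.symm (g'.1 x) = _
    rw [LinearEquiv.symm_apply_eq, map_smul, h]
    rfl

theorem perp_inv {x v : S.V} {k : S.G} (hk : k ∈ S.Ps x) (c : S.F) (h : S.B x v = 0) :
    S.B x (c • k.1 v) = 0 := by
  obtain ⟨a, ha⟩ := hk
  have h1 := k.2.1 x v
  rw [ha, h] at h1
  simp only [map_smulₛₗ, LinearMap.smul_apply, smul_eq_mul, mul_eq_zero, map_eq_zero, a.ne_zero,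
    false_or] at h1
  simp [h1]

theorem pair (h5 : 5 ≤ S.n) {x y y' : S.V} (hx : S.Iso x) (hy : S.B y y = 0) (hy' : S.B y' y' = 0)
    (hxy : S.B x y = 0) (hxy' : S.B x y' = 0) (n : ∀ c : S.F, y ≠ c • x) (n' : ∀ c : S.F, y' ≠ c • x) :
    ∃ g : S.G, g.1 x = x ∧ g.1 y = y' := by
  have li : ∀ v, (∀ c : S.F, v ≠ c • x) → LinearIndependent S.F ![x, v] := fun v hv =>
    (LinearIndependent.pair_iff' hx.1).2 fun c hc => hv c hc.symm
  obtain ⟨p, hp, hp0⟩ := S.h.exists_self_ne_zero_perp_of_lt (W := Submodule.span S.F {x, y}) (by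
    have := finrank_span_eq_card (li y n)
    rw [Matrix.range_cons_cons_empty] at this
    rw [this, Fintype.card_fin]
    exact h5)
  rw [mem_perp_pair] at hp
  obtain ⟨g, hg, h⟩ := S.h.witt_family_sisom (li y n) (li y' n') (fun i j => by
    fin_cases i <;> fin_cases j <;>
      simp [hy, hy', hxy, hxy', S.h.eq_zero_comm.1 hxy, S.h.eq_zero_comm.1 hxy']) hp0 (fun i => by
    fin_cases i
    · exact S.h.eq_zero_comm.1 hp.1
    · exact S.h.eq_zero_comm.1 hp.2)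
  exact ⟨⟨g, hg⟩, h 0, h 1⟩

theorem rk3 (hD : JobDc) (h5 : 5 ≤ S.n) {x : S.V} (hx : S.Iso x) : Rk3 (S.Ps x) := by
  obtain ⟨f, H⟩ := hx.exists_hyp
  have hf : S.Iso f := ⟨fun h => by simpa [h] using H.ef, H.ff⟩
  have h1 := S.h.finrank_hypPerp H.ee H.ef
  obtain ⟨y, hy, hy0, hyy⟩ := S.h.exists_isotropic_mem (W := hypPerp S.B x f) (by
    change 5 ≤ finrank S.F S.V at h5; omega)
  have hxy : S.B x y = 0 := (mem_perp_pair.1 hy).1
  have hfy : S.B f y = 0 := (mem_perp_pair.1 hy).2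
  have hfx : S.B f x ≠ 0 := fun h => by
    have := S.h.eq_zero_comm.1 h
    rw [H.ef] at this
    exact one_ne_zero this
  have ny : ∀ c : S.F, y ≠ c • x := by
    rintro c rfl
    rw [map_smul, smul_eq_mul, mul_eq_zero] at hfy
    exact hy0 (by rw [hfy.resolve_right hfx, zero_smul])
  obtain ⟨b, hb⟩ := HS.trans (by omega) hx ⟨hy0, hyy⟩
  obtain ⟨c, hc⟩ := HS.trans (by omega) hx hf
  refine (hD S.G (S.Ps x)).2 1 b c ?_ ?_ ?_ fun g => ?_
  · rw [dc_iff]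
    rintro ⟨k, ⟨a, ha⟩, d, h⟩
    change b.1 x = (d : S.F) • k.1 x at h
    rw [hb, ha, smul_smul] at h
    exact ny _ h
  · rw [dc_iff]
    rintro ⟨k, hk, d, h⟩
    have := perp_inv hk d hx.2
    change c.1 x = (d : S.F) • k.1 x at h
    rw [← h, hc, H.ef] at this
    exact one_ne_zero this
  · rw [dc_iff]
    rintro ⟨k, hk, d, h⟩
    have := perp_inv hk d hxy
    rw [hb] at h
    rw [← h, hc, H.ef] at this
    exact one_ne_zero this
  · simp only [dc_iff]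
    have hg := hx.map g
    by_cases h0 : S.B x (g.1 x) = 0
    · by_cases h2 : ∃ d : S.F, g.1 x = d • x
      · obtain ⟨d, hd⟩ := h2
        have hd0 : d ≠ 0 := by
          rintro rfl
          exact hg.1 (by rw [hd, zero_smul])
        exact Or.inl ⟨1, (S.Ps x).one_mem, Units.mk0 d hd0, hd⟩
      · obtain ⟨k, k1, k2⟩ := pair h5 hx hyy hg.2 hxy h0 ny fun d hd => h2 ⟨d, hd⟩
        exact Or.inr (Or.inl ⟨k, ⟨1, by simpa using k1⟩, 1, by simp [hb, k2]⟩)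
    · obtain ⟨k, hk, k1, k2⟩ := S.h.exists_sisom_hyp (e := x) (f := f) (e' := x)
        (f' := (S.B x (g.1 x))⁻¹ • g.1 x) (le_trans (by norm_num) h5) hx.2 (by simp [H.ff, hg.2]) hx.2
        (by rw [H.ef]; exact one_ne_zero) (by simp [H.ef, h0])
      refine Or.inr (Or.inr ⟨⟨k, hk⟩, ⟨1, by simpa using k1⟩, Units.mk0 _ h0, ?_⟩)
      simp [hc, k2, smul_smul, h0]

theorem index_Ps (h3 : 3 ≤ S.n) {x : S.V} (hx : S.Iso x) :
    (S.Ps x).index * (S.q ^ 2 - 1) = numIso S.q S.n := by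
  rw [← H26.MU.relIndex_Pst_iso S.h h3 hx.1 hx.2, mul_comm, Subgroup.relIndex]
  congr 2
  ext g
  exact ⟨fun ⟨a, ha⟩ => ⟨a, a.ne_zero, ha⟩, fun ⟨a, h0, ha⟩ => ⟨Units.mk0 a h0, ha⟩⟩

theorem jobP3 : JobM3 → JobDc → H53.KU.JobP3 := fun hM hD S hK => by
  have h6 := S.six
  refine or_iff_not_imp_left.2 fun h => ?_
  simp only [KS.O2, not_forall, not_or] at h
  obtain ⟨x, y, z, hx, hy, hz, n1, n2, n3⟩ := h
  obtain ⟨b, hb⟩ := HS.trans (by omega) hx hy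
  obtain ⟨c, hc⟩ := HS.trans (by omega) hx hz
  have key : ∀ g g' : S.G, DC S.K (S.Ps x) g g' → S.Rel (g.1 x) (g'.1 x) := fun g g' h => by
    obtain ⟨k, hk, d, h⟩ := (dc_iff _ _ _ _).1 h
    exact ⟨k, hk, d⁻¹, by rw [h, smul_smul]; simp⟩
  rw [hM S.G S.K (S.Ps x) hK (rk3 hD (by omega) hx) 1 b c (fun h => n1 (hb ▸ key _ _ h))
    (fun h => n2 (hc ▸ key _ _ h)) (fun h => n3 (hb ▸ hc ▸ key _ _ h))]
  exact index_Ps (by omega) hx

end H33.KuP3
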