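/- Tower ND, job FP: a Frobenius-Wielandt type lemma for `p`-groups. -/
import Cfsg.Agent.H23.NDSpec
import Cfsg.Agent.H1.CoprimeGen
import Cfsg.Agent.H9.PBasic

set_option autoImplicit false

namespace H33.NdFP

universe u

/-- An elementary abelian group of order `p ^ 2` is not fixed point free. -/
theorem core {W : Type u} [Group W] [Finite W] {p : ℕ} (hp : p.Prime) (u v : MulAut W)
    (hc : Commute u v) (hu : u ^ p = 1) (hv : v ^ p = 1)
    (h : ∀ i j : ℕ, ¬ (p ∣ i ∧ p ∣ j) → ∀ w, (u ^ i * v ^ j) w = w → w = 1) (w : W) : w = 1 := by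
  have := Fact.mk hp
  have hp1 : ¬ p ∣ 1 := hp.not_dvd_one
  by_contra hw
  let A : Subgroup (MulAut W) := Subgroup.closure {u, v}
  have hA : ∀ g ∈ A, ∃ i j : ℕ, g = u ^ i * v ^ j := fun g hg => by
    induction hg using Subgroup.closure_induction with
    | mem x hx =>
      rcases hx with rfl | rfl
      · exact ⟨1, 0, by simp⟩
      · exact ⟨0, 1, by simp⟩
    | one => exact ⟨0, 0, by simp⟩
    | mul x y _ _ hx hy =>
      obtain ⟨i, j, rfl⟩ := hx
      obtain ⟨k, l, rfl⟩ := hy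
      exact ⟨i + k, j + l, by
        rw [pow_add, pow_add, (hc.pow_pow k j).symm.mul_mul_mul_comm]⟩
    | inv x _ hx =>
      obtain ⟨i, j, rfl⟩ := hx
      refine ⟨i * (p - 1), j * (p - 1), inv_eq_of_mul_eq_one_right ?_⟩
      rw [(hc.pow_pow _ j).symm.mul_mul_mul_comm, ← pow_add, ← pow_add, ← mul_one_add, ← mul_one_add,
        Nat.add_sub_cancel' hp.one_le, pow_mul', pow_mul' v, hu, hv]
      simp
  have hP : ∀ g ∈ A, g ^ p = 1 := fun g hg => by
    obtain ⟨i, j, rfl⟩ := hA g hg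
    rw [(hc.pow_pow i j).mul_pow, ← pow_mul, ← pow_mul, pow_mul', pow_mul' v, hu, hv]
    simp
  have hF : ∀ g ∈ A, g ≠ 1 → ∀ x, g x = x → x = 1 := fun g hg h1 => by
    obtain ⟨i, j, rfl⟩ := hA g hg
    refine h i j ?_
    rintro ⟨⟨k, rfl⟩, l, rfl⟩
    exact h1 (by rw [pow_mul, pow_mul, hu, hv]; simp)
  have hPG : IsPGroup p A := fun g => ⟨1, Subtype.ext (by simpa using hP g g.2)⟩
  have : IsMulCommutative A := ⟨⟨fun a b => Subtype.ext (by
    obtain ⟨i, j, e⟩ := hA a a.2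
    obtain ⟨k, l, e'⟩ := hA b b.2
    change a.1 * b.1 = b.1 * a.1
    rw [e, e']
    exact (((Commute.refl u).pow_pow i k).mul_right (hc.pow_pow i l)).mul_left
      (((hc.pow_pow k j).symm).mul_right ((Commute.refl v).pow_pow j l)))⟩⟩
  have uA : u ∈ A := Subgroup.subset_closure (by simp)
  have vA : v ∈ A := Subgroup.subset_closure (by simp)
  have u1 : u ≠ 1 := fun e => hw (h 1 0 (fun k => hp1 k.1) w (by simp [e]))
  have hnc : ¬ IsCyclic A := fun hcy => by
    have h1 : orderOf (⟨u, uA⟩ : A) = p := orderOf_eq_prime (Subtype.ext (by simpa using hu))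
      fun e => u1 (congrArg Subtype.val e)
    have h2 : Nat.card A ∣ p := by
      rw [← IsCyclic.exponent_eq_card]
      exact Monoid.exponent_dvd_of_forall_pow_eq_one fun g => Subtype.ext (by simpa using hP g g.2)
    have h3 : Subgroup.zpowers (⟨u, uA⟩ : A) = ⊤ := by
      rw [← Subgroup.card_eq_iff_eq_top, Nat.card_zpowers, h1]
      exact Nat.dvd_antisymm (h1 ▸ orderOf_dvd_natCard _) h2
    obtain ⟨k, hk⟩ := (mem_powers_iff_mem_zpowers (x := (⟨u, uA⟩ : A)) (y := ⟨v, vA⟩⁻¹)).2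
      (h3 ▸ Subgroup.mem_top _)
    have h4 : u ^ k = v⁻¹ := by simpa using congrArg Subtype.val hk
    exact hw (h k 1 (fun k => hp1 k.2) w (by simp [h4]))
  have hcop : (Nat.card A).Coprime (Nat.card (⊤ : Subgroup W)) := by
    obtain ⟨n, hn⟩ := IsPGroup.iff_card.1 hPG
    rw [hn, Subgroup.card_top]
    refine Nat.Coprime.pow_left n ((Nat.Prime.coprime_iff_not_dvd hp).2 fun hd => ?_)
    have h1 := hPG.card_modEq_card_fixedPoints W
    have h2 : Nat.card (MulAction.fixedPoints A W) = 1 :=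
      Nat.card_eq_one_iff_exists.2 ⟨⟨1, fun g => map_one g.1⟩, fun y => Subtype.ext
        (hF u uA u1 y.1 (y.2 ⟨u, uA⟩))⟩
    rw [h2] at h1
    exact hp1 (Nat.modEq_zero_iff_dvd.1 ((Nat.modEq_zero_iff_dvd.2 hd).symm.trans h1).symm)
  exact hw (H1.le_of_noncyclic_fixed hnc A.subtype ⊤ (fun _ _ _ => Subgroup.mem_top _) hcop ⊥
    (fun a h1 x _ hx => hF a a.2 (fun e => h1 (Subtype.ext e)) x hx) (Subgroup.mem_top w))

theorem main {G : Type u} [Group G] [Finite G] {p : ℕ} {P J : Subgroup G} [J.Normal] {a x : G}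
    (hp : p.Prime) (hP : IsPGroup p P) (ha : a ∈ P) (hx : x ∈ P) (hap : a ^ p = 1) (hxp : x ^ p ∈ J)
    (hax : a * x * a⁻¹ * x⁻¹ ∈ J) (n : ℕ) : ∀ V : Subgroup G, Nat.card V = n →
    P ≤ Subgroup.normalizer (V : Set G) →
    (∀ i j : ℕ, ¬ (p ∣ i ∧ p ∣ j) → ∀ z ∈ J, z ∈ P → ∀ v ∈ V,
      a ^ i * x ^ j * z * v = v * (a ^ i * x ^ j * z) → v = 1) → V = ⊥ := by
  have := Fact.mk hp
  induction n using Nat.strong_induction_on with
  | _ n ih =>
  intro V hn hV h
  let φ : P →* MulAut V := V.normalizerMonoidHom.comp (Subgroup.inclusion hV)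
  have hφ : ∀ (g : P) (v : V), (φ g v : G) = g * v * (g : G)⁻¹ := fun _ _ => rfl
  have hfix : ∀ (g : P) (v : V), φ g v = v ↔ (g : G) * v = v * g := fun g v => by
    rw [Subtype.ext_iff, hφ, mul_inv_eq_iff_eq_mul]
  refine (Subgroup.eq_bot_iff_forall _).2 fun w hw => ?_
  have fin : ∀ t : P, Commute (φ ⟨a, ha⟩) (φ t) → φ t ^ p = 1 →
      (∀ i j : ℕ, ¬ (p ∣ i ∧ p ∣ j) → ∀ v, φ (⟨a, ha⟩ ^ i * t ^ j) v = v → v = 1) → w = 1 :=
    fun t h1 h2 h3 => congrArg Subtype.val (core hp (φ ⟨a, ha⟩) (φ t) h1 (by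
      rw [← map_pow, show (⟨a, ha⟩ : P) ^ p = 1 from Subtype.ext hap, map_one]) h2
      (fun i j hij v hv => h3 i j hij v (by rwa [map_mul, map_pow, map_pow])) ⟨w, hw⟩)
  by_cases hJ : (J.subgroupOf P).map φ.rangeRestrict = ⊥
  · have hk : ∀ g : P, (g : G) ∈ J → φ g = 1 := fun g hg =>
      congrArg Subtype.val ((Subgroup.eq_bot_iff_forall _).1 hJ _ ⟨g, hg, rfl⟩)
    refine fin ⟨x, hx⟩ ?_ (by rw [← map_pow]; exact hk _ hxp) fun i j hij v hv => ?_
    · have := hk (⟨a, ha⟩ * ⟨x, hx⟩ * ⟨a, ha⟩⁻¹ * ⟨x, hx⟩⁻¹) hax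
      rw [map_mul, map_mul, map_mul, map_inv, map_inv] at this
      exact commutatorElement_eq_one_iff_commute.1 this
    · exact Subtype.ext (h i j hij 1 J.one_mem P.one_mem v v.2 (by simpa using (hfix _ _).1 hv))
  · have : ((J.subgroupOf P).map φ.rangeRestrict).Normal :=
      Subgroup.Normal.map inferInstance _ φ.rangeRestrict_surjective
    obtain ⟨_, ⟨z, hz, rfl⟩, hc, ho⟩ := H9.exists_mem_center_orderOf_eq
      (hP.of_surjective _ φ.rangeRestrict_surjective) hJ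
    have hc' : ∀ g : P, φ g * φ z = φ z * φ g := fun g =>
      congrArg Subtype.val (Subgroup.mem_center_iff.1 hc (φ.rangeRestrict g))
    have ho' : orderOf (φ z) = p := (Subgroup.orderOf_coe (φ.rangeRestrict z)).trans ho
    refine fin z (hc' _) (ho' ▸ pow_orderOf_eq_one _) fun i j hij v hv => ?_
    by_cases hi : p ∣ i
    · have hj : ¬ p ∣ j := fun hj => hij ⟨hi, hj⟩
      obtain ⟨k, rfl⟩ := hi
      rw [pow_mul, show (⟨a, ha⟩ : P) ^ p = 1 from Subtype.ext hap, one_pow, one_mul] at hv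
      have hz1 : φ (z ^ j) ≠ 1 := by
        rw [map_pow, Ne, ← orderOf_dvd_iff_pow_eq_one, ho']
        exact hj
      have hm : ∀ g : P, ∀ y ∈ V ⊓ Subgroup.centralizer {((z ^ j : P) : G)},
          g * y * (g : G)⁻¹ ∈ V ⊓ Subgroup.centralizer {((z ^ j : P) : G)} := fun g y hy => by
        refine ⟨(φ g ⟨y, hy.1⟩).2, Subgroup.mem_centralizer_singleton_iff.2 ?_⟩
        refine ((hfix (z ^ j) (φ g ⟨y, hy.1⟩)).1 ?_).symm
        rw [← MulAut.mul_apply, map_pow, ← ((show Commute (φ g) (φ z) from hc' g).pow_right j).eq,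
          MulAut.mul_apply, ← map_pow,
          (hfix (z ^ j) ⟨y, hy.1⟩).2 (Subgroup.mem_centralizer_singleton_iff.1 hy.2).symm]
      have hb := ih _ (hn ▸ lt_of_not_ge fun e' => hz1 (by
          have e := Subgroup.eq_of_le_of_card_ge inf_le_left e'
          ext y
          have hy : y.1 ∈ V ⊓ Subgroup.centralizer {((z ^ j : P) : G)} := e.symm ▸ y.2
          exact congrArg Subtype.val
            ((hfix _ y).2 (Subgroup.mem_centralizer_singleton_iff.1 hy.2).symm)))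
        (V ⊓ Subgroup.centralizer {((z ^ j : P) : G)}) rfl
        (fun g hg => Subgroup.mem_normalizer_iff.2 fun y => ⟨hm ⟨g, hg⟩ y, fun hy => by
          simpa [mul_assoc] using hm ⟨g, hg⟩⁻¹ _ hy⟩)
        fun i j hij z hz hz' v hv => h i j hij z hz hz' v hv.1
      exact Subtype.ext ((Subgroup.eq_bot_iff_forall _).1 hb v
        ⟨v.2, Subgroup.mem_centralizer_singleton_iff.2 ((hfix _ _).1 hv).symm⟩)
    · exact Subtype.ext (h i 0 (fun k => hi k.1) ((z : G) ^ j) (J.pow_mem hz j) (P.pow_mem z.2 j) v v.2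
        (by simpa using (hfix _ _).1 hv))

theorem jobFP : H23.ND.JobFP.{u} := fun _ _ _ _ P V _ hV _ _ _ hp hP ha hx h1 h2 h3 h =>
  main hp hP ha hx h1 h2 h3 _ V rfl (by rw [Subgroup.normalizer_eq_top]; exact le_top) h

end H33.NdFP
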