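/- Tower O8, job FF. -/
import Cfsg.Agent.H74.O8Kit2

set_option autoImplicit false

namespace H33.O8

open Cfsg Subgroup H98 H74.O8 H74.OC

universe u

variable {G : Type u} [Group G] [Finite G]

local instance factFF : Fact (Nat.Prime 2) := ⟨Nat.prime_two⟩

omit [Finite G] in
/-- An element with at most two conjugates. -/
theorem two_conj {X : Subgroup G} {u c : G}
    (h : ∀ j ∈ X, j * u * j⁻¹ = u ∨ j * u * j⁻¹ = u * c) :
    Nat.card X ≤ 2 * Nat.card (X ⊓ centralizer ({u} : Set G) : Subgroup G) := by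
  have e := H12.card_inf_mul_relIndex (centralizer ({u} : Set G)) X
  have : (centralizer ({u} : Set G)).relIndex X ≤ 2 := by
    by_cases r : X ≤ centralizer ({u} : Set G)
    · rw [relIndex_eq_one.2 r]; norm_num
    · obtain ⟨a, ha, ha'⟩ := SetLike.not_le_iff_exists.1 r
      have k : ∀ b ∈ X, b ∉ centralizer ({u} : Set G) → b * u * b⁻¹ = u * c := fun b hb hb' =>
        (h b hb).resolve_left fun q => hb' (mem_centralizer_singleton_iff.2 (mul_inv_eq_iff_eq_mul.1 q))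
      refine (relIndex_eq_two_iff_exists_notMem_and'.2 ⟨a⁻¹, inv_mem ha, fun q => ha' (inv_mem_iff.1 q),
        fun b hb => or_iff_not_imp_right.2 fun hb' => mem_centralizer_singleton_iff.2 ?_⟩).le
      have := (k b hb hb').trans (k a ha ha').symm
      calc a⁻¹ * b * u = a⁻¹ * (b * u * b⁻¹) * b := by group
        _ = u * (a⁻¹ * b) := by rw [this]; group
  rw [← e, inf_comm, mul_comm]
  exact Nat.mul_le_mul_right _ this

theorem ffd {M Q T A : Subgroup G} {k : ℕ} (mx : Mx M Q) (ty : Typ M Q k)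
    (hk : 4 ^ k ≤ Nat.card (oz 2 Q)) (QT : Q ≤ T) (TM : T ≤ M) (hA : A ∈ H12.maxEA 2 T)
    (AQ : ¬ A ≤ Q) : FFD Q T A ∧ ∀ t ∈ A, t ∉ Q →
      Nat.card (oz 2 Q) = 4 * Nat.card (oz 2 Q ⊓ centralizer ({t} : Set G) : Subgroup G) := by
  set V := oz 2 Q with hV
  have nV : M ≤ normalizer (V : Set G) := mx.nor_oz.ge
  have sq : ∀ b ∈ A, b * b ∈ Q := fun b hb => by rw [← pow_two, hA.2.1.2 b hb]; exact one_mem _
  have A0Q : (A ⊓ Q) ⊔ V ≤ Q := sup_le inf_le_right (oz_le Q)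
  have e0 : IsElementaryAbelian 2 ((A ⊓ Q) ⊔ V) := H12.ea_sup (H12.ea_mono hA.2.1 inf_le_left)
    (ea_oz Q) (inf_le_right.trans (le_centralizer_oz Q))
  have h1 := hA.2.2 _ (A0Q.trans QT) e0
  have h2 := H12.card_sup_mul_card_inf (A := A ⊓ Q) (B := V) ((inf_le_left.trans hA.1).trans (TM.trans nV))
  rw [inf_assoc, inf_eq_right.2 (oz_le Q)] at h2
  have h3 := ty.el A (hA.1.trans TM) sq
  have p1 : 0 < Nat.card (A ⊓ Q : Subgroup G) := Nat.card_pos
  have p2 : 0 < Nat.card (A ⊓ V : Subgroup G) := Nat.card_pos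
  have h4 : Nat.card V ≤ 4 * Nat.card (A ⊓ V : Subgroup G) := by nlinarith
  have AC : A ⊓ V ≤ V ⊓ centralizer (A : Set G) :=
    le_inf inf_le_right (inf_le_left.trans (H12.ea_le_centralizer hA.2.1))
  have key : ∀ t ∈ A, t ∉ Q → 4 * Nat.card (V ⊓ centralizer ({t} : Set G) : Subgroup G) ≤ Nat.card V := by
    intro t ht tQ
    have g := ty.gen V (isPGroup_oz Q) nV t (TM (hA.1 ht)) tQ (sq t ht)
    have k0 : k ≠ 0 := by
      rintro rfl
      exact oz_ne_bot mx.two mx.ne (eq_bot_of_card_le _ (by simpa using g))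
    have := (Nat.pow_le_pow_iff_left k0).1 (hk.trans g)
    rw [← H12.card_inf_mul_relIndex (centralizer ({t} : Set G)) V, inf_comm, mul_comm]
    exact Nat.mul_le_mul_left _ this
  have ct : ∀ t ∈ A, V ⊓ centralizer (A : Set G) ≤ V ⊓ centralizer ({t} : Set G) := fun t ht =>
    inf_le_inf_left _ (centralizer_le (Set.singleton_subset_iff.2 ht))
  have eq : ∀ t ∈ A, t ∉ Q → A ⊓ V = V ⊓ centralizer ({t} : Set G) := fun t ht tQ =>
    eq_of_le_of_card_ge (AC.trans (ct t ht)) (by have := key t ht tQ; omega)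
  obtain ⟨t, ht, tQ⟩ := SetLike.not_le_iff_exists.1 AQ
  have h5 : Nat.card V = 4 * Nat.card (A ⊓ V : Subgroup G) := by
    have := key t ht tQ
    rw [← eq t ht tQ] at this
    omega
  have h6 : Nat.card ((A ⊓ Q) ⊔ V : Subgroup G) = 4 * Nat.card (A ⊓ Q : Subgroup G) :=
    Nat.eq_of_mul_eq_mul_right p2 (by rw [h2, h5]; ring)
  have mem := H12.mem_maxEA_of_card_le hA (A0Q.trans QT) e0 (by omega)
  have memQ := H12.mem_maxEA_of_le mem A0Q QT
  refine ⟨⟨by omega, by rw [h5, le_antisymm AC ((ct t ht).trans (eq t ht tQ).ge)], fun s hs sQ =>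
    (eq s hs sQ).ge.trans (AC.trans inf_le_right), mem, ?_⟩, fun s hs sQ => by rw [← eq s hs sQ, h5]⟩
  have VZ : V ≤ oz 2 (jt 2 Q) := le_oz_jt (ea_oz Q) (oz_le Q)
    ((oz_le_centralizer Q).trans (centralizer_le (jt_le Q)))
  have ZA : oz 2 (jt 2 Q) ≤ (A ⊓ Q) ⊔ V := H12.le_of_mem_maxEA memQ ((oz_le _).trans (jt_le Q))
    (ea_oz _) ((oz_le_centralizer _).trans (centralizer_le (H12.le_thompsonSubgroupOf memQ)))
  have g := ty.gen _ (isPGroup_oz _) (le_normalizer_oz mx.nor_jt.ge) t (TM (hA.1 ht)) tQ (sq t ht)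
  have i4 : (centralizer ({t} : Set G)).relIndex ((A ⊓ Q) ⊔ V) ≤ 4 := by
    have a := H12.card_inf_mul_relIndex (centralizer ({t} : Set G)) ((A ⊓ Q) ⊔ V)
    have b := card_le_of_le (show A ⊓ Q ≤ centralizer ({t} : Set G) ⊓ ((A ⊓ Q) ⊔ V) from le_inf
      (inf_le_left.trans ((H12.ea_le_centralizer hA.2.1).trans
        (centralizer_le (Set.singleton_subset_iff.2 ht)))) le_sup_left)
    nlinarith
  exact (eq_of_le_of_card_ge VZ (g.trans ((Nat.pow_le_pow_left ((relIndex_le_of_le_right ZA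
    (FiniteIndex.index_ne_zero)).trans i4) k).trans hk))).symm

theorem jobFF : JobFF.{u} := by
  intro G _ _ M Q T k _ mx ty hk QT TM
  have ff := fun A hA AQ => ffd (A := A) mx ty hk QT TM hA AQ
  refine ⟨fun A hA u hu c hc h => ?_, fun A hA AQ => (ff A hA AQ).1⟩
  have rk := ty.rk (jt 2 Q) (mx.two.to_le (jt_le Q)) mx.nor_jt.ge
  by_cases r : jt 2 T ≤ Q
  · rw [← jt_eq_of_le r QT] at h ⊢
    exact rk u (jt_eq_of_le r QT ▸ H12.le_thompsonSubgroupOf hA hu) c hc h
  obtain ⟨B, hB, BQ⟩ : ∃ B ∈ H12.maxEA 2 T, ¬ B ≤ Q := by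
    by_contra w
    push Not at w
    exact r (H12.thompsonSubgroupOf_le_iff.2 w)
  have f := (ff B hB BQ).1
  have q0 : ∀ C : Subgroup G, (C ⊓ Q) ⊔ oz 2 Q ≤ Q := fun C => sup_le inf_le_right (oz_le Q)
  have VJ : oz 2 Q ≤ jt 2 T := le_sup_right.trans (H12.le_thompsonSubgroupOf f.mem)
  have uJ : u ∈ jt 2 Q := by
    by_cases AQ : A ≤ Q
    · exact H12.le_thompsonSubgroupOf (H12.mem_maxEA_of_le hA AQ QT) hu
    have uQ : u ∈ Q := by
      by_contra uQ
      have a := (ff A hA AQ).2 u hu uQ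
      have b := two_conj (X := oz 2 Q) fun j hj => h j (VJ hj)
      have : 0 < Nat.card (oz 2 Q ⊓ centralizer ({u} : Set G) : Subgroup G) := Nat.card_pos
      omega
    exact H12.le_thompsonSubgroupOf (H12.mem_maxEA_of_le (ff A hA AQ).1.mem (q0 A) QT)
      (mem_sup_left ⟨hu, uQ⟩)
  have uV : u ∈ oz 2 Q := f.zj ▸ mem_oz.2 ⟨uJ, rk u uJ c hc fun j hj =>
    h j (H12.thompsonSubgroupOf_le_of_sub f.mem (q0 B) QT hj), hA.2.1.2 u hu⟩
  have : jt 2 T ≤ centralizer ({u} : Set G) := H12.thompsonSubgroupOf_le_iff.2 fun C hC => by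
    by_cases CQ : C ≤ Q
    · exact CQ.trans ((le_centralizer_oz Q).trans (centralizer_le (Set.singleton_subset_iff.2 uV)))
    have g := (ff C hC CQ).1
    have b := two_conj (X := C) fun j hj => h j (H12.le_thompsonSubgroupOf hC hj)
    obtain ⟨t, ht, tQ⟩ := SetLike.not_le_iff_exists.1
      (show ¬ C ⊓ centralizer ({u} : Set G) ≤ Q from fun w => by
        have a := card_le_of_le (le_inf inf_le_left w : _ ≤ C ⊓ Q)
        have := g.c1
        have : 0 < Nat.card (C ⊓ Q : Subgroup G) := Nat.card_pos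
        omega)
    exact fun x hx => mem_centralizer_singleton_iff.2 (g.cen t ht.1 tQ ⟨uV,
      mem_centralizer_singleton_iff.2 (mem_centralizer_singleton_iff.1 ht.2).symm⟩ x hx)
  exact fun j hj => mem_centralizer_singleton_iff.1 (this hj)

end H33.O8
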