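/- Tower O8, job FFB. -/
import Cfsg.Agent.H74.O8Kit2

set_option autoImplicit false

namespace H33.O8

open Cfsg Subgroup H98 H74.O8 H74.OC

universe u

local instance factFFB : Fact (Nat.Prime 2) := ⟨Nat.prime_two⟩

/-- A group with a self-centralising involution. -/
theorem selfc {X : Type*} [Group X] [Finite X] {e : X} (h1 : e ≠ 1) (h2 : e * e = 1)
    (hc : ∀ g, g * e = e * g → g = 1 ∨ g = e) :
    ∃ R : Subgroup X, (∀ r ∈ R, e * r * e⁻¹ = r⁻¹) ∧ (∀ g, g ∈ R ∨ g * e ∈ R) ∧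
      (∀ r ∈ R, ∀ s ∈ R, r * s = s * r) ∧ (∀ r ∈ R, r * r = 1 → r = 1) ∧ ∀ a, a ^ 3 = 1 → a ∈ R := by
  have o2 : orderOf e = 2 := orderOf_eq_prime (by rw [sq, h2]) h1
  have mz : ∀ g ∈ zpowers e, g = 1 ∨ g = e := fun g hg => hc g (by
    obtain ⟨k, rfl⟩ := hg; exact ((Commute.refl e).zpow_left k).eq)
  have nc : ∀ g ∈ normalizer (zpowers e : Set X), g * e = e * g := fun g hg => by
    rcases mz _ (conj_mem_of_mem_normalizer hg (mem_zpowers e)) with r | r
    · exact absurd (by simpa [mul_inv_eq_one] using r) h1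
    · exact mul_inv_eq_iff_eq_mul.1 r
  have nz : normalizer (zpowers e : Set X) = zpowers e := le_antisymm (fun g hg => by
    rcases hc g (nc g hg) with rfl | rfl
    exacts [one_mem _, mem_zpowers _]) le_normalizer
  have p2 : IsPGroup 2 (zpowers e) := isPGroup_zpowers (k := 1) (by rw [pow_one, sq, h2])
  obtain ⟨P, hP⟩ := isSyl_top_iff.1 (isSyl_of_isSyl_normalizer (H := ⊤) (by
    rw [top_inf_eq, nz]; exact isSyl_self p2))
  have hN : normalizer ((P : Subgroup X) : Set X) ≤ centralizer ((P : Subgroup X) : Set X) := by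
    rw [hP, cen_zp]; exact fun g hg => mem_centralizer_singleton_iff.2 (nc g hg)
  have cp := MonoidHom.ker_transferSylow_isComplement' P hN
  set R := (MonoidHom.transferSylow P hN).ker
  have i2 : R.index = 2 := by rw [cp.symm.index_eq_card, hP, Nat.card_zpowers, o2]
  have eR : e ∉ R := fun r => h1 (disjoint_def.1 cp.disjoint r (hP ▸ mem_zpowers e))
  have fp : MonoidHom.FixedPointFree (MulAut.conjNormal e : MulAut R) := fun r hr => by
    have : e * r * e⁻¹ = r := by simpa using congrArg Subtype.val hr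
    rcases hc r (mul_inv_eq_iff_eq_mul.1 this).symm with q | q
    · exact Subtype.ext q
    · exact absurd (q ▸ r.2) eR
  have iv : Function.Involutive (MulAut.conjNormal e : MulAut R) := fun r => by
    rw [← MulAut.mul_apply, ← map_mul, h2, map_one, MulAut.one_apply]
  have inv : ∀ r ∈ R, e * r * e⁻¹ = r⁻¹ := fun r hr => by
    simpa using congrArg Subtype.val (congrFun (fp.coe_eq_inv_of_involutive iv) ⟨r, hr⟩)
  have cov : ∀ g, g ∈ R ∨ g * e ∈ R := fun g => or_iff_not_imp_left.2 fun r =>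
    (mul_mem_iff_of_index_two i2).2 (iff_of_false r eR)
  refine ⟨R, inv, cov, fun r hr s hs =>
    congrArg Subtype.val (fp.commute_all_of_involutive iv ⟨r, hr⟩ ⟨s, hs⟩).eq, fun r hr q => ?_,
    fun a ha => (cov a).resolve_right fun q => ?_⟩
  · have := inv r hr
    rw [inv_eq_of_mul_eq_one_right q] at this
    exact (hc r (mul_inv_eq_iff_eq_mul.1 this).symm).resolve_right fun w => eR (w ▸ hr)
  · have i := inv _ q
    have a2 : a * a = 1 := by
      rw [inv_eq_of_mul_eq_one_right h2, mul_assoc, mul_assoc, h2, mul_one, mul_inv_rev,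
        inv_eq_of_mul_eq_one_right h2] at i
      exact mul_eq_one_iff_eq_inv.2 (mul_left_cancel i)
    rw [pow_succ, sq, a2, one_mul] at ha
    exact eR (by simpa [ha] using q)

variable {G : Type u} [Group G] [Finite G]

/-- The same modulo a normal subgroup. -/
theorem selfq {K T D : Subgroup G} (le1 : D ≤ T) (hT : T ≤ K) (hn : K ≤ normalizer (D : Set G))
    (self : normalizer (T : Set G) ≤ T) {e : G} (he : e ∈ T) (he' : e ∉ D)
    (two : ∀ s ∈ T, s ∉ D → s * e⁻¹ ∈ D) :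
    ∃ R : Subgroup G, D ≤ R ∧ R ≤ K ∧ (∀ r ∈ R, e * r * e⁻¹ * r ∈ D) ∧ (∀ g ∈ K, g ∈ R ∨ g * e ∈ R) ∧
      (∀ r ∈ R, ∀ s ∈ R, r * s * r⁻¹ * s⁻¹ ∈ D) ∧ (∀ r ∈ R, r * r = 1 → r ∈ D) ∧
      ∀ a ∈ K, a ^ 3 = 1 → a ∈ R := by
  have : (D.subgroupOf K).Normal := (normal_subgroupOf_iff_le_normalizer (le1.trans hT)).2 hn
  let π := QuotientGroup.mk' (D.subgroupOf K)
  have m : ∀ a : K, π a = 1 ↔ (a : G) ∈ D := fun a => by
    rw [QuotientGroup.mk'_apply, QuotientGroup.eq_one_iff, mem_subgroupOf]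
  let e' : K := ⟨e, hT he⟩
  obtain ⟨R, a1, a2, a3, a4, a5⟩ := selfc (e := π e') (fun r => he' ((m _).1 r)) (by
    rw [← map_mul, m]
    have := inv_mem (two e⁻¹ (inv_mem he) fun r => he' (inv_mem_iff.1 r))
    simpa using this) (fun g hg => by
    obtain ⟨g, rfl⟩ : ∃ k, π k = g := QuotientGroup.mk'_surjective _ g
    have c : (g : G) * e * g⁻¹ * e⁻¹ ∈ D := (m (g * e' * g⁻¹ * e'⁻¹)).1 (by
      rw [map_mul, map_mul, map_mul, hg, map_inv, map_inv]; group)
    have gT : (g : G) ∈ T := self (mem_normalizer_of_cj_le fun y hy => by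
      obtain ⟨t, ht, rfl⟩ := hy
      change (g : G) * t * g⁻¹ ∈ T
      by_cases r : t ∈ D
      · exact le1 (conj_mem_of_mem_normalizer (hn g.2) r)
      · have := mul_mem (mul_mem (le1 (conj_mem_of_mem_normalizer (hn g.2) (two t ht r))) (le1 c)) he
        simpa [mul_assoc] using this)
    by_cases r : (g : G) ∈ D
    · exact .inl ((m g).2 r)
    · exact .inr (mul_inv_eq_one.1 (by rw [← map_inv, ← map_mul, m]; exact two _ gT r)))
  have mR : ∀ g : K, (g : G) ∈ (R.comap π).map K.subtype ↔ π g ∈ R := fun g =>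
    (mem_map_iff_mem K.subtype_injective (x := g)).trans mem_comap
  refine ⟨(R.comap π).map K.subtype, fun d hd => (mR ⟨d, hT (le1 hd)⟩).2 (by
    rw [(m _).2 hd]; exact one_mem _), map_subtype_le _, ?_, fun g hg => ?_, ?_, ?_, fun a ha h3 => ?_⟩
  · rintro _ ⟨r, hr, rfl⟩
    exact (m (e' * r * e'⁻¹ * r)).1 (by
      rw [map_mul, map_mul, map_mul, map_inv, a1 _ hr, inv_mul_cancel])
  · rcases a2 (π ⟨g, hg⟩) with r | r
    · exact .inl ((mR ⟨g, hg⟩).2 r)
    · exact .inr ((mR (⟨g, hg⟩ * e')).2 (by rwa [map_mul]))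
  · rintro _ ⟨r, hr, rfl⟩ _ ⟨s, hs, rfl⟩
    exact (m (r * s * r⁻¹ * s⁻¹)).1 (by
      rw [map_mul, map_mul, map_mul, map_inv, map_inv, a3 _ hr _ hs]; group)
  · rintro _ ⟨r, hr, rfl⟩ q
    exact (m r).1 (a4 _ hr (by rw [← map_mul, show r * r = 1 from Subtype.ext q, map_one]))
  · exact (mR ⟨a, ha⟩).2 (a5 _ (by
      rw [← map_pow, show (⟨a, ha⟩ : K) ^ 3 = 1 from Subtype.ext h3, map_one]))

theorem s3_dec {S H W : Subgroup G} (h : S3T S H W) {x : G} (hx : x ∈ H) (ho : orderOf x = 3)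
    {g : G} (hg : g ∈ H) : ∃ s ∈ S, ∃ y ∈ zpowers x, g = s * y := by
  have e : H ≤ S ⊔ (W ⊔ zpowers x) := (h.sup hx ho).ge.trans
    (sup_le le_sup_left (le_sup_of_le_right le_sup_right))
  obtain ⟨s, hs, m, hm, rfl⟩ := (mem_sup_left_norm (h.le2.trans (h.nor3 hx ho))).1 (e hg)
  obtain ⟨w, hw, y, hy, rfl⟩ := (mem_sup_right_norm ((zpowers_le.2 hx).trans h.nor)).1 hm
  exact ⟨s * w, mul_mem hs (h.le1 hw), y, hy, (mul_assoc _ _ _).symm⟩

theorem prm_of_comm {S H W P D : Subgroup G} (h : S3T S H W) (h' : S3T S P D) {a x : G}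
    (ha : a ∈ H) (oa : orderOf a = 3) (hx : x ∈ P) (ox : orderOf x = 3) (c : Commute a x) :
    Prm H P := fun g hg p hp => by
  obtain ⟨s, hs, y, ⟨i, rfl⟩, rfl⟩ := s3_dec h' hx ox hp
  obtain ⟨t, ht, y, ⟨j, rfl⟩, e⟩ := s3_dec h ha oa (inv_mem hg)
  refine ⟨s * (a ^ j)⁻¹, mul_mem (h.le2 hs) (inv_mem (zpow_mem ha j)), x ^ i * t⁻¹,
    mul_mem (zpow_mem hx i) (h'.le2 (inv_mem ht)), ?_⟩
  have := ((c.zpow_zpow j i).inv_left).eq
  rw [inv_eq_iff_eq_inv.1 e, mul_inv_rev]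
  simp only [mul_assoc]
  rw [← mul_assoc (x ^ i), ← this, mul_assoc]

/-- An element of order 3 inverted modulo `W` gives a new `S3T`. -/
theorem s3_new {S H W : Subgroup G} (h : S3T S H W) {e a : G} (he : e ∈ S) (he' : e ∉ W)
    (oa : orderOf a = 3) (hn : a ∈ normalizer (W : Set G)) (hi : e * a * e⁻¹ * a ∈ W)
    (nn : a ∉ normalizer (S : Set G)) :
    S3T S (S ⊔ zpowers a) W ∧ S ≤ normalizer ((W ⊔ zpowers a : Subgroup G) : Set G) := by
  have SW := h.le2.trans h.nor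
  have n1 : S ≤ normalizer ((W ⊔ zpowers a : Subgroup G) : Set G) := by
    rw [← h.supW he he']
    refine sup_le (le_sup_left.trans le_normalizer) (zpowers_le.2 (mem_normalizer_of_cj_le ?_))
    rw [cj_sup, cj_eq_self (SW he)]
    refine sup_le le_sup_left ((MonoidHom.map_zpowers _ a).le.trans (zpowers_le.2 ?_))
    change e * a * e⁻¹ ∈ _
    simpa using mul_mem (mem_sup_left hi) (mem_sup_right (inv_mem (mem_zpowers a)))
  have i0 : zpowers a ⊓ W = ⊥ :=
    (eq_or_eq_of_card Nat.prime_three bot_le inf_le_left (by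
      rw [Nat.card_zpowers, oa, card_bot])).resolve_right fun q =>
        h.not_mem oa (h.le1 (q.ge (mem_zpowers a)).2)
  have c1 := H12.card_sup_mul_card_inf (zpowers_le.2 hn)
  rw [i0, card_bot, mul_one, Nat.card_zpowers, oa, sup_comm] at c1
  have i1 : S ⊓ (W ⊔ zpowers a) = W := (h.ovr' (le_inf h.le1 le_sup_left) inf_le_left).resolve_right
    fun q => by
      have := card_dvd_of_le (q.ge.trans inf_le_right)
      rw [h.c1, c1] at this
      exact absurd (Nat.dvd_of_mul_dvd_mul_right Nat.card_pos this) (by norm_num)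
  have c2 := H12.card_sup_mul_card_inf n1
  rw [i1, c1, ← sup_assoc, sup_eq_left.2 h.le1, ← mul_assoc] at c2
  exact ⟨⟨h.two, h.le1, le_sup_left, sup_le SW (zpowers_le.2 hn), h.c1,
    (Nat.eq_of_mul_eq_mul_right Nat.card_pos c2).trans (mul_comm _ _),
    fun q => nn (q (mem_sup_right (mem_zpowers a)))⟩, n1⟩

theorem pow6 (hs : Sp 8 G) {c x : G} (ox : orderOf x = 3) (h : c * x = x * c) : c ^ 6 = 1 := by
  have a := hs c
  have b := orderOf_pos c
  rw [← orderOf_dvd_iff_pow_eq_one]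
  by_cases r : 3 ∣ orderOf c
  · obtain q | q : orderOf c = 3 ∨ orderOf c = 6 := by omega
    all_goals rw [q]
    norm_num
  · have := hs.mul_le h (by
      rw [ox]; exact ((Nat.Prime.coprime_iff_not_dvd Nat.prime_three).2 r).symm)
    rw [ox] at this
    obtain q | q : orderOf c = 1 ∨ orderOf c = 2 := by omega
    all_goals rw [q]; norm_num

theorem jobFFB : JobFFB.{u} := by
  intro perm hm G _ _ M Q T P₁ P₂ D₁ D₂ V k hG hM hT hP f g hg
  have := Fact.mk Nat.prime_three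
  have P2M : P₂ ≤ M := hP.sup ▸ le_sup_right
  refine P2M (by_contra fun gP => ?_)
  have s2 := hP.s2
  have KD : normalizer (V : Set G) ≤ normalizer (D₂ : Set G) :=
    f.cv ▸ normalizer_le_normalizer_centralizer V
  obtain ⟨e, he, he'⟩ := s2.exs
  obtain ⟨R, r1, r2, r3, r4, r5, r6, r7⟩ := selfq s2.le1 (s2.le2.trans f.nv) KD f.self he he'
    fun s hs hs' => s2.mul_inv_mem hs he hs' he'
  obtain ⟨r, hr, rP⟩ : ∃ r ∈ R, r ∉ P₂ := by
    rcases r4 g hg with q | q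
    · exact ⟨g, q, gP⟩
    · exact ⟨_, q, fun w => gP ((mul_mem_cancel_right (s2.le2 he)).1 w)⟩
  obtain ⟨x, hx, ox⟩ := s2.ex3
  have x3 : x ^ 3 = 1 := ox ▸ pow_orderOf_eq_one x
  obtain ⟨n, hn, cx⟩ := lift_fix s2.twoW ox (s2.nor hx) (r5 x (r7 x (f.nv hx) x3) r hr)
  have DP := s2.le1.trans s2.le2
  have cR : n * r ∈ R := mul_mem (r1 hn) hr
  have cP : n * r ∉ P₂ := fun w => rP ((mul_mem_cancel_left (DP hn)).1 w)
  generalize n * r = c at cx cR cP
  have cc : Commute c x := mem_centralizer_singleton_iff.1 cx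
  have c6 := pow6 hG.sp ox cc
  have c4 : c ^ 4 ∉ P₂ := fun w => cP ((mul_mem_cancel_left (DP (r6 _ (pow_mem cR 3) (by
    rw [← pow_add, c6])))).1 (by rwa [← pow_succ]))
  have o4 : orderOf (c ^ 4) = 3 := orderOf_eq_prime (by
    rw [← pow_mul, show 4 * 3 = 6 * 2 from rfl, pow_mul, c6, one_pow]) fun w => c4 (w ▸ one_mem _)
  have A9 := card9 o4 ox (cc.pow_left 4).eq fun w => c4 (zpowers_le.2 hx w)
  have AK : zpowers (c ^ 4) ⊔ zpowers x ≤ normalizer (V : Set G) :=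
    sup_le (zpowers_le.2 (r2 (pow_mem cR 4))) (zpowers_le.2 (f.nv hx))
  have Ax : zpowers (c ^ 4) ⊔ zpowers x ≤ centralizer ({x} : Set G) :=
    sup_le (zpowers_le.2 (pow_mem cx 4)) (zpowers_le.2 (mem_centralizer_singleton_iff.2 rfl))
  have VT : V ≤ T := f.zj ▸ (oz_le _).trans (jt_le T)
  have V0 : ¬ V ≤ ⊥ := fun w => he' (f.cv ▸ fun v hv => by rw [mem_bot.1 (w hv), one_mul, mul_one])
  obtain ⟨a, aA, oa, a0⟩ : ∃ a ∈ zpowers (c ^ 4) ⊔ zpowers x, orderOf a = 3 ∧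
      ¬ V ⊓ centralizer ({a} : Set G) ≤ ⊥ := by
    by_contra w
    push Not at w
    exact V0 (gen9 hG.sp A9 (s2.two.to_le VT) AK w)
  have aP : a ∉ P₂ := fun w => a0 (f.fpf a w oa).le
  obtain ⟨s3, n3⟩ := s3_new s2 he he' oa (KD (AK aA))
    (r3 a (r7 a (AK aA) (oa ▸ pow_orderOf_eq_one a))) fun w => aP (s2.le2 (f.self w))
  have U0 : V ⊓ centralizer ((D₂ ⊔ zpowers a : Subgroup G) : Set G) ≠ ⊥ := fun w => a0 (w ▸
    le_inf inf_le_left (le_centralizer_iff.1 (sup_le (f.cv ▸ centralizer_le inf_le_left)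
      (le_centralizer_iff.1 (cen_zp a ▸ inf_le_right)))))
  obtain ⟨⟨z, ⟨zv, zc⟩, zo⟩, z1⟩ := ne_bot_iff_exists_ne_one.1 (inf_oz_ne_bot s2.two (inf_le_left.trans VT)
    (le_normalizer_inf (s2.le2.trans f.nv) (n3.trans (normalizer_le_normalizer_centralizer _))) U0)
  have z1 : z ≠ 1 := fun w => z1 (Subtype.ext w)
  have z2 : z ^ 2 = 1 := (mem_oz.1 zo).2.2
  have p1 : P₁ ≤ centralizer ({z} : Set G) := f.cz ▸ centralizer_le (Set.singleton_subset_iff.2 zo)
  have p2 : T ⊔ zpowers a ≤ centralizer ({z} : Set G) := sup_le (hP.s1.le2.trans p1)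
    (zpowers_le.2 (mem_centralizer_singleton_iff.2 (zc a (mem_sup_right (mem_zpowers a)))))
  have pm := (perm G T P₁ D₁ _ D₂ _ hG.sp hP.s1 s3 f.cz.ge p1 p2
    (f.syl.of_le (hP.s1.le2.trans p1) le_top) (hG.cen1 z1 z2) (t23_of_cen hG.sp z1 z2 le_rfl)).2
  have aH : a ∈ T ⊔ zpowers a := mem_sup_right (mem_zpowers a)
  exact aP (hP.nd2 ⟨hm G M Q T P₁ P₂ _ D₂ k hG.sp hM hT hP.sup (hP.q2.trans s2.le1) hP.syl.le s3 pm
    (prm_of_comm s3 s2 aH oa hx ox (mem_centralizer_singleton_iff.1 (Ax aA))) aH, KD (AK aA)⟩)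

end H33.O8
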