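/- Tower O8, job FFK. -/
import Cfsg.Agent.H33.O8FF
import Cfsg.Agent.H12.Hol

set_option autoImplicit false

namespace H33.O8

open Cfsg Subgroup H98 H74.O8 H74.OC

universe u

local instance factFFK : Fact (Nat.Prime 2) := ⟨Nat.prime_two⟩

/-- Failure of Thompson factorisation in a solvable group gives a four-group. -/
theorem four {X : Type u} [Group X] [Finite X] [Group.IsSolvable X]
    (hc : centralizer (pCore 2 X : Set X) ≤ pCore 2 X) (P : Sylow 2 X)
    (hn : ¬ thompsonSubgroup 2 X ≤ centralizer (H12.omV 2 X : Set X)) :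
    ∃ V : Subgroup X, V ≤ P ∧ IsElementaryAbelian 2 V ∧ Nat.card V = 4 ∧
      jt 2 (P : Subgroup X) ≤ normalizer (V : Set X) ∧ ¬ jt 2 (P : Subgroup X) ≤ centralizer (V : Set X) := by
  have hV : IsElementaryAbelian 2 (H12.omV 2 X) := H12.ea_omV hc
  have h := H12.tr_hol (H12.omV 2 X)
  have := H12.thompsonSubgroup_normal (p := 2) (G := X)
  have hf := h.ff hV (H18.isPSolvable_of_isSolvable 2) H12.pCore_quotient_omV (thompsonSubgroup 2 X)
  have hgen := h.thompson_gen hV hf
  rw [← h.ker_eq, ← Subgroup.map_eq_bot_iff] at hn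
  obtain ⟨E, hE⟩ := H12.FF.exists_isBlock hgen hn
  have hb := hf.isBlock_sl hE
  have WV := commutator_le_left' hb.norm
  obtain ⟨U, le, e⟩ : ∃ U ≤ H12.omV 2 X, H12.Tr.im _ U = _ := ⟨_, H12.Tr.pull_le _, H12.Tr.im_pull WV⟩
  have c4 : Nat.card U = 4 := by rw [← h.card_im le, e, hb.card_comm]; rfl
  have nU : thompsonSubgroup 2 X ≤ normalizer (U : Set X) := fun g hg => (h.mem_normalizer_im le).1 (by
    rw [e]
    exact le_normalizer_commutator hf.norm (hf.isBlock_normal hgen hE) (mem_map_of_mem _ hg))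
  have cU : ¬ thompsonSubgroup 2 X ≤ centralizer (U : Set X) := fun r => by
    have : E = ⊥ := le_bot_iff.1 (hb.faith ▸ le_inf le_rfl ((hf.isBlock_le hE).trans (by
      rintro _ ⟨g, hg, rfl⟩
      rw [← e]
      exact (h.mem_centralizer_im le).2 (r hg))))
    have := hb.card_comm
    rw [‹E = ⊥›, commutator_bot_right, card_bot] at this
    norm_num at this
  rw [H12.thompsonSubgroup_eq_iSup, iSup_le_iff, not_forall] at cU
  obtain ⟨T, hT⟩ := cU
  obtain ⟨g, -, hg⟩ := (isSyl_sylow T).exists_cj_eq (isSyl_sylow P)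
  have l2 : cj g U ≤ H12.omV 2 X := (cj_mono g le).trans (cj_eq_self (le_normalizer_of_normal (mem_top g))).le
  refine ⟨cj g U, l2.trans ((H12.omV_le_center_pCore hc).trans (inf_le_left.trans (H2.pCore_le_sylow P))),
    H12.ea_mono hV l2, by rw [card_cj, c4], ?_, fun r => hT ?_⟩
  · rw [← hg, ← cj_jt, ← cj_normalizer]
    exact cj_mono g ((H12.thompsonSubgroupOf_sylow_le T).trans nU)
  · rwa [← hg, ← cj_jt, ← cj_centralizer, cj_le_cj_iff] at r

variable {G : Type u} [Group G] [Finite G]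

theorem nou_four {S V : Subgroup G} (h2 : IsPGroup 2 S) (nou : NoU S) (VS : V ≤ S)
    (ea : IsElementaryAbelian 2 V) (c4 : Nat.card V = 4) (hn : jt 2 S ≤ normalizer (V : Set G)) :
    jt 2 S ≤ centralizer (V : Set G) := by
  obtain ⟨⟨c, cV, cJ⟩, c1⟩ := ne_bot_iff_exists_ne_one.1 (inf_centralizer_ne_bot (h2.to_le VS)
    (h2.to_le (jt_le S)) hn (by rintro rfl; simp at c4))
  have c1 : c ≠ 1 := fun w => c1 (Subtype.ext w)
  have c2 : c * c = 1 := by rw [← sq, ea.2 c cV]
  have zc : zpowers c ≤ centralizer (jt 2 S : Set G) := zpowers_le.2 cJ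
  have i2 : ((zpowers c).subgroupOf V).index = 2 := Nat.eq_of_mul_eq_mul_left (by norm_num : 0 < 2) (by
    have := H12.card_mul_relIndex (zpowers_le.2 cV)
    rwa [Nat.card_zpowers, orderOf_eq_prime (ea.2 c cV) c1, c4] at this)
  refine le_centralizer_iff.1 fun u hu => ?_
  by_cases r : u ∈ zpowers c
  · exact zc r
  have h : ∀ j ∈ jt 2 S, j * u * j⁻¹ = u ∨ j * u * j⁻¹ = u * c := fun j hj => by
    have wV := conj_mem_of_mem_normalizer (hn hj) hu
    have w : j * u * j⁻¹ ∉ zpowers c := fun q => r (by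
      have := zc q j⁻¹ (inv_mem hj)
      rw [show j⁻¹ * (j * u * j⁻¹) = u * j⁻¹ by group, mul_left_inj] at this
      rwa [this])
    obtain ⟨k, hk⟩ : u⁻¹ * (j * u * j⁻¹) ∈ zpowers c :=
      (mul_mem_iff_of_index_two i2 (a := ⟨u, hu⟩⁻¹) (b := ⟨_, wV⟩)).2
        (iff_of_false (fun q => r (inv_mem_iff.1 q)) w)
    rw [eq_inv_mul_iff_mul_eq] at hk
    rw [← hk]
    obtain ⟨m, rfl | rfl⟩ := Int.even_or_odd' k
    · left; simp [zpow_mul, sq, c2]
    · right; simp [zpow_add, zpow_mul, sq, c2]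
  obtain ⟨A, hA⟩ := H12.exists_mem_maxEA (p := 2) S
  by_cases uA : u ∈ A
  · exact nou A hA u uA c c2 h
  have b := two_conj (X := A) fun j hj => h j (H12.le_thompsonSubgroupOf hA hj)
  have lt : A ⊓ centralizer ({u} : Set G) < (A ⊓ centralizer ({u} : Set G)) ⊔ zpowers u :=
    lt_of_le_of_ne le_sup_left fun e => uA (e.ge (mem_sup_right (mem_zpowers u))).1
  refine nou _ (H12.mem_maxEA_of_card_le hA (sup_le (inf_le_left.trans hA.1) (zpowers_le.2 (VS hu)))
    (H12.ea_sup (H12.ea_mono hA.2.1 inf_le_left) (H12.ea_zpowers (ea.2 u hu))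
      (inf_le_right.trans (cen_zp u).ge)) (b.trans ?_)) u (mem_sup_right (mem_zpowers u)) c c2 h
  obtain ⟨k, hk⟩ := card_dvd_of_le lt.le
  have p : 0 < Nat.card ((A ⊓ centralizer ({u} : Set G)) ⊔ zpowers u : Subgroup G) := Nat.card_pos
  rcases k with _ | _ | k
  · omega
  · exact absurd (eq_of_le_of_card_ge lt.le (by omega)) lt.ne
  · nlinarith

theorem jobFFK : JobFFK.{u} := by
  intro G _ _ S K sy ch so nou g hg
  obtain ⟨P, rfl⟩ := sy.exists_sylow_map
  have inj := K.subtype_injective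
  by_cases r : thompsonSubgroup 2 K ≤ centralizer (H12.omV 2 K : Set K)
  · obtain ⟨c, hc, n, hn, e⟩ := H12.factor_of_thompson_le_centralizer r P ⟨g, hg⟩
    rw [show g = c * n from congrArg Subtype.val e]
    refine mul_mem (mem_sup_left ⟨c.2, ?_⟩) (mem_sup_right ⟨n.2, ?_⟩)
    · rw [← map_oz inj]
      rintro _ ⟨v, hv, rfl⟩
      exact congrArg Subtype.val (hc v (H12.omZ_le_omV P hv))
    · rw [jt, ← H12.map_thompsonSubgroupOf _ _ inj]
      exact le_normalizer_map K.subtype ⟨n, hn, rfl⟩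
  · obtain ⟨V, a1, a2, a3, a4, a5⟩ := four (charP_iff.1 ch) P r
    have := nou_four sy.isPGroup nou (map_mono a1) (H12.ea_map a2 _)
      (by rw [card_map_of_injective inj, a3]) (by
        rw [jt, ← H12.map_thompsonSubgroupOf _ _ inj]
        exact (map_mono a4).trans (le_normalizer_map _))
    rw [jt, ← H12.map_thompsonSubgroupOf _ _ inj] at this
    exact absurd (fun x hx v hv => inj (this (mem_map_of_mem _ hx) _ (mem_map_of_mem _ hv))) a5

end H33.O8
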