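/- Tower O8, job PERM. -/
import Cfsg.Agent.H33.O8FFB
import Cfsg.Agent.H74.O8E3
import Cfsg.Agent.H1.Coprime2

set_option autoImplicit false

namespace H33.O8

open Cfsg Subgroup H98 H74.O8 H74.OC
open scoped commutatorElement

universe u

variable {G : Type u} [Group G] [Finite G]

local instance factPerm : Fact (Nat.Prime 2) := ⟨Nat.prime_two⟩

/-- An element of odd order centralises `oz R` if it centralises `oz S` and `S` normalises `R⟨u⟩`. -/
theorem cen_oz_of {S R : Subgroup G} {u : G} (h2 : IsPGroup 2 S) (RS : R ≤ S)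
    (hS : S ≤ normalizer (R : Set G)) (hu : u ∈ normalizer (R : Set G)) (ou : orderOf u = 3)
    (hE : S ≤ normalizer ((zpowers u ⊔ R : Subgroup G) : Set G))
    (hc : u ∈ centralizer (oz 2 S : Set G)) : u ∈ centralizer (oz 2 R : Set G) := by
  have uZ : zpowers u ≤ normalizer (oz 2 R : Set G) := le_normalizer_oz (zpowers_le.2 hu)
  have e : ⁅oz 2 R, zpowers u ⊔ R⁆ = ⁅oz 2 R, zpowers u⁆ := by
    refine le_antisymm (commutator_le.2 fun z hz g hg => ?_) (commutator_mono le_rfl le_sup_left)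
    obtain ⟨a, ha, r, hr, rfl⟩ := (mem_sup_left_norm (zpowers_le.2 hu)).1 hg
    have c : r * z⁻¹ = z⁻¹ * r := oz_le_centralizer R (inv_mem hz) r hr
    have : ⁅z, a * r⁆ = ⁅z, a⁆ := by
      simp only [commutatorElement_def, mul_inv_rev]
      calc _ = z * a * (r * z⁻¹) * r⁻¹ * a⁻¹ := by group
        _ = _ := by rw [c]; group
    exact this ▸ commutator_mem_commutator hz ha
  have : IsMulCommutative (oz 2 R) := (ea_oz R).1
  have b := H1.centralizer_inf_commutator_eq_bot uZ (by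
    obtain ⟨k, hk⟩ := (isPGroup_oz (p := 2) R).exists_card_eq
    rw [Nat.card_zpowers, ou, hk]
    exact Nat.Coprime.pow_right k (by norm_num))
  have le := commutator_le_left' uZ
  refine le_centralizer_iff.1 (commutator_eq_bot_iff_le_centralizer.1 ?_) (mem_zpowers u)
  by_contra r
  refine inf_oz_ne_bot h2 (le.trans ((oz_le R).trans RS))
    (e ▸ le_normalizer_commutator (le_normalizer_oz hS) hE) r (le_bot_iff.1 (b ▸ ?_))
  exact le_inf (le_inf (inf_le_left.trans le) (inf_le_right.trans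
    (le_centralizer_iff.1 (zpowers_le.2 hc)))) inf_le_left

theorem jobPERM : JobPERM.{u} := by
  intro a9 l232 G _ _ S H W P D X hs sH sP hZ HX PX sy ch t23
  have := Fact.mk Nat.prime_three
  obtain ⟨F, RF, FX, nF, f3, o3⟩ := l232 G X hs ch t23
  set R := pCoreOf 2 X with eR
  have nR : X ≤ normalizer (R : Set G) := self_le_normalizer_pCoreOf X
  have R2 : IsPGroup 2 R := isPGroup_pCoreOf X
  have RS : R ≤ S := sy.pCoreOf_le
  obtain ⟨u, hu, ou⟩ := sH.ex3
  obtain ⟨x, hx, ox⟩ := sP.ex3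
  have uF := o3 u (HX hu) ou
  have xF := o3 x (PX hx) ox
  have uR : zpowers u ≤ normalizer (R : Set G) := zpowers_le.2 (nR (HX hu))
  have eE : H ⊓ F = zpowers u ⊔ R := by
    refine le_antisymm (fun g hg => ?_) (sup_le (zpowers_le.2 ⟨hu, uF⟩) (le_inf (RS.trans sH.le2) RF))
    obtain ⟨s, hs', y, hy, rfl⟩ := s3_dec sH hu ou hg.1
    refine mul_mem (mem_sup_right ?_) (mem_sup_left hy)
    have s3 := f3 s ((mul_mem_cancel_right (zpowers_le.2 uF hy)).1 hg.2)
    obtain ⟨k, hk⟩ := isPGroup_iff_forall.1 sH.two s hs'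
    obtain ⟨j, -, e⟩ := (Nat.dvd_prime_pow Nat.prime_two).1 (orderOf_dvd_of_pow_eq_one hk)
    exact zpowers_le.2 s3 (mem_zpowers_pow_iff.2 (by
      rw [e]; exact Nat.Coprime.pow_right j (by norm_num)))
  have nE : H ≤ normalizer ((zpowers u ⊔ R : Subgroup G) : Set G) :=
    eE ▸ le_normalizer_inf le_normalizer (HX.trans nF)
  have uZ := cen_oz_of sH.two RS (sy.le.trans nR) (nR (HX hu)) ou (sH.le2.trans nE) (hZ hu)
  have yZ : x * u * x⁻¹ ∈ centralizer (oz 2 R : Set G) := conj_mem_of_mem_normalizer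
    (le_normalizer_centralizer (le_normalizer_oz nR) (PX hx)) uZ
  have yF : x * u * x⁻¹ ∈ F := mul_mem (mul_mem xF uF) (inv_mem xF)
  have : (R.subgroupOf X).Normal := (normal_subgroupOf_iff_le_normalizer (RF.trans FX)).2 nR
  let π := QuotientGroup.mk' (R.subgroupOf X)
  have m : ∀ a : X, π a = 1 ↔ (a : G) ∈ R := fun a => by
    rw [QuotientGroup.mk'_apply, QuotientGroup.eq_one_iff, mem_subgroupOf]
  have m3 : ∀ a : X, (a : G) ∈ F → π a ^ 3 = 1 := fun a ha => by rw [← map_pow, m]; exact f3 a ha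
  let u' : X := ⟨u, HX hu⟩
  let x' : X := ⟨x, PX hx⟩
  have en := engel (x := π u') (y := π x') (by rw [← map_mul]; exact m3 _ (mul_mem uF xF))
    (by rw [← map_inv, ← map_mul]; exact m3 _ (mul_mem uF (inv_mem xF))) (m3 _ xF)
  obtain ⟨n, hn, cu⟩ := lift_fix R2 ou (nR (HX hu)) (x := x * u * x⁻¹)
    ((m (u' * (x' * u' * x'⁻¹) * u'⁻¹ * (x' * u' * x'⁻¹)⁻¹)).1 (by
      simp only [map_mul, map_inv]; rw [en.eq]; group))
  have cZ : n * (x * u * x⁻¹) ∈ centralizer (oz 2 R : Set G) := mul_mem (le_centralizer_oz R hn) yZ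
  have cF : n * (x * u * x⁻¹) ∈ F := mul_mem (RF hn) yF
  have yE : x * u * x⁻¹ ∈ zpowers u ⊔ R := by
    rw [← mul_mem_cancel_left (mem_sup_right hn)]
    generalize n * (x * u * x⁻¹) = c at cu cZ cF
    have cc : Commute c u := mem_centralizer_singleton_iff.1 cu
    have c6 := pow6 hs ou cc
    rw [← mul_mem_cancel_left (mem_sup_right (f3 c cF)), ← pow_succ]
    refine mem_sup_left (by_contra fun c4 => ?_)
    have o4 : orderOf (c ^ 4) = 3 := orderOf_eq_prime (by
      rw [← pow_mul, show 4 * 3 = 6 * 2 from rfl, pow_mul, c6, one_pow]) fun w => c4 (w ▸ one_mem _)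
    have := a9 G R _ hs R2 (card9 o4 ou (cc.pow_left 4).eq c4)
      (sup_le (zpowers_le.2 (nR (FX (pow_mem cF 4)))) uR)
      (sup_le (zpowers_le.2 (pow_mem cZ 4)) (zpowers_le.2 uZ))
    exact sH.not_mem ou (RS (ch.le ⟨HX hu, this (mem_sup_right (mem_zpowers u))⟩))
  have PE : P ≤ normalizer ((zpowers u ⊔ R : Subgroup G) : Set G) := by
    rw [← sP.sup hx ox]
    refine sup_le (sH.le2.trans nE) (zpowers_le.2 (mem_normalizer_of_cj_le ?_))
    rw [cj_sup, cj_eq_self (nR (PX hx))]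
    exact sup_le ((MonoidHom.map_zpowers _ u).le.trans (zpowers_le.2 yE)) le_sup_right
  have EH : zpowers u ⊔ R ≤ H := eE ▸ inf_le_left
  refine ⟨fun h hh p hp => ?_, fun p hp h hh => ?_⟩
  · obtain ⟨s, hs', y, hy, e⟩ := s3_dec sH hu ou (inv_mem hh)
    refine ⟨p * y⁻¹ * p⁻¹, EH (conj_mem_of_mem_normalizer (PE hp) (mem_sup_left (inv_mem hy))),
      p * s⁻¹, mul_mem hp (sP.le2 (inv_mem hs')), ?_⟩
    rw [inv_eq_iff_eq_inv.1 e]; group
  · obtain ⟨s, hs', y, hy, rfl⟩ := s3_dec sH hu ou hh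
    exact ⟨s * p, mul_mem (sP.le2 hs') hp, p⁻¹ * y * p,
      EH (conj_mem_of_mem_normalizer' (PE hp) (mem_sup_left hy)), by group⟩

end H33.O8
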