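/- Tower R5, job S1: the subgroup `M` does not normalise `L = C u`. -/
import Cfsg.Agent.H34.R5Spec
import Cfsg.Agent.H99.Idx
import Cfsg.Agent.S0205

set_option autoImplicit false

namespace H33.R5S1

open Cfsg Subgroup H41.IT H34.R5

universe u

theorem jobS1 : JobS1.{u} := by
  intro hFC G _ _ x y e s hs P M hB hT hG hM u hu hN
  obtain ⟨j, hj, hb⟩ := hT.pw
  have he : Nat.card (C u) = e := hG.ce u hu
  have hsb : s ∣ c y := hb ▸ Dvd.dvd.mul_left (dvd_pow_self s hj.ne') e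
  have hsa : ¬ s ∣ c x := fun m => hs.1.one_lt.ne' (Nat.eq_one_of_dvd_coprimes hB.cop m hsb)
  have hPe : ¬ Nat.card P ∣ e := fun m => by
    rw [hB.sylow_card hsb P] at m
    refine Nat.pow_succ_factorization_not_dvd (Nat.card_pos (α := C y)).ne' hs.1 ?_
    rw [pow_succ]
    exact (Nat.mul_dvd_mul m (dvd_pow_self s hj.ne')).trans hb.symm.dvd
  have hXN : M ⊔ C u ≤ normalizer (C u : Set G) := sup_le hN le_normalizer
  have hodd : Odd (Nat.card ↥(M ⊔ C u)) :=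
    (hM.odd.mul (he ▸ hB.odd.of_dvd_nat hB.dvd)).of_dvd_nat (H99.card_sup_dvd_of_le_normalizer hN)
  have hL : ((C u).subgroupOf (M ⊔ C u)).Normal := normal_subgroupOf_of_le_normalizer hXN
  let V : Subgroup ↥(M ⊔ C u) :=
    { carrier := {v | v.1 ∈ C u ∧ v.1 ^ orderOf u = 1}
      mul_mem' := fun {a b} ha hb => ⟨mul_mem ha.1 hb.1, by
        rw [coe_mul, (hG.ab u hu _ ha.1 _ hb.1).mul_pow, ha.2, hb.2, one_mul]⟩
      one_mem' := ⟨one_mem _, one_pow _⟩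
      inv_mem' := fun {a} ha => ⟨inv_mem ha.1, by rw [coe_inv, inv_pow, ha.2, inv_one]⟩ }
  have hV : V.Normal := ⟨fun v hv g => ⟨hL.conj_mem v hv.1 g, by
    rw [coe_mul, coe_mul, coe_inv, conj_pow, hv.2, mul_one, mul_inv_cancel]⟩⟩
  have huu : u ∈ C u := mem_C.2 (Commute.refl u)
  have u1 : u ≠ 1 := fun m => hu.1.one_lt.ne' (orderOf_eq_one_iff.2 m)
  have hV0 : V ≠ ⊥ := fun m => u1 (congrArg Subtype.val ((eq_bot_iff_forall _).1 m
    ⟨u, mem_sup_right huu⟩ ⟨huu, pow_orderOf_eq_one u⟩))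
  have hVc : IsMulCommutative V :=
    ⟨⟨fun a b => Subtype.ext (Subtype.ext (hG.ab u hu _ a.2.1 _ b.2.1))⟩⟩
  have hC : ∀ v ∈ V, v ≠ 1 → C v = (C u).subgroupOf (M ⊔ C u) := fun v hv v1 => by
    have := Fact.mk hu.1
    have ho : orderOf v.1 = orderOf u := orderOf_eq_prime hv.2 fun m => v1 (Subtype.ext m)
    have h1 := hG.ti u hu v.1 hv.1 (by
      rintro ⟨k, hk⟩
      rw [ho] at hk
      exact hu.2.1 ((Nat.prime_dvd_prime_iff_eq hu.1 hs.1).1 (hu.1.dvd_of_dvd_pow hk.dvd)))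
    ext g
    exact ⟨fun m => h1.le (mem_C.2 (congrArg Subtype.val (mem_C.1 m))),
      fun m => mem_C.2 (Subtype.ext (mem_C.1 (h1.ge m)))⟩
  have hi : (C u).index = c x * s ^ j := by
    have h1 := (C u).card_mul_index
    rw [he, hB.card, hb, mul_left_comm] at h1
    exact Nat.eq_of_mul_eq_mul_left (he ▸ Nat.card_pos) h1
  have hc : e * ((C u).subgroupOf (M ⊔ C u)).index = Nat.card ↥(M ⊔ C u) := by
    rw [← he, ← Nat.card_congr (subgroupOfEquivOfLe (le_sup_right : C u ≤ M ⊔ C u)).toEquiv,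
      card_mul_index]
  have hsi : s ∣ ((C u).subgroupOf (M ⊔ C u)).index := by
    by_contra m
    refine hPe (Nat.Coprime.dvd_of_dvd_mul_right ?_ (hc ▸ card_dvd_of_le (hM.le.trans le_sup_left)))
    rw [hB.sylow_card hsb P]
    exact ((Nat.Prime.coprime_iff_not_dvd hs.1).2 m).pow_left _
  rcases hFC _ (Cfsg.Agent.S0205.result hodd) V _ (c x) s hs.1 hsa hV hL hV0 hVc hC
    ⟨j, hi ▸ Dvd.intro _ (relIndex_mul_index (le_sup_right : C u ≤ M ⊔ C u))⟩ hsi with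
    ⟨k, hk⟩ | ⟨g, r, hr, h1, h2, h3⟩
  · let f : M →* ↥(M ⊔ C u) ⧸ (C u).subgroupOf (M ⊔ C u) :=
      (QuotientGroup.mk' _).comp (inclusion le_sup_left)
    have h1 : f.ker.index ∣ s ^ k := by
      rw [index_ker, ← hk]
      exact card_subgroup_dvd_card _
    obtain ⟨l, -, hl⟩ := (Nat.dvd_prime_pow hs.1).1 h1
    have h2 := hM.res f.ker l inferInstance hl
    refine hPe (he ▸ card_dvd_of_le fun g hg => ?_)
    have h3 : (⟨g, hM.le hg⟩ : M) ∈ f.ker := h2 ▸ mem_top _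
    exact mem_subgroupOf.1 ((QuotientGroup.eq_one_iff _).1 h3)
  · rw [← orderOf_coe] at h2 h3
    exact hB.nomix hs.1 hr hsb h1 h3 h2

end H33.R5S1
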