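/- Row S3530, job Fix: fixed points on the Sylow subgroups of a normal simple subgroup. -/
import Cfsg.Agent.H70.RRSpec

set_option autoImplicit false

namespace H33.RR

open Cfsg Subgroup H24 H70.Sq H10.W H70.RR H98
open scoped commutatorElement

universe u

section Gen

variable {H Ω : Type*} [Group H] [MulAction H Ω] [Finite Ω]

/-- The points fixed by `c`. -/
abbrev Fx (Ω : Type*) [MulAction H Ω] (c : H) : Type _ := {X : Ω // c • X = X}

theorem fix_modEq {a c : H} {q : ℕ} (hq : q.Prime) (ha : orderOf a ∣ q) (h : Commute a c) :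
    Nat.card (Fx Ω c) ≡ Nat.card {X : Ω // c • X = X ∧ a • X = X} [MOD q] := by
  classical
  have := Fact.mk hq
  have := Fintype.ofFinite Ω
  let f : Function.End (Fx Ω c) := fun X => ⟨a • X.1, by rw [← mul_smul, ← h.eq, mul_smul, X.2]⟩
  have e : ∀ (k : ℕ) (X : Fx Ω c), ((f ^ k) X).1 = a ^ k • X.1 := fun k => by
    induction k with
    | zero => exact fun X => by rw [pow_zero, pow_zero, one_smul]; rfl
    | succ k ih => exact fun X => by rw [pow_succ, pow_succ, mul_smul]; exact ih (f X)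
  have := Equiv.Perm.card_fixedPoints_modEq (f := f) (p := q) (n := 1) (funext fun X => Subtype.ext (by
    rw [e, pow_one, orderOf_dvd_iff_pow_eq_one.1 ha, one_smul]; rfl))
  rw [← Nat.card_eq_fintype_card, ← Nat.card_eq_fintype_card] at this
  rwa [Nat.card_congr (⟨fun X => ⟨⟨X.1, X.2.1⟩, Subtype.ext X.2.2⟩,
    fun X => ⟨X.1.1, X.1.2, congrArg Subtype.val X.2⟩, fun _ => rfl, fun _ => rfl⟩ :
      {X : Ω // c • X = X ∧ a • X = X} ≃ f.fixedPoints)]

theorem fix_modEq' {a : H} {q : ℕ} (hq : q.Prime) (ha : orderOf a ∣ q) :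
    Nat.card Ω ≡ Nat.card (Fx Ω a) [MOD q] := by
  have := fix_modEq (Ω := Ω) hq ha (Commute.one_right a)
  simp only [one_smul, true_and] at this
  rwa [Nat.card_congr (Equiv.subtypeUnivEquiv fun X : Ω => one_smul H X)] at this

theorem two_fix {c : H} (h : 2 ≤ Nat.card (Fx Ω c)) : ∃ U V : Ω, U ≠ V ∧ c • U = U ∧ c • V = V := by
  obtain ⟨U, V, e⟩ := (Finite.one_lt_card_iff_nontrivial.1 h).exists_pair_ne
  exact ⟨U, V, fun r => e (Subtype.ext r), U.2, V.2⟩

end Gen

variable {H : Type u} [Group H] {T : Subgroup H} [T.Normal] {l : ℕ}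

/-- The conjugation action on the Sylow subgroups of `T`. -/
@[reducible] def act (T : Subgroup H) [T.Normal] (l : ℕ) : MulAction H (Sylow l T) :=
  MulAction.compHom _ (MulAut.conjNormal (H := T))

attribute [local instance] act

/-- A Sylow subgroup of `T` as a subgroup of `H`. -/
abbrev mp (U : Sylow l T) : Subgroup H := (U : Subgroup T).map T.subtype

theorem mp_smul (g : H) (U : Sylow l T) : mp (g • U) = cj g (mp U) := by
  change ((U : Subgroup T).map (MulAut.conjNormal g).toMonoidHom).map T.subtype = _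
  rw [cj, mp, map_map, map_map]
  rfl

omit [T.Normal] in
theorem mp_inj {U V : Sylow l T} (h : mp U = mp V) : U = V :=
  Sylow.ext (map_injective T.subtype_injective h)

theorem mem_St {g : H} {U : Sylow l T} : g ∈ St U ↔ g • U = U :=
  cj_eq_self_iff.symm.trans ⟨fun h => mp_inj ((mp_smul g U).trans h), fun h => by rw [← mp_smul, h]⟩

theorem smul_of_mem {u : H} {U : Sylow l T} (h : u ∈ mp U) : u • U = U := mem_St.1 (le_normalizer h)

variable [Finite H]

theorem trans_syl (hl : l.Prime) (U V : Sylow l T) : ∃ t ∈ T, t • U = V := by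
  have := Fact.mk hl
  obtain ⟨t, ht, e⟩ := (isSyl_map_subtype U).exists_cj_eq (isSyl_map_subtype V)
  exact ⟨t, ht, mp_inj ((mp_smul t U).trans e)⟩

omit [Finite H] in
theorem free (h : TI T l) {U V : Sylow l T} (hn : U ≠ V) {u : H} (hu : u ∈ mp U) (e : u • V = V) :
    u = 1 := by
  have := (isSyl_map_subtype V).le_of_le_normalizer' ((isSyl_map_subtype U).isPGroup.to_le
    (zpowers_le.2 hu)) (zpowers_le.2 (map_subtype_le _ hu)) (zpowers_le.2 (mem_St.2 e)) (mem_zpowers u)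
  have k : mp U ⊓ mp V = ⊥ := by
    rw [← map_inf _ _ _ T.subtype_injective, h.ti U V hn, Subgroup.map_bot]
  exact mem_bot.1 (k.le ⟨hu, this⟩)

omit [Finite H] in
theorem smul_ne {U V : Sylow l T} (hn : U ≠ V) {u : H} (hu : u ∈ mp U) : u • V ≠ U := fun e =>
  hn (MulAction.injective u ((smul_of_mem hu).trans e.symm))

omit [Finite H] in
theorem smul_inj (h : TI T l) {U V : Sylow l T} (hn : U ≠ V) {u u' : H} (hu : u ∈ mp U) (hu' : u' ∈ mp U)
    (e : u • V = u' • V) : u = u' :=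
  (inv_mul_eq_one.1 (free h hn (mul_mem (inv_mem hu') hu) (by rw [mul_smul, e, inv_smul_smul]))).symm

theorem regular (h : TI T l) {U V W : Sylow l T} (hn : U ≠ V) (hW : W ≠ U) : ∃ u ∈ mp U, u • V = W := by
  classical
  have := Fact.mk h.prime
  let f : mp U → {W : Sylow l T // W ≠ U} := fun u => ⟨u.1 • V, smul_ne hn u.2⟩
  have : Function.Bijective f := (Nat.bijective_iff_injective_and_card f).2
    ⟨fun a b e => Subtype.ext (smul_inj h hn a.2 b.2 (congrArg Subtype.val e)), by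
      have := Nat.card_congr (Equiv.optionSubtypeNe U)
      rw [Finite.card_option, h.nsyl U] at this
      rw [card_map_of_injective T.subtype_injective]
      omega⟩
  obtain ⟨u, e⟩ := this.2 ⟨W, hW⟩
  exact ⟨u, u.2, congrArg Subtype.val e⟩

theorem regular_fix (h : TI T l) {U V W : Sylow l T} (hn : U ≠ V) (hW : W ≠ U) {w : H} (a : w • U = U)
    (b : w • V = V) (c : w • W = W) : ∃ u ∈ mp U ⊓ centralizer {w}, u • V = W := by
  obtain ⟨u, hu, e⟩ := regular h hn hW
  refine ⟨u, ⟨hu, mem_centralizer_singleton_iff.2 ?_⟩, e⟩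
  have := smul_inj h hn (conj_mem_of_mem_normalizer (mem_St.2 a) hu) hu (by
    rw [mul_smul, mul_smul, inv_smul_eq_iff.2 b.symm, e, c])
  exact (mul_inv_eq_iff_eq_mul.1 this).symm

theorem card_fx (h : TI T l) {U V : Sylow l T} (hn : U ≠ V) {w : H} (a : w • U = U) (b : w • V = V) :
    Nat.card (Fx (Sylow l T) w) = Nat.card ↥(mp U ⊓ centralizer {w}) + 1 := by
  classical
  have := Fact.mk h.prime
  let f : ↥(mp U ⊓ centralizer {w}) → {W : Fx (Sylow l T) w // W ≠ ⟨U, a⟩} := fun u =>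
    ⟨⟨u.1 • V, by rw [← mul_smul, ← mem_centralizer_singleton_iff.1 u.2.2, mul_smul, b]⟩,
      fun e => smul_ne hn u.2.1 (congrArg Subtype.val e)⟩
  have : Function.Bijective f :=
    ⟨fun x y e => Subtype.ext (smul_inj h hn x.2.1 y.2.1 (congrArg (fun z => z.1.1) e)), fun W => by
      obtain ⟨u, hu, e⟩ := regular_fix h hn (fun r => W.2 (Subtype.ext r)) a b W.1.2
      exact ⟨⟨u, hu⟩, Subtype.ext (Subtype.ext e)⟩⟩
  rw [Nat.card_eq_of_bijective f this, ← Finite.card_option,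
    Nat.card_congr (Equiv.optionSubtypeNe (⟨U, a⟩ : Fx (Sylow l T) w))]

theorem card_fx_dvd (h : TI T l) {U V : Sylow l T} (hn : U ≠ V) {w : H} (a : w • U = U) (b : w • V = V)
    (h0 : mp U ⊓ centralizer {w} ≠ ⊥) :
    Nat.card (Fx (Sylow l T) w) ∣ Nat.card ↥(T ⊓ centralizer {w}) := by
  have le : ∀ X : Sylow l T, mp X ⊓ centralizer {w} ≤ T ⊓ centralizer {w} :=
    fun X => inf_le_inf_right _ (map_subtype_le _)
  have fx : ∀ t ∈ T ⊓ centralizer {w}, w • t • V = t • V := fun t ht => by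
    rw [← mul_smul, ← mem_centralizer_singleton_iff.1 ht.2, mul_smul, b]
  have e : MulAction.orbit ↥(T ⊓ centralizer {w}) V = {X | w • X = X} := by
    refine Set.Subset.antisymm (by rintro _ ⟨t, rfl⟩; exact fx t t.2) fun W hW => ?_
    by_cases r : W = U
    · obtain ⟨u, u1⟩ := ne_bot_iff_exists_ne_one.1 h0
      obtain ⟨v, hv, e⟩ := regular_fix h (U := V) (V := u.1 • V)
        (fun s => u1 (Subtype.ext (free h hn u.2.1 s.symm))) hn b (fx u (le U u.2)) a
      exact ⟨⟨v * u, mul_mem (le V hv) (le U u.2)⟩, (mul_smul _ _ _).trans (e.trans r.symm)⟩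
    · obtain ⟨u, hu, e⟩ := regular_fix h hn r a b hW
      exact ⟨⟨u, le U hu⟩, e⟩
  have := index_dvd_card (MulAction.stabilizer ↥(T ⊓ centralizer {w}) V)
  rwa [MulAction.index_stabilizer, e, ← Nat.card_coe_set_eq] at this

theorem cent_of_all (ns : NS T) (hl : l.Prime) {U V : Sylow l T} (hn : U ≠ V) {w : H}
    (hw : ∀ X : Sylow l T, w • X = X) : w ∈ centralizer (T : Set H) := fun t ht => by
  have := ns.simple
  have m : w ∈ (MulAction.toPermHom H (Sylow l T)).ker := Equiv.ext hw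
  rcases (inferInstance : ((MulAction.toPermHom H (Sylow l T)).ker.subgroupOf T).Normal).eq_bot_or_eq_top
    with e | e
  · refine commutatorElement_eq_one_iff_mul_comm.1 (congrArg Subtype.val (mem_bot.1 (e.le
      (show (⟨⁅t, w⁆, commutator_le_left _ ⊤ (commutator_mem_commutator ht (mem_top w))⟩ : T) ∈ _ from
        mem_subgroupOf.2 (commutator_le_right ⊤ _ (commutator_mem_commutator (mem_top t) m))))))
  · obtain ⟨s, hs, r⟩ := trans_syl hl U V
    exact (hn ((Equiv.congr_fun (e.ge (mem_top (⟨s, hs⟩ : T))) U).symm.trans r)).elim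

theorem card_pow (ns : NS T) {n d ν : ℕ} (h : L2D T l n d ν) {w : H} (h2 : 2 ≤ Nat.card (Fx (Sylow l T) w)) :
    ∃ j ≤ n, Nat.card (Fx (Sylow l T) w) = l ^ j + 1 ∧ (j = n → w ∈ centralizer (T : Set H)) ∧
      (1 ≤ j → l ^ j + 1 ∣ Nat.card ↥(T ⊓ centralizer {w}) ∧
        ∃ z ∈ T ⊓ centralizer {w}, orderOf z = l) := by
  have := Fact.mk h.prime
  obtain ⟨U, V, hn, a, b⟩ := two_fix h2
  obtain ⟨j, j1, j2⟩ := (Nat.dvd_prime_pow h.prime).1 (show Nat.card ↥(mp U ⊓ centralizer {w}) ∣ l ^ n by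
    rw [← h.syl U, ← card_map_of_injective (K := (U : Subgroup T)) T.subtype_injective]
    exact card_dvd_of_le inf_le_left)
  have e := card_fx h.toTI hn a b
  rw [j2] at e
  refine ⟨j, j1, e, fun r => cent_of_all ns h.prime hn fun X => ?_, fun r => ⟨e ▸ card_fx_dvd h.toTI hn a b
    fun s => ?_, ?_⟩⟩
  · obtain ⟨Y, rfl⟩ := ((Nat.bijective_iff_injective_and_card (Subtype.val : Fx (Sylow l T) w → _)).2
      ⟨Subtype.val_injective, by rw [e, h.nsyl U, h.syl U, r]⟩).2 X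
    exact Y.2
  · rw [s, card_bot] at j2
    exact (Nat.one_lt_pow (by omega) h.prime.one_lt).ne j2
  · obtain ⟨z, hz⟩ := exists_prime_orderOf_dvd_card' (G := ↥(mp U ⊓ centralizer {w})) l
      (j2 ▸ dvd_pow_self l (by omega))
    exact ⟨z, ⟨map_subtype_le _ z.2.1, z.2.2⟩, (orderOf_coe z).trans hz⟩

theorem fix4a (ns : NS T) {n d ν : ℕ} (h : L2D T l n d ν) {u v : H} {b p : ℕ} (hb : b.Prime) (hp : p.Prime)
    (b2 : b ≠ 2) (p2 : p ≠ 2) (c : Commute u v) (ou : orderOf u ∣ b) (ov : orderOf v ∣ p)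
    (hn : ¬ p ∣ l ^ n + 1) : (∃ U : Sylow l T, u ∈ St U ∧ v ∈ St U) ∨
      b ∣ l ^ n + 1 ∧ (v ∈ centralizer (T : Set H) ∨ ∃ j, 1 ≤ j ∧ j < n ∧ b ∣ l ^ j + 1) := by
  have := Fact.mk h.prime
  have := Fact.mk hb
  obtain ⟨U⟩ : Nonempty (Sylow l T) := inferInstance
  have cΩ : Nat.card (Sylow l T) = l ^ n + 1 := by rw [h.nsyl U, h.syl U]
  refine or_iff_not_imp_left.2 fun r => ?_
  have : IsEmpty {X : Sylow l T // v • X = X ∧ u • X = X} :=
    ⟨fun X => r ⟨X, mem_St.2 X.2.2, mem_St.2 X.2.1⟩⟩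
  have d1 := fix_modEq (Ω := Sylow l T) hb ou c
  rw [Nat.card_of_isEmpty (α := {X : Sylow l T // v • X = X ∧ u • X = X}), Nat.modEq_zero_iff_dvd] at d1
  have b3 : 3 ≤ b := by have := hb.two_le; omega
  have p3 : 3 ≤ p := by have := hp.two_le; omega
  have f3 := b3.trans (Nat.le_of_dvd (Nat.pos_of_ne_zero fun e => hn (by
    have := fix_modEq' (Ω := Sylow l T) hp ov
    rwa [e, cΩ, Nat.modEq_zero_iff_dvd] at this)) d1)
  obtain ⟨j, j1, j2, j3, j4⟩ := card_pow ns h (w := v) (by omega)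
  have j0 : 1 ≤ j := Nat.pos_of_ne_zero fun e => by rw [j2, e, pow_zero] at f3; omega
  rcases j1.eq_or_lt with e | e
  · exact ⟨e ▸ j2 ▸ d1, .inl (j3 e)⟩
  refine ⟨by_contra fun nb => ?_, .inr ⟨j, j0, e, j2 ▸ d1⟩⟩
  obtain ⟨y, hy⟩ := exists_prime_orderOf_dvd_card' b ((j2 ▸ d1).trans (j4 j0).1)
  rw [← orderOf_coe] at hy
  have bl : b ≠ l := fun s => hb.not_dvd_one ((Nat.dvd_add_right
    (s.dvd.trans (dvd_pow_self l (Nat.ne_of_gt j0)))).1 (j2 ▸ d1))
  have nν : ¬ b ∣ ν := fun s => nb (by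
    rcases h.par with ⟨-, -, -, k⟩ | ⟨-, -, -, k1, k2⟩
    · exact k ▸ s
    · exact (show l ^ n + 1 = 2 * ν by omega) ▸ s.mul_left 2)
  have dl : d ∣ l ^ n - 1 := by
    rcases h.par with ⟨-, -, k, -⟩ | ⟨-, -, -, k, -⟩
    · rw [← k, Nat.add_sub_cancel]
    · rw [← k, Nat.add_sub_cancel]; exact Dvd.intro_left 2 rfl
  have lp : 1 ≤ l ^ n := Nat.one_le_pow _ _ h.prime.pos
  have od : ∀ g ∈ T, b ∣ orderOf g → orderOf g ∣ l ^ n - 1 := fun g hg k => by
    rcases h.ord ⟨g, hg⟩ with s | s | s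
    · exact (bl ((Nat.prime_dvd_prime_iff_eq hb h.prime).1
        (k.trans (orderOf_dvd_of_pow_eq_one (congrArg Subtype.val s))))).elim
    · exact (orderOf_mk g hg ▸ s).trans dl
    · exact (nν (k.trans (orderOf_mk g hg ▸ s))).elim
  have m2 : Nat.card (Fx (Sylow l T) y.1) ≡ 2 [MOD b] := by
    refine (fix_modEq' hb hy.dvd).symm.trans ?_
    rw [cΩ]
    exact ((Nat.modEq_iff_dvd' lp).2 (hy ▸ od y y.2.1 hy.symm.dvd)).symm.add_right 1
  have g2 : 2 ≤ Nat.card (Fx (Sylow l T) y.1) := by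
    by_contra s
    have := Nat.le_of_dvd (by omega) ((Nat.modEq_iff_dvd' (by omega)).1 m2)
    omega
  obtain ⟨i, -, i2, -, i4⟩ := card_pow ns h g2
  have i0 : i = 0 := by_contra fun s => by
    obtain ⟨z, hz, oz⟩ := (i4 (by omega)).2
    have cz : Commute z y.1 := mem_centralizer_singleton_iff.1 hz.2
    have k := cz.orderOf_mul_eq_mul_orderOf_of_coprime
      (by rw [oz, hy]; exact (Nat.coprime_primes h.prime hb).2 bl.symm)
    rw [oz, hy] at k
    have := (Dvd.intro b rfl).trans (k ▸ od _ (mul_mem hz.1 y.2.1) (k ▸ Dvd.intro_left l rfl))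
    exact h.prime.not_dvd_one ((Nat.dvd_add_right this).1
      ((Nat.sub_add_cancel lp).symm ▸ dvd_pow_self l (by omega)))
  rw [i0] at i2
  have cy : Commute y.1 v := mem_centralizer_singleton_iff.1 y.2.2
  have k1 := fix_modEq (Ω := Sylow l T) hp ov cy.symm
  have k2 := fix_modEq (Ω := Sylow l T) hb hy.dvd cy
  have k3 : Nat.card {X : Sylow l T // y.1 • X = X ∧ v • X = X} ≤ Nat.card (Fx (Sylow l T) y.1) :=
    Nat.card_le_card_of_injective (fun X => ⟨X.1, X.2.1⟩) fun _ _ s =>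
      Subtype.ext (congrArg (fun z : Fx (Sylow l T) y.1 => z.1) s)
  rw [i2] at k1 k3
  rw [Nat.card_congr (Equiv.subtypeEquivRight fun _ => and_comm),
    ← k1.eq_of_lt_of_lt (by simp; omega) (by simp at k3; omega)] at k2
  have := Nat.le_of_dvd (by simp) ((k2.dvd_iff dvd_rfl).1 d1)
  simp at this
  omega

theorem fix4b (ns : NS T) {n d ν : ℕ} (h : L2D T l n d ν) {w : H} {U : Sylow l T} (hw : w ∈ St U)
    (hp : (orderOf w).Prime) (hl : orderOf w ≠ l) (hi : ∀ i, 0 < i → i ≤ n → ¬ orderOf w ∣ l ^ i - 1) :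
    w ∈ centralizer (T : Set H) := by
  have := Fact.mk h.prime
  have k := fix_modEq' (Ω := Sylow l T) hp dvd_rfl
  rw [h.nsyl U, h.syl U] at k
  have nd : ∀ j, ¬ orderOf w ∣ l ^ j := fun j s =>
    hl ((Nat.prime_dvd_prime_iff_eq hp h.prime).1 (hp.dvd_of_dvd_pow s))
  have : Nonempty (Fx (Sylow l T) w) := ⟨⟨U, mem_St.1 hw⟩⟩
  obtain ⟨j, j1, j2, j3, -⟩ := card_pow ns h (w := w) (by
    have := Nat.card_pos (α := Fx (Sylow l T) w)
    by_contra s
    rw [show Nat.card (Fx (Sylow l T) w) = 0 + 1 by omega] at k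
    exact nd n (Nat.modEq_zero_iff_dvd.1 (k.add_right_cancel' 1)))
  refine j3 (by_contra fun s => hi (n - j) (by omega) (by omega) ?_)
  rw [j2] at k
  have := (Nat.modEq_iff_dvd' (Nat.pow_le_pow_right h.prime.pos j1)).1 (k.add_right_cancel' 1).symm
  rw [show l ^ n - l ^ j = l ^ j * (l ^ (n - j) - 1) by
    rw [Nat.mul_sub_one, ← pow_add, Nat.add_sub_cancel' j1]] at this
  exact (hp.dvd_mul.1 this).resolve_left (nd j)

theorem jobFix : JobFix.{u} := by
  intro H _ _ T l ns h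
  have := ns.nT
  refine ⟨fun U V => ?_, fun U => eq_top_iff.2 fun g _ => ?_, fun w U V hn a b => ?_,
    fun n d ν h => ⟨fun u v b p => fix4a ns h, fun w U => fix4b ns h⟩⟩
  · obtain ⟨t, ht, e⟩ := trans_syl h.prime V U
    exact ⟨t, ht, fun g hg => mem_St.2 (by
      rw [mul_smul, mul_smul, inv_smul_eq_iff.2 e.symm, mem_St.1 hg, e])⟩
  · obtain ⟨t, ht, e⟩ := trans_syl h.prime U (g • U)
    rw [← mul_inv_cancel_left t g]
    exact mul_mem (mem_sup_left ht) (mem_sup_right (mem_St.2 (by rw [mul_smul, ← e, inv_smul_smul])))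
  · refine or_iff_not_imp_left.2 fun r => ?_
    rw [← card_fx h hn (mem_St.1 a) (mem_St.1 b)]
    exact card_fx_dvd h hn (mem_St.1 a) (mem_St.1 b) r

end H33.RR
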