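/- Row S3530, job K1L: a single component is not a group `L₂(q)`. -/
import Cfsg.Agent.H70.RRSpec
import Cfsg.Agent.H27.Zsigmondy

set_option autoImplicit false

namespace H33.RR

open Cfsg Subgroup H24 H70.Sq H10.W H70.RR H98

universe u

theorem exists_L1 {m l n ν : ℕ} (hm : Num m) (hl : l.Prime) (n0 : n ≠ 0) (om : Om m ν)
    (hν : ν = l ^ n + 1 ∨ 2 * ν = l ^ n + 1) (h8 : l = 2 → ν = l ^ n + 1) {α β : Fin 5} (ne : α ≠ β)
    (ha : ∀ s, Cl m α s → s ∣ l ^ n + 1) (hb : ∀ s, Cl m β s → s ∣ l ^ n + 1) :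
    ∃ α β b, L1 m l n α β b := by
  have dv : ∀ s : ℕ, s.Prime → s ≠ 2 → s ∣ l ^ n + 1 → s ∣ ν := fun s h1 h2 h3 => by
    rcases hν with e | e
    · exact e ▸ h3
    · exact ((Nat.coprime_primes h1 Nat.prime_two).2 h2).dvd_of_dvd_mul_left (e ▸ h3)
  obtain ⟨a, ca⟩ := hm.ex α
  obtain ⟨b, cb⟩ := hm.ex β
  have da := dv a ca.1 (hm.ne_two ca) (ha a ca)
  have db := dv b cb.1 (hm.ne_two cb) (hb b cb)
  have full : ∀ i s, Cl m i s → (s ∣ l ^ n + 1 ↔ i = α ∨ i = β) := fun i s c =>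
    ⟨fun h => by_contra fun r => by
      rw [not_or] at r
      exact hm.three α β i a b s ne (Ne.symm r.1) (Ne.symm r.2) ca cb c (om.of_dvd
        ((Nat.Coprime.mul_left (hm.cop (Ne.symm r.1) ca c) (hm.cop (Ne.symm r.2) cb c)).mul_dvd_of_dvd_of_dvd
          ((hm.cop ne ca cb).mul_dvd_of_dvd_of_dvd da db) (dv s c.1 (hm.ne_two c) h))),
      fun h => h.elim (fun e => ha s (e ▸ c)) fun e => hb s (e ▸ c)⟩
  suffices k : ∃ i r, i ≠ 0 ∧ Cl m i r ∧ r ∣ l ^ n + 1 ∧ (∀ i, 0 < i → i ≤ n → ¬ r ∣ l ^ i - 1) ∧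
      ∀ j, 1 ≤ j → j < n → ¬ r ∣ l ^ j + 1 by
    obtain ⟨i, r, k1, k2, k3, k4, k5⟩ := k
    rcases (full i r k2).1 k3 with rfl | rfl
    · exact ⟨β, i, r, ne.symm, k1, k2, fun j s c => (full j s c).trans or_comm, k4, k5⟩
    · exact ⟨α, i, r, ne, k1, k2, full, k4, k5⟩
  have lp : ∀ k, 1 ≤ l ^ k := fun k => Nat.one_le_pow _ _ hl.pos
  have sq : ∀ k, l ^ (2 * k) - 1 = (l ^ k + 1) * (l ^ k - 1) := fun k => by
    rw [mul_comm 2 k, pow_mul, ← Nat.sq_sub_sq, one_pow]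
  rcases eq_or_ne n 1 with rfl | n1
  · have key : ∀ i r, Cl m i r → r ∣ l ^ 1 + 1 → ∀ i, 0 < i → i ≤ 1 → ¬ r ∣ l ^ i - 1 :=
      fun i r c h j j1 j2 k => by
        obtain rfl : j = 1 := by omega
        have := Nat.dvd_sub h k
        rw [show l ^ 1 + 1 - (l ^ 1 - 1) = 2 by have := lp 1; omega] at this
        exact hm.ne_two c ((Nat.prime_dvd_prime_iff_eq c.1 Nat.prime_two).1 this)
    rcases eq_or_ne α 0 with rfl | a0
    · exact ⟨β, b, ne.symm, cb, hb b cb, key β b cb (hb b cb), fun j _ _ => by omega⟩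
    · exact ⟨α, a, a0, ca, ha a ca, key α a ca (ha a ca), fun j _ _ => by omega⟩
  obtain ⟨r, r1, r2, r3⟩ := H27.zsigmondy l (2 * n) hl.one_lt (by omega) (fun ⟨e1, e2⟩ => by
    obtain rfl : n = 3 := by omega
    have e9 : ν = 3 ^ 2 := by rw [h8 e1, e1]; rfl
    have k : ∀ s : ℕ, s.Prime → s ∣ ν → s = 3 := fun s h1 h2 =>
      (Nat.prime_dvd_prime_iff_eq h1 Nat.prime_three).1 (h1.dvd_of_dvd_pow (e9 ▸ h2))
    exact ne (hm.uniq α β 3 (k a ca.1 da ▸ ca) (k b cb.1 db ▸ cb))) fun ⟨e, _⟩ => by omega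
  have nl : ¬ r ∣ l := fun h => r1.not_dvd_one ((Nat.dvd_add_right r2).1
    ((Nat.sub_add_cancel (lp _)).symm ▸ dvd_pow h (by omega)))
  have d1 : r ∣ l ^ n + 1 := (r1.dvd_mul.1 (sq n ▸ r2)).resolve_right (r3 n (by omega) (by omega))
  have r2' : r ≠ 2 := fun e => r3 1 (by omega) (by omega) (by subst e; rw [pow_one]; omega)
  have r3' : r ≠ 3 := fun e => r3 2 (by omega) (by omega) (by
    subst e
    rw [sq 1, pow_one]
    rcases (show l % 3 = 1 ∨ l % 3 = 2 by omega) with e | e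
    · exact Dvd.dvd.mul_left (by omega) _
    · exact Dvd.dvd.mul_right (by omega) _)
  obtain ⟨i, c⟩ := (hm.prime r r1 (om.of_dvd (dv r r1 r2' d1))).resolve_left r2'
  exact ⟨i, r, fun e => r3' ((hm.zero r).1 (e ▸ c)), c, d1, fun j j1 j2 => r3 j j1 (by omega),
    fun j j1 j2 h => r3 (2 * j) (by omega) (by omega) (sq j ▸ h.mul_right _)⟩

theorem jobK1L (kA : KitA.{u}) (kB : KitB.{u}) (hB : JobK1B.{u}) (hC : JobK1C.{u}) : JobK1L.{u} := by
  intro m G H _ _ _ _ ψ am fu T l n d ν one h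
  have hm := am.num
  obtain ⟨U⟩ : Nonempty (Sylow l T) := inferInstance
  obtain ⟨sol, pr, l1⟩ := hB m G H ψ am fu T l n d ν U one h
  have two : ∀ κ, ∃ i, i ≠ κ ∧ ∀ s, Cl m i s → s ∣ l ^ n + 1 := fun κ => by
    by_contra r
    push Not at r
    choose! p p1 p2 using r
    exact kA.k4 hm am.sub sol p1 fun i j a b c => pr i j _ _ c (p1 i a) (p1 j b) (p2 i a) (p2 j b)
  obtain ⟨α, -, ha⟩ := two 0
  obtain ⟨β, ne, hb⟩ := two α
  obtain ⟨α, β, b, L⟩ := exists_L1 hm h.prime (by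
      rintro rfl
      rcases h.par with ⟨-, k, -⟩ | ⟨-, k, -⟩ <;> simp at k)
    (((am.sub.of_surjective am.sj).sub T).om h.on) (by
      rcases h.par with ⟨-, -, -, k⟩ | ⟨-, -, -, k1, k2⟩
      · exact .inl k
      · exact .inr (by omega))
    (fun e => h.par.elim (fun k => k.2.2.2) fun k => (k.1 e).elim) ne hb ha
  obtain ⟨nb, l2⟩ := l1 α β b L
  choose p0 hp0 using hm.ex
  have hp : ∀ i, Cl m i (Function.update p0 β b i) := fun i => by
    rcases eq_or_ne i β with rfl | e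
    · rw [Function.update_self]; exact L.cl
    · rw [Function.update_of_ne e]; exact hp0 i
  have six : ∀ K : Subgroup G, Group.IsSolvable K →
      (∀ i j, i ≠ α → i ≠ β → j ≠ α → j ≠ β → i ≠ j → Ord K (p0 i * p0 j)) →
      (∀ i, i ≠ α → i ≠ β → Ord K (b * p0 i)) → False := fun K s h1 h2 =>
    kA.k4 (κ := α) hm am.sub s (fun i _ => hp i) fun i j a1 a2 a3 => by
      rcases eq_or_ne i β with rfl | e
      · rw [Function.update_self, Function.update_of_ne a3.symm]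
        exact h2 j a2 a3.symm
      rcases eq_or_ne j β with rfl | e'
      · rw [Function.update_self, Function.update_of_ne a3, mul_comm]
        exact h2 i a1 a3
      · rw [Function.update_of_ne e, Function.update_of_ne e']
        exact h1 i j a1 e a2 e' a3
  have nd : ∀ i, i ≠ α → i ≠ β → ¬ p0 i ∣ l ^ n + 1 := fun i a1 a2 k =>
    ((L.full i _ (hp0 i)).1 k).elim a1 a2
  have np : ∀ {i j a c}, i ≠ j → Cl m i a → Cl m j c → a ≠ c := fun e a c =>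
    (Nat.coprime_primes a.1 c.1).1 (hm.cop e a c)
  by_cases hR : b ∣ Nat.card ψ.ker
  · have rk := hC m G H ψ am fu T l n d ν α β b one h L hR
    refine six _ sol (fun i j a1 a2 a3 a4 a5 => pr i j _ _ a5 (hp0 i) (hp0 j) (nd i a1 a2) (nd j a3 a4))
      fun i a1 a2 => (l2 i _ a1 a2 (hp0 i)).2.elim id fun k => ?_
    exact ord_mono (ker_le_comap ψ _) (kA.nc2 L.cl.1 (hp0 i).1 (np a2.symm L.cl (hp0 i)) am.sol rk k.1)
  have k : ∀ i, i ≠ α → i ≠ β → Rk (p0 i) ψ.ker ∧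
      ∃ g : G, orderOf g = b * p0 i ∧ orderOf (ψ g) = b ∧ ψ g ∈ T := fun i a1 a2 =>
    (l2 i _ a1 a2 (hp0 i)).2.resolve_left fun r => by
      obtain ⟨x, hx⟩ := r.of_dvd (Dvd.intro _ rfl)
      rw [← orderOf_coe] at hx
      rcases (Nat.dvd_prime L.cl.1).1 (hx ▸ orderOf_map_dvd ψ x) with e | e
      · exact hR (hx ▸ ψ.ker.orderOf_dvd_natCard (orderOf_eq_one_iff.1 e))
      · exact nb (e ▸ (St U).orderOf_dvd_natCard x.2)
  have := Fact.mk L.cl.1
  obtain ⟨B, hS⟩ := exists_isSyl b (⊤ : Subgroup H)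
  have := (hS.isPGroup.to_le (inf_le_left (b := T))).isNilpotent
  have s := kB.sol (M := B) am.sol one.nT one.odd inferInstance
  refine six _ s (fun i j a1 a2 a3 a4 a5 => kA.nc2 (hp0 i).1 (hp0 j).1 (np a5 (hp0 i) (hp0 j)) s
    ((k i a1 a2).1.mono (ker_le_comap ψ _)) ((k j a3 a4).1.mono (ker_le_comap ψ _))) fun i a1 a2 => ?_
  obtain ⟨-, g, g1, g2, -⟩ := k i a1 a2
  obtain ⟨t, -, ht⟩ := hS.exists_cj_le (isPGroup_zpowers (x := ψ g) (k := 1)
    (by rw [pow_one, ← g2, pow_orderOf_eq_one])) le_top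
  exact g1 ▸ ord_comap am.sj (ht (conj_mem_cj (mem_zpowers _)))

end H33.RR
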