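/- Row S3530, job Red: the reduction to a solvable subgroup. -/
import Cfsg.Agent.H70.RRSpec
import Cfsg.Agent.H90.OrdRed

set_option autoImplicit false

namespace H33.RR

open Cfsg Subgroup H24 H70.Sq H10.W H70.RR H98

universe u

/-- Every non-abelian simple section has a good order. -/
def Ok (g : ℕ → Prop) (X : Type u) [Group X] : Prop :=
  ∀ (A S : Type u) [Group A] [Group S] (ι : A →* X) (f : A →* S), Function.Injective ι →
    Function.Surjective f → IsSimpleGroup S → ¬ IsMulCommutative S → g (Nat.card S)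

variable {g : ℕ → Prop} {X Y : Type u} [Group X] [Group Y]

theorem Ok.inj (h : Ok g X) {e : Y →* X} (he : Function.Injective e) : Ok g Y :=
  fun A S _ _ ι f a b => h A S (e.comp ι) f (he.comp a) b

theorem Ok.surj (h : Ok g X) {e : X →* Y} (he : Function.Surjective e) : Ok g Y :=
  fun _ S _ _ ι f a b => h (ι.range.comap e) S (Subgroup.subtype _)
    (f.comp ((MonoidHom.ofInjective a).symm.toMonoidHom.comp (e.subgroupComap ι.range)))
    (subtype_injective _) (b.comp ((MonoidHom.ofInjective a).symm.surjective.comp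
      (e.subgroupComap_surjective_of_surjective _ he)))

theorem Ok.ext (N : Subgroup X) [N.Normal] (h1 : Ok g N) (h2 : Ok g (X ⧸ N)) : Ok g X := by
  intro A S _ _ ι f a b hs hn
  rcases (Normal.map (inferInstance : (N.comap ι).Normal) f b).eq_bot_or_eq_top with e | e
  · refine h2 (A ⧸ N.comap ι) S (QuotientGroup.map _ N ι le_rfl)
      (QuotientGroup.lift _ f ((Subgroup.map_eq_bot_iff _).1 e)) ?_ (fun s => ?_) hs hn
    · refine (injective_iff_map_eq_one _).2 fun x => QuotientGroup.induction_on x fun x r => ?_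
      exact (QuotientGroup.eq_one_iff x).2 ((QuotientGroup.eq_one_iff (ι x)).1 r)
    · obtain ⟨x, rfl⟩ := b s
      exact ⟨x, rfl⟩
  · refine h1 (N.comap ι) S (ι.subgroupComap N) (f.comp (Subgroup.subtype _))
      (fun x y r => Subtype.ext (a (congrArg Subtype.val r))) (fun s => ?_) hs hn
    obtain ⟨x, hx, rfl⟩ := e.ge (mem_top s)
    exact ⟨⟨x, hx⟩, rfl⟩

theorem ok_sol [Group.IsSolvable X] : Ok g X := fun A S _ _ _ _ a b _ hn => by
  have := Group.isSolvable_of_isSolvable_injective a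
  have := Group.isSolvable_of_surjective b
  exact absurd ⟨⟨IsSimpleGroup.comm_iff_isSolvable.2 inferInstance⟩⟩ hn

theorem ok_card (hg : ∀ a b, a ∣ b → g b → g a) (h : g (Nat.card X)) : Ok g X :=
  fun _ _ _ _ ι f a b _ _ => hg _ _ ((card_dvd_of_surjective f b).trans (card_dvd_of_injective ι a)) h

theorem Ok.sup {A B : Subgroup X} (hA : Ok g A) (hB : Ok g B) (hn : A ≤ normalizer (B : Set X)) :
    Ok g ↥(A ⊔ B) := by
  have hN : A ⊔ B ≤ normalizer (B : Set X) := sup_le hn le_normalizer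
  have : (B.subgroupOf (A ⊔ B)).Normal :=
    ⟨fun a ha x => mem_subgroupOf.2 (conj_mem_of_mem_normalizer (H := B) (hN x.2) ha)⟩
  refine Ok.ext (B.subgroupOf (A ⊔ B)) (hB.inj (e := (subgroupOfEquivOfLe le_sup_right).toMonoidHom)
    (MulEquiv.injective _)) (hA.surj (e := (QuotientGroup.mk' _).comp (inclusion le_sup_left)) fun x => ?_)
  obtain ⟨x, rfl⟩ := QuotientGroup.mk_surjective x
  obtain ⟨a, ha, b, hb, e⟩ := (mem_sup_left_norm hn).1 x.2
  refine ⟨⟨a, ha⟩, QuotientGroup.eq.2 (mem_subgroupOf.2 ?_)⟩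
  change a⁻¹ * x ∈ B
  rwa [e, inv_mul_cancel_left]

theorem ok_layer [Finite X] (h : ∀ L : Subgroup X, IsComponent L → Ok g L) : Ok g (layer X) := by
  suffices k : ∀ s : Set (Subgroup X), (∀ L ∈ s, IsComponent L) → Ok g ↥(sSup s) from k _ fun _ hL => hL
  intro s
  induction s, Set.toFinite s using Set.Finite.induction_on with
  | empty => exact fun _ => by rw [sSup_empty]; exact ok_sol
  | @insert L s hL _ ih =>
    intro hs
    rw [sSup_insert]
    refine (h L (hs L (.inl rfl))).sup (ih fun M hM => hs M (.inr hM))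
      (le_normalizer_of_le_centralizer (le_centralizer_iff.1 (sSup_le fun M hM a ha b hb => ?_)))
    exact commute_of_comp (hs L (.inl rfl)) (hs M (.inr hM)) (fun e => hL (e ▸ hM)) hb ha

/-- At most one of the chosen primes divides `n`. -/
def Good (κ : Fin 5) (p : Fin 5 → ℕ) (n : ℕ) : Prop :=
  ∀ i j, i ≠ κ → j ≠ κ → i ≠ j → p i ∣ n → ¬ p j ∣ n

theorem claim (kA : KitA.{u}) {m : ℕ} (hm : Num m) {κ : Fin 5} {p : Fin 5 → ℕ} (hp : Ch m κ p)
    (G : Type u) [Group G] [Finite G] (hG : Sub m G) (h6 : Six G κ p) : ¬ Ok (Good κ p) G := by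
  induction hn : Nat.card G using Nat.strong_induction_on generalizing G with
  | _ n ih =>
  intro ok
  have hnt : (⊤ : Subgroup (G ⧸ solvableRadical G)) ≠ ⊥ := fun h => by
    have e : solvableRadical G = ⊤ := by
      rw [← QuotientGroup.ker_mk' (solvableRadical G), eq_top_iff, ← Subgroup.map_eq_bot_iff]
      exact le_bot_iff.1 (h ▸ le_top)
    refine kA.k4 hm hG (e ▸ inferInstance : Group.IsSolvable (⊤ : Subgroup G)) hp fun i j a b c => ?_
    obtain ⟨x, hx⟩ := h6 i j a b c
    exact hx ▸ ord_mem (mem_top x)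
  have ss := ss_quot G
  have sj := QuotientGroup.mk'_surjective (solvableRadical G)
  obtain ⟨L, hL, -⟩ := ss.exists_cmp (Normal.isSubnormal inferInstance) hnt
  have gd := ok.surj sj L L L.subtype (MonoidHom.id L) L.subtype_injective Function.surjective_id
    (ss.simple hL).1 (ss.simple hL).2
  have pp : ∀ i, i ≠ κ → (p i).Prime := fun i hi => (hp i hi).1
  obtain ⟨s, s1, s2, s3⟩ : ∃ s : ℕ, s.Prime ∧ s ∣ Nat.card L ∧ ∀ i, i ≠ κ → p i ≠ s → ¬ p i ∣ Nat.card L := by
    by_cases r : ∃ i, i ≠ κ ∧ p i ∣ Nat.card L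
    · obtain ⟨i, a, b⟩ := r
      exact ⟨p i, pp i a, b, fun j c d => gd i j a c (fun e => d (e ▸ rfl)) b⟩
    · obtain ⟨s, a, b⟩ := Nat.exists_prime_and_dvd (mt card_eq_one.1 (H14.comp_ne_bot hL))
      exact ⟨s, a, b, fun i c _ d => r ⟨i, c, d⟩⟩
  have := Fact.mk s1
  obtain ⟨P, hP⟩ := exists_isSyl s (normalClosure (L : Set (G ⧸ solvableRadical G)))
  have cp : ∀ i, i ≠ κ → p i ≠ s → (p i).Coprime s ∧
      (p i).Coprime (Nat.card (normalClosure (L : Set (G ⧸ solvableRadical G)))) := fun i a b => by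
    have := Fact.mk (pp i a)
    refine ⟨(Nat.coprime_primes (pp i a) s1).2 b, (pp i a).coprime_iff_not_dvd.2 fun e =>
      H2.not_dvd_card_pPrimeCore (p i) _ (e.trans (card_dvd_of_le (normalClosure_le_normal
        (H2.le_pPrimeCore_of_isSubnormal hL.1 ?_))))⟩
    exact ((pp i a).coprime_iff_not_dvd.2 (s3 i a b)).symm
  have hlt : (normalizer (P : Set (G ⧸ solvableRadical G))).comap (QuotientGroup.mk' _) ≠ ⊤ := fun e => by
    have := normal_of_top_le_normalizer (A := P) fun x _ => by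
      obtain ⟨x, rfl⟩ := sj x
      exact e.ge (mem_top x)
    have := hP.isPGroup.isNilpotent
    exact hP.eq_bot_iff.1 (ss.eq_bot (Normal.isSubnormal inferInstance) inferInstance)
      (s2.trans (card_dvd_of_le le_normalClosure))
  refine ih _ ?_ ((normalizer (P : Set (G ⧸ solvableRadical G))).comap (QuotientGroup.mk' _)) (hG.sub _)
    (fun i j a b c => ?_) rfl (ok.inj (subtype_injective _))
  · rw [← hn]
    exact lt_of_le_of_ne (card_le_card_group _) fun e => hlt (eq_top_of_card_eq _ e)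
  obtain ⟨x, hx⟩ := h6 i j a b c
  have dv := hx ▸ orderOf_map_dvd (QuotientGroup.mk' (solvableRadical G)) x
  have ne : p i ≠ p j := (Nat.coprime_primes (pp i a) (pp j b)).1 (hm.cop c (hp i a) (hp j b))
  obtain ⟨t, ht⟩ : ∃ t, t * QuotientGroup.mk' _ x * t⁻¹ ∈ normalizer (P : Set (G ⧸ solvableRadical G)) := by
    by_cases e1 : p i = s
    · have := cp j b (e1 ▸ ne.symm)
      exact H90.OrdR.conj_mem_normalizer s1 hP this.1 this.2 (e1 ▸ dv)
    by_cases e2 : p j = s
    · exact H90.OrdR.conj_mem_normalizer s1 hP (cp i a e1).1 (cp i a e1).2 (by rwa [← e2, mul_comm])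
    · exact H90.OrdR.conj_mem_normalizer s1 hP (Nat.Coprime.mul_left (cp i a e1).1 (cp j b e2).1)
        (Nat.Coprime.mul_left (cp i a e1).2 (cp j b e2).2) (dv.mul_left s)
  exact hx ▸ ord_comap sj ht

theorem jobRed (kA : KitA.{u}) (_kB : KitB.{u}) : JobRed.{u} := by
  intro m G H _ _ _ _ ψ am fu ss κ p hp
  by_contra r
  push Not at r
  have := am.sol
  have := H42.odd_order (G := H ⧸ layer H) (ss.odd_index (am.num.ab2 (am.sub.of_surjective am.sj)))
  refine claim kA am.num hp G am.sub (fun i j a b c => fu i j _ _ c (hp i a) (hp j b))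
    (Ok.ext ψ.ker ok_sol (Ok.inj (Ok.ext (layer H) (ok_layer fun L hL => ok_card ?_ (r L hL)) ok_sol)
      (QuotientGroup.kerLift_injective ψ)))
  exact fun a b d h i j c1 c2 c3 c4 c5 => h i j c1 c2 c3 (c4.trans d) (c5.trans d)

end H33.RR
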