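/- Tower RIT, job Hyp: without polar pairs the hypothesis of the tower ROOT2 holds. -/
import Cfsg.Agent.H66.RITSpec
import Cfsg.Agent.H66.RIN
import Cfsg.Agent.H70.RI4

set_option autoImplicit false

namespace H33.RitHyp

open Cfsg H70 H66.RST Subgroup

universe u

theorem jobHyp : H66.RIT.JobHyp.{u} := by
  intro G _ _ D h n ⟨a, ha⟩ hQ hZ mul
  have hM : ∀ x ∈ D, H51.R2.M0 D x = Subgroup.closure (W D x) := fun x hx => by
    refine congrArg Subgroup.closure (Set.ext fun y => ⟨fun hy => ?_, fun hy => ⟨hy.1, hy.2.1.symm.eq⟩⟩)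
    by_cases e : x = y
    · exact e ▸ E_W h.ri hx ⟨hx, rfl⟩
    · exact col_W h.ri hx hy.1 hy.2.symm (mul x hx y hy.1 e hy.2.symm)
  have hL : H66.RI.Lined D := fun x hx => n.exists_prod hx
  have hT : twoZCore G = ⊥ := eq_bot_iff.2 fun x hx => hZ ▸ mem_center_iff.2 fun g => by
    have := H66.RI.mem_twoZCore.1 hx g
    rwa [hQ, mem_bot, mul_inv_eq_one, mul_inv_eq_iff_eq_mul] at this
  have e : G ⧸ twoZCore G ≃* G :=
    (QuotientGroup.quotientMulEquivOfEq hT).trans QuotientGroup.quotientBot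
  have hs : IsSimpleGroup G := by
    have := H66.RI.isSimpleGroup_quot h.toRIC hL ha
    exact e.symm.isSimpleGroup
  refine ⟨h.ri, fun d hd e he => (h.cl d hd e he).imp fun _ k => k.symm,
    fun x hx => hM x hx ▸ N_pgroup h.ri, fun x hx => ?_, mul, n.comm_connected, hs, hZ,
    H66.RI.commutator_eq_top h.ri h.cl hL ha⟩
  rw [hM x hx, h.comm_N hx (n.four x hx), eq_bot_iff, commutator_le]
  exact fun g hg k hk => mem_bot.2 (commutatorElement_eq_one_iff_commute.2 (h.Z_comm_N hx hg hk))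

end H33.RitHyp
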