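import Cfsg.Agent.H33.SolvFix

/-! Base sizes of solvable linear groups: three colours for affine groups of order prime to 3. -/

set_option autoImplicit false

namespace H33.Solv

open Subgroup

variable {G V : Type*} [Group G] [AddCommGroup V] [DistribMulAction G V]

/-- The cyclic groups generated by `x` and `y` meet trivially. -/
def NC (x y : V) : Prop := ∀ i j : ℕ, i • x = j • y → i • x = 0

theorem NC.symm {x y : V} (h : NC x y) : NC y x := fun i j e => e.trans (h j i e.symm)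

theorem nc_zero (x : V) : NC x 0 := fun _ _ e => e.trans (smul_zero _)

theorem nc_or {r : ℕ} (hr : r.Prime) (hV : ∀ w : V, r • w = 0) (x y : V) :
    NC x y ∨ ∃ k : ℕ, y = k • x := by
  refine or_iff_not_imp_left.2 fun h => ?_
  simp only [NC, not_forall] at h
  obtain ⟨i, j, e, h0⟩ := h
  have hj : j.Coprime r := ((Nat.Prime.coprime_iff_not_dvd hr).2 (by
    rintro ⟨k, rfl⟩
    exact h0 (by rw [e, mul_comm, mul_smul, hV, smul_zero]))).symm
  obtain ⟨m, hm⟩ := Nat.exists_mul_mod_eq_one_of_coprime hj hr.one_lt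
  refine ⟨m * i, ?_⟩
  rw [mul_smul, e, ← mul_smul, mul_comm, ← Nat.mod_add_div (j * m) r, hm.2, add_smul, one_smul,
    mul_comm, mul_smul, hV, smul_zero, add_zero]

theorem aff3_of_set (Y : V → Prop)
    (h : ∀ g : G, (∀ x, Y x → Y (g • x) ∨ x = 0) → ∀ x : V, g • x = x) : AffCol G V 3 := by
  classical
  refine ⟨fun x => if x = 0 then 0 else if Y x then 1 else 2,
    fun x => by beta_reduce; split_ifs <;> decide, fun m g hg => ?_⟩
  have h0 : m = 0 := by
    have := hg 0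
    simp only [smul_zero, add_zero, if_true] at this
    split_ifs at this <;> simp_all
  refine ⟨h0, h g fun x hx => ?_⟩
  have := hg x
  simp only [h0, zero_add, smul_eq_zero_iff_eq, if_pos hx] at this
  split_ifs at this <;> simp_all

theorem aff3_nc (t2 : ∀ x : V, 2 • x = 0 → x = 0) (t3 : ∀ x : V, 3 • x = 0 → x = 0) {a b c : V}
    (ab : NC a b) (ac : NC a c) (bc : NC b c)
    (hr : ∀ g : G, g • a = a → g • b = b → g • c = c → ∀ x : V, g • x = x) : AffCol G V 3 := by
  classical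
  let Y := fun x : V => x = 1 • a ∨ x = 1 • b ∨ x = 2 • b ∨ x = 1 • c ∨ x = 2 • c ∨ x = 3 • c
  refine aff3_of_set Y fun g hY => ?_
  have t4 : ∀ x : V, 4 • x = 0 → x = 0 := fun x e => t2 _ (t2 _ (by rw [← mul_smul]; exact e))
  have t6 : ∀ x : V, 6 • x = 0 → x = 0 := fun x e => t2 _ (t3 _ (by rw [← mul_smul]; exact e))
  have ya : ∀ i : ℕ, Y (i • a) → i • a = 0 ∨ i • a = 1 • a := fun i h => by
    rcases h with h | h | h | h | h | h
    exacts [Or.inr h, Or.inl (ab _ _ h), Or.inl (ab _ _ h), Or.inl (ac _ _ h), Or.inl (ac _ _ h),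
      Or.inl (ac _ _ h)]
  have yb : ∀ i : ℕ, Y (i • b) → i • b = 0 ∨ i • b = 1 • b ∨ i • b = 2 • b := fun i h => by
    rcases h with h | h | h | h | h | h
    exacts [Or.inl (ab.symm _ _ h), Or.inr (Or.inl h), Or.inr (Or.inr h), Or.inl (bc _ _ h),
      Or.inl (bc _ _ h), Or.inl (bc _ _ h)]
  have yc : ∀ i : ℕ, Y (i • c) → i • c = 0 ∨ i • c = 1 • c ∨ i • c = 2 • c ∨ i • c = 3 • c :=
    fun i h => by
      rcases h with h | h | h | h | h | h
      exacts [Or.inl (ac.symm _ _ h), Or.inl (bc.symm _ _ h), Or.inl (bc.symm _ _ h),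
        Or.inr (Or.inl h), Or.inr (Or.inr (Or.inl h)), Or.inr (Or.inr (Or.inr h))]
  have sm : ∀ (i : ℕ) (x : V), g • i • x = i • g • x := fun i x => smul_comm g i x
  have d : ∀ (i j : ℕ) (x : V), (i + j) • x = j • x → i • x = 0 := fun i j x e => by
    rwa [add_smul, add_eq_right] at e
  have two : ∀ x : V, x ≠ 0 → Y (2 • x) → ∀ y : V, g • x = y → Y (2 • y) ∧ y ≠ 0 :=
    fun x hx h y e => ⟨by
      rw [← e, ← sm]; exact (hY _ h).resolve_right fun h => hx (t2 _ h), fun h =>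
      hx ((smul_eq_zero_iff_eq g).1 (e.trans h))⟩
  have three : ∀ x : V, x ≠ 0 → Y (3 • x) → ∀ y : V, g • x = y → Y (3 • y) := fun x hx h y e => by
    rw [← e, ← sm]; exact (hY _ h).resolve_right fun h => hx (t3 _ h)
  have na : ¬ (Y (2 • 1 • a) ∧ 1 • a ≠ 0) := fun ⟨h, h0⟩ => by
    rw [one_smul] at h h0
    rcases ya 2 h with h | h
    exacts [h0 (t2 _ h), h0 (one_smul ℕ a ▸ d 1 1 a h)]
  have nb : ¬ (Y (2 • 2 • b) ∧ 2 • b ≠ 0) := fun ⟨h, h0⟩ => by
    rw [← mul_smul] at h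
    refine h0 ?_
    rcases yb _ h with h | h | h
    exacts [by rw [t4 _ h, smul_zero], by rw [t3 _ (d 3 1 b h), smul_zero], d 2 2 b h]
  have hc : g • c = c := by
    refine (eq_or_ne c 0).elim (fun e => by rw [e, smul_zero]) fun hc => ?_
    have y2 := two c hc (by simp [Y])
    have y3 := three c hc (by simp [Y])
    rcases (hY c (by simp [Y])).resolve_right hc with h | h | h | h | h | h
    · exact (na (y2 _ h)).elim
    · have h0 := (y2 _ h).2
      have := y3 _ h
      rw [one_smul] at h0 this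
      rcases yb _ this with h | h | h
      exacts [(h0 (t3 _ h)).elim, (h0 (t2 _ (d 2 1 b h))).elim, (h0 (one_smul ℕ b ▸ d 1 2 b h)).elim]
    · exact (nb (y2 _ h)).elim
    · rwa [one_smul] at h
    · have := (y2 _ h).1
      rw [← mul_smul] at this
      rcases yc _ this with h | h | h | h
      exacts [(hc (t4 _ h)).elim, (hc (t3 _ (d 3 1 c h))).elim, (hc (t2 _ (d 2 2 c h))).elim,
        (hc (one_smul ℕ c ▸ d 1 3 c h)).elim]
    · have e2 := (y2 _ h).1
      have e3 := y3 _ h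
      rw [← mul_smul] at e2 e3
      refine (hc ?_).elim
      rcases yc _ e2 with h | h | h | h
      · exact t6 _ h
      · have h5 := d 5 1 c h
        have h9 : 9 • c = 4 • c := by rw [show 9 = 5 + 4 from rfl, add_smul, h5, zero_add]
        rcases yc _ e3 with h | h | h | h <;> rw [show 3 * 3 = 9 from rfl, h9] at h
        exacts [t4 _ h, t3 _ (d 3 1 c h), t2 _ (d 2 2 c h), one_smul ℕ c ▸ d 1 3 c h]
      · exact t4 _ (d 4 2 c h)
      · exact t3 _ (d 3 3 c h)
  have cc : ∀ (i : ℕ) (x y : V), g • y = y → g • x = i • y → x = i • y := fun i x y e h =>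
    smul_left_cancel g (by rw [h, sm, e])
  have hb : g • b = b := by
    refine (eq_or_ne b 0).elim (fun e => by rw [e, smul_zero]) fun hb => ?_
    have y2 := two b hb (by simp [Y])
    have k : ∀ i : ℕ, g • b = i • c → g • b = b := fun i h =>
      (hb (one_smul ℕ b ▸ bc 1 i ((one_smul ℕ b).trans (cc i b c hc h)))).elim
    rcases (hY b (by simp [Y])).resolve_right hb with h | h | h | h | h | h
    exacts [(na (y2 _ h)).elim, by rwa [one_smul] at h, (nb (y2 _ h)).elim, k _ h, k _ h, k _ h]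
  refine hr g ?_ hb hc
  refine (eq_or_ne a 0).elim (fun e => by rw [e, smul_zero]) fun ha => ?_
  have k : ∀ (i : ℕ) (y : V), NC a y → g • y = y → g • a = i • y → g • a = a := fun i y n e h =>
    (ha (one_smul ℕ a ▸ n 1 i ((one_smul ℕ a).trans (cc i a y e h)))).elim
  rcases (hY a (by simp [Y])).resolve_right ha with h | h | h | h | h | h
  exacts [by rwa [one_smul] at h, k _ _ ab hb h, k _ _ ab hb h, k _ _ ac hc h, k _ _ ac hc h,
    k _ _ ac hc h]

theorem aff3_odd {r : ℕ} (hr : r.Prime) (h2 : r ≠ 2) (h3 : r ≠ 3) (hV : ∀ w : V, r • w = 0)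
    (h : Base G V 3) : AffCol G V 3 := by
  obtain ⟨v, hv⟩ := h
  have t : ∀ s : ℕ, s.Prime → r ≠ s → ∀ x : V, s • x = 0 → x = 0 := fun s hs h x e =>
    AddMonoid.addOrderOf_eq_one_iff.1 (Nat.eq_one_of_dvd_coprimes ((Nat.coprime_primes hr hs).2 h)
      (addOrderOf_dvd_of_nsmul_eq_zero (hV x)) (addOrderOf_dvd_of_nsmul_eq_zero e))
  have key := fun (a b c : V) => aff3_nc (G := G) (t 2 Nat.prime_two h2) (t 3 Nat.prime_three h3)
    (a := a) (b := b) (c := c)
  have hr' : ∀ g : G, g • v 0 = v 0 → g • v 1 = v 1 → g • v 2 = v 2 → ∀ x : V, g • x = x :=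
    fun g e0 e1 e2 => hv g fun i => by fin_cases i <;> assumption
  have sm : ∀ (g : G) (k : ℕ) (x y : V), y = k • x → g • x = x → g • y = y := fun g k x y e h => by
    rw [e, smul_comm, h]
  have two : ∀ a b : V, (∀ g : G, g • a = a → g • b = b → ∀ x : V, g • x = x) → AffCol G V 3 :=
    fun a b h => by
      rcases nc_or hr hV a b with ab | ⟨k, e⟩
      · exact key a b 0 ab (nc_zero _) (nc_zero _) fun g e0 e1 _ => h g e0 e1
      · exact key a 0 0 (nc_zero _) (nc_zero _) (nc_zero _) fun g e0 _ _ => h g e0 (sm g k _ _ e e0)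
  rcases nc_or hr hV (v 0) (v 1) with ab | ⟨k, e⟩
  · rcases nc_or hr hV (v 0) (v 2) with ac | ⟨k, e⟩
    · rcases nc_or hr hV (v 1) (v 2) with bc | ⟨k, e⟩
      · exact key _ _ _ ab ac bc hr'
      · exact two _ _ fun g e0 e1 => hr' g e0 e1 (sm g k _ _ e e1)
    · exact two _ _ fun g e0 e1 => hr' g e0 e1 (sm g k _ _ e e0)
  · exact two _ _ fun g e0 e1 => hr' g e0 (sm g k _ _ e e0) e1

abbrev P4 := Fin 4 → ZMod 2

def col4 (c : P4) : ℕ := [0, 0, 0, 2, 1, 2, 0, 1, 1, 2, 1, 1, 2, 2, 1, 2].getD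
  ((c 0).val + 2 * (c 1).val + 4 * (c 2).val + 8 * (c 3).val) 0

def LX : List P4 := [![0, 0, 0, 0], ![1, 0, 0, 0], ![0, 1, 0, 0], ![0, 1, 1, 0]]

def LY : List P4 := [![0, 0, 1, 0], ![1, 1, 1, 0], ![0, 0, 0, 1], ![0, 1, 0, 1], ![1, 1, 0, 1],
  ![0, 1, 1, 1]]

theorem col4_0 : ∀ c, col4 c = 0 → c ∈ LX := by decide +kernel

theorem col4_1 : ∀ c, col4 c = 1 → c ∈ LY := by decide +kernel

theorem col4_lt : ∀ c, col4 c < 3 := by decide +kernel

set_option synthInstance.maxSize 4000 in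
set_option synthInstance.maxHeartbeats 200000 in
theorem rigid : ∀ p ∈ LX, ∀ p0 ∈ LX, ∀ p1 ∈ LX, ∀ p2 ∈ LY, ∀ p3 ∈ LY,
    (∀ v : P4, col4 (p + v 0 • (p0 - p) + v 1 • (p1 - p) + v 2 • (p2 - p) + v 3 • (p3 - p)) =
      col4 v) →
    (∀ v : P4, v 0 • (p0 - p) + v 1 • (p1 - p) + v 2 • (p2 - p) + v 3 • (p3 - p) = 0 → v = 0) →
    p = 0 ∧ p0 = ![1, 0, 0, 0] ∧ p1 = ![0, 1, 0, 0] ∧ p2 = ![0, 0, 1, 0] ∧ p3 = ![0, 0, 0, 1] := by
  decide +kernel

theorem exists_span_ge {F : Type*} [Field F] [Module F V] [FiniteDimensional F V] (k : ℕ) :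
    ∀ U : Submodule F V, Module.finrank F U + k ≤ Module.finrank F V →
      ∃ U' : Submodule F V, U ≤ U' ∧ Module.finrank F U' = Module.finrank F U + k := by
  induction k with
  | zero => exact fun U _ => ⟨U, le_rfl, rfl⟩
  | succ k ih =>
    intro U h
    obtain ⟨U', h1, h2⟩ := ih U (by omega)
    obtain ⟨v, hv⟩ : ∃ v, v ∉ U' := by
      by_contra! e
      rw [Submodule.eq_top_iff'.2 e, finrank_top] at h2
      omega
    exact ⟨U' ⊔ F ∙ v, h1.trans le_sup_left, by
      rw [Submodule.finrank_sup_span_singleton hv, h2, add_assoc]⟩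

theorem aff3_big [Module (ZMod 2) V] [Finite V] (h4 : 4 ≤ Module.finrank (ZMod 2) V)
    (h : Base G V 3) : AffCol G V 3 := by
  classical
  obtain ⟨v, hv⟩ := h
  have h3 : Module.finrank (ZMod 2) (Submodule.span (ZMod 2) (Set.range v)) ≤ 3 :=
    (finrank_range_le_card v).trans (by simp)
  obtain ⟨U, hU, hd⟩ := exists_span_ge (4 - _) (Submodule.span (ZMod 2) (Set.range v))
    ((Nat.add_sub_cancel' (h3.trans (by decide))).le.trans h4)
  rw [Nat.add_sub_cancel' (h3.trans (by decide))] at hd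
  let φ : P4 →ₗ[ZMod 2] V := U.subtype ∘ₗ (Module.finBasisOfFinrankEq _ _ hd).equivFun.symm.toLinearMap
  have hφ : Function.Injective φ := U.subtype_injective.comp (LinearEquiv.injective _)
  have hs : ∀ u ∈ U, ∃ c, φ c = u := fun u hu =>
    ⟨(Module.finBasisOfFinrankEq _ _ hd).equivFun ⟨u, hu⟩, by simp [φ]⟩
  let χ : V → ℕ := fun x => if h : ∃ c, φ c = x then col4 h.choose else 2
  have hχ : ∀ c, χ (φ c) = col4 c := fun c => by
    have h : ∃ c', φ c' = φ c := ⟨c, rfl⟩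
    simp only [χ, dif_pos h, hφ h.choose_spec]
  have hχ' : ∀ x, χ x ≠ 2 → ∃ c, φ c = x := fun x h => by_contra fun h' => h (dif_neg h')
  refine ⟨χ, fun x => by simp only [χ]; split_ifs; exacts [col4_lt _, by decide], fun m g hg => ?_⟩
  have key : ∀ c i, i ≠ 2 → col4 c = i → ∃ p, φ p = m + g • φ c ∧ col4 p = i := fun c i hi e => by
    obtain ⟨p, hp⟩ := hχ' (m + g • φ c) (by rw [hg, hχ, e]; exact hi)
    exact ⟨p, hp, by rw [← hχ, hp, hg, hχ, e]⟩
  obtain ⟨p, e, c⟩ := key 0 0 (by decide) rfl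
  obtain ⟨p0, e0, c0⟩ := key ![1, 0, 0, 0] 0 (by decide) rfl
  obtain ⟨p1, e1, c1⟩ := key ![0, 1, 0, 0] 0 (by decide) rfl
  obtain ⟨p2, e2, c2⟩ := key ![0, 0, 1, 0] 1 (by decide) rfl
  obtain ⟨p3, e3, c3⟩ := key ![0, 0, 0, 1] 1 (by decide) rfl
  rw [map_zero, smul_zero, add_zero] at e
  have sm : ∀ (c : ZMod 2) (x : V), g • c • x = c • g • x := fun c x =>
    ZMod.map_smul (DistribSMul.toAddMonoidHom V g) c x
  have lin : ∀ c : P4, φ (c 0 • (p0 - p) + c 1 • (p1 - p) + c 2 • (p2 - p) + c 3 • (p3 - p)) =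
      g • φ c := fun c => by
    have : c = c 0 • ![1, 0, 0, 0] + c 1 • ![0, 1, 0, 0] + c 2 • ![0, 0, 1, 0] +
        c 3 • ![0, 0, 0, 1] := by
      ext i; fin_cases i <;> simp
    nth_rewrite 5 [this]
    simp only [map_add, map_smul, map_sub, e, e0, e1, e2, e3, add_sub_cancel_left, smul_add, sm]
  obtain ⟨r, r0, r1, r2, r3⟩ := rigid p (col4_0 _ c) p0 (col4_0 _ c0) p1 (col4_0 _ c1)
    p2 (col4_1 _ c2) p3 (col4_1 _ c3) (fun c => by
      rw [← hχ, ← hχ, ← hg (φ c), ← lin, ← e, ← map_add]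
      simp only [add_assoc]) fun c h => hφ (by
      have := lin c
      rw [h, map_zero] at this
      rw [(smul_eq_zero_iff_eq g).1 this.symm, map_zero])
  refine ⟨by rw [← e, r, map_zero], hv g fun i => ?_⟩
  obtain ⟨c, hc⟩ := hs _ (hU (Submodule.subset_span ⟨i, rfl⟩))
  rw [← hc, ← lin, r, r0, r1, r2, r3]
  congr 1
  ext i; fin_cases i <;> simp

theorem aff3_small [Finite G] [FaithfulSMul G V] [Module (ZMod 2) V] [Finite V] [Nontrivial V]
    (h3 : ¬ 3 ∣ Nat.card G) (h4 : Module.finrank (ZMod 2) V < 4) (h : Irr G V) :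
    AffCol G V 3 := by
  classical
  have h2 : ∀ w : V, 2 • w = 0 := fun w => by
    rw [← Nat.cast_smul_eq_nsmul (ZMod 2), show ((2 : ℕ) : ZMod 2) = 0 from rfl, zero_smul]
  have hc : Nat.card V = 2 ^ Module.finrank (ZMod 2) V := by
    rw [Module.natCard_eq_pow_finrank (K := ZMod 2), Nat.card_zmod]
  have hodd : ∀ k : G, (orderOf k).Prime → orderOf k ≠ 2 →
      Nat.card V = 8 ∧ Nat.card (fix V k) = 1 := fun k hk hk2 => by
    have e1 := card_fix_modEq (V := V) hk (pow_orderOf_eq_one k)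
    have e2 := AddSubgroup.card_addSubgroup_dvd_card (fix V k)
    have e3 : Nat.card (fix V k) ≠ Nat.card V := fun e => hk.ne_one (orderOf_eq_one_iff.2
      (eq_of_smul_eq_smul (α := V) fun v => by
        rw [one_smul]; exact ((AddSubgroup.card_eq_iff_eq_top _).1 e).ge trivial))
    have e4 : 5 ≤ orderOf k := hk.five_le_of_ne_two_of_ne_three hk2
      fun e => h3 (e ▸ orderOf_dvd_natCard k)
    have e5 := Nat.le_of_dvd Nat.card_pos e2
    have e6 := (Nat.modEq_iff_dvd' e5).1 e1.symm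
    have e7 := Nat.le_of_dvd (by omega) e6
    rw [hc] at e2 e3 e5 e6 e7 ⊢
    generalize Module.finrank (ZMod 2) V = d at *
    generalize Nat.card (fix V k) = f at *
    generalize orderOf k = s at *
    have : d = 3 := by interval_cases d <;> omega
    subst this
    have : f ≤ 3 := by omega
    have : s ≤ 8 := by omega
    interval_cases f <;> interval_cases s <;> simp_all (config := {decide := true})
  have hfix : ∀ k : G, ∀ v : V, k • v = v → v ≠ 0 → k = 1 := fun k v hv h0 => by_contra fun hk => by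
    have one : ∀ k : G, Nat.card (fix V k) = 1 → ∀ v : V, k • v = v → v = 0 := fun k e v hv =>
      AddSubgroup.mem_bot.1 (AddSubgroup.card_eq_one.1 e ▸ hv)
    obtain ⟨t, ht, hp⟩ := exists_prime_pow hk
    by_cases ht2 : orderOf t = 2
    swap
    · exact h0 (one t (hodd t hp ht2).2 v (fix_zpow hv ht))
    have htt : t * t = 1 := by rw [← pow_two, ← ht2, pow_orderOf_eq_one]
    obtain ⟨k, g, hk, hp', h2', -⟩ := h.cr.inverted h2 htt
      fun e => hp.ne_one (orderOf_eq_one_iff.2 e)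
    obtain ⟨e1, e2⟩ := hodd k hp' h2'
    have e3 := card_le_sq_fix (V := V) h2 htt
    have e4 := card_mul_le (fix V t) (fix V (g * t * g⁻¹))
    have e5 : fix V t ⊓ fix V (g * t * g⁻¹) = ⊥ := eq_bot_iff.2 fun v hv =>
      one k e2 v (fix_zpow (by rw [mul_smul, show (g * t * g⁻¹) • v = v from hv.2]; exact hv.1) hk)
    rw [card_fix_conj, e5, AddSubgroup.card_bot, e1] at e4
    rw [e1] at e3
    generalize Nat.card (fix V t) = f at *
    have : f ≤ 3 := by nlinarith
    interval_cases f <;> omega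
  obtain ⟨v, hv⟩ := exists_ne (0 : V)
  exact aff3_of_set (· = v) fun g hg x => by
    rw [hfix g v ((hg v rfl).resolve_right hv) hv, one_smul]

theorem aff3 [Finite G] [FaithfulSMul G V] [Finite V] [Nontrivial V] (h3 : ¬ 3 ∣ Nat.card G)
    (h3' : ¬ 3 ∣ Nat.card V) (h : Irr G V) (hb : Base G V 3) : AffCol G V 3 := by
  obtain ⟨r, hr, hd, hV⟩ := h.exists_prime
  by_cases h2 : r = 2
  · subst h2
    let _ : Module (ZMod 2) V := AddCommGroup.zmodModule hV
    by_cases h4 : 4 ≤ Module.finrank (ZMod 2) V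
    exacts [aff3_big h4 hb, aff3_small h3 (not_le.1 h4) h]
  · exact aff3_odd hr h2 (fun e => h3' (e ▸ hd)) hV hb

end H33.Solv
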