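import Cfsg.Agent.H33.SolvE

/-! Base sizes of solvable linear groups: weights and the assembly of the second base vector. -/

set_option autoImplicit false

namespace H33.Solv

open Subgroup
open scoped commutatorElement

universe u

variable {G : Type u} [Group G] {Z N : Subgroup G}

/-- The scalars act fixed point freely. -/
def Fpf (Z : Subgroup G) (X : Type*) [AddCommGroup X] [DistribMulAction G X] : Prop :=
  ∀ z ∈ Z, ∀ v : X, z • v = v → z = 1 ∨ v = 0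

theorem exists_equiv_pi' {r : ℕ} [Fact r.Prime] {W : Type*} [AddCommGroup W] [Finite W]
    [Module (ZMod r) W] : ∃ m, Nonempty (W ≃+ (Fin m → ZMod r)) :=
  ⟨_, ⟨(Module.finBasis (ZMod r) W).equivFun.toAddEquiv⟩⟩

theorem exists_equiv_pi {r : ℕ} (hr : r.Prime) {W : Type*} [AddCommGroup W] [Finite W]
    (h : ∀ w : W, r • w = 0) : ∃ m, Nonempty (W ≃+ (Fin m → ZMod r)) :=
  have := Fact.mk hr
  @exists_equiv_pi' r _ W _ _ (AddCommGroup.zmodModule h)

theorem exists_sec_pi [Finite G] {C E : Subgroup G} {r : ℕ} (hr : r.Prime)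
    (hc : ∀ a ∈ E, ∀ b ∈ E, ⁅a, b⁆ ∈ C) (hn : ∀ a ∈ E, ∀ z ∈ C, a * z * a⁻¹ ∈ C)
    (hp : ∀ a ∈ E, a ^ r ∈ C) : ∃ (m : ℕ) (π : G → Fin m → ZMod r), Sec C E π := by
  obtain ⟨W, _, π, hπ⟩ := exists_sec hc hn
  have := hπ.finite
  obtain ⟨m, e⟩ := exists_equiv_pi hr (W := W) fun w => by
    obtain ⟨a, ha, rfl⟩ := hπ.surj w
    rw [← hπ.pow ha]
    exact (hπ.zero _ (pow_mem ha r)).2 (hp a ha)
  obtain ⟨e⟩ := e
  exact ⟨_, fun a => e (π a), fun a ha b hb => by rw [hπ.mul a ha b hb, map_add],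
    fun a ha => by rw [← hπ.zero a ha, e.map_eq_zero_iff], fun w =>
      let ⟨a, ha, h⟩ := hπ.surj (e.symm w)
      ⟨a, ha, by rw [h, e.apply_symm_apply]⟩⟩

theorem comm_eq_iff {k a b : G} : ⁅k, a⁆ = ⁅k, b⁆ ↔ k * (a⁻¹ * b) = a⁻¹ * b * k := by
  simp only [commutatorElement_def]
  constructor <;> intro e
  · calc _ = (k * a⁻¹ * k⁻¹) * (k * b * k⁻¹ * b⁻¹) * b * k := by group
      _ = _ := by rw [← e]; group
  · calc _ = k * b * (b⁻¹ * a * k⁻¹) * a⁻¹ := by group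
      _ = k * b * (k * (a⁻¹ * b))⁻¹ * a⁻¹ := by group
      _ = _ := by rw [e]; group

variable {X : Type*} [AddCommGroup X] [DistribMulAction G X]

section Weights

variable {T : Set G} {W : Type*} [AddCommGroup W] {π : G → W}

/-- Weight vectors. -/
def Wt (N : Subgroup G) (T : Set G) (π : G → W) (w : W) (v : X) : Prop :=
  ∀ a ∈ N, π a = w → ∀ k ∈ T, k • v = ⁅k, a⁆ • v

theorem wt_of (hπ : Sec (N ⊓ centralizer T) N π) {a : G} (ha : a ∈ N) {v : X}
    (hv : ∀ k ∈ T, k • a⁻¹ • v = a⁻¹ • v) : Wt N T π (π a) v := fun b hb e k hk => by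
  rw [← comm_eq_iff.2 (((hπ.eq_iff ha hb).1 e.symm).2 k hk), commutatorElement_def, mul_smul,
    mul_smul, mul_smul, inv_smul_eq_iff.2 (hv k hk).symm, smul_inv_smul]

theorem indep (h : NS Z N) (hX : Fpf Z X) (hT : T ⊆ N) (hπ : Sec (N ⊓ centralizer T) N π)
    (s : Finset W) : ∀ Y : W → X, (∀ w, Wt N T π w (Y w)) → ∑ w ∈ s, Y w = 0 → ∀ w ∈ s, Y w = 0 := by
  classical
  choose t ht e using hπ.surj
  have hz : ∀ z ∈ Z, ∀ w (v : X), Wt N T π w v → Wt N T π w (z • v) := fun z hz w v hv a ha e k hk => by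
    rw [← mul_smul, ← h.cent k (hT hk) z hz, mul_smul, hv a ha e k hk, ← mul_smul, ← mul_smul,
      h.cent _ (h.le (h.comm k (hT hk) a ha)) z hz]
  induction s using Finset.induction_on with
  | empty => simp
  | insert i s hi ih =>
    intro Y hY h0
    rw [Finset.sum_insert hi] at h0
    have hs : ∀ j ∈ s, Y j = 0 := fun j hj => by
      obtain ⟨k, hk, hne⟩ : ∃ k ∈ T, ⁅k, t i⁆ ≠ ⁅k, t j⁆ := by
        by_contra! hc
        refine hi ((?_ : i = j) ▸ hj)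
        rw [← e i, ← e j, hπ.eq_iff (ht i) (ht j)]
        exact ⟨N.mul_mem (N.inv_mem (ht i)) (ht j), fun k hk => comm_eq_iff.1 (hc k hk)⟩
      have c := fun l => h.comm k (hT hk) _ (ht l)
      have := ih (fun l => ⁅k, t l⁆ • Y l - ⁅k, t i⁆ • Y l) (fun l a ha e k' hk' => by
        rw [smul_sub, smul_sub, hz _ (c l) _ _ (hY l) a ha e k' hk',
          hz _ (c i) _ _ (hY l) a ha e k' hk']) (by
        rw [Finset.sum_congr rfl fun l _ => by rw [← hY l _ (ht l) (e l) k hk],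
          Finset.sum_sub_distrib, ← Finset.smul_sum, ← Finset.smul_sum,
          eq_neg_of_add_eq_zero_right h0, smul_neg, smul_neg, hY i _ (ht i) (e i) k hk, sub_self]) j hj
      exact (hX _ (mul_mem (inv_mem (c i)) (c j)) _ (by
        rw [mul_smul, inv_smul_eq_iff]; exact sub_eq_zero.1 this)).resolve_left
        fun e => hne (inv_mul_eq_one.1 e)
    intro j hj
    rcases Finset.mem_insert.1 hj with rfl | hj
    · rwa [Finset.sum_eq_zero hs, add_zero] at h0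
    · exact hs j hj

theorem assemble [Fintype W] (h : NS Z N) (hX : Fpf Z X) (hT : T ⊆ N)
    (hπ : Sec (N ⊓ centralizer T) N π) {Y : W → X} (hY : ∀ w, Wt N T π w (Y w)) {g : G}
    (h1 : ∀ k ∈ T, g * k * g⁻¹ ∈ T) (h2 : ∀ k ∈ T, g⁻¹ * k * g⁻¹⁻¹ ∈ T)
    (hg : g • ∑ w, Y w = ∑ w, Y w) : ∀ a ∈ N, g • Y (π a) = Y (π (g * a * g⁻¹)) := by
  obtain ⟨f, hf⟩ := hπ.exists_map (g := g⁻¹) (fun a ha => h.nn.conj_mem a ha _) fun a ha =>
    ⟨h.nn.conj_mem a ha.1 _, fun k hk => by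
      rw [show k * (g⁻¹ * a * g⁻¹⁻¹) = g⁻¹ * (g * k * g⁻¹ * a) * g by group, ha.2 _ (h1 k hk)]
      group⟩
  have hf' : ∀ a ∈ N, f (π (g * a * g⁻¹)) = π a := fun a ha => by
    rw [hf _ (h.nn.conj_mem a ha g)]; congr 1; group
  have hb : Function.Bijective f := Finite.surjective_iff_bijective.1 fun w =>
    let ⟨a, ha, e⟩ := hπ.surj w
    ⟨_, e ▸ hf' a ha⟩
  have := indep h hX hT hπ Finset.univ (fun w => g • Y (f w) - Y w) (fun w a ha e k hk => by
    rw [smul_sub, smul_sub, hY w a ha e k hk, sub_left_inj, ← mul_smul,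
      show k * g = g * (g⁻¹ * k * g⁻¹⁻¹) by group, mul_smul,
      hY _ _ (h.nn.conj_mem a ha g⁻¹) (by rw [← e, hf a ha]) _ (h2 k hk), conj_comm,
      ← mul_smul, ← mul_smul]
    congr 1; group) (by
    rw [Finset.sum_sub_distrib, ← Finset.smul_sum, hb.sum_comp Y, hg, sub_self])
  exact fun a ha => by rw [← hf' a ha]; exact sub_eq_zero.1 (this _ (Finset.mem_univ _))

end Weights

variable {V : Type*} [AddCommGroup V] [DistribMulAction G V]

theorem NS.eig_comm (h : NS Z N) (hV : Fpf Z V) {x : V} (hx : x ≠ 0) {a b y z : G} (ha : a ∈ N)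
    (hb : b ∈ N) (hy : y ∈ Z) (hz : z ∈ Z) (e1 : a • x = y • x) (e2 : b • x = z • x) :
    a * b = b * a := by
  have e : (a * b) • x = (b * a) • x := by
    rw [mul_smul, mul_smul, e1, e2, ← mul_smul, ← mul_smul, ← h.cent a ha z hz, ← h.cent b hb y hy,
      mul_smul, mul_smul, e1, e2, ← mul_smul, ← mul_smul, h.cent _ (h.le hy) z hz]
  refine commutatorElement_eq_one_iff_mul_comm.1 ((hV _ (h.comm a ha b hb) ((b * a) • x) ?_).resolve_right
    (by rwa [smul_eq_zero_iff_eq]))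
  rw [← mul_smul, ← e]
  congr 1
  simp only [commutatorElement_def]; group

/-- The common data: subgroups `D r ≤ E r` and the stabilizer `T` of their common weight space. -/
structure Dat (h : NS Z N) (E D : ℕ → Subgroup G) (T : Set G) : Prop where
  es : ∀ r, r.Prime → ES h r (E r)
  le : ∀ r, r.Prime → D r ≤ E r
  comm : ∀ r, r.Prime → ∀ a ∈ D r, ∀ b ∈ D r, a * b = b * a
  pow : ∀ r, r.Prime → ∀ a ∈ D r, a ^ r = 1
  inter : ∀ r, r.Prime → ∀ a ∈ E r, a ∈ Z → a ∈ D r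
  odd : ∀ r, r.Prime → r ≠ 2 → ∀ a ∈ E r, a ∈ centralizer (D r : Set G) → a ∈ D r
  t2 : ∀ r, r.Prime → ∀ d ∈ D r, ∃ z ∈ Z, d * z ∈ T
  t3 : ∀ k ∈ T, ∃ r, r.Prime ∧ ∃ d ∈ D r, ∃ z ∈ Z, k = d * z

/-- The local construction at one prime. -/
def Loc (X : Type*) [AddCommGroup X] [DistribMulAction G X] (E D : Subgroup G) (T : Set G)
    (P : G → Prop) : Prop :=
  ∃ Y : G → X, (∀ a ∈ E, ∀ b ∈ E, a⁻¹ * b ∈ centralizer (D : Set G) → Y a = Y b) ∧
    (∀ a ∈ E, ∀ k ∈ T, k • a⁻¹ • Y a = a⁻¹ • Y a) ∧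
    ∀ g, P g → (∀ d ∈ D, g * d * g⁻¹ ∈ D) →
      (∀ a ∈ E, a ∉ centralizer (D : Set G) → g • Y a = Y (g * a * g⁻¹)) → ∀ a ∈ E, a * g = g * a

namespace Dat

variable {h : NS Z N} {E D : ℕ → Subgroup G} {T : Set G} (d : Dat h E D T)
include d

theorem EN {r : ℕ} (hr : r.Prime) {a : G} (ha : a ∈ E r) : a ∈ N := ((d.es r hr).le ha).1

theorem DN {r : ℕ} (hr : r.Prime) {a : G} (ha : a ∈ D r) : a ∈ N := d.EN hr (d.le r hr ha)

theorem sub : T ⊆ N := fun k hk => by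
  obtain ⟨r, hr, a, ha, z, hz, rfl⟩ := d.t3 k hk
  exact mul_mem (d.DN hr ha) (h.le hz)

theorem cent {r : ℕ} (hr : r.Prime) {a : G} (ha : a ∈ E r) :
    a ∈ centralizer T ↔ a ∈ centralizer (D r : Set G) := by
  refine ⟨fun hc b hb => ?_, fun hc k hk => ?_⟩
  · obtain ⟨z, hz, e⟩ := d.t2 r hr b hb
    have := hc _ e
    rwa [mul_assoc, h.cent a (d.EN hr ha) z hz, ← mul_assoc, ← mul_assoc, mul_left_inj] at this
  · obtain ⟨s, hs, b, hb, z, hz, rfl⟩ := d.t3 k hk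
    have : b * a = a * b := by
      by_cases e : s = r
      · exact hc b (e ▸ hb)
      · have e1 := h.comm_pow (d.DN hs hb) (d.EN hr ha) (d.pow s hs b hb ▸ one_mem Z)
        have e2 := h.comm_pow (d.EN hr ha) (d.DN hs hb) ((d.es r hr).le ha).2
        rw [← commutatorElement_inv, inv_pow, inv_eq_one] at e2
        exact commutatorElement_eq_one_iff_mul_comm.1 ((pow_eq_one_iff_of_coprime
          ((Nat.coprime_primes hs hr).2 e)).1 ⟨e1, e2⟩)
    rw [mul_assoc, h.cent a (d.EN hr ha) z hz, ← mul_assoc, this, mul_assoc]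

theorem eig {x : V} (hx : ∀ k ∈ T, k • x = x) {r : ℕ} (hr : r.Prime) {a : G} (ha : a ∈ D r) :
    ∃ z ∈ Z, a • x = z • x := by
  obtain ⟨z, hz, e⟩ := d.t2 r hr a ha
  refine ⟨z⁻¹, inv_mem hz, ?_⟩
  rw [eq_inv_smul_iff, ← mul_smul, h.cent a (d.DN hr ha) z hz, hx _ e]

theorem master [Finite G] (hV : Fpf Z V) (hX : Fpf Z X) {x : V} (hx0 : x ≠ 0)
    (hx : ∀ k ∈ T, k • x = x) (dx : ∀ k ∈ E 2, k ∈ centralizer (D 2 : Set G) → ∀ z ∈ Z, z ^ 2 = 1 →
      k • x = z • x → k ∈ D 2) {y : X} (hy : ∀ k ∈ T, k • y = y) {P : G → Prop}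
    (hP : ∀ g : G, g • x = x → g • y = y → (∀ k ∈ T, g * k * g⁻¹ ∈ T) →
      (∀ k ∈ T, g⁻¹ * k * g⁻¹⁻¹ ∈ T) → (∀ a ∈ D 2, g * a * g⁻¹ ∈ D 2) → P g)
    (hZ : ∀ g, P g → ∀ z ∈ Z, z * g = g * z) (hl : ∀ r, r.Prime → Loc X (E r) (D r) T P) :
    ∃ y' : X, ∀ g : G, g • x = x → g • y' = y' → g = 1 := by
  classical
  choose! Y y1 y2 y3 using hl
  have hZC : ∀ z ∈ Z, z ∈ N ⊓ centralizer T := fun z hz =>
    ⟨h.le hz, fun k hk => (h.cent k (d.sub hk) z hz).symm⟩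
  obtain ⟨W, _, π, hπ⟩ := exists_sec (Z := N ⊓ centralizer T) (N := N)
    (fun a ha b hb => hZC _ (h.comm a ha b hb)) fun a ha c hc => by
      rw [H9.conj_eq_commutatorElement_mul]
      exact mul_mem (hZC _ (h.comm a ha c hc.1)) hc
  have := hπ.finite
  have := Fintype.ofFinite W
  let Y' : W → X := fun w => if w = 0 then y else
    if e : ∃ p : ℕ × G, p.1.Prime ∧ p.2 ∈ E p.1 ∧ π p.2 = w then Y e.choose.1 e.choose.2 else 0
  have hord : ∀ r, r.Prime → ∀ a ∈ E r, π a ≠ 0 → addOrderOf (π a) = r := fun r hr a ha h0 => by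
    have := Fact.mk hr
    refine addOrderOf_eq_prime ?_ h0
    rw [← hπ.pow (d.EN hr ha)]
    exact (hπ.zero _ (pow_mem (d.EN hr ha) r)).2 (hZC _ ((d.es r hr).le ha).2)
  have hY : ∀ r, r.Prime → ∀ a ∈ E r, π a ≠ 0 → Y' (π a) = Y r a := fun r hr a ha h0 => by
    have e : ∃ p : ℕ × G, p.1.Prime ∧ p.2 ∈ E p.1 ∧ π p.2 = π a := ⟨(r, a), hr, ha, rfl⟩
    simp only [Y', if_neg h0, dif_pos e]
    obtain ⟨e1, e2, e3⟩ := e.choose_spec
    generalize e.choose = p at e1 e2 e3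
    obtain rfl : p.1 = r := by rw [← hord _ e1 _ e2 (e3 ▸ h0), e3, hord r hr a ha h0]
    exact y1 _ hr _ e2 a ha ((d.cent hr (mul_mem (inv_mem e2) ha)).1
      ((hπ.eq_iff (d.EN hr e2) (d.EN hr ha)).1 e3).2)
  have hW : ∀ w, Wt N T π w (Y' w) := fun w => by
    by_cases h0 : w = 0
    · simp only [Y', if_pos h0]
      rw [h0, ← hπ.one]
      exact wt_of hπ (one_mem N) (by simpa using hy)
    by_cases e : ∃ p : ℕ × G, p.1.Prime ∧ p.2 ∈ E p.1 ∧ π p.2 = w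
    · obtain ⟨p, e1, e2, rfl⟩ := e
      rw [hY _ e1 _ e2 h0]
      exact wt_of hπ (d.EN e1 e2) (y2 _ e1 _ e2)
    · simp only [Y', if_neg h0, dif_neg e]
      exact fun _ _ _ _ _ => by rw [smul_zero, smul_zero]
  have hD : ∀ g : G, g • x = x → ∀ r, r.Prime → ∀ a ∈ D r, g * a * g⁻¹ ∈ D r := fun g hg r hr a ha => by
    obtain ⟨z, hz, e⟩ := d.eig hx hr ha
    have hE := (d.es r hr).normal.conj_mem a (d.le r hr ha) g
    have e' : (g * a * g⁻¹) • x = (g * z * g⁻¹) • x := by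
      simp only [mul_smul, inv_smul_eq_iff.2 hg.symm, e]
    have hc : g * a * g⁻¹ ∈ centralizer (D r : Set G) := fun b hb =>
      let ⟨_, hz', e''⟩ := d.eig hx hr hb
      h.eig_comm hV hx0 (d.DN hr hb) (d.EN hr hE) hz' (h.zn.conj_mem z hz g) e'' e'
    by_cases h2 : r = 2
    · subst h2
      refine dx _ hE hc _ (h.zn.conj_mem z hz g) ?_ e'
      rw [conj_pow, (hV _ (pow_mem hz 2) x (by
        rw [pow_two, mul_smul, ← e, ← mul_smul, h.cent a (d.DN hr ha) z hz, mul_smul, ← e,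
          ← mul_smul, ← pow_two, d.pow 2 hr a ha, one_smul])).resolve_right hx0]
      simp
    · exact d.odd r hr h2 _ hE hc
  have hT : ∀ g : G, g • x = x → ∀ k ∈ T, g * k * g⁻¹ ∈ T := fun g hg k hk => by
    obtain ⟨r, hr, a, ha, z, hz, e⟩ := d.t3 k hk
    obtain ⟨z', hz', e'⟩ := d.t2 r hr _ (hD g hg r hr a ha)
    have e1 : (g * k * g⁻¹) • x = x := by
      rw [mul_smul, mul_smul, inv_smul_eq_iff.2 hg.symm, hx k hk, hg]
    have := (hV (z'⁻¹ * (g * z * g⁻¹)) (mul_mem (inv_mem hz') (h.zn.conj_mem z hz g)) x (by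
      rw [show z'⁻¹ * (g * z * g⁻¹) = (g * a * g⁻¹ * z')⁻¹ * (g * k * g⁻¹) by rw [e]; group,
        mul_smul, e1, inv_smul_eq_iff, hx _ e'])).resolve_right hx0
    rw [inv_mul_eq_one] at this
    rwa [this, show g * a * g⁻¹ * (g * z * g⁻¹) = g * k * g⁻¹ by rw [e]; group] at e'
  refine ⟨∑ w, Y' w, fun g hg hg' => ?_⟩
  have hg1 : g⁻¹ • x = x := inv_smul_eq_iff.2 hg.symm
  have key := assemble h hX d.sub hπ hW (hT g hg) (hT _ hg1) hg'
  have p : P g := hP g hg (by simpa [Y', hπ.one] using key 1 (one_mem N)) (hT g hg) (hT _ hg1)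
    (hD g hg 2 Nat.prime_two)
  refine (hV g (h.n4 fun r hr a ha => ?_) x hg).resolve_right hx0
  obtain ⟨z, hz, e⟩ := (d.es r hr).cover a ha
  have := y3 r hr g p (hD g hg r hr) (fun a ha hc => by
    have hE := (d.es r hr).normal.conj_mem a ha g
    have h0 : π a ≠ 0 := fun e => hc ((d.cent hr ha).1 ((hπ.zero a (d.EN hr ha)).1 e).2)
    rw [← hY r hr a ha h0, key a (d.EN hr ha), hY r hr _ hE fun e => hc fun b hb => ?_]
    have := (d.cent hr hE).1 ((hπ.zero _ (d.EN hr hE)).1 e).2 _ (hD g hg r hr b hb)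
    simp only [← mul_assoc, inv_mul_cancel_right, mul_left_inj] at this
    simpa [mul_assoc] using this) _ e
  rwa [mul_assoc, hZ g p z hz, ← mul_assoc, ← mul_assoc, mul_left_inj] at this

end Dat

end H33.Solv
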