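import Cfsg.Agent.H33.SolvMain

/-! Base sizes of solvable linear groups: solvable groups of order prime to 3 on small orthogonal
spaces over the field with two elements. -/

set_option autoImplicit false

namespace H33.Solv

open Subgroup MulAction

variable {H W : Type*} [Group H] [Finite H] [AddCommGroup W] [Finite W] [DistribMulAction H W]

omit [Finite H] in
theorem card_le_of_base [FaithfulSMul H W] {b : ℕ} (h : Base H W b) :
    Nat.card H ≤ Nat.card W ^ b := by
  obtain ⟨v, hv⟩ := h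
  rw [← Nat.card_fin b, ← Nat.card_fun]
  exact Nat.card_le_card_of_injective (fun g i => g • v i) fun a c e =>
    eq_of_smul_eq_smul (α := W) fun w => by
      have := hv (c⁻¹ * a) (fun i => by rw [mul_smul, inv_smul_eq_iff]; exact congrFun e i) w
      rwa [mul_smul, inv_smul_eq_iff] at this

theorem card_dvd_pred (h : ∀ g : H, g ≠ 1 → ∀ w : W, g • w = w → w = 0) :
    Nat.card H ∣ Nat.card W - 1 := by
  classical
  have := Fintype.ofFinite H
  have := Fintype.ofFinite W
  have := Fintype.ofFinite (Quotient (orbitRel H W))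
  have e := sum_card_fixedBy_eq_card_orbits_mul_card_group H W
  rw [← Finset.add_sum_erase _ _ (Finset.mem_univ 1), Finset.sum_congr rfl
    (f := fun g => Fintype.card (fixedBy W g)) (g := fun _ => 1)
    fun g hg => Fintype.card_eq_one_iff.2 ⟨⟨0, mem_fixedBy.2 (smul_zero g)⟩, fun w =>
      Subtype.ext (h g (Finset.ne_of_mem_erase hg) _ w.2)⟩, Finset.sum_const, smul_eq_mul, mul_one,
    Finset.card_erase_of_mem (Finset.mem_univ _), Finset.card_univ,
    show Fintype.card (fixedBy W (1 : H)) = Fintype.card W by simp] at e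
  rw [Nat.card_eq_fintype_card, Nat.card_eq_fintype_card]
  refine (Nat.dvd_add_iff_left (dvd_refl _)).2 ?_
  have := Fintype.card_pos (α := H)
  have := Fintype.card_pos (α := W)
  rw [show Fintype.card W - 1 + Fintype.card H = Fintype.card W + (Fintype.card H - 1) by omega, e]
  exact dvd_mul_left _ _

theorem small4 (h3 : ¬ 3 ∣ Nat.card H) (h2 : ∀ w : W, 2 • w = 0)
    (nf : ∀ w : W, (∀ g : H, g • w = w) → w = 0) {U : AddSubgroup W} (hU : Inv H U)
    (h4 : Nat.card U ≤ 4) : U = ⊥ := by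
  classical
  refine eq_bot_iff.2 fun w hw => by_contra fun h0 => ?_
  have hsub : orbit H w ⊆ (U : Set W) \ {0} := by
    rintro _ ⟨g, rfl⟩
    exact ⟨hU g w hw, fun e => h0 ((smul_eq_zero_iff_eq g).1 e)⟩
  have h1 := Set.ncard_le_ncard hsub
  rw [Set.ncard_sdiff_singleton_of_mem (zero_mem U), ← index_stabilizer] at h1
  change _ ≤ Nat.card U - 1 at h1
  have h5 := index_stabilizer H w
  have h6 : (stabilizer H w).index ≠ 3 := fun e => h3 (e ▸ index_dvd_card _)
  have h7 : (stabilizer H w).index ≠ 0 := index_ne_zero_of_finite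
  have h8 : (stabilizer H w).index ≠ 1 := fun e =>
    h0 (nf w fun g => (index_eq_one.1 e).ge (mem_top g))
  obtain ⟨a, b, hab, e⟩ := Set.ncard_eq_two.1 (h5.symm.trans (by omega))
  have k : ∀ g : H, ∀ x ∈ ({a, b} : Set W), g • x = a ∨ g • x = b := fun g x hx => by
    rw [← e] at hx
    exact (e ▸ mapsTo_smul_orbit g w hx : g • x ∈ ({a, b} : Set W))
  refine hab (neg_injective ((neg_eq_of_add_eq_zero_right (nf _ fun g => ?_)).trans
    (neg_eq_of_add_eq_zero_right (two_nsmul b ▸ h2 b)).symm))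
  have := (MulAction.injective g).ne hab
  rw [smul_add]
  rcases k g a (by simp) with e1 | e1 <;> rcases k g b (by simp) with e2 | e2 <;>
    rw [e1, e2] at this ⊢
  exacts [(this rfl).elim, add_comm _ _, (this rfl).elim]

theorem card_le_index_mul {G : Type*} [Group G] [Finite G] {K F : Subgroup G} [F.Normal] {a : G}
    {S : Set G} (h : ∀ k ∈ K, k * a * k⁻¹ ∈ S) :
    Nat.card K ≤ S.ncard * Nat.card (K ⊓ centralizer {a} : Subgroup G) := by
  rw [← relIndex_bot_left K, ← relIndex_mul_relIndex ⊥ (K ⊓ centralizer {a}) K bot_le inf_le_left,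
    relIndex_bot_left, mul_comm, inf_relIndex_left]
  refine Nat.mul_le_mul_right _ (Nat.card_le_card_of_injective
    (fun q : K ⧸ (centralizer {a}).subgroupOf K => (⟨_, h q.out q.out.2⟩ : S)) fun p q e => ?_)
  rw [← p.out_eq, ← q.out_eq, QuotientGroup.eq]
  refine mem_centralizer_singleton_iff.2 ?_
  have : p.out.1 * a * p.out.1⁻¹ = q.out.1 * a * q.out.1⁻¹ := congrArg Subtype.val e
  change p.out.1⁻¹ * q.out.1 * a = a * (p.out.1⁻¹ * q.out.1)
  rw [show p.out.1⁻¹ * q.out.1 * a = p.out.1⁻¹ * (q.out.1 * a * q.out.1⁻¹) * q.out.1 by group, ← this]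
  group

theorem card_le_cyclic {G : Type*} [Group G] [Finite G] {F : Subgroup G} [hF : F.Normal]
    (hc : centralizer (F : Set G) ≤ F) (h1 : F ≠ ⊥) [IsCyclic F] :
    Nat.card G ≤ (Nat.card F - 1) * Nat.card F := by
  obtain ⟨a, ha⟩ := IsCyclic.exists_generator (α := F)
  have a1 : a.1 ≠ 1 := fun e => h1 (eq_bot_iff.2 fun x hx => by
    obtain ⟨n, hn⟩ := ha ⟨x, hx⟩
    simpa [e] using (congrArg Subtype.val hn).symm)
  rw [← card_top]
  refine (card_le_index_mul (F := F) (a := a) (S := F \ {1})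
    fun k _ => ⟨hF.conj_mem _ a.2 k, by simpa using a1⟩).trans ?_
  rw [Set.ncard_sdiff_singleton_of_mem (one_mem F)]
  refine Nat.mul_le_mul_left _ (card_le_of_le fun x hx => hc fun y hy => ?_)
  obtain ⟨n, hn⟩ := ha ⟨y, hy⟩
  rw [show y = a.1 ^ n from (congrArg Subtype.val hn).symm]
  exact (Commute.zpow_right (mem_centralizer_singleton_iff.1 hx.2) n).symm

theorem card_le_25 {G : Type*} [Group G] [Finite G] {F : Subgroup G} [hF : F.Normal]
    (hc : centralizer (F : Set G) ≤ F) (h : Nat.card F = 25) : Nat.card G ≤ 12000 := by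
  have := Fact.mk Nat.prime_five
  obtain ⟨a, ha⟩ := exists_prime_orderOf_dvd_card' (G := F) 5 (by rw [h]; decide)
  rw [← orderOf_coe] at ha
  have hle : zpowers a.1 ≤ F := zpowers_le.2 a.2
  obtain ⟨b, hb, hba⟩ := SetLike.not_le_iff_exists.1 fun e : F ≤ zpowers a.1 => by
    have := card_le_of_le e
    rw [h, Nat.card_zpowers, ha] at this
    omega
  have e1 := card_le_index_mul (K := ⊤) (F := F) (a := a) (S := F \ {1})
    fun k _ => ⟨hF.conj_mem _ a.2 k, by simpa using fun e => by simp [e] at ha⟩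
  have e2 := card_le_index_mul (K := ⊤ ⊓ centralizer {a.1}) (F := F) (a := b)
    (S := F \ zpowers a.1) fun k hk => ⟨hF.conj_mem _ hb k, fun ⟨n, hn⟩ => hba ⟨n, by
      have := (Commute.zpow_right (mem_centralizer_singleton_iff.1 hk.2) n).eq
      beta_reduce at hn ⊢
      rwa [eq_mul_inv_iff_mul_eq, ← this, mul_right_inj] at hn⟩⟩
  have e3 : ⊤ ⊓ centralizer {a.1} ⊓ centralizer {b} ≤ F := fun x hx => hc fun y hy => by
    have h1 : zpowers a.1 < F ⊓ centralizer {x} := lt_of_le_of_ne (le_inf hle (zpowers_le.2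
      (mem_centralizer_singleton_iff.2 (mem_centralizer_singleton_iff.1 hx.1.2).symm)))
      fun e => hba (e ▸ ⟨hb, mem_centralizer_singleton_iff.2
        (mem_centralizer_singleton_iff.1 hx.2).symm⟩)
    have h2 := card_dvd_of_le (inf_le_left : F ⊓ centralizer {x} ≤ F)
    have h3 : Nat.card (zpowers a.1) < Nat.card (F ⊓ centralizer {x} : Subgroup G) :=
      lt_of_le_of_ne (card_le_of_le h1.le) fun e => h1.ne (eq_of_le_of_card_ge h1.le e.ge)
    rw [Nat.card_zpowers, ha] at h3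
    rw [h, show 25 = 5 ^ 2 from rfl, Nat.dvd_prime_pow Nat.prime_five] at h2
    obtain ⟨i, hi, h2⟩ := h2
    have : F ⊓ centralizer {x} = F := eq_of_le_of_card_ge inf_le_left (by
      rw [h2] at h3; rw [h, h2]; interval_cases i <;> simp_all)
    exact mem_centralizer_singleton_iff.1 (this.ge hy).2
  have e4 := card_le_of_le e3
  rw [Set.ncard_sdiff_singleton_of_mem (one_mem F), card_top] at e1
  rw [Set.ncard_sdiff hle] at e2
  change _ ≤ (Nat.card F - 1) * _ at e1
  change _ ≤ (Nat.card F - Nat.card (zpowers a.1)) * _ at e2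
  rw [Nat.card_zpowers, ha] at e2
  rw [h] at e1 e2 e4
  omega

omit [Finite H] in
theorem card_dvd_gl [FaithfulSMul H W] (h2 : ∀ w : W, 2 • w = 0) (h : Nat.card W = 256) :
    Nat.card H ∣ 5348063769211699200 := by
  obtain ⟨m, ⟨e⟩⟩ := exists_equiv_pi Nat.prime_two h2
  obtain rfl : m = 8 := by
    rw [Nat.card_congr e.toEquiv, Nat.card_fun, Nat.card_zmod, Nat.card_fin] at h
    exact Nat.pow_right_injective le_rfl h
  let f : H →* Module.End (ZMod 2) (Fin 8 → ZMod 2) :=
    { toFun := fun g => (e.toAddMonoidHom.comp ((DistribSMul.toAddMonoidHom W g).comp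
        e.symm.toAddMonoidHom)).toZModLinearMap 2
      map_one' := LinearMap.ext fun w => by simp
      map_mul' := fun a b => LinearMap.ext fun w => by simp [mul_smul] }
  have := card_dvd_of_injective f.toHomUnits fun a b h => eq_of_smul_eq_smul (α := W) fun w => by
    simpa [f] using LinearMap.congr_fun (congrArg Units.val h) (e w)
  rwa [← Nat.card_congr Matrix.GeneralLinearGroup.toLin.toEquiv, Matrix.card_GL_field, ZMod.card,
    show ∏ i : Fin 8, (2 ^ 8 - 2 ^ (i : ℕ)) = 5348063769211699200 by decide +kernel] at this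

theorem arith1 {s m j : ℕ} (hp : s.Prime) (h4 : m ≤ 4) (e4 : 5 ≤ s) (e6 : s ∣ 4 ^ m - 2 ^ (j + j))
    (e7 : 2 ^ (j + j) ≤ 4 → s ∣ 4 ^ m - 1) (e9 : j < m) :
    (2 ^ (j + j) = 1 ∧ s ∣ 4 ^ m - 1) ∨ (m = 4 ∧ s = 5 ∧ 2 ^ (j + j) = 16) := by
  have key : ∀ n ∈ [3, 15, 12, 63, 60, 48, 255, 252, 240, 192], ∀ s ∈ n.divisors, s.Prime → 5 ≤ s →
    s = 5 ∧ n ∈ [15, 60, 255, 240] ∨ s = 7 ∧ n ∈ [63, 252] ∨ s = 17 ∧ n = 255 := by decide +kernel
  interval_cases m <;> interval_cases j <;> simp only [Nat.reducePow, Nat.reduceAdd,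
    Nat.reduceSub] at e6 e7 ⊢ <;>
    have := key _ (by decide) s (Nat.mem_divisors.2 ⟨e6, by decide⟩) hp e4 <;>
    simp at this ⊢ <;> first | omega | (subst this; omega)

theorem arith2 {f m : ℕ} (h0 : 0 < m) (h4 : m ≤ 4) (f1 : f ≠ 1) (f3 : ¬ 3 ∣ f)
    (hd : f ∣ 4 ^ m - 1) :
    m = 2 ∧ f = 5 ∨ m = 3 ∧ f = 7 ∨ m = 4 ∧ (f = 5 ∨ f = 17 ∨ f = 85) := by
  have key : ∀ m ∈ [1, 2, 3, 4], ∀ f ∈ (4 ^ m - 1).divisors, f ≠ 1 → ¬ 3 ∣ f →
    m = 2 ∧ f = 5 ∨ m = 3 ∧ f = 7 ∨ m = 4 ∧ (f = 5 ∨ f = 17 ∨ f = 85) := by decide +kernel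
  exact key m (by interval_cases m <;> decide) f (Nat.mem_divisors.2 ⟨hd, by
    have := Nat.one_lt_pow h0.ne' (show 1 < 4 by decide); omega⟩) f1 f3

variable [FaithfulSMul H W] (hs : Group.IsSolvable H) (h3 : ¬ 3 ∣ Nat.card H)
  (h2 : ∀ w : W, 2 • w = 0) (hc : CR H W) (nf : ∀ w : W, (∀ g : H, g • w = w) → w = 0)
  (sq : ∀ k : H, Odd (orderOf k) → IsSquare (Nat.card (fix W k)))

include hc h2 in
theorem fitting_odd {k : H} (hk : k ∈ Cfsg.fittingSubgroup H) (hp : (orderOf k).Prime) :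
    orderOf k ≠ 2 ∧ k ∈ Cfsg.pCore (orderOf k) H := by
  have := Fact.mk hp
  have h1 : k ∈ Cfsg.pCore (orderOf k) H := H2.le_pCore_of_le_fitting
    (IsPGroup.of_card ((Nat.card_zpowers k).trans (pow_one _).symm)) (zpowers_le.2 hk)
    (mem_zpowers k)
  refine ⟨fun e => hp.ne_one (orderOf_eq_one_iff.2 (eq_of_smul_eq_smul (α := W) fun v => ?_)), h1⟩
  rw [one_smul]
  exact hc.normal_p Nat.prime_two h2 inferInstance (H2.pCore_isPGroup 2 H) k (e ▸ h1) v

include h3 h2 hc nf sq in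
theorem fitting_fix {m : ℕ} (hm : Nat.card W = 4 ^ m) (h4 : m ≤ 4) {k : H}
    (hk : k ∈ Cfsg.fittingSubgroup H) (hp : (orderOf k).Prime) :
    (Nat.card (fix W k) = 1 ∧ orderOf k ∣ 4 ^ m - 1) ∨
      (m = 4 ∧ orderOf k = 5 ∧ Nat.card (fix W k) = 16) := by
  obtain ⟨e0, hk'⟩ := fitting_odd h2 hc hk hp
  have := Fact.mk hp
  have e1 := card_fix_modEq (V := W) hp (pow_orderOf_eq_one k)
  have e2 := AddSubgroup.card_addSubgroup_dvd_card (fix W k)
  have e3 : Nat.card (fix W k) ≠ Nat.card W := fun e => hp.ne_one (orderOf_eq_one_iff.2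
    (eq_of_smul_eq_smul (α := W) fun v => by
      rw [one_smul]; exact ((AddSubgroup.card_eq_iff_eq_top _).1 e).ge trivial))
  have e4 : 5 ≤ orderOf k := hp.five_le_of_ne_two_of_ne_three e0
    fun e => h3 (e ▸ orderOf_dvd_natCard k)
  have e6 := (Nat.modEq_iff_dvd' (Nat.le_of_dvd Nat.card_pos e2)).1 e1.symm
  have e7 : Nat.card (fix W k) ≤ 4 → orderOf k ∣ Nat.card W - 1 := fun e => by
    let U : AddSubgroup W := ⨅ a ∈ Cfsg.pCore (orderOf k) H, fix W a
    have hU : ∀ v, v ∈ U ↔ ∀ a ∈ Cfsg.pCore (orderOf k) H, a • v = v := fun v => by simp [U, mem_fix]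
    have h0 := small4 h3 h2 nf (U := U) (fun g v hv => (hU _).2 fun a ha => by
      have := (hU _).1 hv _ (Normal.conj_mem inferInstance a ha g⁻¹)
      rwa [mul_smul, mul_smul, inv_smul_eq_iff, inv_inv] at this)
      ((AddSubgroup.card_le_of_le fun v hv => (hU v).1 hv k hk').trans e)
    have := (H2.pCore_isPGroup (orderOf k) H).card_modEq_card_fixedPoints W
    rw [show Nat.card (fixedPoints (Cfsg.pCore (orderOf k) H) W) = Nat.card U from
      Nat.card_congr (Equiv.subtypeEquivRight fun v => by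
        rw [hU]; exact ⟨fun h a ha => h ⟨a, ha⟩, fun h a => h a a.2⟩), h0,
      AddSubgroup.card_bot] at this
    exact (Nat.modEq_iff_dvd' Nat.card_pos).1 this.symm
  obtain ⟨c, hc⟩ := sq k (hp.odd_of_ne_two e0)
  rw [hm, show 4 = 2 ^ 2 from rfl, ← pow_mul, Nat.dvd_prime_pow Nat.prime_two] at e2
  obtain ⟨i, hi, e2⟩ := e2
  have e8 : Even i := by
    have := congrArg (·.factorization 2) (e2.symm.trans hc)
    have c0 : c ≠ 0 := by rintro rfl; simp [e2] at hc
    simp only [Nat.Prime.factorization_pow Nat.prime_two, Finsupp.single_eq_same,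
      Nat.factorization_mul c0 c0, Finsupp.add_apply] at this
    exact ⟨_, this⟩
  obtain ⟨j, rfl⟩ := e8
  rw [hm, e2] at e3 e6 e7
  rw [e2]
  generalize orderOf k = s at *
  have e9 : j < m := lt_of_le_of_ne (by omega) fun e => e3 (by rw [e, ← two_mul, pow_mul]; rfl)
  exact arith1 hp h4 e4 e6 e7 e9

include hs h3 h2 hc nf sq in
theorem small_bound {m : ℕ} (hm : Nat.card W = 4 ^ m) (h0 : 0 < m) (h4 : m ≤ 4) :
    (m = 2 ∧ Nat.card (Cfsg.fittingSubgroup H) = 5 ∧ Nat.card H ≤ 20) ∨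
      (m = 3 ∧ Nat.card H ≤ 42) ∨ (m = 4 ∧ Nat.card H ≤ 12000) := by
  have hF := H2.fitting_normal H
  have hC := H2.centralizer_fitting_le H
  have hN := H2.fitting_isNilpotent H
  have : Nontrivial W := by
    rw [← Finite.one_lt_card_iff_nontrivial, hm]; exact Nat.one_lt_pow h0.ne' (by decide)
  have : Nontrivial H := not_subsingleton_iff_nontrivial.1 fun _ =>
    let ⟨w, hw⟩ := exists_ne (0 : W)
    hw (nf w fun g => by rw [Subsingleton.elim g 1, one_smul])
  have h1 := H2.fitting_ne_bot H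
  have f3 : ¬ 3 ∣ Nat.card (Cfsg.fittingSubgroup H) := fun e =>
    h3 (e.trans (card_subgroup_dvd_card _))
  have f1 : Nat.card (Cfsg.fittingSubgroup H) ≠ 1 := mt card_eq_one.1 h1
  have cyc : ∀ n, Squarefree n → Nat.card (Cfsg.fittingSubgroup H) = n →
      Nat.card H ≤ (n - 1) * n := fun n hn e => by
    have := IsZGroup.of_squarefree (e ▸ hn)
    exact e ▸ card_le_cyclic hC h1
  by_cases hr : ∀ k ∈ Cfsg.fittingSubgroup H, (orderOf k).Prime → Nat.card (fix W k) = 1
  · have hd := card_dvd_pred (H := Cfsg.fittingSubgroup H) (W := W) fun g hg w hw => by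
      obtain ⟨k, hk, hp⟩ := exists_prime_pow (g := g.1) fun e => hg (Subtype.ext e)
      exact AddSubgroup.mem_bot.1 (AddSubgroup.card_eq_one.1
        (hr k (zpowers_le.2 g.2 hk) hp) ▸ fix_zpow (g := g.1) hw hk)
    rw [hm] at hd
    have c5 := cyc 5 Nat.prime_five.prime.squarefree
    have c7 := cyc 7 (by norm_num : Nat.Prime 7).prime.squarefree
    have c17 := cyc 17 (by norm_num : Nat.Prime 17).prime.squarefree
    have c85 := cyc 85 (by decide +kernel)
    have := arith2 h0 h4 f1 f3 hd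
    omega
  push Not at hr
  obtain ⟨k, hk, hp, hr⟩ := hr
  obtain ⟨rfl, k5, k16⟩ := (fitting_fix h3 h2 hc nf sq hm h4 hk hp).resolve_left fun e => hr e.1
  refine Or.inr (Or.inr ⟨rfl, ?_⟩)
  have := Fact.mk Nat.prime_five
  have hP : IsPGroup 5 (Cfsg.fittingSubgroup H) := by
    refine (IsPGroup.iff_card.2 ⟨_, Nat.eq_prime_pow_of_unique_prime_dvd Nat.card_pos.ne'
      fun {s} hs hd => by_contra fun h5 => ?_⟩)
    have := Fact.mk hs
    obtain ⟨l, hl⟩ := exists_prime_orderOf_dvd_card' s hd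
    rw [← orderOf_coe] at hl
    have hp' := hl ▸ hs
    obtain ⟨e1, e2⟩ := (fitting_fix h3 h2 hc nf sq hm h4 l.2 hp').resolve_right
      fun e => h5 (hl ▸ e.2.1)
    have c := commute_of_normal_of_disjoint _ _ inferInstance inferInstance
      (IsPGroup.disjoint_of_ne s 5 h5 _ _ (H2.pCore_isPGroup _ H) (H2.pCore_isPGroup _ H)) l k
      (hl ▸ (fitting_odd h2 hc l.2 hp').2) (k5 ▸ (fitting_odd h2 hc hk hp).2)
    have hi : Inv (zpowers l.1) (fix W k) := fun g v hv => by
      obtain ⟨_, n, rfl⟩ := g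
      change k • l.1 ^ n • v = l.1 ^ n • v
      rw [← mul_smul, ← (c.zpow_left n).eq, mul_smul, show k • v = v from hv]
    let _ := subAct _ hi
    have := card_dvd_pred (H := zpowers l.1) (W := fix W k) fun g hg w hw => Subtype.ext (by
      have hg' : l.1 ∈ zpowers g.1 := by
        have := mem_zpowers_of_prime_card (G := zpowers l.1) (p := s)
          (by rw [Nat.card_zpowers, hl]) hg (g' := ⟨_, mem_zpowers _⟩)
        obtain ⟨n, hn⟩ := this
        exact ⟨n, congrArg Subtype.val hn⟩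
      exact AddSubgroup.mem_bot.1 (AddSubgroup.card_eq_one.1 e1 ▸
        fix_zpow (g := g.1) (congrArg Subtype.val hw) hg'))
    rw [Nat.card_zpowers, hl, k16] at this
    rcases (Nat.Prime.dvd_mul hs (m := 3) (n := 5)).1 this with e | e
    · exact f3 ((Nat.prime_dvd_prime_iff_eq hs Nat.prime_three).1 e ▸ hd)
    · exact h5 ((Nat.prime_dvd_prime_iff_eq hs Nat.prime_five).1 e)
  obtain ⟨i, hi⟩ := hP.exists_card_eq
  have hd := (card_subgroup_dvd_card (Cfsg.fittingSubgroup H)).trans (card_dvd_gl h2 hm)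
  have : i < 3 := by_contra fun e =>
    absurd ((pow_dvd_pow 5 (not_lt.1 e)).trans (hi ▸ hd)) (by decide)
  interval_cases i
  · exact (f1 hi).elim
  · exact (cyc 5 Nat.prime_five.prime.squarefree hi).trans (by decide)
  · exact card_le_25 hC hi

end H33.Solv
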