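import Cfsg.Agent.H33.SolvC1

/-! Base sizes of solvable linear groups: involutions of symplectic spaces over the field with two
elements and their fixed points in characteristic three. -/

set_option autoImplicit false

namespace H33.Solv

open Subgroup

variable {H W : Type*} [Group H] [AddCommGroup W] [DistribMulAction H W]

/-- An invariant symplectic form. -/
structure Frm (H : Type*) {W : Type*} [Group H] [AddCommGroup W] [DistribMulAction H W]
    (B : W →+ W →+ ZMod 2) : Prop where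
  symm : ∀ u w, B u w = B w u
  nd : ∀ u, (∀ w, B u w = 0) → u = 0
  inv : ∀ (g : H) u w, B (g • u) (g • w) = B u w

theorem dvd_pred_of_inv [Finite H] [Finite W] {k : H} (hp : (orderOf k).Prime) {U : AddSubgroup W}
    (hU : ∀ u ∈ U, k • u ∈ U) (h : ∀ u ∈ U, k • u = u → u = 0) : orderOf k ∣ Nat.card U - 1 := by
  have := Fact.mk hp
  have hi : Inv (zpowers k) U := fun g v hv => by
    obtain ⟨n, hn⟩ := (mem_powers_iff_mem_zpowers).2 g.2
    change g.1 • v ∈ U
    rw [← hn]
    clear hn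
    induction n with
    | zero => simpa using hv
    | succ n ih => beta_reduce at ih ⊢; rw [pow_succ', mul_smul]; exact hU _ ih
  let _ := subAct _ hi
  rw [← Nat.card_zpowers]
  refine card_dvd_pred fun g hg w hw => Subtype.ext (h _ w.2 ?_)
  obtain ⟨n, hn⟩ := mem_zpowers_of_prime_card (G := zpowers k) (Nat.card_zpowers k) hg
    (g' := ⟨_, mem_zpowers _⟩)
  exact fix_zpow (g := g.1) (congrArg Subtype.val hw) ⟨n, congrArg Subtype.val hn⟩

theorem card_sub_pow [Finite W] (h2 : ∀ w : W, 2 • w = 0) (U : AddSubgroup W) :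
    ∃ a, Nat.card U = 2 ^ a := card_eq_pow Nat.prime_two fun w => Subtype.ext (h2 w)

variable {B : W →+ W →+ ZMod 2}

theorem Frm.fix_nd (hB : Frm H B) {k : H} (ho : Odd (orderOf k)) {u : W} (hu : k • u = u)
    (h : ∀ x, k • x = x → B u x = 0) : u = 0 := hB.nd u fun w => by
  have := h (∑ i ∈ Finset.range (orderOf k), k ^ i • w) (by
    have e := Finset.sum_range_succ' (fun i => k ^ i • w) (orderOf k)
    rw [Finset.sum_range_succ, pow_orderOf_eq_one, pow_zero, add_left_inj] at e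
    rw [Finset.smul_sum]
    exact (Finset.sum_congr rfl fun i _ => by rw [← mul_smul, ← pow_succ']).trans e.symm)
  rw [map_sum, Finset.sum_congr rfl (g := fun _ => B u w) fun i _ => by
    rw [← hB.inv (k ^ i) u w, fix_zpow hu (pow_mem (mem_zpowers k) i)], Finset.sum_const,
    Finset.card_range] at this
  obtain ⟨n, hn⟩ := ho
  rwa [hn, add_smul, mul_smul, two_smul, CharTwo.add_self_eq_zero, zero_add, one_smul] at this

theorem Frm.noA2 [Finite H] [Finite W] [FaithfulSMul H W] (hB : Frm H B) (h3 : ¬ 3 ∣ Nat.card H)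
    (h2 : ∀ w : W, 2 • w = 0) (hc : CR H W) {t : H} (ht : t * t = 1) (h1 : t ≠ 1)
    (ha : ∀ w, B (t • w) w = 0) : 4 * Nat.card (fix W t) < Nat.card W := by
  by_contra! h4
  obtain ⟨k, g, hk, hp, hk2, hinv⟩ := hc.inverted h2 ht h1
  have e1 := card_mul_le (fix W t) (fix W (g * t * g⁻¹))
  have e2 : Nat.card (fix W t ⊓ fix W (g * t * g⁻¹) : AddSubgroup W) ≤ Nat.card (fix W (k ^ 2)) :=
    AddSubgroup.card_le_of_le fun v hv => fix_zpow (by
      rw [mul_smul, show (g * t * g⁻¹) • v = v from hv.2]; exact hv.1) (pow_mem hk 2)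
  rw [card_fix_conj] at e1
  have e3 : Nat.card W ≤ 16 * Nat.card (fix W (k ^ 2)) :=
    Nat.le_of_mul_le_mul_left (by nlinarith) (Nat.card_pos (α := W))
  have ho : orderOf (k ^ 2) = orderOf k := Nat.Coprime.orderOf_pow
    ((Nat.coprime_primes hp Nat.prime_two).2 hk2)
  have e4 : ∀ (j : ℕ) w, B ((k ^ 2) ^ j • w) (t • w) = 0 := fun j w => by
    rw [← ha (k ^ j • w), ← hB.inv (k ^ j)⁻¹ (t • _), inv_smul_smul, ← hB.inv t _ w, ← mul_smul,
      ← mul_smul, ← mul_smul, ← inv_pow, ← hinv, conj_pow, ← mul_assoc, ← mul_assoc,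
      ht, one_mul, inv_mul_cancel_right, ← pow_mul, two_mul, pow_add]
  have hinv' : t * k ^ 2 = (k ^ 2)⁻¹ * t := by rw [← inv_pow, ← hinv, conj_pow]; group
  rw [← ho] at hp hk2
  have e5 : 5 ≤ orderOf (k ^ 2) := hp.five_le_of_ne_two_of_ne_three hk2
    fun e => h3 (e ▸ orderOf_dvd_natCard _)
  generalize k ^ 2 = κ at *
  obtain ⟨v, hv⟩ : ∃ v : W, κ • v - v ≠ 0 := by
    by_contra! e
    exact hp.ne_one (orderOf_eq_one_iff.2 (eq_of_smul_eq_smul (α := W) fun v => by
      rw [one_smul]; exact sub_eq_zero.1 (e v)))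
  have e6 : ∀ x y : W, κ • x = x → B x (κ • y - y) = 0 := fun x y hx => by
    rw [map_sub, ← hB.inv κ x y, hx, sub_self]
  let U : AddSubgroup W :=
    { carrier := {x | (∀ y, κ • y = y → B x y = 0) ∧ ∀ j : ℕ, B (κ ^ j • x) (t • (κ • v - v)) = 0}
      zero_mem' := by simp
      add_mem' := fun {a b} ha hb => ⟨fun y hy => by simp [ha.1 y hy, hb.1 y hy],
        fun j => by rw [smul_add, map_add, AddMonoidHom.add_apply, ha.2, hb.2, add_zero]⟩
      neg_mem' := fun {a} ha => ⟨fun y hy => by simp [ha.1 y hy],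
        fun j => by rw [smul_neg, map_neg, AddMonoidHom.neg_apply, ha.2, neg_zero]⟩ }
  have u1 : ∀ u ∈ U, κ • u = u → u = 0 := fun u hu e => hB.fix_nd (hp.odd_of_ne_two hk2) e hu.1
  have u2 := dvd_pred_of_inv hp (U := U) (fun u hu => ⟨fun y hy => by
    rw [← hy, hB.inv, hu.1 y hy], fun j => by rw [← mul_smul, ← pow_succ, hu.2]⟩) u1
  have u3 : U ≠ ⊥ := fun e => hv (AddSubgroup.mem_bot.1 (e ▸
    ⟨fun y hy => by rw [hB.symm, e6 y v hy], fun j => e4 j _⟩))
  have u4 : Disjoint U (fix W κ) := AddSubgroup.disjoint_def.2 fun {x} h1 h2 => u1 x h1 h2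
  have u5 := card_mul_le U (fix W κ)
  rw [u4.eq_bot, AddSubgroup.card_bot, mul_one] at u5
  have u6 := (Nat.modEq_iff_dvd' (AddSubgroup.card_le_card_addGroup _)).1
    (card_fix_modEq (V := W) hp (pow_orderOf_eq_one κ)).symm
  have u7 : Nat.card U * Nat.card (fix W κ) = Nat.card W := by
    obtain ⟨a, ha⟩ := card_sub_pow h2 U
    obtain ⟨f, hf⟩ := card_sub_pow h2 (fix W κ)
    obtain ⟨d, hd⟩ := card_eq_pow Nat.prime_two h2
    have u8 := (AddSubgroup.one_lt_card_iff_ne_bot U).2 u3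
    rw [ha] at u2 u8
    rw [ha, hf, hd, ← pow_add] at u5 ⊢
    rw [hf, hd] at e3 u6
    rw [show 16 = 2 ^ 4 from rfl, ← pow_add, Nat.pow_le_pow_iff_right one_lt_two] at e3
    rw [Nat.pow_le_pow_iff_right one_lt_two] at u5
    congr 1
    by_contra hne
    have a3 : a < 4 := by omega
    have := Nat.le_of_dvd (by omega) u2
    obtain rfl : a = 3 := by interval_cases a <;> omega
    obtain rfl : d = f + 4 := by omega
    rw [(Nat.prime_dvd_prime_iff_eq hp (by norm_num : Nat.Prime 7)).1 u2, pow_add,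
      ← Nat.mul_sub_one, Nat.Prime.dvd_mul (by norm_num)] at u6
    exact u6.elim (fun e => absurd ((by norm_num : Nat.Prime 7).dvd_of_dvd_pow e) (by decide))
      (by decide)
  refine hv ((smul_eq_zero_iff_eq t).1 (hB.nd _ fun w => ?_))
  obtain ⟨⟨x, y⟩, rfl⟩ := ((Nat.bijective_iff_injective_and_card _).2
    ⟨AddSubgroup.add_injective_of_disjoint u4, (Nat.card_prod _ _).trans u7⟩).2 w
  have x1 := x.2.2 0
  rw [pow_zero, one_smul, hB.symm] at x1
  rw [map_add, x1, zero_add, hB.symm, smul_sub, ← mul_smul, hinv', mul_smul, map_sub,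
    ← hB.inv κ, smul_inv_smul, show κ • y.1 = y.1 from y.2, sub_self]

theorem Frm.bsymm (hB : Frm H B) {t : H} (ht : t * t = 1) (u w : W) :
    B (t • u - u) w = B (t • w - w) u := by
  rw [map_sub, map_sub, AddMonoidHom.sub_apply, AddMonoidHom.sub_apply,
    ← hB.inv t (t • u), ← mul_smul, ht, one_smul, hB.symm u, hB.symm u]

theorem Frm.pairs [Finite W] (hB : Frm H B) {t : H} (ht : t * t = 1)
    (ha : ∀ w, B (t • w - w) w = 0) (h4 : 4 * Nat.card (fix W t) < Nat.card W) :
    ∃ u w u' w' : W, B (t • u - u) w = 1 ∧ B (t • u' - u') w' = 1 ∧ B (t • u - u) u' = 0 ∧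
      B (t • u - u) w' = 0 ∧ B (t • w - w) u' = 0 ∧ B (t • w - w) w' = 0 := by
  let β : W →+ W →+ ZMod 2 := B.comp (DistribSMul.toAddMonoidHom W t - AddMonoidHom.id W)
  have hβ : ∀ u w, B (t • u - u) w = β u w := fun _ _ => rfl
  have hs : ∀ u w, β u w = β w u := hB.bsymm ht
  have h01 : ∀ x : ZMod 2, x ≠ 1 → x = 0 := by decide
  have hf : ∀ c, (∀ w, β c w = 0) → c ∈ fix W t := fun c h => sub_eq_zero.1 (hB.nd _ h)
  simp only [hβ] at ha ⊢
  obtain ⟨u, w, h1⟩ : ∃ u w, β u w = 1 := by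
    by_contra! e
    have := AddSubgroup.card_le_of_le (show ⊤ ≤ fix W t from fun c _ => hf c fun w => h01 _ (e c w))
    rw [AddSubgroup.card_top] at this
    omega
  by_contra! e
  have := card_le_ker_mul ((β u).prod (β w)) (A := fix W t) (B := ⊤) (fun c hc => hf c fun x => ?_)
    le_top
  · rw [AddSubgroup.card_top, Nat.card_prod, Nat.card_zmod] at this
    omega
  have c1 : β u c = 0 := congrArg Prod.fst hc
  have c2 : β w c = 0 := congrArg Prod.snd hc
  have := h01 (β c (x + (β w x).val • u + (β u x).val • w)) fun h => e u w c _ h1 h c1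
    (by simp [ha, h1, CharTwo.add_self_eq_zero]) c2
    (by simp [ha, hs w u, h1, CharTwo.add_self_eq_zero])
  simpa [hs c u, hs c w, c1, c2] using this

theorem Frm.sixteen [Finite W] (hB : Frm H B) {t : H} (ht : t * t = 1)
    (ha : ∀ w, B (t • w - w) w = 0) (h4 : 4 * Nat.card (fix W t) < Nat.card W) :
    16 * Nat.card (fix W t) ≤ Nat.card W := by
  obtain ⟨u, w, u', w', h⟩ := hB.pairs ht ha h4
  let β : W →+ W →+ ZMod 2 := B.comp (DistribSMul.toAddMonoidHom W t - AddMonoidHom.id W)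
  have hβ : ∀ u w, B (t • u - u) w = β u w := fun _ _ => rfl
  have hs : ∀ u w, β u w = β w u := hB.bsymm ht
  simp only [hβ] at ha h
  let φ := ((β u).prod (β w)).prod ((β u').prod (β w'))
  have h1 : φ.range = ⊤ := eq_top_iff.2 fun ⟨⟨p, q⟩, r, s⟩ _ =>
    ⟨p.val • w + q.val • u + r.val • w' + s.val • u', by
      simp [φ, ha, h, hs w u, hs u' u, hs w' u, hs u' w, hs w' w, hs w' u']⟩
  have h2 : fix W t ≤ φ.ker := fun c hc => by
    have : ∀ x, β x c = 0 := fun x => by rw [hs, ← hβ, show t • c = c from hc, sub_self]; simp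
    simp [φ, this, Prod.ext_iff]
  rw [← AddSubgroup.card_mul_index φ.ker, AddSubgroup.index_ker, h1, AddSubgroup.card_top,
    mul_comm]
  simpa using AddSubgroup.card_le_of_le h2

theorem invol_16 [Finite H] [Finite W] [FaithfulSMul H W] (h3 : ¬ 3 ∣ Nat.card H)
    (h2 : ∀ w : W, 2 • w = 0) (hc : CR H W) (hW : Nat.card W = 16)
    (sq : ∀ k : H, Odd (orderOf k) → IsSquare (Nat.card (fix W k))) {t : H} (ht : t * t = 1)
    (h1 : t ≠ 1) : Nat.card (fix W t) ≤ 4 := by
  obtain ⟨k, g, hk, hp, hk2, -⟩ := hc.inverted h2 ht h1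
  have e1 := card_mul_le (fix W t) (fix W (g * t * g⁻¹))
  have e2 : Nat.card (fix W t ⊓ fix W (g * t * g⁻¹) : AddSubgroup W) ≤ Nat.card (fix W k) :=
    AddSubgroup.card_le_of_le fun v hv => fix_zpow (by
      rw [mul_smul, show (g * t * g⁻¹) • v = v from hv.2]; exact hv.1) hk
  have e3 := AddSubgroup.card_addSubgroup_dvd_card (fix W k)
  have e4 : Nat.card (fix W k) ≠ Nat.card W := fun e => hp.ne_one (orderOf_eq_one_iff.2
    (eq_of_smul_eq_smul (α := W) fun v => by
      rw [one_smul]; exact ((AddSubgroup.card_eq_iff_eq_top _).1 e).ge trivial))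
  have e5 : 5 ≤ orderOf k := hp.five_le_of_ne_two_of_ne_three hk2
    fun e => h3 (e ▸ orderOf_dvd_natCard k)
  have e6 := (Nat.modEq_iff_dvd' (Nat.le_of_dvd Nat.card_pos e3)).1
    (card_fix_modEq (V := W) hp (pow_orderOf_eq_one k)).symm
  have e7 := sq k (hp.odd_of_ne_two hk2)
  rw [card_fix_conj] at e1
  rw [hW] at e1 e3 e4 e6
  have key : ∀ f ∈ Nat.divisors 16, f ≠ 16 → IsSquare f → ∀ s ∈ (16 - f).divisors, s.Prime →
    5 ≤ s → f = 1 := by decide +kernel
  rw [key _ (Nat.mem_divisors.2 ⟨e3, by decide⟩) e4 e7 _ (Nat.mem_divisors.2 ⟨e6, by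
    have := Nat.le_of_dvd (by decide) e3; omega⟩) hp e5] at e2
  nlinarith

theorem invol_count [Finite H] {F : Subgroup H} [hF : F.Normal] (hc : centralizer (F : Set H) ≤ F)
    (h5 : Nat.card F = 5) : {t : H | t * t = 1 ∧ t ≠ 1}.ncard ≤ 5 := by
  have := Fact.mk Nat.prime_five
  have key : ∀ t : H, t * t = 1 → t ≠ 1 → ∀ k ∈ F, t * k * t⁻¹ = k⁻¹ := fun t ht h1 k hk => by
    by_contra e
    have hm := mul_mem (hF.conj_mem k hk t) hk
    have c : ∀ a ∈ F, ∀ b ∈ F, a * b = b * a := fun a ha b hb =>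
      congrArg Subtype.val ((isCyclic_of_prime_card h5).isMulCommutative.is_comm.comm ⟨a, ha⟩ ⟨b, hb⟩)
    have htF : t ∈ F := hc fun y hy => by
      obtain ⟨n, hn⟩ := mem_zpowers_of_prime_card h5 (g := ⟨_, hm⟩)
        (fun e' => e (eq_inv_of_mul_eq_one_left (congrArg Subtype.val e'))) (g' := ⟨y, hy⟩)
      rw [show y = (t * k * t⁻¹ * k) ^ n from (congrArg Subtype.val hn).symm]
      refine (Commute.zpow_left ?_ n).eq
      have e1 := c _ (hF.conj_mem k hk t) k hk
      rw [inv_eq_of_mul_eq_one_left ht] at e1 ⊢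
      change t * k * t * k * t = t * (t * k * t * k)
      rw [e1]
      calc _ = k * t * k * (t * t) := by group
        _ = t * t * k * t * k := by rw [ht]; group
        _ = _ := by rw [← e1]; group
    exact h1 ((pow_eq_one_iff_of_coprime (by decide : Nat.Coprime 2 5)).1 ⟨by rwa [pow_two],
      h5 ▸ congrArg Subtype.val (pow_card_eq_one' (x := (⟨t, htF⟩ : F)))⟩)
  rcases Set.eq_empty_or_nonempty {t : H | t * t = 1 ∧ t ≠ 1} with e | ⟨t, ht⟩
  · simp [e]
  rw [← h5]
  refine Set.ncard_le_ncard_of_injOn (t * ·) (t := F) (fun u hu => hc fun y hy => ?_)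
    (mul_right_injective t).injOn
  have := key t ht.1 ht.2 _ (inv_mem hy)
  rw [inv_inv, ← key u hu.1 hu.2 y hy] at this
  nth_rewrite 1 [← this]
  rw [inv_eq_of_mul_eq_one_left hu.1]
  calc _ = t * u * y * (u * (t⁻¹ * t) * u) := by group
    _ = _ := by rw [inv_mul_cancel, mul_one, hu.1, mul_one]

end H33.Solv
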