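import Cfsg.Agent.H33.SolvC3

/-! Base sizes of solvable linear groups: the normalizer of an extraspecial 2-group in
characteristic three, structure and elements with many fixed points. -/

set_option autoImplicit false

namespace H33.Solv

open Subgroup
open scoped commutatorElement

theorem Frm.invol {H W : Type*} [Group H] [AddCommGroup W] [DistribMulAction H W]
    [FaithfulSMul H W] {B : W →+ W →+ ZMod 2} (hB : Frm H B) {t : H} (ha : ∀ w, B (t • w) w = 0) :
    t * t = 1 := eq_of_smul_eq_smul (α := W) fun u => sub_eq_zero.1 (hB.nd _ fun w => by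
  have := ha (t • u + w)
  simp only [smul_add, map_add, AddMonoidHom.add_apply, ha, zero_add, add_zero, hB.inv] at this
  rw [one_smul, mul_smul, map_sub, AddMonoidHom.sub_apply, CharTwo.sub_eq_add, hB.symm u, add_comm,
    this])

theorem Frm.dd {H W : Type*} [Group H] [AddCommGroup W] [DistribMulAction H W]
    {B : W →+ W →+ ZMod 2} (hB : Frm H B) {t : H} (ht : t * t = 1) (u x : W) :
    B (t • u - u) (t • x - x) = 0 := by
  rw [map_sub, ← hB.inv t _ x, smul_sub, ← mul_smul, ht, one_smul, ← neg_sub u, map_neg,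
    AddMonoidHom.neg_apply, ← neg_add', CharTwo.add_self_eq_zero, neg_zero]

theorem ncard_le_fib {G H : Type*} [Group G] [Finite G] [Finite H] (φ : G → H) {S : Set G}
    {T : Set H} {k : ℕ} (h1 : ∀ g ∈ S, φ g ∈ T)
    (h2 : ∀ g ∈ S, ∃ P : Subgroup G, Nat.card P ≤ k ∧ ∀ x ∈ S, φ x = φ g → g⁻¹ * x ∈ P) :
    S.ncard ≤ k * T.ncard := by
  classical
  rw [Set.ncard_eq_toFinset_card, Set.ncard_eq_toFinset_card]
  refine Finset.card_le_mul_card_image_of_maps_to (f := φ) (by simpa using h1) k fun t _ => ?_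
  rcases Finset.eq_empty_or_nonempty {a ∈ S.toFinite.toFinset | φ a = t} with e | ⟨g, hg⟩
  · simp [e]
  simp only [Finset.mem_filter, Set.Finite.mem_toFinset] at hg
  obtain ⟨P, p1, p2⟩ := h2 g hg.1
  rw [← Nat.card_eq_finsetCard]
  exact (Nat.card_le_card_of_injective (fun x => (⟨_, p2 x.1 (by simpa using (Finset.mem_filter.1 x.2).1)
    ((Finset.mem_filter.1 x.2).2.trans hg.2.symm)⟩ : P)) fun x y e =>
      Subtype.ext (mul_left_cancel (congrArg Subtype.val e))).trans p1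

variable {G H W : Type*} [Group G] [Group H] [AddCommGroup W] [DistribMulAction H W]

/-- The extraspecial group `N` with centre `Z = {1, ω}` acting on `V`. -/
structure Ctx (V : Type*) [AddCommGroup V] [DistribMulAction G V] (Z N : Subgroup G) (ω : G)
    (π : G → W) (φ : G →* H) : Prop where
  ns : NS Z N
  neg : ∀ v : V, ω • v = -v
  three : ∀ v : V, 3 • v = 0
  mem : ∀ z, z ∈ Z ↔ z = 1 ∨ z = ω
  sec : Sec Z N π
  surj : Function.Surjective φ
  act : ∀ g : G, ∀ a ∈ N, φ g • π a = π (g * a * g⁻¹)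
  cr : CR H W

namespace Ctx

variable {V : Type*} [AddCommGroup V] [DistribMulAction G V] {Z N : Subgroup G} {ω : G}
  {π : G → W} {φ : G →* H} (c : Ctx V Z N ω π φ)
include c

theorem fpf {z : G} (hz : z ∈ Z) {v : V} (h0 : v ≠ 0) (e : z • v = v) : z = 1 :=
  ((c.mem z).1 hz).resolve_right fun h => h0 (by
    rw [h, c.neg, neg_eq_iff_add_eq_zero] at e
    rw [← c.three v, succ_nsmul, two_nsmul, e, zero_add])

theorem anti {a b : G} (ha : a ∈ N) (hb : b ∈ N) (h : a * b ≠ b * a) (v : V) :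
    a • b • v = -(b • a • v) := by
  rw [← mul_smul, H9.mul_eq_commutatorElement_mul, ((c.mem _).1 (c.ns.comm a ha b hb)).resolve_left
    (mt commutatorElement_eq_one_iff_mul_comm.1 h), mul_smul, mul_smul, c.neg]

theorem comm_mem (g : G) {a : G} (ha : a ∈ N) : ⁅g, a⁆ ∈ N :=
  mul_mem (c.ns.nn.conj_mem a ha g) (inv_mem ha)

theorem pi_comm (g : G) {a : G} (ha : a ∈ N) : π ⁅g, a⁆ = φ g • π a - π a := by
  rw [commutatorElement_def, c.sec.mul _ (c.ns.nn.conj_mem a ha g) _ (inv_mem ha), c.sec.inv ha,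
    c.act g a ha, sub_eq_add_neg]

variable [FaithfulSMul G V]

theorem zc {z : G} (hz : z ∈ Z) (g : G) : z * g = g * z := by
  rcases (c.mem z).1 hz with rfl | rfl
  · rw [one_mul, mul_one]
  · exact eq_of_smul_eq_smul (α := V) fun v => by rw [mul_smul, mul_smul, c.neg, c.neg, smul_neg]

theorem zz {z : G} (hz : z ∈ Z) : z * z = 1 := by
  rcases (c.mem z).1 hz with rfl | rfl
  · rw [one_mul]
  · exact eq_of_smul_eq_smul (α := V) fun v => by rw [mul_smul, c.neg, c.neg, neg_neg, one_smul]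

theorem sq_mem {a : G} (ha : a ∈ N) : a * a ∈ Z := c.ns.n2 _ fun b hb => by
  rw [eq_comm, ← commutatorElement_eq_one_iff_mul_comm, ← pow_two,
    H9.commutatorElement_pow_left (c.ns.cc ha hb ha), pow_two, c.zz (c.ns.comm a ha b hb)]

theorem two (w : W) : 2 • w = 0 := by
  obtain ⟨a, ha, rfl⟩ := c.sec.surj w
  rw [two_nsmul, ← c.sec.mul a ha a ha, c.sec.zero _ (mul_mem ha ha)]
  exact c.sq_mem ha

theorem ker [Finite G] [FaithfulSMul H W] {g : G} : φ g = 1 ↔ g ∈ N := by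
  refine ⟨fun e => c.ns.n3 (fun z hz => c.zc hz g) fun a ha => (c.sec.zero _ (c.comm_mem g ha)).1
    (by rw [c.pi_comm g ha, e, one_smul, sub_self]), fun hg => eq_of_smul_eq_smul (α := W) fun w => ?_⟩
  obtain ⟨a, ha, rfl⟩ := c.sec.surj w
  rw [one_smul, ← sub_eq_zero, ← c.pi_comm g ha, c.sec.zero _ (c.comm_mem g ha)]
  exact c.ns.comm g hg a ha

variable [Nontrivial V]

omit [FaithfulSMul G V] in
theorem ne_one : ω ≠ 1 := fun e =>
  let ⟨v, hv⟩ := exists_ne (0 : V)
  hv (by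
    have := c.neg v
    rw [e, one_smul, eq_neg_iff_add_eq_zero] at this
    rw [← c.three v, succ_nsmul, two_nsmul, this, zero_add])

omit [FaithfulSMul G V] in
theorem card_Z : Nat.card Z = 2 := by
  rw [← Set.ncard_pair c.ne_one.symm, ← Nat.card_coe_set_eq]
  exact Nat.card_congr (Equiv.subtypeEquivRight c.mem)

omit [FaithfulSMul G V] in
theorem card_pre (U : AddSubgroup W) : Nat.card (c.sec.pre U) = 2 * Nat.card U := by
  rw [c.sec.card_pre, ← c.card_Z, ← relIndex_bot_left, ← relIndex_bot_left, relIndex_mul_relIndex _ Z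
    (c.sec.pre U) bot_le fun z hz => ⟨c.ns.le hz, by rw [(c.sec.zero z (c.ns.le hz)).2 hz]; exact zero_mem U⟩]

theorem card_G [Finite G] [FaithfulSMul H W] : Nat.card G = 2 * Nat.card W * Nat.card H := by
  rw [← card_mul_index φ.ker, index_ker, MonoidHom.range_eq_top.2 c.surj, card_top,
    show φ.ker = c.sec.pre ⊤ from Subgroup.ext fun g => by simp [c.ker, Sec.mem_pre], c.card_pre,
    AddSubgroup.card_top]

theorem exists_frm : ∃ B : W →+ W →+ ZMod 2, Frm H B ∧
    ∀ a ∈ N, ∀ b ∈ N, B (π a) (π b) = 0 ↔ a * b = b * a := by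
  classical
  let χ : G → G → ZMod 2 := fun a b => if a * b = b * a then 0 else 1
  have h1 : ∀ a b, χ a b = χ b a := fun a b => by simp only [χ, eq_comm]
  have h2 : ∀ a ∈ N, ∀ b ∈ N, ∀ d ∈ N, χ a (b * d) = χ a b + χ a d := fun a ha b hb d hd => by
    simp only [χ, ← commutatorElement_eq_one_iff_mul_comm, comm_mul_right (c.ns.cc ha hd hb)]
    have := c.zz ((c.mem ω).2 (Or.inr rfl))
    rcases (c.mem _).1 (c.ns.comm a ha b hb) with e | e <;>
      rcases (c.mem _).1 (c.ns.comm a ha d hd) with e' | e' <;> simp [e, e', c.ne_one, this]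
    rfl
  choose σ hσ eσ using c.sec.surj
  have h3 : ∀ a ∈ N, ∀ b ∈ N, χ a (σ (π b)) = χ a b := fun a ha b hb => by
    have := (c.sec.eq_iff (hσ _) hb).1 (eσ _)
    conv_rhs => rw [← mul_inv_cancel_left (σ (π b)) b]
    rw [h2 a ha _ (hσ _) _ (c.ns.le this), show χ a _ = 0 from if_pos (c.zc this a).symm, add_zero]
  have h4 : ∀ a ∈ N, ∀ u w, χ a (σ (u + w)) = χ a (σ u) + χ a (σ w) := fun a ha u w => by
    rw [← h2 a ha _ (hσ u) _ (hσ w), ← h3 a ha _ (mul_mem (hσ u) (hσ w)),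
      c.sec.mul _ (hσ u) _ (hσ w), eσ, eσ]
  let B : W →+ W →+ ZMod 2 := AddMonoidHom.mk'
    (fun u => AddMonoidHom.mk' (fun w => χ (σ u) (σ w)) (h4 _ (hσ u))) fun u u' =>
      AddMonoidHom.ext fun w => by
        change χ _ _ = χ _ _ + χ _ _
        rw [h1, h4 _ (hσ w), h1, h1 (σ w)]
  have h5 : ∀ a ∈ N, ∀ b ∈ N, B (π a) (π b) = χ a b := fun a ha b hb => by
    change χ _ _ = _
    rw [h3 _ (hσ _) b hb, h1, h3 b hb a ha, h1]
  have h6 : ∀ a ∈ N, ∀ b ∈ N, B (π a) (π b) = 0 ↔ a * b = b * a := fun a ha b hb => by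
    simp [h5 a ha b hb, χ]
  refine ⟨B, ⟨fun u w => h1 _ _, fun u h => ?_, fun t u w => ?_⟩, h6⟩
  · rw [← eσ u, c.sec.zero _ (hσ u)]
    exact c.ns.n2 _ fun b hb => ((h6 _ (hσ u) b hb).1 (by rw [eσ, h])).symm
  · obtain ⟨g, rfl⟩ := c.surj t
    have := c.ns.nn.conj_mem
    rw [← eσ u, ← eσ w, c.act g _ (hσ u), c.act g _ (hσ w), h5 _ (this _ (hσ u) g) _ (this _ (hσ w) g),
      h5 _ (hσ u) _ (hσ w)]
    simp only [χ, conj_mul, mul_left_inj, mul_right_inj]

end Ctx

end H33.Solv
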