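import Cfsg.Agent.H33.SolvC4

/-! Base sizes of solvable linear groups: elements with many fixed points in the normalizer of an
extraspecial 2-group in characteristic three. -/

set_option autoImplicit false

namespace H33.Solv

open Subgroup
open scoped commutatorElement

theorem arith_big {f f1 f2 x1 x2 v : ℕ} (h1 : f ^ 4 ≤ f1 ^ 8 * v) (h2 : x1 ^ 4 ≤ v)
    (h3 : f1 ^ 4 ≤ f2 ^ 8 * x1) (h4 : x2 ^ 4 ≤ x1) (h5 : f2 ≤ x2) : (f ^ 2) ^ 4 ≤ v ^ 5 :=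
  calc (f ^ 2) ^ 4 = (f ^ 4) ^ 2 := by ring
    _ ≤ (f1 ^ 8 * v) ^ 2 := by gcongr
    _ = (f1 ^ 4) ^ 4 * v ^ 2 := by ring
    _ ≤ (x2 ^ 8 * x1) ^ 4 * v ^ 2 := by gcongr; exact h3.trans (by gcongr)
    _ = (x2 ^ 4) ^ 8 * x1 ^ 4 * v ^ 2 := by ring
    _ ≤ x1 ^ 8 * x1 ^ 4 * v ^ 2 := by gcongr
    _ = (x1 ^ 4) ^ 3 * v ^ 2 := by ring
    _ ≤ v ^ 3 * v ^ 2 := by gcongr
    _ = _ := by ring

theorem sgn_inj : ∀ p q : ZMod 2, ((if p = 0 then (1 : ZMod 3) else -1) = if q = 0 then 1 else -1) →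
    p - q = 0 := by decide

namespace Ctx

variable {G H W : Type*} [Group G] [Group H] [AddCommGroup W] [DistribMulAction H W]
  {V : Type*} [AddCommGroup V] [DistribMulAction G V] {Z N : Subgroup G} {ω : G}
  {π : G → W} {φ : G →* H} (c : Ctx V Z N ω π φ) {B : W →+ W →+ ZMod 2} (hB : Frm H B)
  (hc : ∀ a ∈ N, ∀ b ∈ N, B (π a) (π b) = 0 ↔ a * b = b * a)
include c

theorem le_pre (U : AddSubgroup W) : Z ≤ c.sec.pre U := fun z hz =>
  ⟨c.ns.le hz, by rw [(c.sec.zero z (c.ns.le hz)).2 hz]; exact zero_mem U⟩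

include hc in
theorem alt (w : W) : B w w = 0 := by
  obtain ⟨a, ha, rfl⟩ := c.sec.surj w
  exact (hc a ha a ha).2 rfl

include hc in
theorem nf (w : W) (h : ∀ t : H, t • w = w) : w = 0 := by
  obtain ⟨a, ha, rfl⟩ := c.sec.surj w
  refine (c.sec.zero a ha).2 (c.ns.max (c.sec.pre (AddSubgroup.zmultiples (π a)))
    ⟨fun b ⟨hb, n, e⟩ g => ⟨c.ns.nn.conj_mem b hb g, n, ?_⟩⟩
    (fun x ⟨hx, m, e⟩ y ⟨hy, n, e'⟩ => (hc x hx y hy).1 ?_) (c.le_pre _)
    ⟨ha, AddSubgroup.mem_zmultiples _⟩)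
  · rw [← c.act g b hb, ← e, smul_comm, h]
  · rw [← e, ← e']; simp [c.alt hc]

include hB hc in
theorem sq [Finite G] (k : H) (ho : Odd (orderOf k)) : IsSquare (Nat.card (fix W k)) := by
  rw [c.sec.card_pre]
  refine c.ns.sq_index (c.le_pre _) (fun a ha => ha.1) fun a ha e => (c.sec.zero a ha.1).1
    (hB.fix_nd ho ha.2 fun x hx => ?_)
  obtain ⟨b, hb, rfl⟩ := c.sec.surj x
  exact (hc a ha.1 b hb).2 (e b ⟨hb, hx⟩)

variable [Finite G] [Finite V] [FaithfulSMul G V]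

include hB hc in
theorem dim [Nontrivial V] : ∃ m n, Nat.card W = 4 ^ m ∧ Nat.card V = 3 ^ n ∧ 2 ^ m ≤ n := by
  classical
  have := c.sec.finite
  obtain ⟨k, hk⟩ := card_eq_pow Nat.prime_two c.two
  obtain ⟨r, hr⟩ := c.sq hB hc 1 (by simp)
  rw [show fix W (1 : H) = ⊤ from eq_top_iff.2 fun w _ => one_smul H w, AddSubgroup.card_top] at hr
  obtain ⟨m, -, rfl⟩ := (Nat.dvd_prime_pow Nat.prime_two).1 (hk ▸ Dvd.intro _ hr.symm)
  let _ := AddCommGroup.zmodModule c.three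
  have := Fact.mk Nat.prime_three
  refine ⟨m, Module.finrank (ZMod 3) V, hr.trans (mul_pow 2 2 m).symm, by
    rw [Module.natCard_eq_pow_finrank (K := ZMod 3), Nat.card_zmod], Nat.mul_self_le_mul_self_iff.1 ?_⟩
  let L : G → Module.End (ZMod 3) V := fun g => (DistribSMul.toAddMonoidHom V g).toZModLinearMap 3
  choose σ hσ eσ using c.sec.surj
  have := Fintype.ofFinite W
  have := (li_of_chars (x := fun w => L (σ w))
    (fun a : N => (LinearMap.mulLeft _ (L a)).comp (LinearMap.mulRight _ (L a⁻¹)))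
    (χ := fun w a => if B (π a) w = 0 then (1 : ZMod 3) else -1) (fun u w e => ?_) (fun w e => ?_)
    fun w a => LinearMap.ext fun v => ?_).fintype_card_le_finrank
  · rwa [Module.finrank_linearMap, ← Nat.card_eq_fintype_card, hr] at this
  · refine sub_eq_zero.1 (hB.nd _ fun x => ?_)
    have := congrFun e ⟨_, hσ x⟩
    simp only [eσ] at this
    rw [hB.symm, map_sub]
    exact sgn_inj _ _ this
  · obtain ⟨v, hv⟩ := exists_ne (0 : V)
    exact hv ((smul_eq_zero_iff_eq (σ w)).1 (LinearMap.congr_fun e v))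
  · change a.1 • σ w • a.1⁻¹ • v = _
    have := hc _ a.2 _ (hσ w)
    rw [eσ] at this
    split_ifs with h
    · rw [← mul_smul, this.1 h, mul_smul, smul_inv_smul, one_smul]; rfl
    · rw [c.anti a.2 (hσ w) (mt this.2 h), smul_inv_smul, neg_one_smul]; rfl

variable {g : G} (hg : Nat.card V < Nat.card (fix V g) ^ 2)
include hg

omit c [Finite G] [FaithfulSMul G V] in
theorem big_fix (a : G) : ∃ v : V, v ≠ 0 ∧ ⁅g, a⁆ • v = v := by
  have := card_mul_le (fix V g) (fix V (a * g * a⁻¹))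
  rw [card_fix_conj, ← pow_two] at this
  obtain ⟨v, hv, h0⟩ := (fix V g ⊓ fix V (a * g * a⁻¹)).bot_or_exists_ne_zero.resolve_left fun e => by
    rw [e, AddSubgroup.card_bot] at this
    omega
  refine ⟨v, h0, ?_⟩
  rw [show ⁅g, a⁆ = g * (a * g * a⁻¹)⁻¹ by simp only [commutatorElement_def]; group, mul_smul,
    inv_smul_eq_iff.2 (mem_fix.1 hv.2).symm, mem_fix.1 hv.1]

omit [Finite G] [FaithfulSMul G V] in
theorem big_z {a : G} (h : ⁅g, a⁆ ∈ Z) : g * a = a * g :=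
  let ⟨_, h0, e⟩ := big_fix hg a
  commutatorElement_eq_one_iff_mul_comm.1 (c.fpf h h0 e)

omit [Finite G] in
theorem big_sq {a : G} (ha : a ∈ N) : ⁅g, a⁆ * ⁅g, a⁆ = 1 :=
  let ⟨_, h0, e⟩ := big_fix hg a
  c.fpf (c.sq_mem (c.comm_mem g ha)) h0 (by rw [mul_smul, e, e])

omit [Finite G] [FaithfulSMul G V] in
theorem big_N (h : g ∈ N) : g = 1 := by
  obtain ⟨v, hv, h0⟩ := (fix V g).bot_or_exists_ne_zero.resolve_left fun e => by
    rw [e, AddSubgroup.card_bot] at hg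
    have := Nat.card_pos (α := V)
    omega
  exact c.fpf (c.ns.n2 g fun a ha => (c.big_z hg (c.ns.comm g h a ha)).symm) h0 hv

include hc

omit [Finite G] in
theorem big_a (w : W) : B (φ g • w) w = 0 := by
  obtain ⟨a, ha, rfl⟩ := c.sec.surj w
  have hb := c.ns.nn.conj_mem a ha g
  rw [c.act g a ha, hc _ hb a ha]
  obtain ⟨v, h0, e1⟩ := big_fix hg a
  have e2 : g * a * g⁻¹ * (g * a * g⁻¹) = a * a := by
    rw [conj_mul, ← c.zc (c.sq_mem ha), mul_inv_cancel_right]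
  rw [commutatorElement_def, mul_smul] at e1
  generalize g * a * g⁻¹ = b at *
  refine commutatorElement_eq_one_iff_mul_comm.1 (c.fpf (c.ns.comm b hb a ha) (v := a • v)
    (mt (smul_eq_zero_iff_eq a).1 h0) ?_)
  nth_rewrite 1 [← e1]
  rw [← mul_smul a, ← mul_smul, ← mul_assoc, ← H9.mul_eq_commutatorElement_mul, mul_smul, smul_inv_smul, ← e1,
    ← mul_smul, e2, mul_smul, smul_inv_smul, e1]

variable [FaithfulSMul H W]
include hB

theorem big_inv : φ g * φ g = 1 ∧ g * g = 1 := by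
  have := hB.invol (c.big_a hc hg)
  refine ⟨this, c.big_N (hg.trans_le (Nat.pow_le_pow_left (AddSubgroup.card_le_of_le
    fun v hv => ?_) 2)) (c.ker.1 (by rwa [map_mul]))⟩
  rw [mem_fix, mul_smul, mem_fix.1 hv, mem_fix.1 hv]

theorem step {X : AddSubgroup V} {a b : G} (ha : a ∈ N) (hb : b ∈ N)
    (h : B (φ g • π a - π a) (π b) = 1) (xa : ∀ v ∈ X, a • v ∈ X) (xb : ∀ v ∈ X, b • v ∈ X)
    (xc : ∀ v ∈ X, ⁅g, a⁆ • v ∈ X) (xd : ∀ v ∈ X, ⁅g, b⁆ • v ∈ X) :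
    Nat.card (X ⊓ fix V g : AddSubgroup V) ^ 4 ≤
      Nat.card (X ⊓ fix V ⁅g, a⁆ ⊓ fix V ⁅g, b⁆ ⊓ fix V g : AddSubgroup V) ^ 8 * Nat.card X ∧
    Nat.card (X ⊓ fix V ⁅g, a⁆ ⊓ fix V ⁅g, b⁆ : AddSubgroup V) ^ 4 ≤ Nat.card X := by
  obtain ⟨i1, i2⟩ := c.big_inv hB hc hg
  have ma := c.comm_mem g ha
  have mb := c.comm_mem g hb
  have ac : ∀ v : V, ⁅g, a⁆ • a • v = a • ⁅g, a⁆ • v := fun v => by
    rw [← mul_smul, (hc _ ma a ha).1 (by
      rw [c.pi_comm g ha, map_sub, AddMonoidHom.sub_apply, c.big_a hc hg, c.alt hc, sub_self]),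
      mul_smul]
  have ad := c.anti mb ha (mt (hc _ mb a ha).2 (by
    rw [c.pi_comm g hb, hB.bsymm i1, h]; decide))
  have bc := c.anti ma hb (mt (hc _ ma b hb).2 (by rw [c.pi_comm g ha, h]; decide))
  have e1 : ∀ x, g * ⁅g, x⁆ = x * g * x⁻¹ := fun x => by
    rw [commutatorElement_def, ← mul_assoc, ← mul_assoc, ← mul_assoc, i2, one_mul,
      inv_eq_of_mul_eq_one_left i2]
  have gx : ∀ x ∈ N, Commute g ⁅g, x⁆ := fun x hx => by
    rw [commute_iff_eq, e1, ← inv_eq_of_mul_eq_one_left (c.big_sq hg hx), commutatorElement_inv,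
      commutatorElement_def, inv_mul_cancel_right]
  refine ⟨(Nat.pow_le_pow_left (quadF c.neg c.three xa ac ad xc xd (c.big_sq hg ha) (c.big_sq hg hb)
    ((hc _ ma _ mb).1 (by rw [c.pi_comm g ha, c.pi_comm g hb, hB.dd i1])) (gx a ha) (gx b hb)
    (by rw [e1, inv_mul_cancel_right])) 4).trans ?_, quad4 c.neg c.three xa ac ad xb bc⟩
  rw [mul_pow, ← pow_mul]
  exact Nat.mul_le_mul_left _ (quad4 c.neg c.three xa
    (fun v => by simp only [mul_smul, c.neg, ac, smul_neg])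
    (fun v => by simp only [mul_smul, c.neg, ad, smul_neg]) xb
    fun v => by simp only [mul_smul, c.neg, bc, smul_neg])

theorem big_bound (h3 : ¬ 3 ∣ Nat.card H) (h1 : g ≠ 1) : 16 * Nat.card (fix W (φ g)) ≤ Nat.card W ∧
    (Nat.card (fix V g) ^ 2) ^ 4 ≤ Nat.card V ^ 5 := by
  have := c.sec.finite
  have := Finite.of_surjective φ c.surj
  obtain ⟨i1, i2⟩ := c.big_inv hB hc hg
  have h4 := hB.noA2 h3 c.two c.cr i1 (fun e => h1 (c.big_N hg (c.ker.1 e))) (c.big_a hc hg)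
  have ha : ∀ w, B (φ g • w - w) w = 0 := fun w => by
    rw [map_sub, AddMonoidHom.sub_apply, c.big_a hc hg, c.alt hc, sub_self]
  refine ⟨hB.sixteen i1 ha h4, ?_⟩
  obtain ⟨u, w, u', w', p1, p2, p3, p4, p5, p6⟩ := hB.pairs i1 ha h4
  obtain ⟨a, ha, rfl⟩ := c.sec.surj u
  obtain ⟨b, hb, rfl⟩ := c.sec.surj w
  obtain ⟨a', ha', rfl⟩ := c.sec.surj u'
  obtain ⟨b', hb', rfl⟩ := c.sec.surj w'
  obtain ⟨e1, e2⟩ := c.step hB hc hg (X := ⊤) ha hb p1 (fun _ _ => trivial) (fun _ _ => trivial)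
    (fun _ _ => trivial) fun _ _ => trivial
  have k : ∀ x ∈ N, B (φ g • π a - π a) (π x) = 0 → B (φ g • π b - π b) (π x) = 0 →
      ∀ v ∈ ⊤ ⊓ fix V ⁅g, a⁆ ⊓ fix V ⁅g, b⁆, x • v ∈ ⊤ ⊓ fix V ⁅g, a⁆ ⊓ fix V ⁅g, b⁆ :=
    fun x hx q1 q2 v hv => by
      rw [← c.pi_comm g ha, hc _ (c.comm_mem g ha) x hx] at q1
      rw [← c.pi_comm g hb, hc _ (c.comm_mem g hb) x hx] at q2
      refine ⟨⟨trivial, mem_fix.2 ?_⟩, mem_fix.2 ?_⟩
      · rw [← mul_smul, q1, mul_smul, mem_fix.1 hv.1.2]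
      · rw [← mul_smul, q2, mul_smul, mem_fix.1 hv.2]
  have k' : ∀ x ∈ N, ∀ v ∈ ⊤ ⊓ fix V ⁅g, a⁆ ⊓ fix V ⁅g, b⁆,
      ⁅g, x⁆ • v ∈ ⊤ ⊓ fix V ⁅g, a⁆ ⊓ fix V ⁅g, b⁆ := fun x hx =>
    k _ (c.comm_mem g hx) (by rw [c.pi_comm g hx, hB.dd i1]) (by rw [c.pi_comm g hx, hB.dd i1])
  obtain ⟨e3, e4⟩ := c.step hB hc hg ha' hb' p2 (k _ ha' p3 p5) (k _ hb' p4 p6) (k' _ ha') (k' _ hb')
  rw [top_inf_eq, AddSubgroup.card_top] at e1
  rw [AddSubgroup.card_top] at e2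
  exact arith_big e1 e2 e3 e4 (AddSubgroup.card_le_of_le inf_le_left)

omit hB hc hg in
theorem big_count [Nontrivial V] {m : ℕ} (hm : Nat.card W = 4 ^ m) (hB : Frm H B)
    (hc : ∀ a ∈ N, ∀ b ∈ N, B (π a) (π b) = 0 ↔ a * b = b * a) :
    {g : G | g ≠ 1 ∧ Nat.card V < Nat.card (fix V g) ^ 2}.ncard ≤ 2 * 2 ^ m * Nat.card H := by
  have := c.sec.finite
  have := Finite.of_surjective φ c.surj
  rw [← Set.ncard_univ H]
  refine ncard_le_fib φ (fun _ _ => Set.mem_univ _) fun g hg =>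
    ⟨N ⊓ centralizer (c.sec.pre (fix W (φ g)) : Set G), ?_, fun x hx e => ⟨c.ker.1 (by
      rw [map_mul, e, map_inv, inv_mul_cancel]), fun a ha => ?_⟩⟩
  · have e1 := c.ns.ded (N ⊓ centralizer (c.sec.pre (fix W (φ g)) : Set G)) Z N
      (c.sec.pre (fix W (φ g))) (fun a _ z hz => c.zc hz a) c.ns.cent
      (fun a ha => c.ns.comm a ha.1) (fun a ha b hb => (ha.2 b hb).symm)
      fun a _ e => c.ns.n2 a fun b hb => (e b hb).symm
    have e2 := relIndex_mul_relIndex Z _ N (c.le_pre (fix W (φ g))) fun a ha => ha.1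
    have e3 := card_le_sq_fix c.two (c.big_inv hB hc hg.2).1
    rw [← c.sec.card, ← c.sec.card_pre] at e2
    rw [← relIndex_bot_left, ← relIndex_mul_relIndex ⊥ Z (N ⊓ centralizer _) bot_le
      fun z hz => ⟨c.ns.le hz, fun b _ => (c.zc hz b).symm⟩, relIndex_bot_left, c.card_Z]
    refine Nat.mul_le_mul_left _ (e1.trans (Nat.mul_self_le_mul_self_iff.1 ?_))
    rw [← mul_pow, show 2 * 2 = 4 from rfl, ← hm, ← e2]
    rw [← e2] at e3
    exact Nat.mul_le_mul_right _ (Nat.le_of_mul_le_mul_left e3 Nat.card_pos)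
  · have k : ∀ y : G, Nat.card V < Nat.card (fix V y) ^ 2 → φ y = φ g → y * a = a * y := fun y hy e =>
      c.big_z hy ((c.sec.zero _ (c.comm_mem y ha.1)).1 (by
        rw [c.pi_comm y ha.1, e, mem_fix.1 ha.2, sub_self]))
    exact (((Commute.inv_left (k g hg.2 rfl)).mul_left (k x hx.2 e))).symm.eq

end Ctx

end H33.Solv
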