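import Cfsg.Agent.H33.SolvC5

/-! Base sizes of solvable linear groups: quasi-primitive groups of order prime to three over the
field with three elements. -/

set_option autoImplicit false

namespace H33.Solv

open Subgroup
open scoped commutatorElement

universe u

theorem arith_crit {g v b t g' v' b' : ℕ} (h : v ^ 2 ≤ g * v + b * t) (ht : t ^ 4 ≤ v ^ 5)
    (hg : g ≤ g') (hb : b ≤ b') (hv : v' ≤ v) (h1 : 4 * g' < v') (h2 : (4 * b') ^ 4 ≤ 81 * v' ^ 3) :
    False := by
  have : 4 * (b * t) ≤ 3 * v ^ 2 := (Nat.pow_le_pow_iff_left four_ne_zero).1 (by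
    calc (4 * (b * t)) ^ 4 = (4 * b) ^ 4 * t ^ 4 := by ring
      _ ≤ (4 * b') ^ 4 * v ^ 5 := by gcongr
      _ ≤ 81 * v ^ 3 * v ^ 5 := by gcongr; exact h2.trans (by gcongr)
      _ = _ := by ring)
  have h3 : 4 * g * v < v * v := Nat.mul_lt_mul_of_lt_of_le (by omega) le_rfl (by omega)
  nlinarith

theorem arith_five {m : ℕ} (h : 5 ≤ m) : 4 * (2 * 4 ^ m * (4 ^ m) ^ 3) < 3 ^ 2 ^ m ∧
    (4 * (2 * 2 ^ m * (4 ^ m) ^ 3)) ^ 4 ≤ 81 * (3 ^ 2 ^ m) ^ 3 := by
  induction m, h using Nat.le_induction with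
  | base => decide +kernel
  | succ m hm ih =>
    have h1 : 4 ^ 5 ≤ 4 ^ m := Nat.pow_le_pow_right (by decide) hm
    rw [pow_succ 2 m, pow_mul, pow_succ 4 m]
    generalize 3 ^ 2 ^ m = x at *
    generalize 4 ^ m = y, 2 ^ m = z at *
    have h2 : 8 * 1024 ≤ x := by
      have : 0 < y ^ 3 := by positivity
      nlinarith
    refine ⟨by nlinarith, ?_⟩
    calc _ = 128 ^ 4 * (4 * (2 * z * y ^ 3)) ^ 4 := by ring
      _ ≤ x ^ 3 * (81 * x ^ 3) :=
        Nat.mul_le_mul ((by decide : _ ≤ (8 * 1024) ^ 3).trans (Nat.pow_le_pow_left h2 3)) ih.2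
      _ = _ := by ring

theorem Ctx.base {G H W : Type*} [Group G] [Group H] [AddCommGroup W] [DistribMulAction H W]
    {V : Type*} [AddCommGroup V] [DistribMulAction G V] {Z N : Subgroup G} {ω : G}
    {π : G → W} {φ : G →* H} (c : Ctx V Z N ω π φ) [Finite G] [Finite V] [FaithfulSMul G V]
    [FaithfulSMul H W] [Nontrivial V] (hs : Group.IsSolvable G) (h3 : ¬ 3 ∣ Nat.card G) :
    Base G V 2 := by
  by_contra hn
  have := c.sec.finite
  have := Finite.of_surjective φ c.surj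
  obtain ⟨B, hB, hc⟩ := c.exists_frm
  obtain ⟨m, n, hm, hv, hmn⟩ := c.dim hB hc
  have hG := c.card_G
  have hs' : Group.IsSolvable H := Group.isSolvable_of_surjective c.surj
  have h3' : ¬ 3 ∣ Nat.card H := fun e => h3 (hG ▸ e.mul_left _)
  have hH := card_le_of_base (seress hs' c.cr)
  have sb := small_bound hs' h3' c.two c.cr (c.nf hc) (c.sq hB hc) hm
  have hv' : 3 ^ 2 ^ m ≤ Nat.card V := hv ▸ Nat.pow_le_pow_right (by decide) hmn
  have p1 : ∀ g : G, (orderOf g).Prime → g ≠ 1 := fun g hp e =>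
    hp.ne_one (orderOf_eq_one_iff.2 e)
  rw [hm] at hG hH
  by_cases h4 : 4 ≤ m
  · have e1 := count hn {g : G | g ≠ 1 ∧ Nat.card V < Nat.card (fix V g) ^ 2}
      (s := Nat.card V) (t := (Nat.card V ^ 5).sqrt.sqrt)
      (fun g hp hg => not_lt.1 fun e => hg ⟨p1 g hp, e⟩) fun g hg => Nat.le_sqrt'.2
        (Nat.le_sqrt'.2 (by rw [← pow_mul]; exact (c.big_bound hB hc hg.2 h3' hg.1).2))
    have e2 : (Nat.card V ^ 5).sqrt.sqrt ^ 4 ≤ Nat.card V ^ 5 := by
      rw [show 4 = 2 * 2 from rfl, pow_mul]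
      exact (Nat.pow_le_pow_left (Nat.sqrt_le' _) 2).trans (Nat.sqrt_le' _)
    have e3 := c.big_count hm hB hc
    rcases h4.eq_or_lt with rfl | h5
    · have e4 : Nat.card H ≤ 12000 := by have := sb (by decide) le_rfl; omega
      exact arith_crit e1 e2 (hG.trans_le (Nat.mul_le_mul_left _ e4))
        (e3.trans (Nat.mul_le_mul_left _ e4)) hv' (by decide +kernel) (by decide +kernel)
    · exact arith_crit e1 e2 (hG.trans_le (Nat.mul_le_mul_left _ hH))
        (e3.trans (Nat.mul_le_mul_left _ hH)) hv' (arith_five h5).1 (arith_five h5).2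
  have nb : ∀ g : G, g ≠ 1 → Nat.card (fix V g) ^ 2 ≤ Nat.card V := fun g hg => not_lt.1 fun e => by
    have e1 := (c.big_bound hB hc e h3' hg).1
    have e2 := card_le_sq_fix c.two (c.big_inv hB hc e).1
    have e3 : 4 ^ m ≤ 4 ^ 3 := Nat.pow_le_pow_right (by decide) (by omega)
    have e4 : 0 < Nat.card (fix W (φ g)) := Nat.card_pos
    rw [hm] at e1 e2
    nlinarith
  have e1 := count hn ∅ (t := 0) (fun g hp _ => nb g (p1 g hp)) fun _ h => h.elim
  rw [mul_zero, add_zero, pow_two] at e1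
  replace e1 := Nat.le_of_mul_le_mul_right e1 Nat.card_pos
  obtain rfl : m = 2 := by
    by_contra h2
    have : m = 0 ∨ m = 1 ∨ m = 3 := by omega
    rcases this with rfl | rfl | rfl <;> omega
  obtain ⟨-, f5, h20⟩ := (sb (by decide) (by decide)).resolve_right (by omega)
  have fx : ∀ g : G, g ≠ 1 → Nat.card (fix V g) = 1 ∨ Nat.card (fix V g) = 3 ∨
      Nat.card (fix V g) = 9 := fun g hg => by
    obtain ⟨i, hi⟩ := card_eq_pow (V := fix V g) Nat.prime_three fun w => Subtype.ext (c.three w)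
    have := nb g hg
    rw [hi] at this ⊢
    have : i < 3 := by_contra fun e => by
      have := Nat.pow_le_pow_left (Nat.pow_le_pow_right (show 0 < 3 by decide) (not_lt.1 e)) 2
      omega
    interval_cases i <;> simp
  have fx' : ∀ g : G, g ≠ 1 → Nat.card (fix V g) ^ 2 ≤ 81 := fun g hg => by
    rcases fx g hg with e | e | e <;> rw [e] <;> decide
  have e2 := count hn ∅ (t := 0) (fun g hp _ => fx' g (p1 g hp)) fun _ h => h.elim
  obtain rfl : n = 4 := by_contra fun h => by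
    have := Nat.pow_le_pow_left (hv ▸ Nat.pow_le_pow_right (show 0 < 3 by decide)
      (show 5 ≤ n by omega)) 2
    omega
  have e3 := count hn {g : G | g * g = 1 ∧ g ≠ 1} (s := 1) (fun g hp hg => by
    have d1 := orderOf_dvd_natCard g
    have d2 := card_fix_modEq (V := V) hp (pow_orderOf_eq_one g)
    have d3 : orderOf g ≠ 2 := fun e => hg ⟨by rw [← pow_two, ← e, pow_orderOf_eq_one], p1 g hp⟩
    have d4 : 5 ∣ Nat.card H := f5 ▸ card_subgroup_dvd_card _
    have key : ∀ h ∈ [5, 10, 20], ∀ p ∈ (2 * 4 ^ 2 * h).divisors, p.Prime → p ≠ 2 → p = 5 := by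
      decide +kernel
    have d5 : 0 < Nat.card H := Nat.card_pos
    rw [key (Nat.card H) (by simp only [List.mem_cons, List.not_mem_nil]; omega) _
      (Nat.mem_divisors.2 ⟨hG ▸ d1, hG ▸ Nat.card_pos.ne'⟩) hp d3,
      hv] at d2
    rcases fx g (p1 g hp) with e | e | e <;> rw [e] at d2 ⊢
    exacts [le_rfl, absurd d2 (by decide), absurd d2 (by decide)]) fun g hg => fx' g hg.2
  have e4 := ncard_le_fib φ (S := {g : G | g * g = 1 ∧ g ∉ N}) (T := {t : H | t * t = 1 ∧ t ≠ 1})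
    (k := 8) (fun g hg => ⟨by rw [← map_mul, hg.1, map_one], mt c.ker.1 hg.2⟩) fun g hg =>
      ⟨c.sec.pre (fix W (φ g)), by
        have := invol_16 h3' c.two c.cr hm (c.sq hB hc) (t := φ g)
          (by rw [← map_mul, hg.1, map_one]) (mt c.ker.1 hg.2)
        rw [c.card_pre]; omega, fun x hx e => by
        have k : g⁻¹ * x ∈ N := c.ker.1 (by rw [map_mul, e, map_inv, inv_mul_cancel])
        refine ⟨k, mem_fix.2 ?_⟩
        rw [c.act g _ k, show g * (g⁻¹ * x) * g⁻¹ = (g⁻¹ * x)⁻¹ by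
          rw [mul_inv_cancel_left, mul_inv_rev, inv_inv, inv_eq_of_mul_eq_one_left hx.1,
            inv_eq_of_mul_eq_one_left hg.1], c.sec.inv k, neg_eq_iff_add_eq_zero, ← two_nsmul, c.two]⟩
  have e5 := invol_count (H2.centralizer_fitting_le H) f5
  have e6 := (Set.ncard_le_ncard (show {g : G | g * g = 1 ∧ g ≠ 1} ⊆ c.sec.pre ⊤ ∪
    {g : G | g * g = 1 ∧ g ∉ N} from fun g hg => or_iff_not_imp_left.2 fun e =>
      ⟨hg.1, fun e' => e ⟨e', trivial⟩⟩)).trans (Set.ncard_union_le _ _)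
  have e7 := c.card_pre ⊤
  rw [AddSubgroup.card_top, hm] at e7
  change _ ≤ Nat.card (c.sec.pre ⊤) + _ at e6
  rw [hv] at e3
  omega

theorem Scal.base_f3 {K G V : Type u} [Field K] [Group G] [Finite G] [AddCommGroup V] [Finite V]
    [Module K V] [DistribMulAction G V] [FaithfulSMul G V] [Nontrivial V] (s : Scal K G V)
    (hK : Nat.card K = 3) (hs : Group.IsSolvable G) (h3 : ¬ 3 ∣ Nat.card G) : Base G V 2 := by
  have : Finite K := Nat.finite_of_card_ne_zero (by omega)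
  obtain ⟨N, h⟩ := s.exists_ns hs
  obtain ⟨W, _, π, hπ⟩ := exists_sec h.comm fun a _ z hz => h.zn.conj_mem z hz a
  have := h.nn
  have := h.zn
  obtain ⟨_, hact⟩ := hπ.exists_act
  let ρ := (DistribMulAction.toAddMonoidEnd G W).toHomUnits
  have := Fintype.ofFinite K
  rw [Nat.card_eq_fintype_card] at hK
  refine Ctx.base (ω := s.ι (-1)) (π := π) (φ := ρ.rangeRestrict) ⟨h, fun v => ?_, fun v => ?_,
    fun z => ⟨?_, ?_⟩, hπ, ρ.rangeRestrict_surjective, hact, fun U hU => ?_⟩ hs h3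
  · rw [s.smul, Units.val_neg, Units.val_one, neg_one_smul]
  · rw [← Nat.cast_smul_eq_nsmul K, ← hK, FiniteField.cast_card_eq_zero, zero_smul]
  · rintro ⟨a, rfl⟩
    have := FiniteField.pow_card_sub_one_eq_one (a : K) a.ne_zero
    rw [hK] at this
    exact (sq_eq_one_iff.1 this).imp (fun e => by rw [Units.val_eq_one.1 e, map_one])
      fun e => congrArg s.ι (Units.ext e)
  · rintro (rfl | rfl)
    exacts [one_mem _, ⟨_, rfl⟩]
  · obtain ⟨U', hU', e⟩ := h.cr h.nn h.le le_rfl hπ hact U fun g => hU (ρ.rangeRestrict g)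
    exact ⟨U', by rintro ⟨_, g, rfl⟩; exact hU' g, e⟩

end H33.Solv
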