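import Cfsg.Agent.H33.SolvRed

/-! Base sizes of solvable linear groups: colourings of primitive solvable permutation groups. -/

set_option autoImplicit false

namespace H33.Solv

open Subgroup

universe u

theorem col_of_aff_core {G : Type u} [Group G] [Finite G] (hs : Group.IsSolvable G)
    {H : Subgroup G} (hH : IsCoatom H) (h0 : ∀ x, (∀ g, g * x * g⁻¹ ∈ H) → x = 1) {c : ℕ}
    (h : ∀ (M : Type u) [AddCommGroup M] [Finite M] [Nontrivial M] [DistribMulAction H M]
      [FaithfulSMul H M], Nat.card M ∣ Nat.card G → Nat.card M = H.index → Irr H M →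
      AffCol H M c) : Col H c := by
  have : Nontrivial G := not_subsingleton_iff_nontrivial.1 fun _ => hH.1 (Subsingleton.elim _ _)
  obtain ⟨M, hMn, hM0, hmin⟩ := H2.exists_minimal_normal G
  have hc := (H2.isMulCommutative_of_minimal_normal hmin)
  have hcm : ∀ a ∈ M, ∀ b ∈ M, a * b = b * a := fun a ha b hb =>
    congrArg Subtype.val (hc.is_comm.comm ⟨a, ha⟩ ⟨b, hb⟩)
  have hle : ¬ M ≤ H := fun e => hM0 (eq_bot_iff.2 fun x hx => h0 x fun g => e (hMn.conj_mem x hx g))
  have hdec : ∀ g : G, ∃ m ∈ M, ∃ k ∈ H, m * k = g := fun g => by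
    have : g ∈ M ⊔ H := by
      rw [sup_comm, hH.2 _ (left_lt_sup.2 hle)]; trivial
    rw [← SetLike.mem_coe, normal_mul] at this
    exact this
  have hC : ∀ x ∈ H, (∀ m ∈ M, x * m = m * x) → x = 1 := fun x hx hm => h0 x fun g => by
    obtain ⟨m, hm', k, hk, rfl⟩ := hdec g
    have := hm _ (hMn.conj_mem m hm' k⁻¹)
    rw [show m * k * x * (m * k)⁻¹ = k * (k⁻¹ * m * k⁻¹⁻¹ * x) * k⁻¹ * m⁻¹ by group, ← this]
    rw [show k * (x * (k⁻¹ * m * k⁻¹⁻¹)) * k⁻¹ * m⁻¹ = k * x * k⁻¹ by group]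
    exact mul_mem (mul_mem hk hx) (inv_mem hk)
  have hI : ∀ x ∈ M, x ∈ H → x = 1 := fun x hx hx' => hC x hx' fun m hm => hcm x hx m hm
  obtain ⟨W, _, π, hπ⟩ := exists_sec (Z := ⊥) (N := M)
    (fun a ha b hb => commutatorElement_eq_one_iff_mul_comm.2 (hcm a ha b hb))
    (fun a _ z hz => by rw [mem_bot.1 hz]; simp)
  obtain ⟨_, hact⟩ := hπ.exists_act
  have := hπ.finite
  have hW : Nat.card W = Nat.card M := by rw [hπ.card, relIndex_bot_left]
  have hinj : ∀ a ∈ M, ∀ b ∈ M, π a = π b → a = b := fun a ha b hb e =>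
    inv_mul_eq_one.1 ((hπ.eq_iff ha hb).1 e)
  have : Nontrivial W := by
    rw [← Finite.one_lt_card_iff_nontrivial, hW]
    exact (one_lt_card_iff_ne_bot M).2 hM0
  have htriv : ∀ k : H, (∀ w : W, k • w = w) → k = 1 := fun k hk =>
    Subtype.ext (hC k k.2 fun m hm => mul_inv_eq_iff_eq_mul.1
      (hinj _ (hMn.conj_mem m hm k) m hm ((hact k m hm).symm.trans (hk _))))
  have : FaithfulSMul H W := ⟨fun {a b} e => inv_mul_eq_one.1 (htriv _ fun w => by
    rw [mul_smul, ← e, inv_smul_smul])⟩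
  obtain ⟨χ, h1, h2⟩ := h W (hW ▸ card_subgroup_dvd_card M) (by
    rw [hW, (isComplement'_of_disjoint_and_mul_eq_univ (H := M) (K := H)
      (disjoint_def.2 fun {x} => hI x) (Set.eq_univ_of_forall hdec)).index_eq_card]) (by
    intro U hU
    rcases hmin (hπ.pre U) ⟨fun x hx g => by
      obtain ⟨m, hm, k, hk, rfl⟩ := hdec g
      have h1 := hMn.conj_mem x hx.1 k
      rw [show m * k * x * (m * k)⁻¹ = m * (k * x * k⁻¹) * m⁻¹ by group, hcm m hm _ h1,
        mul_inv_cancel_right]
      exact ⟨h1, hact k x hx.1 ▸ hU ⟨k, hk⟩ _ hx.2⟩⟩ (fun x hx => hx.1) with e | e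
    · refine Or.inl (eq_bot_iff.2 fun w hw => ?_)
      obtain ⟨a, ha, rfl⟩ := hπ.surj w
      rw [show a = 1 from mem_bot.1 (e ▸ ⟨ha, hw⟩), hπ.one]
      exact zero_mem _
    · refine Or.inr (eq_top_iff.2 fun w _ => ?_)
      obtain ⟨a, ha, rfl⟩ := hπ.surj w
      exact (e.ge ha).2)
  choose m hm k hk e using hdec
  have hu : ∀ a ∈ M, ∀ b ∈ H, m (a * b) = a := fun a ha b hb => by
    refine inv_mul_eq_one.1 (hI _ (mul_mem (inv_mem (hm _)) ha) ?_)
    rw [show (m (a * b))⁻¹ * a = (m (a * b))⁻¹ * (a * b) * b⁻¹ by group]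
    nth_rewrite 2 [← e (a * b)]
    rw [inv_mul_cancel_left]
    exact mul_mem (hk _) (inv_mem hb)
  refine ⟨fun g => χ (π (m g)), fun _ => h1 _, fun x y hy => ?_, fun g hg x => ?_⟩
  · beta_reduce
    nth_rewrite 1 [← e x]
    rw [mul_assoc, hu _ (hm x) _ (mul_mem (hk x) hy)]
  · obtain ⟨h3, h4⟩ := h2 (π (m g)) ⟨k g, hk g⟩ fun w => by
      obtain ⟨a, ha, rfl⟩ := hπ.surj w
      have := hg a
      beta_reduce at this
      rw [show g * a = m g * (k g * a * (k g)⁻¹) * k g by nth_rewrite 1 [← e g]; group,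
        hu _ (mul_mem (hm g) (hMn.conj_mem a ha _)) _ (hk g),
        hπ.mul _ (hm g) _ (hMn.conj_mem a ha _), ← hact _ a ha] at this
      nth_rewrite 2 [← mul_one a] at this
      rwa [hu a ha 1 (one_mem H)] at this
    rw [← e g, mem_bot.1 ((hπ.zero _ (hm g)).1 h3), show k g = 1 from congrArg Subtype.val (htriv _ h4)]
    simp

theorem col_of_aff {G : Type u} [Group G] [Finite G] (hs : Group.IsSolvable G)
    {H : Subgroup G} (hH : IsCoatom H) {c : ℕ}
    (h : ∀ (K M : Type u) [Group K] [Finite K] [AddCommGroup M] [Finite M] [Nontrivial M]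
      [DistribMulAction K M] [FaithfulSMul K M], Group.IsSolvable K → Nat.card K ∣ Nat.card G →
      Nat.card M ∣ Nat.card G → Nat.card M = H.index → Irr K M → AffCol K M c) : Col H c := by
  let f := QuotientGroup.mk' H.normalCore
  have hf : Function.Surjective f := QuotientGroup.mk'_surjective _
  have hk : f.ker ≤ H := by rw [QuotientGroup.ker_mk']; exact H.normalCore_le
  have hc : (H.map f).comap f = H := comap_map_eq_self hk
  have hd := card_quotient_dvd_card H.normalCore
  obtain ⟨χ, h1, h2, h3⟩ := col_of_aff_core (H := H.map f) (c := c) inferInstance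
    ⟨fun e => hH.1 (by rw [← hc, e, comap_top]), fun K hK => by
      rw [← map_comap_eq_self_of_surjective hf K, hH.2 (K.comap f) (hc.ge.trans_lt (lt_of_le_of_ne
        (comap_mono hK.le) fun e => hK.ne (comap_injective hf e))), map_top_of_surjective f hf]⟩
    (fun x hx => by
      obtain ⟨x, rfl⟩ := hf x
      exact (QuotientGroup.eq_one_iff x).2 fun g => hc ▸ hx (f g))
    fun M _ _ _ _ _ e1 e2 hi => h _ M inferInstance ((card_subgroup_dvd_card _).trans hd)
      (e1.trans hd) (by rw [e2, ← index_comap_of_surjective _ hf, hc]) hi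
  refine ⟨fun g => χ (f g), fun _ => h1 _, fun x y hy => ?_, fun g hg x => ?_⟩
  · exact (congrArg χ (map_mul f x y)).trans (h2 _ _ (mem_map_of_mem f hy))
  · rw [← hc]
    refine h3 (f g) (fun y => ?_) (f x)
    obtain ⟨y, rfl⟩ := hf y
    exact hg y

variable {G V : Type*} [Group G] [AddCommGroup V] [DistribMulAction G V]

theorem aff_five (h : Base G V 3) : AffCol G V 5 := by
  classical
  obtain ⟨v, hv⟩ := h
  let χ : V → ℕ := fun x => if x = 0 then 0 else if x = v 0 then 1 else if x = v 1 then 2 else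
    if x = v 2 then 3 else 4
  have hχ : ∀ x y, χ x = χ y → (y = 0 ∨ y = v 0 ∨ y = v 1 ∨ y = v 2) → x = y := fun x y e hy => by
    simp only [χ] at e
    grind
  refine ⟨χ, fun x => by simp only [χ]; split_ifs <;> decide, fun m g hg => ?_⟩
  have h0 : m = 0 := by simpa using hχ _ _ (hg 0) (Or.inl rfl)
  refine ⟨h0, hv g fun i => ?_⟩
  have := hχ _ _ (hg (v i)) (by fin_cases i <;> simp)
  rwa [h0, zero_add] at this

theorem iter_affine [Finite G] [Finite V] (m : V) (g : G) (x : V) :
    (fun y => m + g • y)^[Nat.card G * Nat.card V] x = x := by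
  have h1 : ∀ k : ℕ, ∃ n, ∀ y : V, (fun y => m + g • y)^[k] y = n + g ^ k • y := fun k => by
    induction k with
    | zero => exact ⟨0, by simp⟩
    | succ k ih =>
      obtain ⟨n, hn⟩ := ih
      exact ⟨m + g • n, fun y => by
        rw [Function.iterate_succ_apply', hn, smul_add, pow_succ', mul_smul, add_assoc]⟩
  obtain ⟨n, hn⟩ := h1 (Nat.card G)
  rw [Function.iterate_mul, funext hn, pow_card_eq_one']
  simp only [one_smul]
  rw [add_left_iterate_apply, card_nsmul_eq_zero', zero_add]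

theorem aff_odd_aux [Finite G] [Finite V] (hG : Odd (Nat.card G)) (hV : Odd (Nat.card V))
    {v w : V} (hr : ∀ g : G, g • v = v → g • w = w → ∀ x : V, g • x = x) :
    AffCol G V 2 ∨ (w ≠ 0 ∧ ∃ g : G, g • w = -v) := by
  classical
  refine or_iff_not_imp_right.2 fun hn => ⟨fun x => if x = 0 ∨ x = v ∨ x = w then 0 else 1,
    fun x => by beta_reduce; split_ifs <;> decide, fun m g hg => ?_⟩
  have hT : ∀ x, (x = 0 ∨ x = v ∨ x = w) → m + g • x = 0 ∨ m + g • x = v ∨ m + g • x = w :=
    fun x hx => by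
      have := hg x
      simp only [if_pos hx] at this
      by_contra h
      simp only [if_neg h] at this
      exact one_ne_zero this
  have hinj : ∀ x y : V, m + g • x = m + g • y → x = y := fun x y e =>
    smul_left_cancel g (add_left_cancel e)
  have hsw : ∀ x y : V, m + g • x = y → m + g • y = x → x = y := fun x y e1 e2 => by
    obtain ⟨k, hk⟩ := hG.mul hV
    have h1 := iter_affine m g x
    have h2 : (fun y => m + g • y)^[2] x = x := by
      change m + g • (m + g • x) = x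
      rw [e1, e2]
    rw [hk, add_comm, Function.iterate_add_apply, Function.iterate_one, Function.iterate_mul,
      Function.iterate_fixed h2] at h1
    exact h1.symm.trans e1
  have t0 := hT 0 (Or.inl rfl)
  have tv := hT v (Or.inr (Or.inl rfl))
  have tw := hT w (Or.inr (Or.inr rfl))
  have fin : m + g • (0 : V) = 0 → m + g • v = v → m + g • w = w → m = 0 ∧ ∀ x : V, g • x = x :=
    fun e0 e1 e2 => by
      rw [smul_zero, add_zero] at e0
      rw [e0, zero_add] at e1 e2
      exact ⟨e0, hr g e1 e2⟩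
  have c1 : m + g • (0 : V) = v → m + g • w = 0 → w = 0 := fun e0 e1 => by
    rw [smul_zero, add_zero] at e0
    exact by_contra fun h => hn ⟨h, g, by rw [← e0]; exact (neg_eq_of_add_eq_zero_right e1).symm⟩
  have c2 : m + g • (0 : V) = w → m + g • w = v → m + g • v = 0 → w = 0 := fun e0 e1 e2 => by
    rw [smul_zero, add_zero] at e0
    refine by_contra fun h => hn ⟨h, g * g, ?_⟩
    rw [mul_smul, eq_sub_of_add_eq' e1, smul_sub, eq_neg_of_add_eq_zero_right e2, ← e1, e0]
    abel
  apply fin <;> grind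

theorem aff_odd [Finite G] [Finite V] (hG : Odd (Nat.card G)) (hV : Odd (Nat.card V))
    (h : Base G V 2) : AffCol G V 2 := by
  obtain ⟨v, hv⟩ := h
  have h1 : ∀ g : G, g • v 0 = v 0 → g • v 1 = v 1 → ∀ x : V, g • x = x := fun g e0 e1 =>
    hv g fun i => by fin_cases i <;> assumption
  rcases aff_odd_aux hG hV h1 with h | ⟨h0, g, hg⟩
  · exact h
  rcases aff_odd_aux (w := -v 1) hG hV fun g e0 e1 => h1 g e0 (by
    rwa [smul_neg, neg_inj] at e1) with h | ⟨-, k, hk⟩
  · exact h
  have e : (g⁻¹ * k) • v 1 = -v 1 := by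
    rw [smul_neg, neg_inj] at hk
    rw [mul_smul, hk, inv_smul_eq_iff, smul_neg, hg, neg_neg]
  have e2 : (g⁻¹ * k) • v 1 = v 1 := triv_of_pow (Nat.coprime_two_left.2 hG) pow_card_eq_one'
    (by rw [pow_two, mul_smul, e, smul_neg, e, neg_neg])
  have e3 : addOrderOf (v 1) ∣ 2 := addOrderOf_dvd_of_nsmul_eq_zero (by
    rw [two_nsmul]; nth_rewrite 1 [← e2]; rw [e, neg_add_cancel])
  exact (h0 (AddMonoid.addOrderOf_eq_one_iff.1 (Nat.eq_one_of_dvd_coprimes
    (Nat.coprime_two_left.2 hV) e3 (addOrderOf_dvd_natCard _)))).elim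

end H33.Solv
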