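import Cfsg.Agent.H33.SolvC6
import Cfsg.Agent.H33.SolvAff3
import Cfsg.Agent.H1.InvSylow
import Cfsg.Agent.H95.Marks

/-! Base sizes of solvable linear groups: coprime actions have bases of size two (Dolfi). -/

set_option autoImplicit false

namespace H33.Solv

open Subgroup MulAction
open scoped commutatorElement

universe u

theorem good_cop (n : ℕ) : Good.{u} 2 Nat.Coprime n := by
  induction n with
  | zero => exact fun _ _ _ _ _ _ _ h => (Nat.not_lt_zero _ h).elim
  | succ n ih =>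
    refine reduce (fun _ _ _ _ h e e' => (h.coprime_dvd_left e).coprime_dvd_right e') ih
      (fun G V _ _ _ _ _ _ _ hs ho hi hq => ?_) fun G W _ _ H _ _ _ _ hs ho hH _ hi hb => ?_
    · obtain ⟨p, hp, hd, hV⟩ := hi.exists_prime
      by_cases h2 : p = 2
      · exact base_odd hs (Nat.coprime_two_right.1 (ho.coprime_dvd_right (h2 ▸ hd))) hi.cr
      obtain ⟨K, G', _, _, _, _, _, _, _, hs', ⟨s⟩, e, hc, -⟩ := exists_scal hs hi hq
      have h2' : (2 : K) ≠ 0 := two_ne hp h2 hV
      by_cases h3 : 3 < Nat.card K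
      · exact (s.base_big hs' h2' h3).of_le e
      have hK : Nat.card K = 3 := by
        have := Fintype.ofFinite K
        have h1 := FiniteField.cast_card_eq_zero K
        have : 1 < Nat.card K := Finite.one_lt_card
        rw [← Nat.card_eq_fintype_card] at h1
        by_contra h
        rw [show Nat.card K = 2 by omega] at h1
        exact h2' h1
      refine (s.base_f3 hK hs' ((Nat.Prime.coprime_iff_not_dvd Nat.prime_three).1
        ((hc ho).symm.coprime_dvd_left ?_))).of_le e
      rw [Module.natCard_eq_pow_finrank (K := K), hK]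
      exact dvd_pow_self 3 Module.finrank_pos.ne'
    obtain ⟨p, hp, hd, hV⟩ := hi.exists_prime
    have hG := (Nat.Prime.coprime_iff_not_dvd hp).1 (ho.symm.coprime_dvd_left hd)
    have hm := mult_cop hp (fun e => hG (e.trans (card_subgroup_dvd_card H))) hV hb
    by_cases h2 : p = 2
    · have ho' := Nat.coprime_two_right.1 (ho.coprime_dvd_right (h2 ▸ hd))
      exact ⟨2, h2 ▸ hm, col_of_aff hs hH fun K M _ _ _ _ _ _ _ hK e1 e2 _ hi =>
        aff_odd (ho'.of_dvd_nat e1) (ho'.of_dvd_nat e2) (base_odd hK (ho'.of_dvd_nat e1) hi.cr)⟩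
    by_cases h3 : p = 3
    · subst h3
      exact ⟨3, hm, col_of_aff hs hH fun K M _ _ _ _ _ _ _ hK e1 e2 _ hi =>
        aff3 (fun e => hG (e.trans e1)) (fun e => hG (e.trans e2)) hi (seress hK hi.cr)⟩
    · exact ⟨5, hm.mono (hp.five_le_of_ne_two_of_ne_three h2 h3),
        col_of_aff hs hH fun K M _ _ _ _ _ _ _ hK _ _ _ hi => aff_five (seress hK hi.cr)⟩

theorem base_cop {G V : Type*} [Group G] [Finite G] [AddCommGroup V] [Finite V]
    [DistribMulAction G V] (hs : Group.IsSolvable G) (ho : (Nat.card G).Coprime (Nat.card V))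
    (hc : CR G V) : Base G V 2 :=
  base_of_good (fun _ _ _ h e => h.coprime_dvd_left e) good_cop hs ho hc

variable {A K : Type*} [Group A] [Group K] [MulDistribMulAction A K]

theorem Sec.exists_act' {W : Type*} [AddCommGroup W] {Z N : Subgroup K} {π : K → W} (h : Sec Z N π)
    (hN : ∀ a : A, ∀ x ∈ N, a • x ∈ N) (hZ : ∀ a : A, ∀ x ∈ Z, a • x ∈ Z) :
    ∃ _ : DistribMulAction A W, ∀ a : A, ∀ x ∈ N, a • π x = π (a • x) := by
  choose s hs es using h.surj
  have key : ∀ a : A, ∀ x ∈ N, π (a • s (π x)) = π (a • x) := fun a x hx => by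
    rw [h.eq_iff (hN _ _ (hs _)) (hN _ _ hx), ← smul_inv', ← smul_mul']
    exact hZ a _ ((h.eq_iff (hs _) hx).1 (es _))
  exact ⟨{ smul := fun a w => π (a • s w)
           one_smul := fun w => by change π _ = _; rw [one_smul, es]
           mul_smul := fun a b w => by
             change π _ = π (a • s (π _))
             rw [key a _ (hN b _ (hs w)), mul_smul]
           smul_zero := fun a => by change π _ = _; rw [← h.one, key a _ (one_mem N), smul_one]
           smul_add := fun a v w => by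
             change π _ = π _ + π _
             rw [← h.mul _ (hN _ _ (hs v)) _ (hN _ _ (hs w)), ← smul_mul',
               ← key a _ (mul_mem (hs v) (hs w)), h.mul _ (hs v) _ (hs w), es, es] }, key⟩

variable [Finite A] [Finite K] (hs : Group.IsSolvable A) (hc : (Nat.card A).Coprime (Nat.card K))
include hs hc

theorem lift_fixed (B : Subgroup A) {N : Subgroup K} (hN : ∀ a : A, ∀ x ∈ N, a • x ∈ N) (x : K)
    (h : ∀ a ∈ B, a • x * x⁻¹ ∈ N) : ∃ n ∈ N, ∀ a ∈ B, a • (n * x) = n * x :=
  let ⟨n, hn, e⟩ := H1.glauberman (MulDistribMulAction.toMulAut B K) N (fun a => hN a)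
    ((hc.coprime_dvd_left (card_subgroup_dvd_card B)).coprime_dvd_right (card_subgroup_dvd_card N))
    (Or.inl inferInstance) (X := K) (fun a n _ x => smul_mul' a n x) x
    fun a => ⟨_, h a a.2, (inv_mul_cancel_right _ _).symm⟩
  ⟨n, hn, fun a ha => e ⟨a, ha⟩⟩

theorem two_points_solv (M : Subgroup K) (hM : Group.IsSolvable M)
    (hi : ∀ a : A, ∀ x ∈ M, a • x ∈ M) :
    ∃ x ∈ M, ∃ y ∈ M, ∀ a : A, a • x = x → a • y = y → ∀ k ∈ M, a • k = k := by
  induction M using (wellFounded_lt (α := Subgroup K)).induction with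
  | _ M ih =>
  by_cases h0 : M = ⊥
  · exact ⟨1, one_mem M, 1, one_mem M, fun a _ _ k hk => by rw [show k = 1 from mem_bot.1 (h0 ▸ hk), smul_one]⟩
  obtain ⟨N, ⟨n1, n2, n3⟩, hmax⟩ := H2.exists_maximal_subgroup
    (fun N : Subgroup K => ⁅M, M⁆ ≤ N ∧ N < M ∧ ∀ a : A, ∀ x ∈ N, a • x ∈ N)
    ⟨_, le_rfl, H2.commutator_lt_of_isSolvable h0, fun a => (show ⁅M, M⁆ ≤ ⁅M, M⁆.comap
      (MulDistribMulAction.toMonoidHom K a) from commutator_le.2 fun x hx y hy => by
        rw [mem_comap, map_commutatorElement]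
        exact commutator_mem_commutator (hi a x hx) (hi a y hy))⟩
  obtain ⟨W, _, π, hπ⟩ := exists_sec (Z := N) (N := M)
    (fun a ha b hb => n1 (commutator_mem_commutator ha hb)) fun a ha z hz => by
      rw [H9.conj_eq_commutatorElement_mul]
      exact mul_mem (n1 (commutator_mem_commutator ha (n2.le hz))) hz
  obtain ⟨_, hact⟩ := hπ.exists_act' hi n3
  have := hπ.finite
  have hZ : ∀ U, N ≤ hπ.pre U := fun U z hz =>
    ⟨n2.le hz, by rw [(hπ.zero z (n2.le hz)).2 hz]; exact zero_mem U⟩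
  have hI : Irr A W := fun U hU => or_iff_not_imp_right.2 fun e => eq_bot_iff.2 fun w hw => by
    obtain ⟨x, hx, rfl⟩ := hπ.surj w
    refine (hπ.zero x hx).2 (hmax (hπ.pre U) ⟨n1.trans (hZ U), lt_of_le_of_ne (fun a ha => ha.1)
      fun e' => e (eq_top_iff.2 fun v _ => ?_), fun a y hy =>
        ⟨hi a y hy.1, hact a y hy.1 ▸ hU a _ hy.2⟩⟩ (hZ U) ▸ ⟨hx, hw⟩)
    obtain ⟨y, hy, rfl⟩ := hπ.surj v
    exact (e'.ge hy).2
  obtain ⟨u, v, h⟩ := base_two.1 (base_cop hs (hc.coprime_dvd_right (hπ.card ▸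
    (relIndex_dvd_card N M).trans (card_subgroup_dvd_card M))) hI.cr)
  obtain ⟨x, hx, y, hy, h'⟩ := ih N n2 (H1.isSolvable_of_le n2.le hM) n3
  have key : ∀ (B : Subgroup A), ∀ k ∈ M, (∀ a ∈ B, a • π k = π k) →
      ∃ n ∈ N, ∀ a ∈ B, a • (n * k) = n * k := fun B k hk e =>
    lift_fixed hs hc B n3 k fun a ha => (hπ.zero _ (mul_mem (hi a k hk) (inv_mem hk))).1 (by
      rw [hπ.mul _ (hi a k hk) _ (inv_mem hk), hπ.inv hk, ← hact a k hk, e a ha, add_neg_cancel])
  have lift : ∀ w : W, ∀ z ∈ N, ∃ k ∈ M, ∀ a : A, a • k = k → a • w = w ∧ a • z = z :=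
    fun w z hz => by
      obtain ⟨k, hk, rfl⟩ := hπ.surj w
      obtain ⟨n, hn, e⟩ := key (stabilizer A (π k)) k hk fun a ha => ha
      have hm := mul_mem (n2.le hz) (mul_mem (n2.le hn) hk)
      refine ⟨_, hm, fun a ha => ?_⟩
      have e1 := hact a _ hm
      rw [ha, ← mul_assoc, hπ.mul _ (n2.le (mul_mem hz hn)) _ hk,
        (hπ.zero _ (n2.le (mul_mem hz hn))).2 (mul_mem hz hn), zero_add] at e1
      rw [smul_mul', e a e1, mul_left_inj] at ha
      exact ⟨e1, ha⟩
  obtain ⟨x', hx', e1⟩ := lift u x hx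
  obtain ⟨y', hy', e2⟩ := lift v y hy
  refine ⟨x', hx', y', hy', fun a a1 a2 k hk => ?_⟩
  obtain ⟨n, hn, e⟩ := key (zpowers a) k hk fun b hb =>
    fix_zpow (h a (e1 a a1).1 (e2 a a2).1 _) hb
  have := e a (mem_zpowers a)
  rwa [smul_mul', h' a (e1 a a1).2 (e2 a a2).2 n hn, mul_right_inj] at this

theorem card_fixed_sylow {p : ℕ} [Fact p.Prime] (P : Sylow p K)
    (hP : ∀ a : A, ∀ x ∈ P.1, a • x ∈ P.1) (B : Subgroup A) :
    Nat.card (P.1 ⊓ FixedPoints.subgroup B K : Subgroup K) =
      p ^ (Nat.card (FixedPoints.subgroup B K)).factorization p := by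
  let C := FixedPoints.subgroup B K
  have hc' := hc.coprime_dvd_left (card_subgroup_dvd_card B)
  obtain ⟨Q⟩ : Nonempty (Sylow p C) := inferInstance
  obtain ⟨R, h1, h2⟩ := H1.exists_invariant_sylow_ge (MulDistribMulAction.toMulAut B K) hc'
    (Or.inl inferInstance) p (Q.1.map C.subtype) (Q.isPGroup'.map _) (by
      rintro a _ ⟨x, hx, rfl⟩
      exact ⟨x, hx, (x.2 a).symm⟩)
  obtain ⟨c, c1, c2⟩ := H1.invariant_sylow_conj (MulDistribMulAction.toMulAut B K) hc'
    (Or.inl inferInstance) p P R (fun a => hP a) h2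
  have hR : R.1.subgroupOf C = Q.1 := Q.is_maximal' (R.isPGroup'.comap_subtype)
    (map_le_iff_le_comap.1 h1)
  have e : Subgroup.map (MulAut.conj c).toMonoidHom (P.1 ⊓ C) = R.1 ⊓ C := by
    rw [map_inf _ _ _ (MulAut.conj c).injective, ← c2]
    congr 1
    exact mem_normalizer_iff_map_conj_eq.1 (le_normalizer (show c ∈ C from c1))
  rw [← Q.card_eq_multiplicity, ← hR, ← card_map_of_injective (f := (MulAut.conj c).toMonoidHom)
    (MulAut.conj c).injective, e,
    ← card_map_of_injective C.subtype_injective, subgroupOf_map_subtype]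

theorem two_points : ∃ x y : K, ∀ a : A, a • x = x → a • y = y → ∀ k : K, a • k = k := by
  let I := (Nat.card K).primeFactors
  have hp : ∀ p : I, Fact p.1.Prime := fun p => ⟨Nat.prime_of_mem_primeFactors p.2⟩
  choose P hP using fun p : I => H1.exists_invariant_sylow (MulDistribMulAction.toMulAut A K) hc
    (Or.inl hs) p
  let _ : ∀ p : I, MulAction A (P p).1 := fun p =>
    MulAction.compHom _ (H1.restrictAut _ _ (hP p))
  obtain ⟨e, he⟩ := H95.exists_equiv_of_marks_eq (H := A) (X := K) (Y := ∀ p : I, (P p).1)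
    fun B => by
      have : fixedPoints B (∀ p : I, (P p).1) ≃
          ∀ p : I, ((P p).1 ⊓ FixedPoints.subgroup B K : Subgroup K) :=
        { toFun := fun x p => ⟨x.1 p, (x.1 p).2, fun b => congrArg Subtype.val (congrFun (x.2 b) p)⟩
          invFun := fun y => ⟨fun p => ⟨y p, (y p).2.1⟩, fun b => funext fun p =>
            Subtype.ext ((y p).2.2 b)⟩
          left_inv := fun _ => rfl
          right_inv := fun _ => rfl }
      rw [Nat.card_congr this, Nat.card_pi, Finset.prod_congr rfl fun p _ =>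
        card_fixed_sylow hs hc (P p) (hP p) B, Finset.prod_coe_sort I
          fun p => p ^ (Nat.card (FixedPoints.subgroup B K)).factorization p,
        ← Finsupp.prod_of_support_subset _ (Nat.primeFactors_mono (card_subgroup_dvd_card _)
          Nat.card_pos.ne') (· ^ ·) (by simp), Nat.prod_factorization_pow_eq_self Nat.card_pos.ne']
      rfl
  choose x hx y hy h using fun p : I => two_points_solv hs hc (P p).1
    (have := (P p).isPGroup'.isNilpotent; inferInstance) (hP p)
  refine ⟨e.symm fun p => ⟨x p, hx p⟩, e.symm fun p => ⟨y p, hy p⟩, fun a e1 e2 k => e.injective ?_⟩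
  rw [← e.injective.eq_iff, he, e.apply_symm_apply] at e1 e2
  rw [he]
  exact funext fun p => Subtype.ext (h p a (congrArg Subtype.val (congrFun e1 p))
    (congrArg Subtype.val (congrFun e2 p)) _ (e k p).2)

end H33.Solv
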