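import Cfsg.Agent.H2.MinNormal

/-! Base sizes of solvable linear groups (blueprint `SOLVLIN.md`): definitions, submodules,
abelian sections. -/

set_option autoImplicit false

namespace H33.Solv

open scoped commutatorElement

universe u

section Defs

variable (G V : Type*) [Group G] [AddCommGroup V] [DistribMulAction G V]

def Inv {V : Type*} [AddCommGroup V] [DistribMulAction G V] (U : AddSubgroup V) : Prop :=
  ∀ g : G, ∀ v ∈ U, g • v ∈ U

def CR : Prop := ∀ U : AddSubgroup V, Inv G U → ∃ W : AddSubgroup V, Inv G W ∧ U ⊓ W = ⊥ ∧ U ⊔ W = ⊤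

def Irr : Prop := ∀ U : AddSubgroup V, Inv G U → U = ⊥ ∨ U = ⊤

/-- A tuple whose pointwise stabilizer acts trivially. -/
def Reg {V : Type*} [AddCommGroup V] [DistribMulAction G V] {b : ℕ} (v : Fin b → V) : Prop :=
  ∀ g : G, (∀ i, g • v i = v i) → ∀ w : V, g • w = w

def Base (b : ℕ) : Prop := ∃ v : Fin b → V, Reg G v

def QPrim : Prop := ∀ e : V →+ V, (∀ v, e (e v) = e v) →
  (∀ g : G, (∀ v, g • e v = e (g • v)) ∨ ∀ v, e (g • e v) = 0) → e = 0 ∨ e = AddMonoidHom.id V

/-- `c` pairwise non-conjugate regular tuples. -/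
def Mult (b c : ℕ) : Prop := ∃ u : ℕ → Fin b → V, (∀ j < c, Reg G (u j)) ∧
  ∀ j < c, ∀ k < c, ∀ g : G, (∀ i, g • u j i = u k i) → j = k

/-- A distinguishing colouring of the affine space. -/
def AffCol (c : ℕ) : Prop := ∃ χ : V → ℕ, (∀ x, χ x < c) ∧
  ∀ (m : V) (g : G), (∀ x, χ (m + g • x) = χ x) → m = 0 ∧ ∀ x : V, g • x = x

/-- A distinguishing colouring of the coset space. -/
def Col {G : Type*} [Group G] (H : Subgroup G) (c : ℕ) : Prop := ∃ χ : G → ℕ, (∀ x, χ x < c) ∧
  (∀ x, ∀ h ∈ H, χ (x * h) = χ x) ∧ ∀ g, (∀ x, χ (g * x) = χ x) → ∀ x, x⁻¹ * g * x ∈ H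

end Defs

/-- The base size theorem for the class `P` and modules of order less than `n`. -/
def Good (b : ℕ) (P : ℕ → ℕ → Prop) (n : ℕ) : Prop :=
  ∀ (G V : Type u) [Group G] [Finite G] [AddCommGroup V] [Finite V] [DistribMulAction G V],
    Nat.card V < n → Group.IsSolvable G → P (Nat.card G) (Nat.card V) → CR G V → Base G V b

variable {G V : Type*} [Group G] [AddCommGroup V] [DistribMulAction G V]

theorem Irr.cr (h : Irr G V) : CR G V := fun U hU => by
  rcases h U hU with rfl | rfl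
  · exact ⟨⊤, fun _ _ _ => trivial, bot_inf_eq _, bot_sup_eq _⟩
  · exact ⟨⊥, fun g v hv => by rw [AddSubgroup.mem_bot.1 hv, smul_zero]; exact zero_mem _,
      inf_bot_eq _, sup_bot_eq _⟩

theorem Mult.mono {b c c' : ℕ} (h : Mult G V b c) (hc : c' ≤ c) : Mult G V b c' :=
  let ⟨u, h1, h2⟩ := h
  ⟨u, fun j hj => h1 j (hj.trans_le hc), fun j hj k hk => h2 j (hj.trans_le hc) k (hk.trans_le hc)⟩

theorem AffCol.mono {c c' : ℕ} (h : AffCol G V c) (hc : c ≤ c') : AffCol G V c' :=
  let ⟨χ, h1, h2⟩ := h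
  ⟨χ, fun x => (h1 x).trans_le hc, h2⟩

/-- The action on an invariant subgroup. -/
@[reducible] def subAct (B : AddSubgroup V) (h : Inv G B) : DistribMulAction G B where
  smul g b := ⟨g • (b : V), h g b b.2⟩
  one_smul b := Subtype.ext (one_smul G (b : V))
  mul_smul g k b := Subtype.ext (mul_smul g k (b : V))
  smul_zero g := Subtype.ext (smul_zero g)
  smul_add g a b := Subtype.ext (smul_add g (a : V) b)

/-- The subgroup of fixed vectors. -/
def fix (V : Type*) [AddCommGroup V] [DistribMulAction G V] (g : G) : AddSubgroup V where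
  carrier := {v | g • v = v}
  zero_mem' := smul_zero g
  add_mem' := fun {a b} ha hb => by
    change g • (a + b) = a + b
    rw [smul_add, show g • a = a from ha, show g • b = b from hb]
  neg_mem' := fun {a} ha => by
    change g • (-a) = -a
    rw [smul_neg, show g • a = a from ha]

theorem mem_fix {g : G} {v : V} : v ∈ fix V g ↔ g • v = v := Iff.rfl

theorem triv_of_pow {g : G} {k n : ℕ} (hk : k.Coprime n) (hn : g ^ n = 1) {w : V}
    (h : g ^ k • w = w) : g • w = w := by
  have h1 : g ^ k ∈ MulAction.stabilizer G w := h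
  have h2 : g ∈ Subgroup.zpowers (g ^ k) := by
    by_cases hf : IsOfFinOrder g
    · have := hf.finite_zpowers
      obtain ⟨a, b, e⟩ := Nat.isCoprime_iff_coprime.2 hk
      refine ⟨a, ?_⟩
      have : g ^ ((a * k + b * n : ℤ)) = g := by rw [e, zpow_one]
      rw [zpow_add, mul_comm b, zpow_mul, zpow_mul, zpow_natCast, zpow_natCast, hn, one_zpow,
        mul_one] at this
      change (g ^ k) ^ a = g
      rw [← zpow_natCast, ← zpow_mul, mul_comm, zpow_mul, zpow_natCast, this]
    · obtain rfl : n = 0 := by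
        by_contra h0
        exact hf (isOfFinOrder_iff_pow_eq_one.2 ⟨n, Nat.pos_of_ne_zero h0, hn⟩)
      rw [Nat.coprime_zero_right] at hk
      rw [hk, pow_one]
      exact Subgroup.mem_zpowers g
  exact (Subgroup.zpowers_le.2 h1 : Subgroup.zpowers (g ^ k) ≤ _) h2

theorem Irr.exists_prime [Finite V] [Nontrivial V] (h : Irr G V) :
    ∃ p : ℕ, p.Prime ∧ p ∣ Nat.card V ∧ ∀ w : V, p • w = 0 := by
  obtain ⟨p, hp, hd⟩ := Nat.exists_prime_and_dvd (Finite.one_lt_card (α := V)).ne'
  have := Fact.mk hp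
  obtain ⟨x, hx⟩ := exists_prime_addOrderOf_dvd_card' p hd
  rcases h (nsmulAddMonoidHom p).ker (fun g v hv => by
    change p • g • v = 0
    rw [smul_comm, show p • v = 0 from hv, smul_zero]) with e | e
  · have : x ∈ (nsmulAddMonoidHom p : V →+ V).ker := by
      change p • x = 0
      rw [← hx, addOrderOf_nsmul_eq_zero]
    rw [e, AddSubgroup.mem_bot] at this
    rw [this, addOrderOf_zero] at hx
    exact (hp.ne_one hx.symm).elim
  · exact ⟨p, hp, hd, fun w => show w ∈ (nsmulAddMonoidHom p : V →+ V).ker from e ▸ trivial⟩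

/-! ### Abelian sections -/

/-- `π` induces an isomorphism `N / Z ≃ W`. -/
structure Sec {W : Type*} [AddCommGroup W] (Z N : Subgroup G) (π : G → W) : Prop where
  mul : ∀ a ∈ N, ∀ b ∈ N, π (a * b) = π a + π b
  zero : ∀ a ∈ N, π a = 0 ↔ a ∈ Z
  surj : ∀ w, ∃ a ∈ N, π a = w

theorem exists_sec {G : Type u} [Group G] {Z N : Subgroup G}
    (hc : ∀ a ∈ N, ∀ b ∈ N, ⁅a, b⁆ ∈ Z) (hn : ∀ a ∈ N, ∀ z ∈ Z, a * z * a⁻¹ ∈ Z) :
    ∃ (W : Type u) (_ : AddCommGroup W) (π : G → W), Sec Z N π := by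
  classical
  have : (Z.subgroupOf N).Normal := ⟨fun z hz a => hn a a.2 z hz⟩
  let _ : CommGroup (N ⧸ Z.subgroupOf N) :=
    { QuotientGroup.Quotient.group _ with
      mul_comm := fun a b => by
        obtain ⟨a, rfl⟩ := QuotientGroup.mk_surjective a
        obtain ⟨b, rfl⟩ := QuotientGroup.mk_surjective b
        rw [← QuotientGroup.mk_mul, ← QuotientGroup.mk_mul, QuotientGroup.eq]
        have := hc _ (inv_mem b.2) _ (inv_mem a.2)
        rw [commutatorElement_def] at this
        change _ ∈ Z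
        convert this using 1
        simp only [Subgroup.coe_mul, Subgroup.coe_inv, Subgroup.coe_subtype]
        group }
  refine ⟨Additive (N ⧸ Z.subgroupOf N), inferInstance,
    fun a => if h : a ∈ N then Additive.ofMul ((⟨a, h⟩ : N) : N ⧸ Z.subgroupOf N) else 0,
    fun a ha b hb => ?_, fun a ha => ?_, fun w => ?_⟩
  · rw [dif_pos ha, dif_pos hb, dif_pos (mul_mem ha hb)]; rfl
  · rw [dif_pos ha]
    exact QuotientGroup.eq_one_iff (N := Z.subgroupOf N) (⟨a, ha⟩ : N)
  · obtain ⟨a, e⟩ := QuotientGroup.mk_surjective w.toMul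
    exact ⟨a, a.2, by rw [dif_pos a.2]; exact congrArg Additive.ofMul e⟩

namespace Sec

variable {W : Type*} [AddCommGroup W] {Z N : Subgroup G} {π : G → W} (h : Sec Z N π)
include h

theorem one : π 1 = 0 := (h.zero 1 (one_mem N)).2 (one_mem Z)

/-- The homomorphism `N → W`. -/
def hom : N →* Multiplicative W :=
  MonoidHom.mk' (fun a => Multiplicative.ofAdd (π a)) fun a b =>
    congrArg Multiplicative.ofAdd (h.mul a a.2 b b.2)

theorem inv {a : G} (ha : a ∈ N) : π a⁻¹ = -π a :=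
  congrArg Multiplicative.toAdd (map_inv h.hom ⟨a, ha⟩)

theorem pow {a : G} (ha : a ∈ N) (k : ℕ) : π (a ^ k) = k • π a :=
  congrArg Multiplicative.toAdd (map_pow h.hom ⟨a, ha⟩ k)

theorem eq_iff {a b : G} (ha : a ∈ N) (hb : b ∈ N) : π a = π b ↔ a⁻¹ * b ∈ Z := by
  rw [← h.zero _ (mul_mem (inv_mem ha) hb), h.mul _ (inv_mem ha) _ hb, h.inv ha,
    neg_add_eq_zero]

theorem hom_surj : Function.Surjective h.hom := fun w =>
  let ⟨a, ha, e⟩ := h.surj w.toAdd
  ⟨⟨a, ha⟩, congrArg Multiplicative.ofAdd e⟩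

theorem finite [Finite G] : Finite W := Finite.of_surjective _ h.hom_surj

theorem card : Nat.card W = Z.relIndex N := by
  have : h.hom.ker = Z.subgroupOf N := by
    ext a; exact h.zero a a.2
  rw [Subgroup.relIndex, ← this, Subgroup.index_ker, MonoidHom.range_eq_top.2 h.hom_surj,
    Subgroup.card_top]
  rfl

theorem exists_map {g : G} (hN : ∀ a ∈ N, g * a * g⁻¹ ∈ N) (hZ : ∀ a ∈ Z, g * a * g⁻¹ ∈ Z) :
    ∃ f : W →+ W, ∀ a ∈ N, f (π a) = π (g * a * g⁻¹) := by
  choose s hs es using h.surj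
  have key : ∀ a ∈ N, π (g * s (π a) * g⁻¹) = π (g * a * g⁻¹) := fun a ha => by
    rw [h.eq_iff (hN _ (hs _)) (hN _ ha)]
    have := hZ _ ((h.eq_iff (hs _) ha).1 (es _))
    convert this using 1
    group
  refine ⟨AddMonoidHom.mk' (fun w => π (g * s w * g⁻¹)) fun v w => ?_, key⟩
  rw [← h.mul _ (hN _ (hs v)) _ (hN _ (hs w)), ← es v, ← es w, ← h.mul _ (hs v) _ (hs w),
    key _ (mul_mem (hs v) (hs w)), es, es]
  congr 1
  group

theorem exists_act [hN : N.Normal] [hZ : Z.Normal] :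
    ∃ _ : DistribMulAction G W, ∀ g : G, ∀ a ∈ N, g • π a = π (g * a * g⁻¹) := by
  choose f hf using fun g : G =>
    h.exists_map (fun a ha => hN.conj_mem a ha g) fun a ha => hZ.conj_mem a ha g
  exact ⟨{ smul := fun g w => f g w
           one_smul := fun w => by
             obtain ⟨a, ha, rfl⟩ := h.surj w
             change f 1 _ = _
             rw [hf 1 a ha, one_mul, inv_one, mul_one]
           mul_smul := fun g k w => by
             obtain ⟨a, ha, rfl⟩ := h.surj w
             change f _ _ = f g (f k _)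
             rw [hf _ a ha, hf _ a ha, hf _ _ (hN.conj_mem a ha k)]
             congr 1
             group
           smul_zero := fun g => map_zero (f g)
           smul_add := fun g => map_add (f g) }, hf⟩

/-- The preimage of a subgroup of the section. -/
def pre (U : AddSubgroup W) : Subgroup G where
  carrier := {a | a ∈ N ∧ π a ∈ U}
  one_mem' := ⟨one_mem N, by rw [h.one]; exact zero_mem U⟩
  mul_mem' := fun {a b} ha hb =>
    ⟨mul_mem ha.1 hb.1, by rw [h.mul a ha.1 b hb.1]; exact add_mem ha.2 hb.2⟩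
  inv_mem' := fun {a} ha => ⟨inv_mem ha.1, by rw [h.inv ha.1]; exact neg_mem ha.2⟩

theorem mem_pre {U : AddSubgroup W} {a : G} : a ∈ h.pre U ↔ a ∈ N ∧ π a ∈ U := Iff.rfl

/-- The image of a subgroup in the section. -/
def im (M : Subgroup G) : AddSubgroup W where
  carrier := {w | ∃ a ∈ N, a ∈ M ∧ π a = w}
  zero_mem' := ⟨1, one_mem N, one_mem M, h.one⟩
  add_mem' := by
    rintro _ _ ⟨a, ha, ha', rfl⟩ ⟨b, hb, hb', rfl⟩
    exact ⟨a * b, mul_mem ha hb, mul_mem ha' hb', h.mul a ha b hb⟩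
  neg_mem' := by
    rintro _ ⟨a, ha, ha', rfl⟩
    exact ⟨a⁻¹, inv_mem ha, inv_mem ha', h.inv ha⟩

theorem mem_im {M : Subgroup G} {w : W} : w ∈ h.im M ↔ ∃ a ∈ N, a ∈ M ∧ π a = w := Iff.rfl

end Sec

end H33.Solv
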