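import Cfsg.Agent.H33.SolvN

/-! Base sizes of solvable linear groups: invariant extraspecial subgroups. -/

set_option autoImplicit false

namespace H33.Solv

open Subgroup
open scoped commutatorElement

variable {G : Type*} [Group G]

theorem finite_end (V : Type*) [AddCommGroup V] [Finite V] : Finite (AddMonoid.End V)ˣ :=
  have : Finite (AddMonoid.End V) := DFunLike.finite _
  inferInstance

theorem CR.normal_p' {V : Type*} [AddCommGroup V] [DistribMulAction G V] [Finite V] (h : CR G V)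
    {p : ℕ} (hp : p.Prime) (hV : ∀ w : V, p • w = 0) {N : Subgroup G} (hN : N.Normal)
    (hP : ∀ a ∈ N, ∀ v : V, a ^ p • v = v) : ∀ a ∈ N, ∀ v : V, a • v = v := by
  let ρ := (DistribMulAction.toAddMonoidEnd G V).toHomUnits
  have h' : CR ρ.range V := fun U hU =>
    let ⟨W, hW, e⟩ := h U fun g => hU (ρ.rangeRestrict g)
    ⟨W, by rintro ⟨_, g, rfl⟩; exact hW g, e⟩
  exact fun a ha => h'.normal_p hp hV (hN.map _ ρ.rangeRestrict_surjective) (by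
    rintro ⟨_, b, hb, rfl⟩
    refine ⟨1, Subtype.ext (Subtype.ext (Units.ext (AddMonoidHom.ext fun v => ?_)))⟩
    rw [pow_one]
    exact (congrArg (fun x : ρ.range => x • v) (map_pow ρ.rangeRestrict b p)).symm.trans
      (hP b hb v)) _ ⟨a, ha, rfl⟩

theorem split_mod {X : Type*} [AddCommGroup X] [DistribMulAction G X] [Finite G] {R : Subgroup G}
    (hR : R.Normal) (ho : Odd (Nat.card R)) {i : X} (hi : ∀ a ∈ R, a • i = i) (h2 : 2 • i = 0)
    (h0 : i ≠ 0) : ∃ U : AddSubgroup X, Inv G U ∧ i ∉ U ∧ ∀ a ∈ R, ∀ x, a • x - x ∈ U := by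
  have := Fintype.ofFinite R
  let T : X →+ X := ∑ a : R, DistribSMul.toAddMonoidHom X a
  have hT : ∀ x, T x = ∑ a : R, a.1 • x := fun x => AddMonoidHom.finsetSum_apply _ _ _
  refine ⟨T.ker, fun g x hx => ?_, fun e => h0 ?_, fun a ha x => ?_⟩
  · rw [AddMonoidHom.mem_ker, hT] at hx ⊢
    rw [← smul_zero g, ← hx, Finset.smul_sum]
    refine (Fintype.sum_equiv (MulAut.conjNormal g).toEquiv _ _ fun a => ?_).symm
    change _ = (g * a * g⁻¹) • g • x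
    rw [mul_smul, inv_smul_smul, mul_smul]
  · rw [AddMonoidHom.mem_ker, hT, Finset.sum_congr rfl fun a _ => hi a.1 a.2, Finset.sum_const,
      Finset.card_univ, ← Nat.card_eq_fintype_card] at e
    obtain ⟨k, hk⟩ := ho
    rwa [hk, add_smul, mul_comm, mul_smul, h2, smul_zero, zero_add, one_smul] at e
  · rw [AddMonoidHom.mem_ker, map_sub, hT, hT, sub_eq_zero]
    exact Fintype.sum_equiv (Equiv.mulRight ⟨a, ha⟩) _ _ fun b => (mul_smul _ _ _).symm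

theorem root_of_coprime {Z : Subgroup G} {z : G} (hz : z ∈ Z) {m k : ℕ} (hm : z ^ m = 1)
    (hc : k.Coprime m) : ∃ y ∈ Z, y ^ k = z := by
  obtain ⟨n, hn⟩ := exists_pow_eq_self_of_coprime
    (hc.coprime_dvd_right (orderOf_dvd_of_pow_eq_one hm))
  exact ⟨z ^ n, pow_mem hz n, by rw [← pow_mul, mul_comm, pow_mul, hn]⟩

theorem root_of_cyclic [Finite G] {Z : Subgroup G} (hZ : IsCyclic Z) {z : G} (hz : z ∈ Z) {m k : ℕ}
    (hm : z ^ m = 1) (hc : Nat.card Z = k * m) : ∃ y ∈ Z, y ^ k = z := by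
  obtain ⟨c, hc'⟩ := IsCyclic.exists_monoid_generator (α := Z)
  obtain ⟨n, hn⟩ := hc' ⟨z, hz⟩
  have h1 : orderOf c = k * m := hc ▸ orderOf_eq_card_of_forall_mem_powers hc'
  have h2 : k * m ∣ n * m := by
    rw [← h1, orderOf_dvd_iff_pow_eq_one, pow_mul]
    exact (congrArg (· ^ m) hn).trans (Subtype.ext hm)
  obtain ⟨j, rfl⟩ := Nat.dvd_of_mul_dvd_mul_right
    (Nat.pos_of_mul_pos_left (hc ▸ Nat.card_pos)) h2
  exact ⟨c.1 ^ j, pow_mem c.2 j, by rw [← pow_mul, mul_comm]; exact congrArg Subtype.val hn⟩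

/-- An invariant subgroup covering `N_r / Z` and meeting `Z` in a group of exponent `r`. -/
structure ES {Z N : Subgroup G} (h : NS Z N) (r : ℕ) (E : Subgroup G) : Prop where
  normal : E.Normal
  le : E ≤ h.Nr r
  cover : ∀ a ∈ h.Nr r, ∃ z ∈ Z, a * z ∈ E
  inter : ∀ a ∈ E, a ∈ Z → a ^ r = 1

namespace NS

variable {Z N : Subgroup G} (h : NS Z N) [Finite G]
include h

theorem cover {r k : ℕ} (hm : ∀ a ∈ h.Nr r, ∀ b ∈ h.Nr r, ⁅b, a⁆ ^ (r * k).choose 2 = 1)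
    (hc : Nat.card Z = r * k) {a : G} (ha : a ∈ h.Nr r) : ∃ z ∈ Z, (a * z) ^ r = 1 := by
  have := h.hom_triv (h.Nr_normal r) (h.le_Nr r) (h.Nr_le r) (n := r * k)
    (fun a ha b hb => by rw [h.mul_pow ha.1 hb.1, hm a ha b hb, one_mul])
    (fun a ha => by rw [pow_mul]; exact pow_mem ha.2 k)
    (fun z hz => hc ▸ congrArg Subtype.val (pow_card_eq_one' (x := (⟨z, hz⟩ : Z)))) a ha
  obtain ⟨y, hy, e⟩ := root_of_cyclic h.cyc ha.2 (pow_mul a r k ▸ this) hc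
  exact ⟨y⁻¹, inv_mem hy, by
    rw [(Commute.inv_right (h.cent a ha.1 y hy).symm).mul_pow, inv_pow, e, mul_inv_cancel]⟩

theorem exists_es_odd {r : ℕ} (hr : r.Prime) (ho : Odd r) :
    ∃ E, ES h r E ∧ ∀ a ∈ E, a ^ r = 1 := by
  have h1 : ∀ a : G, a ^ r = 1 → a ^ r ∈ Z := fun a e => e ▸ one_mem Z
  refine ⟨{ carrier := {a | a ∈ N ∧ a ^ r = 1}
            one_mem' := ⟨one_mem N, one_pow r⟩
            mul_mem' := fun {a b} ha hb => ⟨mul_mem ha.1 hb.1, by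
              rw [H9.mul_pow_of_odd (h.cc hb.1 ha.1 ha.1) (h.cc hb.1 ha.1 hb.1) ho
                (h.comm_pow hb.1 ha.1 (h1 b hb.2)), ha.2, hb.2, mul_one]⟩
            inv_mem' := fun {a} ha => ⟨inv_mem ha.1, by rw [inv_pow, ha.2, inv_one]⟩ },
    ⟨⟨fun a ha g => ⟨h.nn.conj_mem a ha.1 g, by rw [conj_pow, ha.2]; simp⟩⟩,
      fun a ha => ⟨ha.1, h1 a ha.2⟩, fun a ha => ?_, fun a ha _ => ha.2⟩, fun a ha => ha.2⟩
  suffices ∃ z ∈ Z, (a * z) ^ r = 1 from this.imp fun z hz => ⟨hz.1, mul_mem ha.1 (h.le hz.1), hz.2⟩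
  by_cases hd : r ∣ Nat.card Z
  · obtain ⟨k, hk⟩ := hd
    refine h.cover (fun a ha b hb => ?_) hk ha
    obtain ⟨j, hj⟩ : r ∣ (r * k).choose 2 := by
      rw [Nat.choose_two_right, mul_assoc,
        Nat.mul_div_assoc _ ((Nat.coprime_two_left.2 ho).dvd_of_dvd_mul_left
          (mul_assoc r k _ ▸ (Nat.even_mul_pred_self _).two_dvd))]
      exact dvd_mul_right _ _
    rw [hj, pow_mul, h.comm_pow hb.1 ha.1 hb.2, one_pow]
  · obtain ⟨y, hy, e⟩ := root_of_coprime ha.2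
      (congrArg Subtype.val (pow_card_eq_one' (x := (⟨_, ha.2⟩ : Z))))
      ((Nat.Prime.coprime_iff_not_dvd hr).2 hd)
    exact ⟨y⁻¹, inv_mem hy, by
      rw [(Commute.inv_right (h.cent a ha.1 y hy).symm).mul_pow, inv_pow, e, mul_inv_cancel]⟩

theorem cover4 {a : G} (ha : a ∈ h.Nr 2) : ∃ z ∈ Z, (a * z) ^ 4 = 1 := by
  by_cases hd : 4 ∣ Nat.card Z
  · obtain ⟨k, hk⟩ := hd
    obtain ⟨z, hz, e⟩ := h.cover (k := 2 * k) (fun a ha b hb => by
      rw [Nat.choose_two_right, mul_assoc, Nat.mul_div_cancel_left _ two_pos, mul_assoc, pow_mul,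
        h.comm_pow hb.1 ha.1 hb.2, one_pow]) (by rw [hk]; ring) ha
    exact ⟨z, hz, by rw [show 4 = 2 * 2 from rfl, pow_mul, e, one_pow]⟩
  · have h1 : (a ^ 2) ^ Nat.card Z = 1 :=
      congrArg Subtype.val (pow_card_eq_one' (x := (⟨_, ha.2⟩ : Z)))
    obtain ⟨m, hm, e⟩ : ∃ m, Odd m ∧ ((a ^ 2) ^ 2) ^ m = 1 := by
      rcases Nat.even_or_odd' (Nat.card Z) with ⟨m, e | e⟩
      · refine ⟨m, Nat.not_even_iff_odd.1 fun ⟨k, hk⟩ => hd ⟨k, by omega⟩, ?_⟩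
        rw [← pow_mul, ← e, h1]
      · exact ⟨_, ⟨m, e⟩, by rw [← pow_mul, mul_comm, pow_mul, h1, one_pow]⟩
    obtain ⟨y, hy, e⟩ := root_of_coprime (pow_mem ha.2 2) e (k := 4)
      (Nat.Coprime.pow_left 2 (Nat.coprime_two_left.2 hm))
    exact ⟨y⁻¹, inv_mem hy, by
      rw [(Commute.inv_right (h.cent a ha.1 y hy).symm).mul_pow, inv_pow, e, ← pow_mul,
        mul_inv_cancel]⟩

theorem sq_eq {a b : G} (ha : a ∈ Z) (hb : b ∈ Z) (h1 : a ^ 2 = 1) (h2 : b ^ 2 = 1) (h3 : a ≠ 1)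
    (h4 : b ≠ 1) : a = b := by
  classical
  have := h.cyc
  have := Fintype.ofFinite Z
  by_contra h5
  have e := (Finset.card_le_card (s := {1, ⟨a, ha⟩, ⟨b, hb⟩}) (by
    simp [Finset.insert_subset_iff, Subtype.ext_iff, h1, h2])).trans
    (IsCyclic.card_pow_eq_one_le (α := Z) two_pos)
  rw [Finset.card_eq_three.2 ⟨_, _, _, by simpa [Subtype.ext_iff] using h3.symm,
    by simpa [Subtype.ext_iff] using h4.symm, by simpa using h5, rfl⟩] at e
  omega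

theorem conj_sq {a : G} (ha : a ∈ Z) (h1 : a ^ 2 = 1) (g : G) : g * a * g⁻¹ = a := by
  by_cases h2 : a = 1
  · simp [h2]
  · exact h.sq_eq (h.zn.conj_mem a ha g) ha (by rw [conj_pow, h1]; simp) h1 (by simpa using h2) h2

theorem exists_es_two (hs : Group.IsSolvable G) : ∃ E, ES h 2 E := by
  have t2 : ∀ a ∈ N, a ^ 4 = 1 → a ^ 2 ∈ Z := fun a ha e =>
    h.sqfree ha (r := 2) (e ▸ one_mem Z : a ^ 4 ∈ Z)
  let T : Subgroup G :=
    { carrier := {a | a ∈ N ∧ a ^ 4 = 1}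
      one_mem' := ⟨one_mem N, one_pow 4⟩
      mul_mem' := fun {a b} ha hb => ⟨mul_mem ha.1 hb.1, by
        rw [h.mul_pow ha.1 hb.1, show Nat.choose 4 2 = 2 * 3 from rfl, pow_mul,
          h.comm_pow hb.1 ha.1 (t2 b hb.1 hb.2), ha.2, hb.2]; simp⟩
      inv_mem' := fun {a} ha => ⟨inv_mem ha.1, by rw [inv_pow, ha.2, inv_one]⟩ }
  have hT : T.Normal := ⟨fun a ha g => ⟨h.nn.conj_mem a ha.1 g, by rw [conj_pow, ha.2]; simp⟩⟩
  have hT2 : T ≤ h.Nr 2 := fun a ha => ⟨ha.1, t2 a ha.1 ha.2⟩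
  obtain ⟨L, ⟨l1, l2, l3⟩, lmax⟩ := H2.exists_maximal_subgroup
    (fun L : Subgroup G => L.Normal ∧ L ≤ T ∧ ∀ a ∈ L, a ∈ Z → a ^ 2 = 1)
    ⟨⊥, inferInstance, bot_le, fun a ha _ => by rw [mem_bot.1 ha, one_pow]⟩
  have := h.zn
  have := h.Nr_normal 2
  have hP : L ⊔ Z ≤ h.Nr 2 := sup_le (l2.trans hT2) (h.le_Nr 2)
  let M' := h.Nr 2 ⊓ centralizer ((L ⊔ Z : Subgroup G) : Set G)
  suffices hM : M' ≤ Z by
    refine ⟨L, l1, l2.trans hT2, fun a ha => ?_, l3⟩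
    have := ((h.split inferInstance inferInstance le_sup_right hP (h.Nr_le 2)).trans
      (sup_le le_rfl (hM.trans le_sup_right))) ha
    rw [← SetLike.mem_coe, mul_normal] at this
    obtain ⟨l, hl, z, hz, rfl⟩ := this
    exact ⟨z⁻¹, inv_mem hz, by rwa [mul_inv_cancel_right]⟩
  have hZM : Z ≤ M' := fun z hz =>
    ⟨h.le_Nr 2 hz, fun b hb => (h.cent b (hP hb).1 z hz).symm⟩
  have hPM : ∀ a ∈ M', a ∈ L ⊔ Z → a ∈ Z := fun a ha hp =>
    h.n1 inferInstance le_sup_right (hP.trans (h.Nr_le 2)) hp ha.2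
  have hcov : ∀ a ∈ M', ∃ z ∈ Z, a * z ∈ M' ⊓ T := fun a ha =>
    let ⟨z, hz, e⟩ := h.cover4 ha.1
    ⟨z, hz, mul_mem ha (hZM hz), mul_mem ha.1.1 (h.le hz), e⟩
  have : IsMulCommutative Z := ⟨⟨fun a b => Subtype.ext (h.cent _ (h.le b.2) _ a.2)⟩⟩
  obtain ⟨Z0, z1, z2⟩ := H2.exists_normal_pow_eq_one Z 2
  obtain ⟨X, _, π, hπ⟩ := exists_sec (Z := Z0) (N := M' ⊓ T)
    (fun a ha b hb => (z2 _).2 ⟨h.comm a ha.2.1 b hb.2.1, h.comm_pow ha.2.1 hb.2.1 ha.1.1.2⟩)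
    fun a _ z hz => z1.conj_mem z hz a
  obtain ⟨_, hact⟩ := hπ.exists_act
  have := hπ.finite
  have k1 : ∀ U : AddSubgroup X, Inv G U → (∀ z ∈ M' ⊓ T, z ∈ Z → π z ∈ U → z ^ 2 = 1) →
      ∀ a ∈ M' ⊓ T, π a ∈ U → π a = 0 := fun U hU hz a ha hau => by
    have hn : (hπ.pre U).Normal :=
      ⟨fun a ha g => ⟨Normal.conj_mem inferInstance a ha.1 g, hact g a ha.1 ▸ hU g _ ha.2⟩⟩
    have e := lmax (L ⊔ hπ.pre U) ⟨inferInstance, sup_le l2 fun a ha => ha.1.2, fun b hb hbz => by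
      rw [← SetLike.mem_coe, mul_normal] at hb
      obtain ⟨l, hl, m, hm, rfl⟩ := hb
      have hmz := hPM m hm.1.1 ((mul_mem_cancel_left (mem_sup_left hl)).1 (mem_sup_right hbz))
      rw [(show Commute l m from (h.cent l (l2 hl).1 m hmz).symm).mul_pow, hz m hm.1 hmz hm.2,
        l3 l hl ((mul_mem_cancel_right hmz).1 hbz), mul_one]⟩ le_sup_left
    have haz := hPM a ha.1 (mem_sup_left (e ▸ mem_sup_right ⟨ha, hau⟩))
    exact (hπ.zero a ha).2 ((z2 a).2 ⟨haz, hz a ha haz hau⟩)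
  by_cases hi : ∀ z ∈ M' ⊓ T, z ∈ Z → z ^ 2 = 1
  · intro a ha
    obtain ⟨z, hz, haz⟩ := hcov a ha
    exact (mul_mem_cancel_right hz).1 ((z2 _).1 ((hπ.zero _ haz).1
      (k1 ⊤ (fun _ _ _ => trivial) (fun z h1 h2 _ => hi z h1 h2) _ haz trivial))).1
  push Not at hi
  obtain ⟨i, hiM, hiZ, hi⟩ := hi
  have hπi : ∀ z ∈ M' ⊓ T, z ∈ Z → z ^ 2 ≠ 1 → π z = π i := fun z hz hzZ hz2 => by
    rw [hπ.eq_iff hz hiM, z2]
    refine ⟨mul_mem (inv_mem hzZ) hiZ, ?_⟩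
    rw [(Commute.inv_left (h.cent i (h.le hiZ) z hzZ)).mul_pow, inv_pow,
      h.sq_eq (pow_mem hzZ 2) (pow_mem hiZ 2) (by rw [← pow_mul]; exact hz.2.2)
        (by rw [← pow_mul]; exact hiM.2.2) hz2 hi, inv_mul_cancel]
  obtain ⟨W, _, π', hπ'⟩ := exists_sec (Z := Z) (N := M')
    (fun a ha b hb => h.comm a ha.1.1 b hb.1.1) fun a _ z hz => h.zn.conj_mem z hz a
  obtain ⟨_, hact'⟩ := hπ'.exists_act
  have := hπ'.finite
  have k2 : ∀ g : G, (∀ x : X, g • x = x) ↔ ∀ w : W, g • w = w := fun g => by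
    refine ⟨fun hg w => ?_, fun hg x => ?_⟩
    · obtain ⟨a, ha, rfl⟩ := hπ'.surj w
      obtain ⟨z, hz, haz⟩ := hcov a ha
      have e : π' a = π' (a * z) := by
        rw [hπ'.mul a ha z (hZM hz), (hπ'.zero z (hZM hz)).2 hz, add_zero]
      have hc := Normal.conj_mem inferInstance _ haz g
      rw [e, hact' _ _ haz.1, hπ'.eq_iff hc.1 haz.1]
      exact ((z2 _).1 ((hπ.eq_iff hc haz).1 (by rw [← hact _ _ haz, hg]))).1
    · obtain ⟨a, ha, rfl⟩ := hπ.surj x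
      have hc := Normal.conj_mem inferInstance _ ha g
      have hz := (hπ'.eq_iff hc.1 ha.1).1 (by rw [← hact' _ _ ha.1, hg])
      rw [hact _ _ ha, hπ.eq_iff hc ha, z2]
      refine ⟨hz, ?_⟩
      have e := (show Commute _ _ from (h.cent _ hc.2.1 _ hz).symm).mul_pow 2
      rw [mul_inv_cancel_left, conj_pow, h.conj_sq ha.1.1.2 (by rw [← pow_mul]; exact ha.2.2)] at e
      exact (left_eq_mul.1 e)
  let ρ := (DistribMulAction.toAddMonoidEnd G X).toHomUnits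
  have := finite_end X
  by_cases h0 : (⊤ : Subgroup ρ.range) = ⊥
  · have hn : ∀ g : G, ∀ a ∈ M', (g * a * g⁻¹)⁻¹ * a ∈ Z := fun g a ha =>
      (hπ'.eq_iff (Normal.conj_mem inferInstance _ ha g) ha).1 (by
        rw [← hact' _ _ ha, (k2 g).1 fun x => by
          have : ρ.rangeRestrict g = 1 := mem_bot.1 (h0 ▸ mem_top _)
          exact (congrArg (fun y : ρ.range => y • x) this).trans (one_smul _ _)])
    have hZc : ∀ a ∈ M', Z ≤ M' ⊓ centralizer {a} := fun a ha z hz =>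
      ⟨hZM hz, mem_centralizer_singleton_iff.2 (h.cent a ha.1.1 z hz)⟩
    refine fun a ha => h.n1 (M := M' ⊓ centralizer {a}) ⟨fun b hb g => ?_⟩ (hZc a ha)
      (fun b hb => hb.1.1.1) ⟨ha, mem_centralizer_singleton_iff.2 rfl⟩
      fun b hb => mem_centralizer_singleton_iff.1 hb.2
    exact inv_mem_iff.1 ((mul_mem_cancel_right hb).1 (hZc a ha (hn g b hb.1)))
  have : Group.IsSolvable ρ.range := Group.isSolvable_of_surjective ρ.rangeRestrict_surjective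
  obtain ⟨s, R, hs, hR, -, hR0, hE, hp, -⟩ := H2.exists_elementaryAbelian_normal_le ⊤ h0
  refine (hR0 (eq_bot_iff.2 fun a ha => Subtype.ext (Units.ext (AddMonoidHom.ext fun x => ?_)))).elim
  change a • x = x
  rcases hs.eq_two_or_odd' with rfl | ho
  · obtain ⟨g, rfl⟩ := ρ.rangeRestrict_surjective a
    refine (k2 g).2 ((h.cr inferInstance hZM (fun a ha => ha.1.1) hπ' hact').normal_p'
      Nat.prime_two (fun w => ?_) (hR.comap ρ.rangeRestrict) (fun b hb => (k2 _).1 fun x => ?_)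
      g ha) x
    · obtain ⟨a, ha, rfl⟩ := hπ'.surj w
      rw [← hπ'.pow ha]
      exact (hπ'.zero _ (pow_mem ha 2)).2 ha.1.2
    · change ρ.rangeRestrict (b ^ 2) • x = x
      rw [map_pow, hE.2 _ hb, one_smul]
  · have := Fact.mk hs
    obtain ⟨k, hk⟩ := hp.exists_card_eq
    obtain ⟨U, hU, hiU, hR'⟩ := split_mod hR (hk ▸ ho.pow) (i := π i) (by
      rintro ⟨_, g, rfl⟩ _
      exact (hact g i hiM).trans (hπi _ (Normal.conj_mem inferInstance _ hiM g)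
        (h.zn.conj_mem _ hiZ g) (by rw [conj_pow]; simpa using hi))) (by
      rw [← hπ.pow hiM]
      exact (hπ.zero _ (pow_mem hiM 2)).2 ((z2 _).2 ⟨pow_mem hiZ 2, by
        rw [← pow_mul]; exact hiM.2.2⟩)) fun e => hi ((z2 _).1 ((hπ.zero _ hiM).1 e)).2
    obtain ⟨b, hb, e⟩ := hπ.surj (a • x - x)
    exact sub_eq_zero.1 (e ▸ k1 U (fun g => hU (ρ.rangeRestrict g))
      (fun z h1 h2 h3 => by_contra fun h4 => hiU (hπi z h1 h2 h4 ▸ h3)) b hb (e ▸ hR' a ha x))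

end NS

theorem ES.n1 {Z N E : Subgroup G} {h : NS Z N} {r : ℕ} (hE : ES h r E) {a : G} (ha : a ∈ E)
    (hc : ∀ b ∈ E, b * a = a * b) : a ∈ Z :=
  h.n1 (h.Nr_normal r) (h.le_Nr r) (h.Nr_le r) (hE.le ha) fun b hb => by
    obtain ⟨z, hz, e⟩ := hE.cover b hb
    have := hc _ e
    rwa [mul_assoc, h.cent a (hE.le ha).1 z hz, ← mul_assoc, ← mul_assoc, mul_left_inj] at this

end H33.Solv
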