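import Cfsg.Agent.H33.SolvFix
import Cfsg.Agent.H46.Quo
import Cfsg.Agent.H46.Prod

/-! Base sizes of solvable linear groups: the field of a quasi-primitive module. -/

set_option autoImplicit false

namespace H33.Solv

open Subgroup

universe u

/-- The scalars form a maximal abelian normal subgroup. -/
structure Scal (K G V : Type*) [Field K] [Group G] [AddCommGroup V] [Module K V]
    [DistribMulAction G V] where
  ι : Kˣ →* G
  smul : ∀ (c : Kˣ) (v : V), ι c • v = (c : K) • v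
  normal : ι.range.Normal
  max : ∀ U : Subgroup G, U.Normal → (∀ a ∈ U, ∀ b ∈ U, a * b = b * a) → ι.range ≤ U →
    U ≤ ι.range

theorem exists_idem_pow {M : Type*} [Monoid M] [Finite M] (a : M) :
    ∃ n, 0 < n ∧ a ^ n * a ^ n = a ^ n := by
  obtain ⟨i, j, hij, e⟩ := Finite.exists_ne_map_eq_of_infinite fun n : ℕ => a ^ n
  wlog h : i < j generalizing i j
  · exact this j i hij.symm e.symm (by omega)
  obtain ⟨d, rfl⟩ := Nat.exists_eq_add_of_lt h
  have h1 : ∀ k, a ^ (i + k * (d + 1)) = a ^ i := fun k => by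
    induction k with
    | zero => simp
    | succ k ih =>
      rw [show i + (k + 1) * (d + 1) = k * (d + 1) + (i + d + 1) by ring, pow_add, ← e, ← pow_add,
        add_comm, ih]
  refine ⟨(i + 1) * (d + 1), by positivity, ?_⟩
  obtain ⟨t, ht⟩ : ∃ t, (i + 1) * (d + 1) = t + i := Nat.exists_eq_add_of_le' (by nlinarith)
  rw [← pow_add]
  nth_rewrite 1 [ht]
  rw [add_assoc, pow_add, h1, ← pow_add, ← ht]

variable {V : Type u} [AddCommGroup V]

theorem isField_of [Finite V] [Nontrivial V] {G : Subgroup (AddMonoid.End V)ˣ}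
    {K : Subring (AddMonoid.End V)} (hc : ∀ a ∈ K, ∀ b ∈ K, a * b = b * a)
    (hK : ∀ g ∈ G, ∀ a ∈ K, g.1 * a * g⁻¹.1 ∈ K) (hi : Irr G V) (hq : QPrim G V) : IsField K := by
  classical
  have : Finite (AddMonoid.End V) := DFunLike.finite _
  have : Nontrivial (AddMonoid.End V) := Module.nontrivial _ V
  have cm : ∀ (g : (AddMonoid.End V)ˣ) a b, g.1 * a * g⁻¹.1 * (g.1 * b * g⁻¹.1) =
      g.1 * (a * b) * g⁻¹.1 := fun g a b => by simp [mul_assoc]
  have nil : ∀ a ∈ K, IsNilpotent a → a = 0 := by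
    obtain ⟨v, hv, hmax⟩ := Set.Finite.exists_maximalFor
      (fun v : V => {a : AddMonoid.End V | a ∈ K ∧ a v = 0}) {v | v ≠ 0} (Set.toFinite _)
      (exists_ne 0)
    let U : AddSubgroup V :=
      { carrier := {w | ∀ a ∈ K, IsNilpotent a → a w = 0}
        zero_mem' := fun a _ _ => map_zero a
        add_mem' := fun h1 h2 a ha hn => by rw [map_add, h1 a ha hn, h2 a ha hn, add_zero]
        neg_mem' := fun h a ha hn => by rw [map_neg, h a ha hn, neg_zero] }
    have hU : v ∈ U := fun a ha ⟨n, hn⟩ => by_contra fun h0 => by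
      have h1 : ∀ k, (a ^ k) v ≠ 0 := fun k => by
        induction k with
        | zero => exact hv
        | succ k ih =>
          refine fun e => h0 (hmax ih (fun b hb => ⟨hb.1, ?_⟩) ⟨ha, by rw [pow_succ'] at e; exact e⟩).2
          change (b * a ^ k) v = 0
          rw [hc b hb.1 _ (pow_mem ha k)]
          exact (congrArg (a ^ k) hb.2).trans (map_zero _)
      exact h1 n (by rw [hn]; rfl)
    rcases hi U (fun g w hw a ha ⟨n, hn⟩ => by
      have := hw _ (hK _ (inv_mem g.2) a ha) ⟨n, by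
        have := Units.conj_pow g.1⁻¹ a n
        rw [this, hn, mul_zero, zero_mul]⟩
      exact (smul_eq_zero_iff_eq g⁻¹).1 this) with e | e
    · exact (hv (AddSubgroup.mem_bot.1 (e ▸ hU))).elim
    · exact fun a ha hn => AddMonoidHom.ext fun w => (e.ge (AddSubgroup.mem_top w) :) a ha hn
  obtain ⟨e, ⟨he, he0, hee⟩, hmin⟩ := Set.Finite.exists_minimalFor
    (fun e : AddMonoid.End V => AddMonoidHom.range e) {e | e ∈ K ∧ e ≠ 0 ∧ e * e = e}
    (Set.toFinite _) ⟨1, one_mem K, one_ne_zero, one_mul 1⟩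
  have h1 : ∀ f ∈ K, f * f = f → e * f = 0 ∨ e * f = e := fun f hf hff =>
    or_iff_not_imp_left.2 fun h0 => by
      have h2 : e * f * e = e * f := by rw [mul_assoc, hc f hf e he, ← mul_assoc, hee]
      have h3 : e * f * (e * f) = e * f := by rw [← mul_assoc, h2, mul_assoc, hff]
      have := hmin ⟨mul_mem he hf, h0, h3⟩ (by rintro _ ⟨v, rfl⟩; exact ⟨f v, rfl⟩)
      rw [← h2]
      refine AddMonoidHom.ext fun v => ?_
      obtain ⟨w, hw⟩ := this ⟨v, rfl⟩
      exact (congrArg (e * f) hw.symm).trans ((DFunLike.congr_fun h3 w).trans hw)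
  have h2 : e = 1 := (hq e (DFunLike.congr_fun hee) fun g => by
    rcases h1 _ (hK g g.2 e he) (by rw [cm, hee]) with h | h
    · refine Or.inr fun v => ?_
      rw [← mul_assoc, Units.mul_left_eq_zero] at h
      exact DFunLike.congr_fun h v
    · have k : g.1.1 * (e * (g.1⁻¹.1 * e * g.1⁻¹⁻¹.1)) * g.1⁻¹.1 = e := by
        rw [hc e he _ (hK g g.2 e he)] at h
        rw [← cm]
        simpa [mul_assoc] using h
      rcases h1 _ (hK _ (inv_mem g.2) e he) (by rw [cm, hee]) with h' | h' <;> rw [h'] at k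
      · exact (he0 (by simpa using k.symm)).elim
      · rw [Units.mul_inv_eq_iff_eq_mul] at k
        exact Or.inl (DFunLike.congr_fun k)).resolve_left he0
  refine ⟨exists_pair_ne _, fun a b => Subtype.ext (hc _ a.2 _ b.2), fun {a} ha => ?_⟩
  obtain ⟨n, hn, hi⟩ := exists_idem_pow a.1
  rcases h1 _ (pow_mem a.2 n) hi with h | h <;> rw [h2, one_mul] at h
  · exact (ha (Subtype.ext (nil _ a.2 ⟨n, h⟩))).elim
  · exact ⟨a ^ (n - 1), Subtype.ext (by
      change a.1 * a.1 ^ (n - 1) = 1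
      rw [← pow_succ', Nat.sub_add_cancel hn, h])⟩

theorem exists_scal {G : Type*} [Group G] [Finite G] [DistribMulAction G V] [Finite V]
    [Nontrivial V] (hs : Group.IsSolvable G) (hi : Irr G V) (hq : QPrim G V) :
    ∃ (K G' : Type u) (_ : Field K) (_ : Finite K) (_ : Module K V) (_ : Group G') (_ : Finite G')
      (_ : DistribMulAction G' V) (_ : FaithfulSMul G' V), Group.IsSolvable G' ∧
      Nonempty (Scal K G' V) ∧ (∀ g : G, ∃ g' : G', ∀ v : V, g • v = g' • v) ∧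
      ((Nat.card G).Coprime (Nat.card V) → (Nat.card G').Coprime (Nat.card V)) ∧
      (Odd (Nat.card G) → (∀ (g : G) (v : V), g • v = v) ∨ 3 < Nat.card K) := by
  have : Finite (AddMonoid.End V) := DFunLike.finite _
  let ρ := (DistribMulAction.toAddMonoidEnd G V).toHomUnits
  have hs0 : Group.IsSolvable ρ.range := Group.isSolvable_of_surjective ρ.rangeRestrict_surjective
  obtain ⟨U0, h01, h02, h03, h04⟩ : ∃ U0 : Subgroup (AddMonoid.End V)ˣ, U0 ≤ ρ.range ∧
      (∀ g ∈ ρ.range, ∀ a ∈ U0, g * a * g⁻¹ ∈ U0) ∧ (∀ a ∈ U0, ∀ b ∈ U0, a * b = b * a) ∧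
      (U0 = ⊥ → ρ.range = ⊥) := by
    by_cases h : ρ.range = ⊥
    · exact ⟨⊥, bot_le, fun g _ a ha => by simp [mem_bot.1 ha], fun a ha b _ => by
        simp [mem_bot.1 ha], fun _ => h⟩
    have := (nontrivial_iff_ne_bot _).2 h
    obtain ⟨M, hMn, hM0, hmin⟩ := H2.exists_minimal_normal ρ.range
    have hc := H2.isMulCommutative_of_minimal_normal hmin
    refine ⟨M.map ρ.range.subtype, map_subtype_le _, ?_, ?_, fun e => (hM0 ?_).elim⟩
    · rintro g hg _ ⟨a, ha, rfl⟩
      exact ⟨_, hMn.conj_mem a ha ⟨g, hg⟩, rfl⟩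
    · rintro _ ⟨a, ha, rfl⟩ _ ⟨b, hb, rfl⟩
      exact congrArg (fun x : M => x.1.1) (hc.is_comm.comm ⟨a, ha⟩ ⟨b, hb⟩)
    · exact (map_eq_bot_iff_of_injective _ Subtype.val_injective).1 e
  obtain ⟨G', ⟨g1, g2, g3, g4⟩, gmax⟩ := H2.exists_maximal_subgroup
    (fun H : Subgroup (AddMonoid.End V)ˣ => ρ.range ≤ H ∧ Group.IsSolvable H ∧
      ((Nat.card G).Coprime (Nat.card V) → (Nat.card H).Coprime (Nat.card V)) ∧
      ∀ g ∈ H, ∀ a ∈ U0, g * a * g⁻¹ ∈ U0)
    ⟨_, le_rfl, hs0, fun h => h.coprime_dvd_left (card_range_dvd ρ), h02⟩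
  obtain ⟨U, ⟨u1, u2, u3, u4⟩, umax⟩ := H2.exists_maximal_subgroup
    (fun U : Subgroup (AddMonoid.End V)ˣ => U0 ≤ U ∧ U ≤ G' ∧
      (∀ g ∈ G', ∀ a ∈ U, g * a * g⁻¹ ∈ U) ∧ ∀ a ∈ U, ∀ b ∈ U, a * b = b * a)
    ⟨_, le_rfl, h01.trans g1, g4, h03⟩
  let K := Subring.closure (Units.val '' (U : Set (AddMonoid.End V)ˣ))
  have hc : ∀ a ∈ K, ∀ b ∈ K, a * b = b * a := fun a ha b hb =>
    congrArg Subtype.val ((Subring.isMulCommutative_closure (by
      rintro _ ⟨a, ha, rfl⟩ _ ⟨b, hb, rfl⟩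
      exact congrArg Units.val (u4 a ha b hb))).is_comm.comm (⟨a, ha⟩ : K) ⟨b, hb⟩)
  have hK : ∀ g ∈ G', ∀ a ∈ K, g.1 * a * g⁻¹.1 ∈ K := fun g hg a ha => by
    induction ha using Subring.closure_induction with
    | mem x hx =>
      obtain ⟨x, hx, rfl⟩ := hx
      exact Subring.subset_closure ⟨_, u3 g hg x hx, rfl⟩
    | zero => simp
    | one => simp
    | add x y _ _ hx hy => rw [mul_add, add_mul]; exact add_mem hx hy
    | neg x _ hx => rw [mul_neg, neg_mul]; exact neg_mem hx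
    | mul x y _ _ hx hy => simpa [mul_assoc] using mul_mem hx hy
  let j : G → G' := fun g => ⟨ρ g, g1 ⟨g, rfl⟩⟩
  have hF := isField_of hc hK (fun W hW => hi W fun g => hW (j g))
    fun e he h => hq e he fun g => h (j g)
  let _ := hF.toField
  let ι : Kˣ →* (AddMonoid.End V)ˣ := Units.map K.subtype.toMonoidHom
  have hι : ∀ a, a ∈ ι.range ↔ a.1 ∈ K := fun a => ⟨by rintro ⟨c, rfl⟩; exact c.1.2, fun h =>
    ⟨Units.mk0 ⟨a.1, h⟩ fun e => by
      obtain ⟨v, hv⟩ := exists_ne (0 : V)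
      exact hv ((smul_eq_zero_iff_eq a).1 (DFunLike.congr_fun (congrArg Subtype.val e) v)),
      Units.ext rfl⟩⟩
  have hn : ∀ g ∈ G', ∀ a ∈ ι.range, g * a * g⁻¹ ∈ ι.range := fun g hg a ha =>
    (hι _).2 (hK g hg _ ((hι _).1 ha))
  have hn' : G' ≤ normalizer (ι.range : Set _) := fun g hg => mem_normalizer_fintype (hn g hg)
  have hU : U ≤ ι.range := fun a ha => (hι a).2 (Subring.subset_closure ⟨a, ha, rfl⟩)
  have hcm : ∀ a ∈ ι.range, ∀ b ∈ ι.range, a * b = b * a := fun a ha b hb =>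
    Units.ext (hc _ ((hι a).1 ha) _ ((hι b).1 hb))
  have hcard : Nat.card ι.range ∣ Nat.card K - 1 := Nat.card_units K ▸ card_range_dvd ι
  have hle : ι.range ≤ G' := le_sup_left.trans (gmax (ι.range ⊔ G') ⟨g1.trans le_sup_right,
    H46.sol_sup hn' (Group.isSolvable_of_comm fun a b => Subtype.ext (hcm a a.2 b b.2)) g2,
    fun h => Nat.Coprime.coprime_dvd_left (H46.card_sup_dvd hn') (Nat.Coprime.mul_left (by
      rw [Module.natCard_eq_pow_finrank (K := K) (V := V)]
      exact ((Nat.coprime_self_sub_left Nat.card_pos).2 (Nat.coprime_one_left _)).coprime_dvd_left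
        hcard |>.pow_right _) (g3 h)),
    fun g hg a ha => (mem_normalizer_iff.1 ((sup_le (a := ι.range) (b := G') (c := normalizer (U0 : Set _))
      (fun c hc => mem_normalizer_fintype fun b hb => by
        rwa [hcm c hc b (hU (u1 hb)), mul_inv_cancel_right])
      fun c hc => mem_normalizer_fintype (g4 c hc)) hg) a).1 ha⟩ le_sup_right).le
  have hUe : ι.range = U := umax _ ⟨u1.trans hU, hle, hn, hcm⟩ hU
  have hmem : ∀ a : G', a ∈ (ι.codRestrict G' fun c => hle ⟨c, rfl⟩).range ↔ a.1 ∈ U := fun a => by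
    rw [← hUe]
    exact exists_congr fun c => Subtype.ext_iff
  refine ⟨K, G', inferInstance, inferInstance, inferInstance, inferInstance, inferInstance,
    inferInstance, inferInstance, g2, ⟨⟨ι.codRestrict G' fun c => hle ⟨c, rfl⟩, fun _ _ => rfl,
      ⟨fun a ha g => (hmem _).2 (u3 g g.2 a ((hmem a).1 ha))⟩, fun M hM hc' hle' a ha => ?_⟩⟩,
    fun g => ⟨j g, fun _ => rfl⟩, g3, fun ho => or_iff_not_imp_left.2 fun h => ?_⟩
  · have h5 : U ≤ M.map G'.subtype := fun b hb => ⟨⟨b, u2 hb⟩, hle' ((hmem _).2 hb), rfl⟩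
    rw [hmem, ← umax (M.map G'.subtype) ⟨u1.trans h5, map_subtype_le _, ?_, ?_⟩ h5]
    · exact ⟨a, ha, rfl⟩
    · rintro g hg _ ⟨a, ha, rfl⟩
      exact ⟨_, hM.conj_mem a ha ⟨g, hg⟩, rfl⟩
    · rintro _ ⟨a, ha, rfl⟩ _ ⟨b, hb, rfl⟩
      exact congrArg Subtype.val (hc' a ha b hb)
  · have h5 : Nat.card U0 ≠ 1 := fun e => h fun g v => by
      have : ρ g = 1 := mem_bot.1 (h04 (card_eq_one.1 e) ▸ ⟨g, rfl⟩)
      exact DFunLike.congr_fun (congrArg Units.val this) v
    have h6 := (card_dvd_of_le (u1.trans hU)).trans hcard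
    have h7 := ho.of_dvd_nat ((card_dvd_of_le h01).trans (card_range_dvd ρ))
    have h8 : 1 < Nat.card K := Finite.one_lt_card
    have := Nat.le_of_dvd (by omega) h6
    obtain ⟨k, hk⟩ := h7
    omega

end H33.Solv
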