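import Cfsg.Agent.H33.SolvDefs
import Cfsg.Agent.H83.BaerSuzuki

/-! Base sizes of solvable linear groups: counting fixed vectors. -/

set_option autoImplicit false

namespace H33.Solv

open Subgroup

variable {G V : Type*} [Group G] [AddCommGroup V] [DistribMulAction G V]

theorem fix_zpow {g : G} {v : V} (h : g • v = v) {k : G} (hk : k ∈ zpowers g) : k • v = v :=
  (zpowers_le (H := MulAction.stabilizer G v)).2 h hk

theorem card_fix_modEq [Finite V] {g : G} {s : ℕ} (hs : s.Prime) (hg : g ^ s = 1) :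
    Nat.card V ≡ Nat.card (fix V g) [MOD s] := by
  have := Fact.mk hs
  have hp : IsPGroup s (zpowers g) := fun ⟨x, k, hk⟩ => ⟨1, Subtype.ext (by
    change x ^ s ^ 1 = 1
    rw [← hk, pow_one, ← zpow_natCast, ← zpow_mul, mul_comm, zpow_mul, zpow_natCast, hg, one_zpow])⟩
  rw [show Nat.card (fix V g) = Nat.card (MulAction.fixedPoints (zpowers g) V) from
    Nat.card_congr (Equiv.subtypeEquivRight fun v =>
      ⟨fun h k => fix_zpow h k.2, fun h => h ⟨g, mem_zpowers g⟩⟩)]
  exact hp.card_modEq_card_fixedPoints V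

theorem card_mul_le [Finite V] (A B : AddSubgroup V) :
    Nat.card A * Nat.card B ≤ Nat.card V * Nat.card (A ⊓ B : AddSubgroup V) := by
  have h1 := AddSubgroup.relIndex_mul_relIndex ⊥ (A ⊓ B) B bot_le inf_le_right
  have h2 := AddSubgroup.card_mul_index A
  have h3 : A.relIndex B ≤ A.index := by
    rw [← AddSubgroup.relIndex_top_right]
    exact AddSubgroup.relIndex_le_of_le_right le_top (by
      rw [AddSubgroup.relIndex_top_right]; exact AddSubgroup.index_ne_zero_of_finite)
  rw [AddSubgroup.relIndex_bot_left, AddSubgroup.relIndex_bot_left,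
    AddSubgroup.inf_relIndex_right] at h1
  rw [← h1, ← h2]
  calc _ = Nat.card A * A.relIndex B * Nat.card (A ⊓ B : AddSubgroup V) := by ring
    _ ≤ _ := by gcongr

theorem card_le_ker_mul [Finite V] {W : Type*} [AddCommGroup W] [Finite W] (f : V →+ W)
    {A : AddSubgroup V} {B : AddSubgroup W} (hA : f.ker ≤ A) (hB : f.range ≤ B) :
    Nat.card V ≤ Nat.card A * Nat.card B := by
  rw [← AddSubgroup.card_mul_index f.ker, AddSubgroup.index_ker]
  exact Nat.mul_le_mul (AddSubgroup.card_le_of_le hA) (AddSubgroup.card_le_of_le hB)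

theorem card_le_sq_fix [Finite V] (h2 : ∀ w : V, 2 • w = 0) {t : G} (ht : t * t = 1) :
    Nat.card V ≤ Nat.card (fix V t) * Nat.card (fix V t) := by
  refine card_le_ker_mul (DistribSMul.toAddMonoidHom V t - AddMonoidHom.id V)
    (fun v hv => sub_eq_zero.1 hv) ?_
  rintro _ ⟨v, rfl⟩
  change t • (t • v - v) = t • v - v
  rw [smul_sub, ← mul_smul, ht, one_smul, ← sub_eq_zero, ← h2 (v - t • v), two_nsmul]
  abel

theorem card_fix_conj (g x : G) : Nat.card (fix V (x * g * x⁻¹)) = Nat.card (fix V g) :=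
  Nat.card_congr ((MulAction.toPerm x⁻¹).subtypeEquiv fun v => by
    change (x * g * x⁻¹) • v = v ↔ g • x⁻¹ • v = x⁻¹ • v
    rw [mul_smul, mul_smul, eq_inv_smul_iff])

/-- A normal `p`-subgroup acts trivially on a completely reducible module of characteristic `p`. -/
theorem CR.normal_p [Finite V] (h : CR G V) {p : ℕ} (hp : p.Prime) (hV : ∀ w : V, p • w = 0)
    {N : Subgroup G} (hN : N.Normal) (hP : IsPGroup p N) : ∀ a ∈ N, ∀ v : V, a • v = v := by
  have := Fact.mk hp
  let U : AddSubgroup V := ⨅ a ∈ N, fix V a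
  have hU : ∀ v, v ∈ U ↔ ∀ a ∈ N, a • v = v := fun v => by simp [U, mem_fix]
  obtain ⟨W, hW, h1, h2⟩ := h U fun g v hv => (hU _).2 fun a ha => by
    have := (hU _).1 hv _ (hN.conj_mem a ha g⁻¹)
    rwa [mul_smul, mul_smul, inv_smul_eq_iff, inv_inv] at this
  suffices W = ⊥ by
    rw [this, sup_bot_eq] at h2
    exact fun a ha v => (hU v).1 (h2 ▸ trivial) a ha
  by_contra h0
  let _ := subAct W hW
  obtain ⟨w, hw, hw0⟩ := (AddSubgroup.bot_or_exists_ne_zero W).resolve_left h0
  have hd : p ∣ Nat.card W := by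
    have : addOrderOf (⟨w, hw⟩ : W) = p := addOrderOf_eq_prime (Subtype.ext (hV w))
      fun e => hw0 (congrArg Subtype.val e)
    exact this ▸ addOrderOf_dvd_natCard _
  obtain ⟨b, hb, hb0⟩ := hP.exists_fixed_point_of_prime_dvd_card_of_fixed_point W hd
    (a := 0) fun a => smul_zero a
  have : (b : V) ∈ U ⊓ W := ⟨(hU _).2 fun a ha => congrArg Subtype.val (hb ⟨a, ha⟩), b.2⟩
  rw [h1] at this
  exact hb0 (Subtype.ext (AddSubgroup.mem_bot.1 this).symm)

/-- An involution acting on a faithful completely reducible module of characteristic two inverts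
an element of odd prime order. -/
theorem CR.inverted [Finite G] [Finite V] [FaithfulSMul G V] (h : CR G V) (hV : ∀ w : V, 2 • w = 0)
    {t : G} (ht : t * t = 1) (h1 : t ≠ 1) : ∃ k g, k ∈ zpowers (t * (g * t * g⁻¹)) ∧
      (orderOf k).Prime ∧ orderOf k ≠ 2 ∧ t * k * t⁻¹ = k⁻¹ :=
  H83.exists_inverted_odd_prime ht fun hP => h1 (eq_of_smul_eq_smul (α := V) fun v => by
    rw [one_smul]
    exact h.normal_p Nat.prime_two hV inferInstance hP t (subset_normalClosure rfl) v)

theorem exists_prime_pow [Finite G] {g : G} (h : g ≠ 1) :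
    ∃ k ∈ zpowers g, (orderOf k).Prime := by
  obtain ⟨p, hp, hd⟩ := Nat.exists_prime_and_dvd (mt orderOf_eq_one_iff.1 h)
  refine ⟨g ^ (orderOf g / p), pow_mem (mem_zpowers g) _, ?_⟩
  rwa [orderOf_pow_orderOf_div (orderOf_pos g).ne' hd]

end H33.Solv
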