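import Cfsg.Agent.H33.SolvDefs

/-! Base sizes of solvable linear groups: rigid colourings of vector spaces over prime fields. -/

set_option autoImplicit false

namespace H33.Solv

universe u

/-- Functions of degree at most two. -/
def Quad {W M : Type*} [AddCommGroup W] [AddCommGroup M] (Q : W → M) : Prop :=
  Q 0 = 0 ∧ ∀ a b c, Q (a + b + c) + Q a + Q b + Q c = Q (a + b) + Q (a + c) + Q (b + c)

theorem Quad.exists_polar {W M : Type*} [AddCommGroup W] [AddCommGroup M] {Q : W → M}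
    (h : Quad Q) : ∃ B : W →+ W →+ M, (∀ a b, B a b = B b a) ∧
      ∀ a b, Q (a + b) = Q a + Q b + B a b := by
  refine ⟨AddMonoidHom.mk' (fun a => AddMonoidHom.mk' (fun b => Q (a + b) - Q a - Q b)
    fun b c => ?_) fun a b => AddMonoidHom.ext fun c => ?_, fun a b => ?_, fun a b => ?_⟩
  · rw [← add_assoc]
    linear_combination (norm := abel) h.2 a b c
  · change Q _ - _ - _ = Q _ - _ - _ + (Q _ - _ - _)
    linear_combination (norm := abel) h.2 a b c
  · change Q _ - _ - _ = Q _ - _ - _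
    rw [add_comm, sub_right_comm]
  · change _ = _ + (Q _ - _ - _)
    abel

variable {m r : ℕ}

/-- The standard basis. -/
def bs (r : ℕ) (i : Fin m) : Fin m → ZMod r := Pi.single i 1

/-- The partial sums. -/
def ps (r : ℕ) (k : Fin m) : Fin m → ZMod r := fun i => if i ≤ k then 1 else 0

theorem bs_apply (i j : Fin m) : bs r i j = if j = i then 1 else 0 := Pi.single_apply _ _ _

theorem mem_of_bs [NeZero r] {U : AddSubgroup (Fin m → ZMod r)} (h : ∀ i, bs r i ∈ U)
    (w : Fin m → ZMod r) : w ∈ U := by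
  have : w = ∑ i, (w i).val • bs r i := by
    ext j
    simp [bs_apply, -ZMod.natCast_val, ZMod.natCast_zmod_val]
  rw [this]
  exact sum_mem fun i _ => nsmul_mem (h i) _

theorem hom_ext [NeZero r] {M : Type*} [AddCommGroup M] {f : (Fin m → ZMod r) →+ M}
    (h : ∀ i, f (bs r i) = 0) (w : Fin m → ZMod r) : f w = 0 := mem_of_bs (U := f.ker) h w

theorem tau_ps [Fact r.Prime] {h : (Fin m → ZMod r) →+ (Fin m → ZMod r)} {τ : Fin m → Fin m}
    (hτ : Function.Injective τ) (e : ∀ i, h (bs r i) = bs r (τ i)) :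
    (∀ w i, h w (τ i) = w i) ∧ ∀ k j, h (ps r k) = ps r j → ∀ i, τ i ≤ k ↔ i ≤ k := by
  have h1 : ∀ w i, h w (τ i) = w i := fun w i => sub_eq_zero.1 (hom_ext
    (f := (Pi.evalAddMonoidHom _ (τ i)).comp h - Pi.evalAddMonoidHom (fun _ => ZMod r) i)
    (fun j => by simp [e, bs_apply, hτ.eq_iff]) w)
  refine ⟨h1, fun k j e => ?_⟩
  have h2 : ∀ i, τ i ≤ j ↔ i ≤ k := fun i => by
    have := h1 (ps r k) i
    rw [e, ps, ps] at this
    by_cases h3 : τ i ≤ j <;> by_cases h4 : i ≤ k <;> simp [h3, h4] at this ⊢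
  have := Finset.card_bijective (s := Finset.Iic k) (t := Finset.Iic j) τ
    (Finite.injective_iff_bijective.1 hτ) fun i => by simp [h2]
  rw [Fin.card_Iic, Fin.card_Iic, add_left_inj, Fin.val_inj] at this
  exact this ▸ h2

theorem tau_fix {τ : Fin (m + 2) → Fin (m + 2)}
    (h : ∀ k, 0 < k → k < Fin.last _ → ∀ i, τ i ≤ k ↔ i ≤ k) :
    (∀ i, 1 < i → τ i = i) ∧ ∀ i ≤ 1, τ i ≤ 1 := by
  have h1 : ∀ k, 0 < k → ∀ i, τ i ≤ k ↔ i ≤ k := fun k hk i =>
    (Fin.le_last k).eq_or_lt.elim (fun e => by simp [e, Fin.le_last]) fun e => h k hk e i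
  refine ⟨fun i hi => ?_, fun i hi => (h1 1 Fin.one_pos' i).2 hi⟩
  have e1 := (h1 i (Fin.one_pos'.trans hi) i).2 le_rfl
  have hi' : 1 < i.1 := hi
  have e2 := h1 ⟨i.1 - 1, by omega⟩ (Fin.lt_def.2 (by simp; omega)) i
  simp only [Fin.le_def] at e1 e2
  exact Fin.ext (by omega)

theorem bs_inj [Fact r.Prime] {i j : Fin m} (h : bs r i = bs r j) : i = j := by
  have := congrFun h i
  rw [bs_apply, bs_apply, if_pos rfl] at this
  exact by_contra fun e => by simp [e] at this

theorem bs_ne [Fact r.Prime] (i : Fin m) : bs r i ≠ 0 := fun h => by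
  simpa [bs_apply] using congrFun h i

theorem col_odd_big [Fact r.Prime] (ho : (-1 : ZMod r) ≠ 1) :
    ∃ (Y : (Fin (m + 2) → ZMod r) → Prop) (e : Fin (m + 2) → ZMod r), ¬ Y e ∧
      (∀ h : (Fin (m + 2) → ZMod r) →+ (Fin (m + 2) → ZMod r), Function.Injective h →
        (∀ w ≠ 0, Y (h w) ↔ Y w) → (h e = e → ∀ w, h w = w) ∧ h (h e) = e) ∧
      ∀ (M : Type u) [AddCommGroup M] (Q : (Fin (m + 2) → ZMod r) → M), Quad Q →
        (∀ x : M, 2 • x = 0 → x = 0) → (∀ w, ¬ Y w → Q w = 0) → ∀ w, Q w = 0 := by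
  let P := fun w : Fin (m + 2) → ZMod r =>
    ∃ k, 0 < k ∧ k < Fin.last _ ∧ (w = ps r k ∨ w = -ps r k)
  let Y := fun w => (∃ i, w = bs r i) ∨ P w
  have n0 : (-1 : ZMod r) ≠ 0 := by simp
  have hP : ∀ w, P w → w (Fin.last _) = 0 ∧ w 0 ≠ 0 ∧ w 1 ≠ 0 ∧ ∀ i, w i = 0 ∨ w i = w 0 := by
    rintro _ ⟨k, h0, h1, rfl | rfl⟩ <;>
      refine ⟨by simp [ps, h1.ne], by simp [ps], by simp [ps, Fin.one_le_of_ne_zero h0.ne'],
        fun i => ?_⟩ <;> by_cases h : i ≤ k <;> simp [ps, h]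
  have hb : ∀ i j : Fin (m + 2), bs r i j ≠ -1 := fun i j => by
    rw [bs_apply]; split_ifs; exacts [ho.symm, n0.symm]
  have y1 : ∀ i, ¬ Y (-bs r i) := by
    rintro i (⟨j, e⟩ | e)
    · exact hb j i (by rw [← e]; simp [bs_apply])
    · obtain ⟨-, e0, e1, -⟩ := hP _ e
      simp only [Pi.neg_apply, bs_apply, ne_eq, neg_eq_zero, ite_eq_right_iff, one_ne_zero,
        imp_false, not_not] at e0 e1
      exact zero_ne_one (e0.trans e1.symm)
  have y2 : ∀ i j, i ≠ j → ¬ Y (bs r i - bs r j) := by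
    rintro i j hij (⟨k, e⟩ | e)
    · exact hb k j (by rw [← e]; simp [bs_apply, hij.symm])
    · obtain ⟨-, -, -, e⟩ := hP _ e
      have e1 := e i
      have e2 := e j
      generalize (bs r i - bs r j) 0 = x at e1 e2
      simp only [Pi.sub_apply, bs_apply, hij, hij.symm, if_true, if_false, sub_zero, zero_sub,
        one_ne_zero, n0, false_or] at e1 e2
      exact ho (e2.trans e1.symm)
  have l0 : (0 : Fin (m + 2)) ≠ Fin.last _ := Fin.last_pos.ne
  have y3 : ¬ Y (bs r 0 + bs r (Fin.last _)) := by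
    rintro (⟨k, e⟩ | e)
    · have e1 := congrFun e 0
      have e2 := congrFun e (Fin.last _)
      simp only [Pi.add_apply, bs_apply, l0, l0.symm, if_true, if_false, add_zero, zero_add,
        left_eq_ite_iff, one_ne_zero, imp_false, not_not] at e1 e2
      exact l0 (e1.trans e2.symm)
    · simpa [bs_apply, l0.symm] using (hP _ e).1
  have y4 : ¬ Y (-(bs r 0 + bs r (Fin.last _))) := by
    rintro (⟨k, e⟩ | e)
    · exact hb k 0 (by rw [← e]; simp [bs_apply, l0])
    · simpa [bs_apply, l0.symm] using (hP _ e).1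
  have pn : ∀ w, P w → P (-w) := by
    rintro _ ⟨k, h0, h1, rfl | rfl⟩
    exacts [⟨k, h0, h1, Or.inr rfl⟩, ⟨k, h0, h1, Or.inl (neg_neg _)⟩]
  refine ⟨Y, -bs r 0, y1 0, fun h hi hY => ?_, fun M _ Q hQ t2 hY => ?_⟩
  · have h1 : ∀ i, ∃ j, h (bs r i) = bs r j := fun i =>
      ((hY _ (bs_ne i)).2 (Or.inl ⟨i, rfl⟩)).resolve_right fun e =>
        y1 i ((hY _ (neg_ne_zero.2 (bs_ne i))).1 (Or.inr (by rw [map_neg]; exact pn _ e)))
    choose τ hτ using h1
    have hτi : Function.Injective τ := fun i j e => bs_inj (hi (by rw [hτ, hτ, e]))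
    obtain ⟨h2, h3⟩ := tau_ps hτi hτ
    obtain ⟨h4, h5⟩ := tau_fix (τ := τ) fun k k0 k1 => by
      have hk : P (-ps r k) := ⟨k, k0, k1, Or.inr rfl⟩
      have hk0 : -ps r k ≠ 0 := fun e => (hP _ hk).2.1 (congrFun e 0)
      have e0 := h2 (ps r k) 0
      rw [show ps r k 0 = 1 by simp [ps]] at e0
      rcases (hY _ hk0).2 (Or.inr hk) with ⟨j, e⟩ | ⟨j, -, -, e | e⟩ <;> rw [map_neg] at e
      · exact (hb j (τ 0) (by rw [← e, Pi.neg_apply, e0])).elim
      · have := congrFun e (τ 0)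
        rw [Pi.neg_apply, e0, ps] at this
        split_ifs at this
        exacts [(ho this).elim, (n0 this).elim]
      · exact h3 k j (neg_injective e)
    have h6 : ∀ i : Fin (m + 2), i ≤ 1 → i = 0 ∨ i = 1 := fun i hi => by
      simp only [Fin.le_def, Fin.ext_iff, Fin.val_one, Fin.val_zero] at hi ⊢
      omega
    have h7 := h6 _ (h5 0 zero_le_one)
    have h8 := h6 _ (h5 1 le_rfl)
    have h9 : τ 0 ≠ τ 1 := hτi.ne zero_ne_one
    refine ⟨fun e w => sub_eq_zero.1 (hom_ext (f := h - AddMonoidHom.id _) (fun i => ?_) w), ?_⟩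
    · rw [map_neg, hτ, neg_inj] at e
      have e0 := bs_inj e
      have : τ i = i := (le_or_gt i 1).elim (fun hi => by grind) (h4 i)
      simp [hτ, this]
    · rw [map_neg, hτ, map_neg, hτ, show τ (τ 0) = 0 by grind]
  · obtain ⟨B, hs, hB⟩ := hQ.exists_polar
    let l : (Fin (m + 2) → ZMod r) →+ M := AddMonoidHom.mk' (fun a => 2 • Q a - B a a) fun a b => by
      simp only [hB, map_add, AddMonoidHom.add_apply, hs b a]
      abel
    have hT : ∀ w, Q w = 0 → Q (-w) = 0 → B w w = 0 := fun w e1 e2 => by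
      have := hB w (-w)
      rw [add_neg_cancel, hQ.1, e1, e2, map_neg] at this
      simpa using this
    have hl : ∀ w, ¬ Y w → ¬ Y (-w) → l w = 0 := fun w e1 e2 => by
      change 2 • Q w - B w w = 0
      rw [hT w (hY w e1) (hY _ e2), hY w e1]; simp
    have l1 : ∀ i, l (bs r i) = l (bs r 0) := fun i => by
      by_cases e : i = 0
      · rw [e]
      · rw [← sub_eq_zero, ← map_sub]
        exact hl _ (y2 _ _ e) (by rw [neg_sub]; exact y2 _ _ (Ne.symm e))
    have l2 : l (bs r 0) = 0 := t2 _ (by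
      rw [two_nsmul]; nth_rewrite 2 [← l1 (Fin.last _)]; rw [← map_add]; exact hl _ y3 y4)
    have l3 : ∀ w, 2 • Q w = B w w := fun w =>
      sub_eq_zero.1 (hom_ext (f := l) (fun i => (l1 i).trans l2) w)
    have q1 : ∀ i, B (bs r i) (bs r i) = 0 := fun i => by
      have := l3 (-bs r i)
      rw [hY _ (y1 i)] at this
      simpa using this.symm
    have q2 : ∀ i j, B (bs r i) (bs r j) = 0 := fun i j => by
      by_cases e : i = j
      · rw [e, q1]
      · have := l3 (bs r i - bs r j)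
        rw [hY _ (y2 i j e)] at this
        simp only [map_sub, AddMonoidHom.sub_apply, q1, hs (bs r j) (bs r i)] at this
        exact t2 _ (by linear_combination (norm := abel) this)
    exact fun w => t2 _ (by
      rw [l3]; exact hom_ext (fun j => by rw [hs]; exact hom_ext (q2 j) w) w)

theorem three : ∀ w : Fin 1 → ZMod 3, w = 0 ∨ w = bs 3 0 ∨ w = -bs 3 0 := by decide

theorem col_odd (hr : r.Prime) (ho : Odd r) (m : ℕ) :
    ∃ (Y : (Fin m → ZMod r) → Prop) (e : Fin m → ZMod r), ¬ Y e ∧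
      (∀ h : (Fin m → ZMod r) →+ (Fin m → ZMod r), Function.Injective h →
        (∀ w ≠ 0, Y (h w) ↔ Y w) → (h e = e → ∀ w, h w = w) ∧ h (h e) = e) ∧
      ∀ (M : Type u) [AddCommGroup M] (Q : (Fin m → ZMod r) → M), Quad Q →
        (∀ x : M, 2 • x = 0 → x = 0) → (∀ w, ¬ Y w → Q w = 0) → ∀ w, Q w = 0 := by
  have := Fact.mk hr
  have h2 : (-1 : ZMod r) ≠ 1 := by
    have := Fact.mk (lt_of_le_of_ne hr.two_le fun e => by rw [← e] at ho; exact absurd ho (by decide))
    exact ZMod.neg_one_ne_one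
  rcases m with _ | _ | m
  · exact ⟨fun _ => False, 0, id, fun h _ _ => ⟨fun _ _ => Subsingleton.elim _ _,
      Subsingleton.elim _ _⟩, fun M _ Q _ _ h w => h w id⟩
  · have ext : ∀ h : (Fin 1 → ZMod r) →+ (Fin 1 → ZMod r), h (bs r 0) = bs r 0 → ∀ w, h w = w :=
      fun h e w => sub_eq_zero.1 (hom_ext (f := h - AddMonoidHom.id _) (fun i => by
        rw [Subsingleton.elim i 0]; exact sub_eq_zero.2 e) w)
    by_cases h3 : r = 3
    · subst h3
      refine ⟨fun _ => False, bs 3 0, id, fun h hi _ => ⟨ext h, ?_⟩, fun M _ Q _ _ h w => h w id⟩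
      rcases three (h (bs 3 0)) with e | e | e
      · exact (bs_ne 0 (hi (e.trans (map_zero h).symm))).elim
      · rw [e, e]
      · rw [e, map_neg, e, neg_neg]
    have n1 : -bs r (0 : Fin 1) ≠ bs r 0 := fun e => h2 (by simpa [bs_apply] using congrFun e 0)
    have n2 : -bs r (0 : Fin 1) + -bs r 0 ≠ bs r 0 := fun e => h3 (by
      have := congrFun e 0
      simp only [Pi.add_apply, Pi.neg_apply, bs_apply, if_true] at this
      refine ((Nat.prime_dvd_prime_iff_eq hr Nat.prime_three).1 ((ZMod.natCast_eq_zero_iff 3 r).1 ?_))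
      push_cast
      linear_combination -this)
    refine ⟨(· = bs r 0), -bs r 0, n1, fun h _ hY => ?_, fun M _ Q hQ _ hY w => ?_⟩
    · have := ext h ((hY _ (bs_ne 0)).2 rfl)
      exact ⟨fun _ => this, by rw [this, this]⟩
    · refine by_contra fun e => e ?_
      obtain rfl : w = bs r 0 := by_contra fun e' => e (hY w e')
      have := hQ.2 (-bs r 0) (-bs r 0) (bs r 0)
      simpa [hY _ n1, hY _ n2, hQ.1] using this
  · exact col_odd_big h2

theorem col_two (m : ℕ) : ∃ χ : (Fin m → ZMod 2) → ℕ, (∀ w, χ w < 4) ∧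
    (∀ h : (Fin m → ZMod 2) →+ (Fin m → ZMod 2), Function.Injective h →
      (∀ w ≠ 0, χ (h w) = χ w) → ∀ w, h w = w) ∧
    (∀ U A B : AddSubgroup (Fin m → ZMod 2), U ≤ B → A ⊓ B ≤ U → (∀ w ≠ 0, χ w = 1 → w ∈ A) →
      (∀ w ≠ 0, χ w = 2 → w ∈ B) → (∀ w ≠ 0, χ w = 3 → w ∈ U) → ∀ w, w ∈ U) ∧
    ∀ (M : Type u) [AddCommGroup M] (Q : (Fin m → ZMod 2) → M), Quad Q →
      (∀ w, χ w ≠ 0 → Q w = 0) → ∀ w, Q w = 0 := by
  classical
  have ext : ∀ h : (Fin m → ZMod 2) →+ (Fin m → ZMod 2), (∀ i, h (bs 2 i) = bs 2 i) →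
      ∀ w, h w = w := fun h e w => sub_eq_zero.1 (hom_ext (f := h - AddMonoidHom.id _)
        (fun i => sub_eq_zero.2 (e i)) w)
  have aa : ∀ w : Fin m → ZMod 2, w + w = 0 := fun w => funext fun i => CharTwo.add_self_eq_zero _
  rcases m with _ | _ | _ | m
  · exact ⟨fun _ => 3, fun _ => Nat.lt_succ_self 3, fun _ _ _ _ => Subsingleton.elim _ _,
      fun U _ _ _ _ _ _ _ w => Subsingleton.elim 0 w ▸ zero_mem U,
      fun M _ Q _ h w => h w three_ne_zero⟩
  · refine ⟨fun _ => 3, fun _ => Nat.lt_succ_self 3, fun h hi _ => ext h fun i => ?_,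
      fun U _ _ _ _ _ _ h => mem_of_bs fun i => h _ (bs_ne i) rfl, fun M _ Q _ h w => h w three_ne_zero⟩
    exact ((by decide : ∀ (i : Fin 1) (w : Fin 1 → ZMod 2), w = 0 ∨ w = bs 2 i) i _).resolve_left
      fun e => bs_ne i (hi (e.trans (map_zero h).symm))
  · let χ : (Fin 2 → ZMod 2) → ℕ := fun w => if w = bs 2 0 then 1 else if w = bs 2 1 then 2 else 3
    refine ⟨χ, by decide, fun h _ hY => ext h fun i =>
      (by decide : ∀ i w, χ w = χ (bs 2 i) → w = bs 2 i) i _ (hY _ (bs_ne i)),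
      fun U A B h1 h2 hA hB hU => ?_, fun M _ Q _ h w => h w ((by decide : ∀ w, χ w ≠ 0) w)⟩
    have e1 := hU (bs 2 0 + bs 2 1) (by decide) (by decide)
    have e2 : bs 2 0 ∈ U := h2 ⟨hA _ (by decide) (by decide),
      (add_mem_cancel_right (hB _ (by decide) (by decide))).1 (h1 e1)⟩
    exact mem_of_bs (Fin.forall_fin_two.2 ⟨e2, (add_mem_cancel_left e2).1 e1⟩)
  let χ : (Fin (m + 3) → ZMod 2) → ℕ := fun w =>
    if w = bs 2 0 then 0 else if ∃ i, w = bs 2 i then 1 else if ∃ k, w = ps 2 k then 2 else 3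
  have m2 : 2 % (m + 3) = 2 := Nat.mod_eq_of_lt (by omega)
  have two : ∀ (w : Fin (m + 3) → ZMod 2) i j, i ≠ j → w i = 1 → w j = 1 → ∀ k, w ≠ bs 2 k := by
    rintro _ i j hij e1 e2 k rfl
    simp only [bs_apply, ite_eq_left_iff, zero_ne_one, imp_false, not_not] at e1 e2
    exact hij (e1.trans e2.symm)
  have c0 : ∀ w, χ w = 0 ↔ w = bs 2 0 := fun w => by simp only [χ]; split_ifs <;> simp_all
  have c1 : ∀ i ≠ 0, χ (bs 2 i) = 1 := fun i hi => by
    simp only [χ]; rw [if_neg fun e => hi (bs_inj e), if_pos ⟨i, rfl⟩]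
  have c2 : ∀ k, 0 < k → χ (ps 2 k) = 2 := fun k hk => by
    have := two (ps 2 k) 0 1 zero_ne_one (by simp [ps]) (by simp [ps, Fin.one_le_of_ne_zero hk.ne'])
    simp only [χ]; rw [if_neg (this 0), if_neg (not_exists.2 this), if_pos ⟨k, rfl⟩]
  refine ⟨χ, fun w => by simp only [χ]; split_ifs <;> decide, fun h hi hY => ?_,
    fun U A B h1 h2 hA hB hU => ?_, fun M _ Q hQ h w => ?_⟩
  · have h0 := (c0 _).1 ((hY _ (bs_ne 0)).trans ((c0 _).2 rfl))
    have h1 : ∀ i, ∃ j, h (bs 2 i) = bs 2 j := fun i => by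
      by_cases e : i = 0
      · exact ⟨0, e ▸ h0⟩
      · have := (hY _ (bs_ne i)).trans (c1 i e)
        simp only [χ] at this
        split_ifs at this <;> simp_all
    choose τ hτ using h1
    have hτi : Function.Injective τ := fun i j e => bs_inj (hi (by rw [hτ, hτ, e]))
    obtain ⟨h4, h5⟩ := tau_fix (τ := τ) fun k k0 _ => by
      have := (hY _ fun e => by simpa [ps] using congrFun e 0).trans (c2 k k0)
      simp only [χ] at this
      refine Exists.elim ?_ ((tau_ps hτi hτ).2 k)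
      split_ifs at this <;> simp_all
    have e0 : τ 0 = 0 := bs_inj ((hτ 0).symm.trans h0)
    have e1 := h5 1 le_rfl
    have e2 : τ 1 ≠ 0 := e0 ▸ hτi.ne one_ne_zero
    refine ext h fun i => by
      rw [hτ]
      congr 1
      refine (le_or_gt i 1).elim (fun hi => ?_) (h4 i)
      have : i = 0 ∨ i = 1 := by
        simp only [Fin.le_def, Fin.ext_iff, Fin.val_one, Fin.val_zero] at hi ⊢
        omega
      rcases this with rfl | rfl
      exacts [e0, le_antisymm e1 (Fin.one_le_of_ne_zero e2)]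
  · have k1 : ∀ i : Fin (m + 3), bs 2 i + bs 2 (Fin.last _) ∈ U := fun i => by
      by_cases e : i = Fin.last _
      · rw [e, aa]; exact zero_mem U
      have e1 : (bs 2 i + bs 2 (Fin.last _) : Fin (m + 3) → ZMod 2) (Fin.last _) = 1 := by simp [bs_apply, Ne.symm e]
      have := two (bs 2 i + bs 2 (Fin.last _)) _ _ e (by simp [bs_apply, e]) e1
      refine hU _ (fun e' => by rw [e'] at e1; exact zero_ne_one e1) ?_
      simp only [χ]
      rw [if_neg (this 0), if_neg (not_exists.2 this), if_neg]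
      rintro ⟨k, hk⟩
      have hk' : Fin.last _ ≤ k := by rw [hk] at e1; simpa [ps] using e1
      have a0 := congrFun hk 0
      have a1 := congrFun hk 1
      simp only [Pi.add_apply, bs_apply, ps, (Fin.le_last _).trans hk', if_true,
        show (0 : Fin (m + 3)) ≠ Fin.last _ from Fin.last_pos.ne,
        show (1 : Fin (m + 3)) ≠ Fin.last _ by simp [Fin.ext_iff], if_false, add_zero,
        ite_eq_left_iff, zero_ne_one, imp_false, not_not] at a0 a1
      exact zero_ne_one (a0.trans a1.symm)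
    have k2 : ps 2 (2 : Fin (m + 3)) = bs 2 0 + bs 2 1 + bs 2 2 := by
      ext i
      rcases i with ⟨_ | _ | _ | i, hi⟩ <;> simp [ps, bs_apply, Fin.ext_iff, Fin.le_def, m2]
    have k3 := hB (ps 2 2) (fun e => by simpa [ps] using congrFun e 0) (c2 _ (by simp [Fin.lt_def, m2]))
    have k4 : bs 2 (Fin.last _) ∈ U := h2 ⟨hA _ (bs_ne _) (c1 _ Fin.last_pos.ne'), by
      have := sub_mem (add_mem (add_mem (h1 (k1 0)) (h1 (k1 1))) (h1 (k1 2))) k3
      rw [k2] at this
      change _ ∈ B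
      convert this using 1
      linear_combination -aa (bs 2 (Fin.last _))⟩
    exact mem_of_bs fun i => (add_mem_cancel_right k4).1 (k1 i)
  · refine by_contra fun e => e ?_
    obtain rfl : w = bs 2 0 := (c0 w).1 (by_contra fun e' => e (h w e'))
    have k : ∀ w : Fin (m + 3) → ZMod 2, w 1 = 1 ∨ w 2 = 1 → Q w = 0 := fun w hw =>
      h w fun e => by
        rw [(c0 w).1 e] at hw
        simp [bs_apply, Fin.ext_iff, m2] at hw
    have := hQ.2 (bs 2 1) (bs 2 2) (bs 2 0 + bs 2 1 + bs 2 2)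
    rw [show bs 2 1 + bs 2 2 + (bs 2 0 + bs 2 1 + bs 2 2) = bs 2 (0 : Fin (m + 3)) by
      linear_combination aa (bs 2 1) + aa (bs 2 2), k (bs 2 1), k (bs 2 2), k (_ + _ + _),
      k (bs 2 1 + bs 2 2), k (bs 2 1 + _), k (bs 2 2 + _)] at this
    · simpa using this
    all_goals simp [bs_apply, Fin.ext_iff, m2]

end H33.Solv
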