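import Cfsg.Agent.H33.SolvAsm
import Cfsg.Agent.H33.SolvW

/-! Base sizes of solvable linear groups: the local construction at one prime. -/

set_option autoImplicit false

namespace H33.Solv

open Subgroup
open scoped commutatorElement

universe u

variable {G : Type u} [Group G] {Z N : Subgroup G}

/-- The displacement `a⁻¹ (g a g⁻¹)`. -/
def dp (g a : G) : G := a⁻¹ * (g * a * g⁻¹)

theorem dp_mul (g a b : G) : dp g (a * b) = dp g a * ⁅(dp g a)⁻¹, b⁻¹⁆ * dp g b := by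
  simp only [dp, commutatorElement_def]; group

theorem dp_inv (g a : G) : dp g a⁻¹ = ⁅a, (dp g a)⁻¹⁆ * (dp g a)⁻¹ := by
  simp only [dp, commutatorElement_def]; group

variable {X : Type*} [AddCommGroup X] [DistribMulAction G X]
  {V : Type*} [AddCommGroup V] [DistribMulAction G V]

namespace Dat

variable {h : NS Z N} {E D : ℕ → Subgroup G} {T : Set G} (d : Dat h E D T)
include d

theorem comm_mem {r : ℕ} (hr : r.Prime) {a b : G} (ha : a ∈ E r) (hb : b ∈ E r) : ⁅a, b⁆ ∈ D r :=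
  d.inter r hr _ (mul_mem (mul_mem (mul_mem ha hb) (inv_mem ha)) (inv_mem hb))
    (h.comm a (d.EN hr ha) b (d.EN hr hb))

theorem DC {r : ℕ} (hr : r.Prime) : D r ≤ E r ⊓ centralizer (D r : Set G) := fun a ha =>
  ⟨d.le r hr ha, fun b hb => d.comm r hr b hb a ha⟩

theorem sec [Finite G] {r : ℕ} (hr : r.Prime) : ∃ (m : ℕ) (π : G → Fin m → ZMod r),
    Sec (E r ⊓ centralizer (D r : Set G)) (E r) π :=
  exists_sec_pi hr (fun a ha b hb => d.DC hr (d.comm_mem hr ha hb)) (fun a ha c hc => by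
    rw [H9.conj_eq_commutatorElement_mul]
    exact mul_mem (d.DC hr (d.comm_mem hr ha hc.1)) hc) fun a ha =>
    d.DC hr (d.inter r hr _ (pow_mem ha r) ((d.es r hr).le ha).2)

theorem loc_triv {r : ℕ} (hr : r.Prime) (hE : E r ≤ centralizer (D r : Set G)) (h2 : E r ≤ D r)
    {P : G → Prop} (hP : ∀ g, P g → ∀ z ∈ Z, z * g = g * z) : Loc X (E r) (D r) T P :=
  ⟨0, fun _ _ _ _ _ => rfl, fun _ _ _ _ => by simp, fun g hg _ _ a ha =>
    hP g hg a ((d.es r hr).n1 ha fun b hb => hE ha b (h2 hb))⟩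

theorem loc_gen [Finite G] {r : ℕ} (hr : r.Prime) (hV : Fpf Z V) (hX : Fpf Z X) {x : V}
    (hx0 : x ≠ 0) (hx : ∀ k ∈ T, k • x = x)
    (dx : ∀ k ∈ E r ⊓ centralizer (D r : Set G), k • x = x → k ∈ D r)
    {W : Type} [AddCommGroup W] [Finite W] {π : G → W}
    (hπ : Sec (E r ⊓ centralizer (D r : Set G)) (E r) π) {χ : W → ℕ} {n : ℕ} (hχ : ∀ w, χ w < n)
    {u : ℕ → X} (u0 : u 0 = 0) (hu : ∀ i, ∀ k ∈ T, k • u i = u i)
    (orb : ∀ i < n, ∀ j < n, ∀ k ∈ E r ⊓ centralizer (D r : Set G), k • u i = u j → i = j)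
    {P : G → Prop} (hP : ∀ g, P g → (∀ z ∈ Z, z * g = g * z) ∧ (∀ i, g • u i = u i) ∧
      ∀ c ∈ E r ⊓ centralizer (D r : Set G), g • c • x = c • x)
    (rig : ∀ g, P g → ∀ f : W →+ W, Function.Injective f → (∀ a ∈ E r, f (π a) = π (g * a * g⁻¹)) →
      (∀ w ≠ 0, χ (f w) = χ w) → ∀ w, f w = w)
    (hom : ∀ F : W → G, (∀ w, F w ∈ E r ⊓ centralizer (D r : Set G)) →
      (∀ S : Subgroup G, D r ≤ S → ∃ U : AddSubgroup W, ∀ w, w ∈ U ↔ F w ∈ S) →
      (∀ w ≠ 0, F w • u (χ w) = u (χ w)) → ∀ w, F w ∈ D r)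
    (det : ∀ (M : Type u) [AddCommGroup M] (Q : W → M), Quad Q → (∀ y : M, r • y = 0) →
      (∀ w, χ w ≠ 0 → Q w = 0) → ∀ w, Q w = 0) : Loc X (E r) (D r) T P := by
  choose s hs es using hπ.surj
  have hn := (d.es r hr).normal
  refine ⟨fun a => s (π a) • u (χ (π a)), fun a ha b hb e => by
    beta_reduce
    rw [(hπ.eq_iff ha hb).2 (mem_inf.2 ⟨mul_mem (inv_mem ha) hb, e⟩)], fun a ha k hk => ?_,
    fun g hg hD hY => ?_⟩
  · have := (d.cent hr (mul_mem (inv_mem ha) (hs _))).2 ((hπ.eq_iff ha (hs _)).1 (es _).symm).2 k hk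
    rw [← mul_smul a⁻¹, ← mul_smul, this, mul_smul, hu _ k hk]
  obtain ⟨gZ, gu, gx⟩ := hP g hg
  have hD' : ∀ a ∈ D r, g⁻¹ * a * g ∈ D r := fun a ha => by
    have := (mem_normalizer_iff.1 (inv_mem (mem_normalizer_fintype hD)) a).1 ha
    rwa [inv_inv] at this
  obtain ⟨f, hf⟩ := hπ.exists_map (g := g) (fun a ha => hn.conj_mem a ha g) fun a ha =>
    ⟨hn.conj_mem a ha.1 g, fun b hb => by
      rw [show b * (g * a * g⁻¹) = g * (g⁻¹ * b * g * a) * g⁻¹ by group, ha.2 _ (hD' b hb)]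
      group⟩
  have hfi : Function.Injective f := Finite.injective_iff_surjective.2 fun w =>
    ⟨π (g⁻¹ * s w * g⁻¹⁻¹), by
      rw [hf _ (hn.conj_mem _ (hs w) _)]; nth_rewrite 2 [← es w]; congr 1; group⟩
  have key : ∀ w ≠ 0, ((s (f w))⁻¹ * (g * s w * g⁻¹)) • u (χ w) = u (χ (f w)) := fun w hw => by
    have := hY (s w) (hs w) fun e => hw (es w ▸ (hπ.zero _ (hs w)).2 ⟨hs w, e⟩)
    beta_reduce at this
    rw [← hf _ (hs w), es] at this
    rw [mul_smul, mul_smul, mul_smul, inv_smul_eq_iff.2 (gu _).symm, this, inv_smul_smul]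
  have hid := rig g hg f hfi hf fun w hw => (orb _ (hχ _) _ (hχ _) _
    ((hπ.eq_iff (hs _) (hn.conj_mem _ (hs w) g)).1 (by rw [es, ← hf _ (hs w), es])) (key w hw)).symm
  have hC : ∀ a ∈ E r, dp g a ∈ E r ⊓ centralizer (D r : Set G) := fun a ha =>
    (hπ.eq_iff ha (hn.conj_mem a ha g)).1 (by rw [← hf a ha, hid])
  have gx1 : g • x = x := by simpa using gx 1 (one_mem _)
  have hc : ∀ c ∈ E r ⊓ centralizer (D r : Set G), dp g c • x = x := fun c hc => by
    rw [dp, mul_smul, mul_smul, mul_smul, inv_smul_eq_iff.2 gx1.symm, gx c hc, inv_smul_smul]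
  have hF := hom (fun w => dp g (s w)) (fun w => hC _ (hs w)) (fun S hS => by
    let A : Subgroup G :=
      { carrier := {a | a ∈ E r ∧ dp g a ∈ S}
        one_mem' := ⟨one_mem _, by simp [dp]⟩
        mul_mem' := fun {a b} ha hb => ⟨mul_mem ha.1 hb.1, by
          rw [dp_mul]
          exact mul_mem (mul_mem ha.2
            (hS (d.comm_mem hr (inv_mem (hC a ha.1).1) (inv_mem hb.1)))) hb.2⟩
        inv_mem' := fun {a} ha => ⟨inv_mem ha.1, by
          rw [dp_inv]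
          exact mul_mem (hS (d.comm_mem hr ha.1 (inv_mem (hC a ha.1).1))) (inv_mem ha.2)⟩ }
    refine ⟨hπ.im A, fun w => ⟨?_, fun e => ⟨_, hs w, ⟨hs w, e⟩, es w⟩⟩⟩
    rintro ⟨a, ha, hA, e⟩
    have e' := (hπ.eq_iff ha (hs w)).1 (e.trans (es w).symm)
    have := A.mul_mem hA ⟨e'.1, hS (dx _ (hC _ e'.1) (hc _ e'))⟩
    rw [mul_inv_cancel_left] at this
    exact this.2) fun w hw => by simpa only [hid, dp] using key w hw
  have hsc : ∀ a ∈ E r, dp g a = dp g (s (π a)) * dp g ((s (π a))⁻¹ * a) := fun a ha => by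
    have e' := (hπ.eq_iff (hs _) ha).1 (es _)
    nth_rewrite 1 [← mul_inv_cancel_left (s (π a)) a]
    rw [dp_mul, commutatorElement_eq_one_iff_mul_comm.2
      ((inv_mem e'.2 : _ ∈ centralizer _) _ (inv_mem (hF _))), mul_one]
  have hFD : ∀ a ∈ E r, dp g a ∈ D r := fun a ha => by
    have e' := (hπ.eq_iff (hs _) ha).1 (es _)
    rw [hsc a ha]
    exact mul_mem (hF _) (dx _ (hC _ e'.1) (hc _ e'))
  obtain ⟨M, _, μ, hμ⟩ := exists_sec (Z := D r ⊓ MulAction.stabilizer G x) (N := D r)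
    (fun a ha b hb => by
      rw [commutatorElement_eq_one_iff_mul_comm.2 (d.comm r hr a ha b hb)]; exact one_mem _)
    fun a ha b hb => by rwa [d.comm r hr a ha b hb.1, mul_inv_cancel_right]
  have hQ : ∀ a ∈ E r, μ (dp g (s (π a))) = μ (dp g a) := fun a ha => by
    have e' := (hπ.eq_iff (hs _) ha).1 (es _)
    rw [hsc a ha, hμ.mul _ (hF _) _ (hFD _ e'.1),
      (hμ.zero _ (hFD _ e'.1)).2 ⟨hFD _ e'.1, hc _ e'⟩, add_zero]
  have hk : ∀ a ∈ E r, ∀ b ∈ E r, ⁅(dp g a)⁻¹, b⁻¹⁆ ∈ D r := fun a ha b hb =>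
    d.comm_mem hr (inv_mem (hC a ha).1) (inv_mem hb)
  have hm : ∀ a ∈ E r, ∀ b ∈ E r, μ (dp g (a * b)) =
      μ (dp g a) + μ ⁅(dp g a)⁻¹, b⁻¹⁆ + μ (dp g b) := fun a ha b hb => by
    rw [dp_mul, hμ.mul _ (mul_mem (hFD a ha) (hk a ha b hb)) _ (hFD b hb),
      hμ.mul _ (hFD a ha) _ (hk a ha b hb)]
  have h0 := det M (fun w => μ (dp g (s w))) ⟨by
    beta_reduce
    rw [← hπ.one, hQ 1 (one_mem _), ← hμ.one]; simp [dp], fun a b c => by
      beta_reduce
      obtain ⟨a, ha, rfl⟩ := hπ.surj a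
      obtain ⟨b, hb, rfl⟩ := hπ.surj b
      obtain ⟨c, hc, rfl⟩ := hπ.surj c
      rw [add_assoc (π a), ← hπ.mul b hb c hc, ← hπ.mul a ha _ (mul_mem hb hc), ← hπ.mul a ha b hb,
        ← hπ.mul a ha c hc, hQ _ (mul_mem ha (mul_mem hb hc)), hQ _ (mul_mem ha hb),
        hQ _ (mul_mem ha hc), hQ _ (mul_mem hb hc), hQ a ha, hQ b hb, hQ c hc,
        hm a ha _ (mul_mem hb hc), hm a ha b hb, hm a ha c hc, mul_inv_rev, comm_mul_right
          (h.cc (inv_mem (d.EN hr (hC a ha).1)) (inv_mem (d.EN hr hb)) (inv_mem (d.EN hr hc))),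
        hμ.mul _ (hk a ha c hc) _ (hk a ha b hb)]
      abel⟩ (fun y => by
    obtain ⟨a, ha, rfl⟩ := hμ.surj y
    rw [← hμ.pow ha, d.pow r hr a ha, hμ.one]) fun w hw => by
    refine (hμ.zero _ (hF w)).2 ⟨hF w, ?_⟩
    by_cases hw0 : w = 0
    · exact hc _ ((hπ.zero _ (hs w)).1 ((es w).trans hw0))
    obtain ⟨z, hz, e⟩ := d.t2 r hr _ (hF w)
    have e1 : dp g (s w) • u (χ w) = u (χ w) := by simpa only [hid, dp] using key w hw0
    have e2 := hu (χ w) _ e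
    rw [← h.cent _ (d.DN hr (hF w)) z hz, mul_smul, e1] at e2
    rw [(hX z hz _ e2).resolve_right fun e => hw (orb _ (hχ w) 0 ((Nat.zero_le _).trans_lt (hχ w))
      1 (one_mem _) (by rw [one_smul, e, u0])), mul_one] at e
    exact hx _ e
  have h1 : ∀ a ∈ E r, dp g a • x = x := fun a ha =>
    ((hμ.zero _ (hFD a ha)).1 ((hQ a ha).symm.trans (h0 _))).2
  intro a ha
  have h2 := (hV _ ((d.es r hr).n1 (hC a ha).1 fun b hb => by
    have := h1 _ (mul_mem ha (inv_mem hb))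
    rw [dp_mul, mul_smul, mul_smul, h1 _ (inv_mem hb), inv_inv,
      ← eq_inv_smul_iff, inv_smul_eq_iff.2 (h1 a ha).symm] at this
    have := commutatorElement_eq_one_iff_mul_comm.1 ((hV _ (h.comm _
      (inv_mem (d.EN hr (hC a ha).1)) _ (d.EN hr hb)) x this).resolve_right hx0)
    exact (Commute.inv_left_iff.1 this).symm) x (h1 a ha)).resolve_right hx0
  rw [dp, inv_mul_eq_one, eq_mul_inv_iff_mul_eq] at h2
  exact h2

theorem loc_two [Finite G] (hV : Fpf Z V) (hX : Fpf Z X) {x : V}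
    (hx0 : x ≠ 0) (hx : ∀ k ∈ T, k • x = x)
    (dx : ∀ k ∈ E 2 ⊓ centralizer (D 2 : Set G), k • x = x → k ∈ D 2)
    {u : ℕ → X} (u0 : u 0 = 0) (hu : ∀ i, ∀ k ∈ T, k • u i = u i)
    (orb : ∀ i < 4, ∀ j < 4, ∀ k ∈ E 2 ⊓ centralizer (D 2 : Set G), k • u i = u j → i = j)
    (h12 : ∀ k ∈ E 2 ⊓ centralizer (D 2 : Set G), (k • u 1 = u 1 ∨ k • u 1 = -u 1) →
      (k • u 2 = u 2 ∨ k • u 2 = -u 2) → k ∈ D 2)
    (h3 : ∀ k ∈ E 2 ⊓ centralizer (D 2 : Set G), k • u 3 = u 3 → k ∈ D 2)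
    (hD : ∀ i, ∀ k ∈ D 2, k • u i = u i ∨ k • u i = -u i)
    {P : G → Prop} (hP : ∀ g, P g → (∀ z ∈ Z, z * g = g * z) ∧ (∀ i, g • u i = u i) ∧
      ∀ c ∈ E 2 ⊓ centralizer (D 2 : Set G), g • c • x = c • x) : Loc X (E 2) (D 2) T P := by
  obtain ⟨m, π, hπ⟩ := d.sec Nat.prime_two
  obtain ⟨χ, c1, c2, c3, c4⟩ := col_two.{u} m
  refine d.loc_gen Nat.prime_two hV hX hx0 hx dx hπ c1 u0 hu orb hP (fun _ _ f hf _ => c2 f hf)
    (fun F hF hU hf => ?_) fun M _ Q hQ _ => c4 M Q hQ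
  let S : ℕ → Subgroup G := fun i =>
    { carrier := {k | k • u i = u i ∨ k • u i = -u i}
      one_mem' := Or.inl (one_smul _ _)
      mul_mem' := fun {a b} ha hb => by
        change (a * b) • u i = u i ∨ (a * b) • u i = -u i
        rcases ha with ha | ha <;> rcases hb with hb | hb <;> simp [mul_smul, ha, hb]
      inv_mem' := fun {a} ha => ha.imp (fun e => inv_smul_eq_iff.2 e.symm)
        fun e => inv_smul_eq_iff.2 (by rw [smul_neg, e, neg_neg]) }
  obtain ⟨U, hU0⟩ := hU _ le_rfl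
  obtain ⟨A, hA⟩ := hU (S 1) (hD 1)
  obtain ⟨B, hB⟩ := hU (S 2) (hD 2)
  exact fun w => (hU0 w).1 (c3 U A B (fun w e => (hB w).2 (hD 2 _ ((hU0 w).1 e)))
    (fun w e => (hU0 w).2 (h12 _ (hF w) ((hA w).1 e.1) ((hB w).1 e.2)))
    (fun w h0 e => (hA w).2 (Or.inl (e ▸ hf w h0))) (fun w h0 e => (hB w).2 (Or.inl (e ▸ hf w h0)))
    (fun w h0 e => (hU0 w).2 (h3 _ (hF w) (e ▸ hf w h0))) w)

theorem loc_odd [Finite G] {r : ℕ} (hr : r.Prime) (h2 : r ≠ 2) (hV : Fpf Z V) (hX : Fpf Z X) {x : V}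
    (hx0 : x ≠ 0) (hx : ∀ k ∈ T, k • x = x) {u v : X} (u0 : u ≠ 0) (hu : ∀ k ∈ T, k • u = u)
    (hv : ∀ k ∈ T, k • v = v)
    (ho : Odd (Nat.card G) ∨ v ≠ 0 ∧ ∀ z ∈ Z, z ^ r = 1 → z • u ≠ v)
    {P : G → Prop} (hP : ∀ g, P g → (∀ z ∈ Z, z * g = g * z) ∧ g • u = u ∧ g • v = v ∧ g • x = x) :
    Loc X (E r) (D r) T P := by
  classical
  obtain ⟨m, π, hπ⟩ := d.sec hr
  have := Fact.mk hr
  obtain ⟨Y, e, c1, c2, c3⟩ := col_odd.{u} hr (hr.odd_of_ne_two h2) m
  have hD : ∀ k ∈ E r ⊓ centralizer (D r : Set G), k ∈ D r := fun k hk => d.odd r hr h2 k hk.1 hk.2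
  have t2 : ∀ (M : Type u) [AddCommGroup M], (∀ y : M, r • y = 0) → ∀ y : M, 2 • y = 0 → y = 0 :=
    fun M _ hM y e => AddMonoid.addOrderOf_eq_one_iff.1 (Nat.eq_one_of_dvd_coprimes
      ((Nat.coprime_primes hr Nat.prime_two).2 h2) (addOrderOf_dvd_of_nsmul_eq_zero (hM y))
      (addOrderOf_dvd_of_nsmul_eq_zero e))
  have gx : ∀ g, P g → ∀ c ∈ E r ⊓ centralizer (D r : Set G), g • c • x = c • x := fun g hg c hc => by
    obtain ⟨z, hz, e⟩ := d.eig hx hr (hD c hc)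
    rw [e, ← mul_smul, ← (hP g hg).1 z hz, mul_smul, (hP g hg).2.2.2]
  rcases ho with ho | ⟨v0, ho⟩
  · refine d.loc_gen hr hV hX hx0 hx (fun k hk _ => hD k hk) hπ (n := 2)
      (χ := fun w => if Y w then 0 else 1) (fun w => by split_ifs <;> decide)
      (u := fun i => if i = 0 then 0 else u) rfl (fun i k hk => by split_ifs <;> simp [hu k hk])
      (fun i hi j hj k _ e => ?_) (fun g hg => ⟨(hP g hg).1, fun i => by
        split_ifs <;> simp [(hP g hg).2.1], gx g hg⟩) (fun g _ f hf hg hY => ?_)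
      (fun F hF _ _ w => hD _ (hF w)) fun M _ Q hQ hM h0 =>
        c3 M Q hQ (t2 M hM) fun w hw => h0 w (by simp [hw])
    · interval_cases i <;> interval_cases j <;> simp [u0, u0.symm, smul_eq_zero_iff_eq] at e ⊢
    obtain ⟨e1, e2⟩ := c2 f hf fun w hw => by
      have := hY w hw
      by_cases h1 : Y w <;> by_cases h2 : Y (f w) <;> simp [h1, h2] at this ⊢
    refine e1 ?_
    obtain ⟨a, ha, rfl⟩ := hπ.surj e
    have hn := (d.es r hr).normal
    have it : ∀ n : ℕ, f^[n] (π a) = π (g ^ n * a * (g ^ n)⁻¹) := fun n => by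
      induction n with
      | zero => simp
      | succ n ih =>
        rw [Function.iterate_succ_apply', ih, hg _ (hn.conj_mem a ha _), pow_succ']
        congr 1; group
    obtain ⟨k, hk⟩ := ho
    have := it (Nat.card G)
    rw [pow_card_eq_one', hk, add_comm, Function.iterate_add_apply, Function.iterate_mul,
      Function.iterate_fixed (f := f^[2]) e2] at this
    simpa using this
  have ev : ∀ y : X, y ≠ 0 → (∀ k ∈ T, k • y = y) → ∀ k ∈ D r, ∃ z ∈ Z, z ^ r = 1 ∧ k • y = z • y :=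
    fun y y0 hy k hk => by
      obtain ⟨z, hz, e⟩ := d.eig hy hr hk
      refine ⟨z, hz, (hX _ (pow_mem hz r) y ?_).resolve_right y0, e⟩
      have : ∀ n : ℕ, k ^ n • y = z ^ n • y := fun n => by
        induction n with
        | zero => simp
        | succ n ih =>
          rw [pow_succ, mul_smul, e, ← mul_smul, ← h.cent _ (pow_mem (d.DN hr hk) n) z hz, mul_smul,
            ih, ← mul_smul, ← pow_succ']
      rw [← this, d.pow r hr k hk, one_smul]
  refine d.loc_gen hr hV hX hx0 hx (fun k hk _ => hD k hk) hπ (n := 3)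
    (χ := fun w => if Y w then 0 else if w = e then 2 else 1) (fun w => by split_ifs <;> decide)
    (u := fun i => if i = 0 then 0 else if i = 1 then u else v) rfl
    (fun i k hk => by split_ifs <;> simp [hu k hk, hv k hk])
    (fun i hi j hj k hk e => ?_) (fun g hg => ⟨(hP g hg).1, fun i => by
      split_ifs <;> simp [(hP g hg).2.1, (hP g hg).2.2.1], gx g hg⟩) (fun g _ f hf hg hY => ?_)
    (fun F hF _ _ w => hD _ (hF w)) fun M _ Q hQ hM h0 =>
      c3 M Q hQ (t2 M hM) fun w hw => h0 w (by simp only [if_neg hw]; split_ifs <;> decide)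
  · obtain ⟨z, hz, z1, z2⟩ := ev u u0 hu k (hD k hk)
    obtain ⟨y, hy, y1, y2⟩ := ev u u0 hu _ (inv_mem (hD k hk))
    have n1 : k • u ≠ v := z2 ▸ ho z hz z1
    have n2 : k • v ≠ u := fun e => ho y hy y1 (by rw [← y2, ← e, inv_smul_smul])
    interval_cases i <;> interval_cases j <;> 
      simp [u0, u0.symm, v0, v0.symm, n1, n2, smul_eq_zero_iff_eq] at e ⊢
  refine (c2 f hf fun w hw => ?_).1 ?_
  · have := hY w hw
    by_cases h1 : Y w <;> by_cases h2 : Y (f w) <;> simp only [h1, h2, if_true, if_false] at this ⊢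
    all_goals split_ifs at this
  · by_cases h0 : e = 0
    · rw [h0, map_zero]
    · have := hY e h0
      simp only [if_neg c1, if_true] at this
      by_contra h1
      rw [if_neg h1] at this
      split_ifs at this
      cases this

end Dat

end H33.Solv
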