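import Cfsg.Agent.H33.SolvScal2
import Cfsg.Agent.H33.SolvCol

/-! Base sizes of solvable linear groups: the theorems of Seress (three vectors) and Dolfi (odd
order, two vectors). -/

set_option autoImplicit false

namespace H33.Solv

open Subgroup

universe u

theorem Base.of_le {G G' V : Type*} [Group G] [Group G'] [AddCommGroup V] [DistribMulAction G V]
    [DistribMulAction G' V] {b : ℕ} (h : Base G' V b)
    (e : ∀ g : G, ∃ g' : G', ∀ v : V, g • v = g' • v) : Base G V b :=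
  let ⟨v, hv⟩ := h
  ⟨v, fun g hg w =>
    let ⟨g', e⟩ := e g
    (e w).trans (hv g' (fun i => (e _).symm.trans (hg i)) w)⟩

theorem card_eq_pow {V : Type*} [AddCommGroup V] [Finite V] {p : ℕ} (hp : p.Prime)
    (hV : ∀ w : V, p • w = 0) : ∃ k, Nat.card V = p ^ k := by
  obtain ⟨m, ⟨e⟩⟩ := exists_equiv_pi hp hV
  exact ⟨m, by rw [Nat.card_congr e.toEquiv, Nat.card_fun, Nat.card_zmod, Nat.card_fin]⟩

theorem two_ne {K V : Type*} [Field K] [AddCommGroup V] [Module K V] [Nontrivial V] {p : ℕ}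
    (hp : p.Prime) (h2 : p ≠ 2) (hV : ∀ w : V, p • w = 0) : (2 : K) ≠ 0 := fun e => by
  obtain ⟨w, hw⟩ := exists_ne (0 : V)
  refine hw (AddMonoid.addOrderOf_eq_one_iff.1 (Nat.eq_one_of_dvd_coprimes
    ((Nat.coprime_primes hp Nat.prime_two).2 h2) (addOrderOf_dvd_of_nsmul_eq_zero (hV w))
    (addOrderOf_dvd_of_nsmul_eq_zero ?_)))
  rw [← Nat.cast_smul_eq_nsmul K, Nat.cast_ofNat, e, zero_smul]

theorem good_seress (n : ℕ) : Good.{u} 3 (fun _ _ => True) n := by
  induction n with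
  | zero => exact fun _ _ _ _ _ _ _ h => (Nat.not_lt_zero _ h).elim
  | succ n ih =>
    refine reduce (fun _ _ _ _ _ _ _ => trivial) ih (fun G V _ _ _ _ _ _ _ hs _ hi hq => ?_)
      fun G W _ _ H _ _ _ _ hs _ hH hn _ hb => ⟨5, mult_five inferInstance hb,
        col_of_aff hs hH fun K M _ _ _ _ _ _ _ hK _ _ e hi =>
          aff_five (ih K M (e ▸ hn) hK trivial hi.cr)⟩
    obtain ⟨K, G', _, _, _, _, _, _, _, hs', ⟨s⟩, e, -⟩ := exists_scal hs hi hq
    exact (s.base_three hs').of_le e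

theorem good_odd (n : ℕ) : Good.{u} 2 (fun g _ => Odd g) n := by
  induction n with
  | zero => exact fun _ _ _ _ _ _ _ h => (Nat.not_lt_zero _ h).elim
  | succ n ih =>
    refine reduce (fun _ _ _ _ h e _ => h.of_dvd_nat e) ih (fun G V _ _ _ _ _ _ _ hs ho hi hq => ?_)
      fun G W _ _ H _ _ _ _ hs ho hH hn _ hb =>
        ⟨2, mult_odd (ho.of_dvd_nat (card_subgroup_dvd_card H)) hb,
        col_of_aff hs hH fun K M _ _ _ _ _ _ _ hK e1 e2 e hi => aff_odd (ho.of_dvd_nat e1)
          (ho.of_dvd_nat e2) (ih K M (e ▸ hn) hK (ho.of_dvd_nat e1) hi.cr)⟩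
    obtain ⟨K, G', _, _, _, _, _, _, _, hs', ⟨s⟩, e, hc, h3⟩ := exists_scal hs hi hq
    obtain ⟨p, hp, hd, hV⟩ := hi.exists_prime
    by_cases h2 : p = 2
    · subst h2
      obtain ⟨k, hk⟩ := card_eq_pow hp hV
      exact (s.base_odd hs' (Nat.coprime_two_right.1 ((hc (hk ▸
        (Nat.coprime_two_right.2 ho).pow_right k)).coprime_dvd_right hd))).of_le e
    · rcases h3 ho with h3 | h3
      · exact ⟨0, fun g _ => h3 g⟩
      · exact (s.base_big hs' (two_ne hp h2 hV) h3).of_le e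

theorem base_of_good {b : ℕ} {P : ℕ → ℕ → Prop} (hP : ∀ g v g', P g v → g' ∣ g → P g' v)
    {G : Type*} {V : Type u} (h : ∀ n, Good.{u} b P n) [Group G] [Finite G] [AddCommGroup V]
    [Finite V] [DistribMulAction G V] (hs : Group.IsSolvable G) (hp : P (Nat.card G) (Nat.card V))
    (hc : CR G V) : Base G V b := by
  let ρ := (DistribMulAction.toAddMonoidEnd G V).toHomUnits
  have := finite_end V
  refine (h _ ρ.range V (Nat.lt_succ_self _)
    (Group.isSolvable_of_surjective ρ.rangeRestrict_surjective) (hP _ _ _ hp (card_range_dvd ρ))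
    fun U hU => ?_).of_le fun g => ⟨ρ.rangeRestrict g, fun _ => rfl⟩
  obtain ⟨W, hW, e⟩ := hc U fun g => hU (ρ.rangeRestrict g)
  exact ⟨W, by rintro ⟨_, g, rfl⟩; exact hW g, e⟩

variable {G V : Type*} [Group G] [Finite G] [AddCommGroup V] [Finite V] [DistribMulAction G V]

theorem seress (hs : Group.IsSolvable G) (hc : CR G V) : Base G V 3 :=
  base_of_good (fun _ _ _ _ _ => trivial) good_seress hs trivial hc

theorem base_odd (hs : Group.IsSolvable G) (ho : Odd (Nat.card G)) (hc : CR G V) : Base G V 2 :=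
  base_of_good (P := fun g _ => Odd g) (fun _ _ _ h e => h.of_dvd_nat e) good_odd hs ho hc

end H33.Solv
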