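import Cfsg.Agent.H33.SolvDefs

/-! Base sizes of solvable linear groups: several orbits of regular tuples. -/

set_option autoImplicit false

namespace H33.Solv

open Subgroup
open scoped commutatorElement

variable {G V : Type*} [Group G] [AddCommGroup V] [DistribMulAction G V]

theorem reg_two {v w : V} : Reg G ![v, w] ↔ ∀ g : G, g • v = v → g • w = w → ∀ x : V, g • x = x :=
  ⟨fun h g e1 e2 => h g fun i => by fin_cases i <;> assumption, fun h g e => h g (e 0) (e 1)⟩

theorem base_two : Base G V 2 ↔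
    ∃ v w : V, ∀ g : G, g • v = v → g • w = w → ∀ x : V, g • x = x :=
  ⟨fun ⟨v, h⟩ => ⟨v 0, v 1, fun g e1 e2 => h g fun i => by fin_cases i <;> assumption⟩,
    fun ⟨_, _, h⟩ => ⟨_, reg_two.2 h⟩⟩

theorem base_three : Base G V 3 ↔
    ∃ u v w : V, ∀ g : G, g • u = u → g • v = v → g • w = w → ∀ x : V, g • x = x :=
  ⟨fun ⟨v, h⟩ => ⟨v 0, v 1, v 2, fun g e1 e2 e3 => h g fun i => by fin_cases i <;> assumption⟩,
    fun ⟨u, v, w, h⟩ => ⟨![u, v, w], fun g e => h g (e 0) (e 1) (e 2)⟩⟩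

theorem base_two_ne [Nontrivial V] (h : Base G V 2) :
    ∃ v w : V, v ≠ 0 ∧ v ≠ w ∧ ∀ g : G, g • v = v → g • w = w → ∀ x : V, g • x = x := by
  obtain ⟨v, w, h⟩ := base_two.1 h
  by_cases h0 : v = 0
  · by_cases h1 : w = 0
    · obtain ⟨u, hu⟩ := exists_ne (0 : V)
      exact ⟨u, 0, hu, hu, fun g _ _ => h g (by rw [h0, smul_zero]) (by rw [h1, smul_zero])⟩
    · exact ⟨w, 0, h1, h1, fun g e _ => h g (by rw [h0, smul_zero]) e⟩
  · by_cases h1 : v = w
    · exact ⟨v, 0, h0, h0, fun g e _ => h g e (h1 ▸ e)⟩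
    · exact ⟨v, w, h0, h1, h⟩

theorem mult_odd [Finite G] [Nontrivial V] (hG : Odd (Nat.card G)) (h : Base G V 2) :
    Mult G V 2 2 := by
  obtain ⟨v, w, -, hne, h⟩ := base_two_ne h
  have key : ∀ (g : G) (v w : V), g • v = w → g • w = v → v = w := fun g v w e1 e2 =>
    (triv_of_pow (Nat.coprime_two_left.2 hG) pow_card_eq_one'
      (by rw [pow_two, mul_smul, e1, e2])).symm.trans e1
  refine ⟨fun j => if j = 0 then ![v, w] else ![w, v], fun j _ => ?_, fun j hj k hk g e => ?_⟩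
  · beta_reduce
    split_ifs
    exacts [reg_two.2 h, reg_two.2 fun g e1 e2 => h g e2 e1]
  · interval_cases j <;> interval_cases k
    exacts [rfl, (hne (key g v w (e 0) (e 1))).elim, (hne (key g v w (e 1) (e 0))).elim, rfl]

theorem mult_cop [Finite G] [Nontrivial V] {p : ℕ} (hp : p.Prime) (hG : ¬ p ∣ Nat.card G)
    (hV : ∀ w : V, p • w = 0) (h : Base G V 2) : Mult G V 2 p := by
  obtain ⟨v, w, h0, -, h⟩ := base_two_ne h
  refine ⟨fun j => ![v, w + j • v], fun j _ => reg_two.2 fun g e1 e2 => h g e1 ?_,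
    fun j hj k hk g e => ?_⟩
  · rwa [smul_add, smul_comm, e1, add_left_inj] at e2
  have e1 : g • v = v := e 0
  have e2 : g • (w + j • v) = w + k • v := e 1
  have e3 : ∀ n : ℕ, g ^ n • (w + j • v) = w + j • v + n • (k • v - j • v) := fun n => by
    induction n with
    | zero => simp
    | succ n ih =>
      rw [pow_succ', mul_smul, ih, smul_add g _ (n • _), e2, smul_comm g n, smul_sub,
        smul_comm g k, smul_comm g j, e1, succ_nsmul]
      abel
  have e4 := triv_of_pow ((Nat.Prime.coprime_iff_not_dvd hp).2 hG) pow_card_eq_one'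
    (show g ^ p • (w + j • v) = w + j • v by rw [e3, hV, add_zero])
  have := Fact.mk hp
  rw [e2, add_right_inj, nsmul_eq_nsmul_iff_modEq, addOrderOf_eq_prime (hV v) h0] at e4
  exact (Nat.ModEq.eq_of_lt_of_lt e4 hk hj).symm

/-- The Steinberg relations. -/
def Stein {S : Type*} [Group S] (s : Fin 3 → Fin 3 → S) : Prop :=
  ∀ i j, i ≠ j → ∃ k, i ≠ k ∧ k ≠ j ∧ s i j = ⁅s i k, s k j⁆

theorem Stein.step {S : Type*} [Group S] {s : Fin 3 → Fin 3 → S} (h : Stein s) (P Q : S → Prop)
    (hPQ : ∀ a b, P a → P b → Q ⁅a, b⁆) (hP : ∀ i j, i ≠ j → P (s i j)) :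
    ∀ i j, i ≠ j → Q (s i j) := fun i j hij => by
  obtain ⟨k, h1, h2, e⟩ := h i j hij
  exact e ▸ hPQ _ _ (hP i k h1) (hP k j h2)

theorem Stein.map {S T : Type*} [Group S] [Group T] {s : Fin 3 → Fin 3 → S} (h : Stein s)
    (f : S →* T) : Stein fun i j => f (s i j) := fun i j hij =>
  let ⟨k, h1, h2, e⟩ := h i j hij
  ⟨k, h1, h2, by rw [← map_commutatorElement, ← e]⟩

theorem Stein.four {s : Fin 3 → Fin 3 → Equiv.Perm (Fin 4)} (h : Stein s) :
    ∀ i j, i ≠ j → s i j = 1 :=
  h.step (fun a => Equiv.Perm.sign a = 1 ∧ a * a = 1) (· = 1) (by decide +kernel)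
    (h.step (fun a => Equiv.Perm.sign a = 1) (fun a => Equiv.Perm.sign a = 1 ∧ a * a = 1)
      (by decide +kernel)
      (h.step (fun _ => True) (fun a => Equiv.Perm.sign a = 1) (by decide +kernel)
        fun _ _ _ => trivial))

theorem Stein.solv {S : Type*} [Group S] (hS : Group.IsSolvable S) {s : Fin 3 → Fin 3 → S}
    (h : Stein s) : ∀ i j, i ≠ j → s i j = 1 := by
  obtain ⟨n, hn⟩ := hS.solvable
  have : ∀ n, ∀ i j, i ≠ j → s i j ∈ derivedSeries S n := fun n => by
    induction n with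
    | zero => exact fun _ _ _ => trivial
    | succ n ih =>
      exact h.step (· ∈ derivedSeries S n) (· ∈ derivedSeries S (n + 1))
        (fun a b ha hb => commutator_mem_commutator ha hb) ih
  exact fun i j hij => mem_bot.1 (hn ▸ this n i j hij)

/-- The elementary transformations of triples. -/
def tr (V : Type*) [AddCommGroup V] (i j : Fin 3) : Equiv.Perm (Fin 3 → V) :=
  if h : i = j then 1 else
    { toFun := fun x => x + Pi.single j (x i)
      invFun := fun x => x - Pi.single j (x i)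
      left_inv := fun x => by simp [h]
      right_inv := fun x => by simp [h] }

theorem tr_apply {i j : Fin 3} (h : i ≠ j) (x : Fin 3 → V) : tr V i j x = x + Pi.single j (x i) := by
  rw [tr, dif_neg h]; rfl

theorem tr_inv {i j : Fin 3} (h : i ≠ j) (x : Fin 3 → V) :
    (tr V i j)⁻¹ x = x - Pi.single j (x i) := by
  rw [tr, dif_neg h]; rfl

theorem stein_tr : Stein fun i j => (tr V i j)⁻¹ := fun i j hij => by
  obtain ⟨k, h1, h2⟩ : ∃ k, i ≠ k ∧ k ≠ j := by revert i j; decide
  refine ⟨k, h1, h2, Equiv.ext fun x => ?_⟩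
  simp only [commutatorElement_def, inv_inv, Equiv.Perm.mul_apply, tr_inv, tr_apply, hij, h1, h2,
    ne_eq, not_false_eq_true]
  simp [hij, h1, h2, Pi.single_add]
  abel

theorem mult_five [Finite V] [Nontrivial V] (hs : Group.IsSolvable G) (h : Base G V 3) :
    Mult G V 3 5 := by
  classical
  obtain ⟨v, hv⟩ := h
  let ρ := MulAction.toPermHom G (Fin 3 → V)
  let C := centralizer (ρ.range : Set (Equiv.Perm (Fin 3 → V)))
  have hC : ∀ σ ∈ C, ∀ (g : G) x, σ (g • x) = g • σ x := fun σ h g x =>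
    (Equiv.congr_fun (h _ ⟨g, rfl⟩) x).symm
  have htr : ∀ i j, (tr V i j)⁻¹ ∈ C := fun i j => inv_mem (by
    rintro _ ⟨g, rfl⟩
    by_cases h : i = j
    · rw [tr, dif_pos h, one_mul, mul_one]
    · refine Equiv.ext fun x => ?_
      change g • tr V i j x = tr V i j (g • x)
      rw [tr_apply h, tr_apply h, smul_add, Pi.smul_apply, Pi.single_smul'])
  let t : Fin 3 → Fin 3 → C := fun i j => ⟨_, htr i j⟩
  have ht : Stein t := fun i j hij =>
    let ⟨k, h1, h2, e⟩ := stein_tr (V := V) i j hij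
    ⟨k, h1, h2, Subtype.ext e⟩
  let St : Subgroup C :=
    { carrier := {σ | ∃ g : G, g • σ.1 v = v}
      one_mem' := ⟨1, one_smul _ _⟩
      mul_mem' := fun {a b} ⟨g, hg⟩ ⟨k, hk⟩ => ⟨g * k, by
        change _ • a.1 (b.1 v) = v
        rw [mul_smul, ← hC _ a.2, hk, hg]⟩
      inv_mem' := fun {a} ⟨g, hg⟩ => ⟨g⁻¹, by
        rw [inv_smul_eq_iff]
        change a.1⁻¹ v = _
        rw [Equiv.Perm.inv_eq_iff_eq, hC _ a.2, hg]⟩ }
  have := Fintype.ofFinite (C ⧸ St)
  by_cases h5 : Fintype.card (Fin 5) ≤ Fintype.card (C ⧸ St)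
  · obtain ⟨f⟩ := Function.Embedding.nonempty_of_card_le h5
    refine ⟨fun j => if h : j < 5 then (f ⟨j, h⟩).out.1 v else v, fun j hj g e => hv g fun i => ?_,
      fun j hj k hk g e => ?_⟩
    · simp only [dif_pos hj] at e
      have : (f ⟨j, hj⟩).out.1 (g • v) = (f ⟨j, hj⟩).out.1 v := by
        rw [hC _ (f ⟨j, hj⟩).out.2]; exact funext e
      exact congrFun (Equiv.injective _ this) i
    · simp only [dif_pos hj, dif_pos hk] at e
      refine congrArg Fin.val (f.injective (a₁ := ⟨j, hj⟩) (a₂ := ⟨k, hk⟩) ?_)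
      rw [← (f ⟨j, hj⟩).out_eq, ← (f ⟨k, hk⟩).out_eq, eq_comm, QuotientGroup.eq]
      refine ⟨g, ?_⟩
      change g • (f ⟨k, hk⟩).out.1⁻¹ ((f ⟨j, hj⟩).out.1 v) = v
      rw [← hC _ (inv_mem (f ⟨k, hk⟩).out.2), Equiv.Perm.inv_eq_iff_eq]
      exact funext e
  obtain ⟨f⟩ := Function.Embedding.nonempty_of_card_le (α := C ⧸ St) (β := Fin 4) (by
    simp only [Fintype.card_fin] at h5 ⊢; omega)
  have h1 : ∀ i j, ∃ g : G, i ≠ j → g • (tr V i j)⁻¹ v = v := fun i j => by
    by_cases hij : i = j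
    · exact ⟨1, fun h => (h hij).elim⟩
    have := ((ht.map (MulAction.toPermHom C (C ⧸ St))).map
      (Equiv.Perm.viaEmbeddingHom f)).four i j hij
    rw [← map_one (Equiv.Perm.viaEmbeddingHom f)] at this
    have e : ((t i j * 1 : C) : C ⧸ St) = (1 : C) :=
      Equiv.congr_fun (Equiv.Perm.viaEmbeddingHom_injective f this) ((1 : C) : C ⧸ St)
    rw [eq_comm, QuotientGroup.eq, inv_one, one_mul, mul_one] at e
    exact e.imp fun g h _ => h
  choose g hg using h1
  have : Group.IsSolvable ρ.range := Group.isSolvable_of_surjective ρ.rangeRestrict_surjective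
  have h2 := Stein.solv this (s := fun i j => ρ.rangeRestrict (g i j)) fun i j hij => by
    obtain ⟨k, h1, h2, e⟩ := ht i j hij
    refine ⟨k, h1, h2, ?_⟩
    rw [← map_commutatorElement, ← inv_mul_eq_one, ← map_inv, ← map_mul]
    refine Subtype.ext (Equiv.ext fun x => funext fun l => hv _ (congrFun ?_) (x l))
    change ((g i j)⁻¹ * ⁅g i k, g k j⁆) • v = v
    rw [mul_smul, inv_smul_eq_iff]
    let L : Subgroup (C × G) :=
      { carrier := {p | p.2 • p.1.1 v = v}
        one_mem' := one_smul _ _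
        mul_mem' := fun {a b} ha hb => by
          change (a.2 * b.2) • a.1.1 (b.1.1 v) = v
          rw [mul_smul, ← hC _ a.1.2, show b.2 • b.1.1 v = v from hb]; exact ha
        inv_mem' := fun {a} ha => by
          change a.2⁻¹ • a.1.1⁻¹ v = v
          rw [inv_smul_eq_iff, Equiv.Perm.inv_eq_iff_eq, hC _ a.1.2]; exact Eq.symm ha }
    have a1 : (t i k, g i k) ∈ L := hg i k h1
    have a2 : (t k j, g k j) ∈ L := hg k j h2
    have a3 : ⁅g i k, g k j⁆ • (⁅t i k, t k j⁆ : C).1 v = v :=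
      mul_mem (mul_mem (mul_mem a1 a2) (inv_mem a1)) (inv_mem a2)
    have a4 : g i j • (t i j).1 v = v := hg i j hij
    rw [← e] at a3
    refine (t i j).1.injective ?_
    rw [hC _ (t i j).2, hC _ (t i j).2, a3, a4]
  have h3 : ∀ i, v i = 0 := fun i => by
    obtain ⟨j, hij⟩ := exists_ne i
    have e := hg i j hij.symm
    rw [show ∀ x : Fin 3 → V, g i j • x = x from
      Equiv.congr_fun (congrArg Subtype.val (h2 i j hij.symm)), tr_inv hij.symm] at e
    simpa using congrFun e j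
  have h4 : ∀ (g : G) (x : V), g • x = x := fun g => hv g fun i => by rw [h3, smul_zero]
  obtain ⟨a, ha⟩ := exists_ne (0 : V)
  refine ⟨fun j => ![if j % 2 = 1 then a else 0, if j / 2 = 1 then a else 0,
    if j = 4 then a else 0], fun j _ g _ => h4 g, fun j hj k hk g e => ?_⟩
  have e0 := e 0
  have e1 := e 1
  have e2 := e 2
  rw [h4] at e0 e1 e2
  simp only [Matrix.cons_val] at e0 e1 e2
  have ha' := ha.symm
  interval_cases j <;> interval_cases k <;>
    first
    | rfl
    | exact (ha e0).elim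
    | exact (ha' e0).elim
    | exact (ha e1).elim
    | exact (ha' e1).elim
    | exact (ha e2).elim
    | exact (ha' e2).elim

end H33.Solv
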