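import Cfsg.Agent.H33.SolvField
import Cfsg.Agent.H9.ClassTwo

/-! Base sizes of solvable linear groups: the symplectic type normal subgroup. -/

set_option autoImplicit false

namespace H33.Solv

open Subgroup
open scoped commutatorElement

variable {G : Type*} [Group G]

theorem comm_mul_right {a b c : G} (h : Commute b ⁅a, c⁆) : ⁅a, b * c⁆ = ⁅a, b⁆ * ⁅a, c⁆ := by
  rw [← mul_inv_cancel_right (⁅a, b⁆ * ⁅a, c⁆) b, mul_assoc ⁅a, b⁆, ← h.eq]
  simp only [commutatorElement_def]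
  group

theorem ded {K : Type*} [Field K] [Finite G] {Z : Subgroup G} (φ : Z →* K)
    (hφ : Function.Injective φ) (P P0 Q Q0 : Subgroup G) (_hP : ∀ a ∈ P, ∀ z ∈ Z, z * a = a * z)
    (hQ : ∀ a ∈ Q, ∀ z ∈ Z, z * a = a * z) (hc : ∀ a ∈ P, ∀ b ∈ Q, ⁅a, b⁆ ∈ Z)
    (h0 : ∀ a ∈ P, ∀ b ∈ Q0, a * b = b * a)
    (h1 : ∀ a ∈ P, (∀ b ∈ Q, a * b = b * a) → a ∈ P0) : P0.relIndex P ≤ Q0.relIndex Q := by
  let χ : P → Q →* K := fun a => φ.comp (MonoidHom.mk' (fun b => ⟨⁅a.1, b.1⁆, hc _ a.2 _ b.2⟩)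
    fun b c => Subtype.ext (comm_mul_right (hQ _ b.2 _ (hc _ a.2 _ c.2)).symm))
  have hχ : Function.Injective fun a : P ⧸ P0.subgroupOf P => χ a.out := fun a b e => by
    rw [← a.out_eq, ← b.out_eq, QuotientGroup.eq]
    refine h1 _ (a.out⁻¹ * b.out).2 fun c hc' => ?_
    have : ⁅a.out.1, c⁆ = ⁅b.out.1, c⁆ :=
      congrArg Subtype.val (hφ (DFunLike.congr_fun e (⟨c, hc'⟩ : Q)))
    simp only [commutatorElement_def, mul_left_inj] at this
    change a.out.1⁻¹ * b.out.1 * c = c * (a.out.1⁻¹ * b.out.1)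
    rw [show a.out.1⁻¹ * b.out.1 * c = a.out.1⁻¹ * (b.out.1 * c * b.out.1⁻¹) * b.out.1 by group,
      ← this]
    group
  have hli := ((linearIndependent_monoidHom Q K).comp _ hχ)
  have := Fintype.ofFinite (P ⧸ P0.subgroupOf P)
  have := Fintype.ofFinite (Q ⧸ Q0.subgroupOf Q)
  have h2 : LinearIndependent K fun (a : P ⧸ P0.subgroupOf P) (b : Q ⧸ Q0.subgroupOf Q) =>
      χ a.out b.out := by
    refine LinearIndependent.of_comp (LinearMap.funLeft K K QuotientGroup.mk) ?_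
    convert! hli using 1
    ext a b
    obtain ⟨c, hc'⟩ := QuotientGroup.mk_out_eq_mul (Q0.subgroupOf Q) b
    change χ _ (Quotient.out (b : Q ⧸ Q0.subgroupOf Q)) = χ _ b
    rw [hc', map_mul, show χ a.out c = φ 1 from congrArg φ (Subtype.ext
      (commutatorElement_eq_one_iff_mul_comm.2 (h0 _ a.out.2 _ c.2))), map_one, mul_one]
  have := h2.fintype_card_le_finrank
  rwa [Module.finrank_fintype_fun_eq_card, ← Nat.card_eq_fintype_card,
    ← Nat.card_eq_fintype_card] at this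

/-- The normal subgroup `N` of symplectic type over the scalars `Z`. -/
structure NS (Z N : Subgroup G) : Prop where
  zn : Z.Normal
  nn : N.Normal
  le : Z ≤ N
  cent : ∀ a ∈ N, ∀ z ∈ Z, z * a = a * z
  comm : ∀ a ∈ N, ∀ b ∈ N, ⁅a, b⁆ ∈ Z
  max : ∀ U : Subgroup G, U.Normal → (∀ a ∈ U, ∀ b ∈ U, a * b = b * a) → Z ≤ U → U ≤ Z
  n2 : ∀ g, (∀ a ∈ N, a * g = g * a) → g ∈ Z
  cyc : IsCyclic Z
  ded : ∀ P P0 Q Q0 : Subgroup G, (∀ a ∈ P, ∀ z ∈ Z, z * a = a * z) →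
    (∀ a ∈ Q, ∀ z ∈ Z, z * a = a * z) → (∀ a ∈ P, ∀ b ∈ Q, ⁅a, b⁆ ∈ Z) →
    (∀ a ∈ P, ∀ b ∈ Q0, a * b = b * a) → (∀ a ∈ P, (∀ b ∈ Q, a * b = b * a) → a ∈ P0) →
    P0.relIndex P ≤ Q0.relIndex Q

theorem conj_comm (g a b : G) : ⁅g * a * g⁻¹, g * b * g⁻¹⁆ = g * ⁅a, b⁆ * g⁻¹ := by
  simp only [commutatorElement_def]; group

theorem Scal.inj {K V : Type*} [Field K] [AddCommGroup V] [Module K V] [DistribMulAction G V]
    [Nontrivial V] (s : Scal K G V) : Function.Injective s.ι := fun a b e => by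
  obtain ⟨v, hv⟩ := exists_ne (0 : V)
  exact Units.ext (smul_left_injective K hv (by
    beta_reduce; rw [← s.smul, ← s.smul, e]))

theorem Scal.exists_ns {K V : Type*} [Field K] [Finite K] [AddCommGroup V] [Module K V]
    [DistribMulAction G V] [Nontrivial V] [Finite G] (s : Scal K G V) (hs : Group.IsSolvable G) :
    ∃ N, NS s.ι.range N := by
  have := s.normal
  have hZ : ∀ a ∈ s.ι.range, ∀ z ∈ s.ι.range, z * a = a * z := by
    rintro _ ⟨a, rfl⟩ _ ⟨b, rfl⟩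
    rw [← map_mul, mul_comm, map_mul]
  obtain ⟨N, ⟨h1, h2, h3, h4⟩, hmax⟩ := H2.exists_maximal_subgroup
    (fun N : Subgroup G => N.Normal ∧ s.ι.range ≤ N ∧ N ≤ centralizer (s.ι.range : Set G) ∧
      ∀ a ∈ N, ∀ b ∈ N, ⁅a, b⁆ ∈ s.ι.range)
    ⟨_, this, le_rfl, hZ, fun a ha b hb => by
      rw [commutatorElement_eq_one_iff_mul_comm.2 (hZ b hb a ha)]; exact one_mem _⟩
  let e := MonoidHom.ofInjective s.inj
  refine ⟨N, this, h1, h2, h3, h4, s.max, fun g hg => by_contra fun hn => ?_,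
    isCyclic_of_surjective e e.surjective,
    ded ((Units.coeHom K).comp e.symm.toMonoidHom) (Units.val_injective.comp e.symm.injective)⟩
  obtain ⟨M, ⟨hM, hMB, hMZ⟩, hmin⟩ := H2.exists_minimal_subgroup
    (fun M : Subgroup G => M.Normal ∧ M ≤ centralizer (N : Set G) ∧ ¬ M ≤ s.ι.range)
    ⟨_, inferInstance, le_rfl, fun e => hn (e hg)⟩
  have hlt := H2.commutator_lt_of_isSolvable (M := M) fun e => hMZ (e ▸ bot_le)
  have hle : ⁅M, M⁆ ≤ s.ι.range := by_contra fun e =>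
    hlt.ne (hmin _ ⟨inferInstance, hlt.le.trans hMB, e⟩ hlt.le)
  have hMN : M ≤ N := le_sup_right.trans (hmax (N ⊔ M) ⟨inferInstance, h2.trans le_sup_left,
    sup_le h3 (hMB.trans (centralizer_le h2)), fun a ha b hb => by
      rw [← SetLike.mem_coe, mul_normal] at ha hb
      obtain ⟨a, ha, m, hm, rfl⟩ := ha
      obtain ⟨b, hb, k, hk, rfl⟩ := hb
      have e2 : Commute b m := hMB hm b hb
      have e4 : ∀ x ∈ M, ∀ y ∈ N, Commute y x := fun x hx y hy => hMB hx y hy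
      have : ⁅a * m, b * k⁆ = ⁅a, b⁆ * ⁅m, k⁆ := by
        simp only [commutatorElement_def, mul_inv_rev]
        calc _ = a * (m * b) * (k * m⁻¹ * a⁻¹) * (k⁻¹ * b⁻¹) := by group
          _ = a * (b * m) * (a⁻¹ * (k * m⁻¹)) * (k⁻¹ * b⁻¹) := by
            rw [e2.eq, (e4 _ (mul_mem hk (inv_mem hm)) _ (inv_mem ha)).eq]
          _ = a * b * (m * a⁻¹) * (k * m⁻¹ * k⁻¹ * b⁻¹) := by group
          _ = a * b * (a⁻¹ * m) * (b⁻¹ * (k * m⁻¹ * k⁻¹)) := by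
            rw [(e4 _ hm _ (inv_mem ha)).eq,
              (e4 _ (mul_mem (mul_mem hk (inv_mem hm)) (inv_mem hk)) _ (inv_mem hb)).eq]
          _ = a * b * a⁻¹ * (m * b⁻¹) * (k * m⁻¹ * k⁻¹) := by group
          _ = _ := by rw [← (e4 _ hm _ (inv_mem hb)).eq]; group
      exact this ▸ mul_mem (h4 a ha b hb) (hle (commutator_mem_commutator hm hk))⟩ le_sup_left).le
  refine hMZ (le_sup_right.trans (s.max (s.ι.range ⊔ M) inferInstance (fun a ha b hb => ?_)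
    le_sup_left))
  exact (sup_le (fun z hz a ha => (h3 ha z hz).symm) hMB : _ ≤ centralizer (N : Set G)) hb a
    (sup_le h2 hMN ha)

namespace NS

variable {Z N : Subgroup G} (h : NS Z N)
include h

theorem n1 {M : Subgroup G} (hM : M.Normal) (h1 : Z ≤ M) (h2 : M ≤ N) {a : G} (ha : a ∈ M)
    (hc : ∀ b ∈ M, b * a = a * b) : a ∈ Z :=
  h.max (M ⊓ centralizer (M : Set G)) inferInstance (fun _ hx _ hy => hy.2 _ hx.1)
    (fun z hz => ⟨h1 hz, fun b hb => (h.cent b (h2 hb) z hz).symm⟩) ⟨ha, hc⟩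

theorem cc {a b c : G} (ha : a ∈ N) (hb : b ∈ N) (hc : c ∈ N) : Commute c ⁅a, b⁆ :=
  (h.cent c hc _ (h.comm a ha b hb)).symm

theorem mul_pow {a b : G} (ha : a ∈ N) (hb : b ∈ N) (n : ℕ) :
    (a * b) ^ n = ⁅b, a⁆ ^ n.choose 2 * a ^ n * b ^ n :=
  H9.mul_pow_of_commute_commutator (h.cc hb ha ha) (h.cc hb ha hb) n

theorem comm_pow {a b : G} (ha : a ∈ N) (hb : b ∈ N) {n : ℕ} (hn : a ^ n ∈ Z) : ⁅a, b⁆ ^ n = 1 := by
  rw [← H9.commutatorElement_pow_left (h.cc ha hb ha)]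
  exact commutatorElement_eq_one_iff_mul_comm.2 (h.cent b hb _ hn)

/-- The elements of `N` whose `r`-th power is a scalar. -/
def Nr (r : ℕ) : Subgroup G where
  carrier := {a | a ∈ N ∧ a ^ r ∈ Z}
  one_mem' := ⟨one_mem N, by rw [one_pow]; exact one_mem Z⟩
  mul_mem' := fun {a b} ha hb => ⟨mul_mem ha.1 hb.1, by
    rw [h.mul_pow ha.1 hb.1]
    exact mul_mem (mul_mem (pow_mem (h.comm _ hb.1 _ ha.1) _) ha.2) hb.2⟩
  inv_mem' := fun {a} ha => ⟨inv_mem ha.1, by rw [inv_pow]; exact inv_mem ha.2⟩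

theorem Nr_normal (r : ℕ) : (h.Nr r).Normal := ⟨fun a ha g => ⟨h.nn.conj_mem a ha.1 g, by
  rw [conj_pow]; exact h.zn.conj_mem _ ha.2 g⟩⟩

theorem le_Nr (r : ℕ) : Z ≤ h.Nr r := fun _ hz => ⟨h.le hz, pow_mem hz r⟩

theorem Nr_le (r : ℕ) : h.Nr r ≤ N := fun _ ha => ha.1

theorem sqfree {a : G} (ha : a ∈ N) {r : ℕ} (hr : a ^ (r * r) ∈ Z) : a ^ r ∈ Z :=
  h.n1 (h.Nr_normal r) (h.le_Nr r) (h.Nr_le r) ⟨pow_mem ha r, by rwa [← pow_mul]⟩ fun b hb => by
    rw [← commutatorElement_eq_one_iff_mul_comm,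
      H9.commutatorElement_pow_right (h.cc hb.1 ha ha), h.comm_pow hb.1 ha hb.2]

theorem n4 [Finite G] {g : G} (hg : ∀ r : ℕ, r.Prime → ∀ a ∈ h.Nr r, a * g = g * a) : g ∈ Z := by
  have : ∀ n : ℕ, 0 < n → ∀ a ∈ N, a ^ n ∈ Z → Commute a g := fun n => by
    induction n using Nat.strong_induction_on with
    | _ n ih =>
      intro hn a ha han
      by_cases h1 : n = 1
      · exact hg 2 Nat.prime_two a (h.le_Nr 2 (by rwa [h1, pow_one] at han))
      obtain ⟨r, hr, m, rfl⟩ := Nat.exists_prime_and_dvd h1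
      have hm : 0 < m := Nat.pos_of_mul_pos_left hn
      have hlt : m < r * m := lt_mul_left hm hr.one_lt
      by_cases hd : r ∣ m
      · obtain ⟨k, rfl⟩ := hd
        refine ih _ hlt hm a ha ?_
        rw [mul_comm, pow_mul]
        exact h.sqfree (pow_mem ha k) (by rwa [← pow_mul, mul_comm, mul_assoc])
      · have e1 := ih _ hlt hm _ (pow_mem ha r) (by rwa [← pow_mul])
        have e2 : Commute (a ^ m) g := hg r hr _ ⟨pow_mem ha m, by rwa [← pow_mul, mul_comm]⟩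
        obtain ⟨x, y, e⟩ := Nat.isCoprime_iff_coprime.2 ((Nat.Prime.coprime_iff_not_dvd hr).2 hd)
        have := (e1.zpow_left x).mul_left (e2.zpow_left y)
        rwa [← zpow_natCast, ← zpow_natCast, ← zpow_mul, ← zpow_mul, ← zpow_add, mul_comm _ x,
          mul_comm _ y, e, zpow_one] at this
  exact h.n2 g fun a ha => this _ Nat.card_pos a ha (by rw [pow_card_eq_one']; exact one_mem Z)

theorem n3 [Finite G] {g : G} (h1 : ∀ z ∈ Z, z * g = g * z) (h2 : ∀ a ∈ N, ⁅g, a⁆ ∈ Z) : g ∈ N := by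
  let P : Subgroup G :=
    { carrier := {g | (∀ z ∈ Z, z * g = g * z) ∧ ∀ a ∈ N, ⁅g, a⁆ ∈ Z}
      one_mem' := ⟨by simp, by simp⟩
      mul_mem' := fun {x y} hx hy => ⟨fun z hz => by
        rw [← mul_assoc, hx.1 z hz, mul_assoc, hy.1 z hz, mul_assoc], fun a ha => by
        have := mul_mem (h.zn.conj_mem _ (hy.2 a ha) x) (hx.2 a ha)
        convert this using 1
        simp only [commutatorElement_def]; group⟩
      inv_mem' := fun {x} hx => ⟨fun z hz => (Commute.inv_right (hx.1 z hz)).eq, fun a ha => by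
        have := h.zn.conj_mem _ (inv_mem (hx.2 a ha)) x⁻¹
        convert this using 1
        simp only [commutatorElement_def]; group⟩ }
  have hle : N ≤ P := fun a ha => ⟨h.cent a ha, h.comm a ha⟩
  have e1 := h.ded P Z N Z (fun a ha => ha.1) h.cent (fun a ha => ha.2)
    (fun a ha b hb => (ha.1 b hb).symm) fun a _ hc => h.n2 a fun b hb => (hc b hb).symm
  rw [← relIndex_mul_relIndex Z N P h.le hle] at e1
  have e2 : Z.relIndex N ≠ 0 := index_ne_zero_of_finite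
  have e3 : N.relIndex P ≠ 0 := index_ne_zero_of_finite
  exact relIndex_eq_one.1 (le_antisymm (Nat.le_of_mul_le_mul_left (by rwa [mul_one])
    (Nat.pos_of_ne_zero e2)) (Nat.pos_of_ne_zero e3)) ⟨h1, h2⟩

theorem split [Finite G] {P M : Subgroup G} (hP : P.Normal) (hM : M.Normal) (h1 : Z ≤ P)
    (h2 : P ≤ M) (h3 : M ≤ N) : M ≤ P ⊔ M ⊓ centralizer (P : Set G) := by
  have e1 := h.ded M (M ⊓ centralizer (P : Set G)) P Z
    (fun a ha => h.cent a (h3 ha)) (fun a ha => h.cent a (h3 (h2 ha)))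
    (fun a ha b hb => h.comm a (h3 ha) b (h3 (h2 hb))) (fun a ha b hb => (h.cent a (h3 ha) b hb).symm)
    fun a ha hc => ⟨ha, fun b hb => (hc b hb).symm⟩
  have e2 : Z = (M ⊓ centralizer (P : Set G)) ⊓ P := le_antisymm
    (fun z hz => ⟨⟨h2 (h1 hz), fun b hb => (h.cent b (h3 (h2 hb)) z hz).symm⟩, h1 hz⟩)
    fun a ha => h.n1 hP h1 (h2.trans h3) ha.2 ha.1.2
  rw [e2, inf_relIndex_right, ← relIndex_sup_right P, ← relIndex_mul_relIndex _
    (P ⊔ M ⊓ centralizer (P : Set G)) M le_sup_right (sup_le h2 inf_le_left)] at e1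
  exact relIndex_eq_one.1 (le_antisymm (Nat.le_of_mul_le_mul_left (by rwa [mul_one])
    (Nat.pos_of_ne_zero index_ne_zero_of_finite)) (Nat.pos_of_ne_zero index_ne_zero_of_finite))

theorem cr [Finite G] {M : Subgroup G} (hM : M.Normal) (h1 : Z ≤ M) (h3 : M ≤ N) {W : Type*}
    [AddCommGroup W] {π : G → W} (hπ : Sec Z M π) [DistribMulAction G W]
    (hact : ∀ g : G, ∀ a ∈ M, g • π a = π (g * a * g⁻¹)) : CR G W := fun U hU => by
  have hP : (hπ.pre U).Normal :=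
    ⟨fun a ha g => ⟨hM.conj_mem a ha.1 g, hact g a ha.1 ▸ hU g _ ha.2⟩⟩
  have hZ : Z ≤ hπ.pre U := fun z hz =>
    ⟨h1 hz, by rw [(hπ.zero z (h1 hz)).2 hz]; exact zero_mem U⟩
  have hle : hπ.pre U ≤ M := fun a ha => ha.1
  refine ⟨hπ.im (centralizer (hπ.pre U : Set G)), ?_, eq_bot_iff.2 ?_, eq_top_iff.2 fun w _ => ?_⟩
  · rintro g _ ⟨a, ha, hc, rfl⟩
    exact ⟨_, hM.conj_mem a ha g, Normal.conj_mem inferInstance a hc g, (hact g a ha).symm⟩
  · rintro _ ⟨hw, a, ha, hc, rfl⟩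
    exact (hπ.zero a ha).2 (h.n1 hP hZ (hle.trans h3) ⟨ha, hw⟩ hc)
  · obtain ⟨a, ha, rfl⟩ := hπ.surj w
    have := h.split hP hM hZ hle h3 ha
    rw [← SetLike.mem_coe, normal_mul] at this
    obtain ⟨p, hp, c, hc, rfl⟩ := this
    rw [hπ.mul p hp.1 c hc.1]
    exact AddSubgroup.add_mem_sup hp.2 ⟨c, hc.1, hc.2, rfl⟩

theorem hom_triv [Finite G] {M : Subgroup G} (hM : M.Normal) (h1 : Z ≤ M) (h3 : M ≤ N) {n : ℕ}
    (hm : ∀ a ∈ M, ∀ b ∈ M, (a * b) ^ n = a ^ n * b ^ n) (hz : ∀ a ∈ M, a ^ n ∈ Z)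
    (h0 : ∀ z ∈ Z, z ^ n = 1) : ∀ a ∈ M, a ^ n = 1 := by
  let M0 : Subgroup G :=
    { carrier := {a | a ∈ M ∧ a ^ n = 1}
      one_mem' := ⟨one_mem M, one_pow n⟩
      mul_mem' := fun {a b} ha hb => ⟨mul_mem ha.1 hb.1, by rw [hm a ha.1 b hb.1, ha.2, hb.2, mul_one]⟩
      inv_mem' := fun {a} ha => ⟨inv_mem ha.1, by rw [inv_pow, ha.2, inv_one]⟩ }
  have hn : M0.Normal := ⟨fun a ha g => ⟨hM.conj_mem a ha.1 g, by rw [conj_pow, ha.2]; simp⟩⟩
  have hZ : Z ≤ M0 := fun z hz => ⟨h1 hz, h0 z hz⟩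
  let B := M ⊓ centralizer (M0 : Set G)
  have := h.cyc
  have hB := (MonoidHom.mk' (fun b : B => (⟨b.1 ^ n, hz _ b.2.1⟩ : Z)) fun a b =>
    Subtype.ext (hm _ a.2.1 _ b.2.1)).isMulCommutative_of_isCyclic_of_ker_le_center fun b hb =>
      mem_center_iff.2 fun c => Subtype.ext (c.2.2 _ ⟨b.2.1, congrArg Subtype.val hb⟩).symm
  have hBZ : B ≤ Z := h.max B inferInstance
    (fun a ha b hb => congrArg Subtype.val (hB.is_comm.comm ⟨a, ha⟩ ⟨b, hb⟩))
    fun z hz => ⟨h1 hz, fun b hb => (h.cent b (h3 hb.1) z hz).symm⟩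
  exact fun a ha => ((h.split hn hM hZ (fun a ha => ha.1) h3).trans
    (sup_le le_rfl (hBZ.trans hZ)) ha).2

end NS

end H33.Solv
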