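import Cfsg.Agent.H33.SolvLoc

/-! Base sizes of solvable linear groups: elementary abelian subgroups of extraspecial 2-groups
and common eigenvectors. -/

set_option autoImplicit false

namespace H33.Solv

open Subgroup Polynomial
open scoped commutatorElement

universe u

variable {G : Type u} [Group G] {Z N : Subgroup G}

/-- An abelian subgroup of exponent `r` containing the scalars of `E`. -/
structure DS (Z E D : Subgroup G) (r : ℕ) : Prop where
  le : D ≤ E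
  comm : ∀ a ∈ D, ∀ b ∈ D, a * b = b * a
  pow : ∀ a ∈ D, a ^ r = 1
  inter : ∀ a ∈ E, a ∈ Z → a ∈ D

/-- The centralizer of `D` in `E` is generated by `D` and a dihedral or quaternion group. -/
structure Quat (E D : Subgroup G) (s t : G) : Prop where
  hs : s ∈ E ⊓ centralizer (D : Set G)
  ht : t ∈ E ⊓ centralizer (D : Set G)
  ne : s * t ≠ t * s
  sq : s ^ 2 = t ^ 2
  cov : ∀ k ∈ E ⊓ centralizer (D : Set G), k ∈ D ∨ s⁻¹ * k ∈ D ∨ t⁻¹ * k ∈ D ∨ (s * t)⁻¹ * k ∈ D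

namespace ES

variable {h : NS Z N} {E : Subgroup G} [Finite G]

theorem exists_ds {r : ℕ} (hE : ES h r E) : ∃ D, DS Z E D r ∧
    ∀ k ∈ E ⊓ centralizer (D : Set G), k ^ r = 1 → k ∈ D := by
  obtain ⟨D, ⟨d1, d2, d3⟩, hmax⟩ := H2.exists_maximal_subgroup
    (fun D : Subgroup G => D ≤ E ∧ (∀ a ∈ D, ∀ b ∈ D, a * b = b * a) ∧ ∀ a ∈ D, a ^ r = 1)
    ⟨⊥, bot_le, fun a ha b _ => by rw [mem_bot.1 ha, one_mul, mul_one],
      fun a ha => by rw [mem_bot.1 ha, one_pow]⟩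
  have key : ∀ k ∈ E ⊓ centralizer (D : Set G), k ^ r = 1 → k ∈ D := fun k hk e => by
    let D' : Subgroup G :=
      { carrier := {a | ∃ d ∈ D, ∃ n : ℤ, a = d * k ^ n}
        one_mem' := ⟨1, one_mem D, 0, by simp⟩
        mul_mem' := by
          rintro _ _ ⟨a, ha, m, rfl⟩ ⟨b, hb, n, rfl⟩
          refine ⟨a * b, mul_mem ha hb, m + n, ?_⟩
          rw [zpow_add, mul_assoc, mul_assoc, ← mul_assoc (k ^ m), ← mul_assoc b,
            (Commute.zpow_right (hk.2 b hb) m).eq]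
        inv_mem' := by
          rintro _ ⟨a, ha, m, rfl⟩
          exact ⟨a⁻¹, inv_mem ha, -m, by
            rw [mul_inv_rev, ← zpow_neg, (Commute.zpow_right (hk.2 _ (inv_mem ha)) _).eq]⟩ }
    refine hmax D' ⟨?_, ?_, ?_⟩ (fun a ha => ⟨a, ha, 0, by simp⟩) ▸ ⟨1, one_mem D, 1, by simp⟩
    · rintro _ ⟨a, ha, m, rfl⟩
      exact E.mul_mem (d1 ha) (E.zpow_mem hk.1 m)
    · rintro _ ⟨a, ha, m, rfl⟩ _ ⟨b, hb, n, rfl⟩
      exact ((Commute.mul_right (d2 a ha b hb) (Commute.zpow_right (hk.2 a ha) n)).mul_left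
        ((Commute.zpow_right (hk.2 b hb) m).symm.mul_right (Commute.zpow_zpow_self k m n))).eq
    · rintro _ ⟨a, ha, m, rfl⟩
      rw [(Commute.zpow_right (hk.2 a ha) m).mul_pow, d3 a ha, ← zpow_natCast, ← zpow_mul, mul_comm,
        zpow_mul, zpow_natCast, e, one_zpow, mul_one]
  exact ⟨D, ⟨d1, d2, d3, fun a ha hz => key a
    ⟨ha, fun b hb => (h.cent b (hE.le (d1 hb)).1 a hz).symm⟩ (hE.inter a ha hz)⟩, key⟩

variable (hE : ES h 2 E)
include hE

theorem comm_eq {a b c d : G} (ha : a ∈ E) (hb : b ∈ E) (hc : c ∈ E) (hd : d ∈ E)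
    (h1 : a * b ≠ b * a) (h2 : c * d ≠ d * c) : ⁅a, b⁆ = ⁅c, d⁆ :=
  h.sq_eq (h.comm a (hE.le ha).1 b (hE.le hb).1) (h.comm c (hE.le hc).1 d (hE.le hd).1)
    (h.comm_pow (hE.le ha).1 (hE.le hb).1 (hE.le ha).2)
    (h.comm_pow (hE.le hc).1 (hE.le hd).1 (hE.le hc).2)
    (mt commutatorElement_eq_one_iff_mul_comm.1 h1) (mt commutatorElement_eq_one_iff_mul_comm.1 h2)

theorem comm_mul {a b c : G} (ha : a ∈ E) (hb : b ∈ E) (hc : c ∈ E) (h1 : a * b ≠ b * a)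
    (h2 : a * c ≠ c * a) : a * (b * c) = b * c * a := by
  rw [← commutatorElement_eq_one_iff_mul_comm,
    comm_mul_right (h.cc (hE.le ha).1 (hE.le hc).1 (hE.le hb).1), hE.comm_eq ha hb ha hc h1 h2,
    ← pow_two, h.comm_pow (hE.le ha).1 (hE.le hc).1 (hE.le ha).2]

omit [Finite G] in
theorem four {a : G} (ha : a ∈ E) : (a ^ 2) ^ 2 = 1 := hE.inter _ (pow_mem ha 2) (hE.le ha).2

theorem sq_eq {a b : G} (ha : a ∈ E) (hb : b ∈ E) (h1 : a ^ 2 ≠ 1) (h2 : b ^ 2 ≠ 1) :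
    a ^ 2 = b ^ 2 := h.sq_eq (hE.le ha).2 (hE.le hb).2 (hE.four ha) (hE.four hb) h1 h2

theorem minus {D : Subgroup G} (hD : DS Z E D 2)
    (key : ∀ k ∈ E ⊓ centralizer (D : Set G), k ^ 2 = 1 → k ∈ D) {s : G}
    (hs : s ∈ E ⊓ centralizer (D : Set G)) (hsD : s ∉ D) : ∃ t, Quat E D s t := by
  have hDC : D ≤ E ⊓ centralizer (D : Set G) := fun a ha =>
    ⟨hD.le ha, fun b hb => hD.comm b hb a ha⟩
  have anti : ∀ a ∈ E ⊓ centralizer (D : Set G), ∀ b ∈ E ⊓ centralizer (D : Set G), a ∉ D → b ∉ D →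
      a * b = b * a → a⁻¹ * b ∈ D := fun a ha b hb h1 h2 e => key _ (mul_mem (inv_mem ha) hb) (by
    rw [(Commute.inv_left e).mul_pow, inv_pow,
      hE.sq_eq ha.1 hb.1 (mt (key a ha) h1) (mt (key b hb) h2), inv_mul_cancel])
  obtain ⟨t, ht, hne⟩ : ∃ t ∈ E ⊓ centralizer (D : Set G), s * t ≠ t * s := by
    by_contra! hc
    have hab : ∀ a ∈ E ⊓ centralizer (D : Set G), ∀ b ∈ E ⊓ centralizer (D : Set G),
        a * b = b * a := fun a ha b hb => by
      by_cases h1 : a ∈ D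
      · exact hb.2 a h1
      · have := Commute.mul_left (hc b hb) (hb.2 _ (anti s hs a ha hsD h1 (hc a ha)))
        rwa [mul_inv_cancel_left] at this
    have cE : ∀ a ∈ E, ∀ z ∈ Z, z * a = a * z := fun a ha => h.cent a (hE.le ha).1
    have e1 := h.ded (E ⊓ centralizer (D : Set G)) Z E (E ⊓ centralizer (D : Set G))
      (fun a ha => cE a ha.1) cE (fun a ha b hb => h.comm a (hE.le ha.1).1 b (hE.le hb).1) hab
      fun a ha hc => hE.n1 ha.1 fun b hb => (hc b hb).symm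
    have e2 := h.ded E (E ⊓ centralizer (D : Set G)) D Z cE (fun a ha => cE a (hD.le ha))
      (fun a ha b hb => h.comm a (hE.le ha).1 b (hE.le (hD.le hb)).1)
      (fun a ha b hb => (cE a ha b hb).symm) fun a ha hc => ⟨ha, fun b hb => (hc b hb).symm⟩
    have e3 := e1.trans e2
    have e4 : Z ⊓ (E ⊓ centralizer (D : Set G)) = Z ⊓ D :=
      le_antisymm (fun a ha => ⟨ha.1, hD.inter a ha.2.1 ha.1⟩) (inf_le_inf_left _ hDC)
    rw [← inf_relIndex_right, ← inf_relIndex_right Z D, e4,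
      ← relIndex_mul_relIndex _ D _ inf_le_right hDC] at e3
    exact hsD (relIndex_eq_one.1 (le_antisymm (Nat.le_of_mul_le_mul_left (by rwa [mul_one])
      (Nat.pos_of_ne_zero index_ne_zero_of_finite)) (Nat.pos_of_ne_zero index_ne_zero_of_finite)) hs)
  have htD : t ∉ D := fun e => hne (hs.2 t e).symm
  refine ⟨t, hs, ht, hne, hE.sq_eq hs.1 ht.1 (mt (key s hs) hsD) (mt (key t ht) htD),
    fun k hk => ?_⟩
  by_contra! hc
  refine hc.2.2.2 (anti _ (mul_mem hs ht) k hk (fun e => hne ?_) hc.1 (hE.comm_mul hk.1 hs.1 ht.1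
    (fun e => hc.2.1 (anti s hs k hk hsD hc.1 e.symm))
    fun e => hc.2.2.1 (anti t ht k hk htD hc.1 e.symm)).symm)
  have := hs.2 _ e
  rwa [mul_assoc, mul_right_inj, eq_comm] at this

theorem plus {D : Subgroup G} (hD : DS Z E D 2) (hC : E ⊓ centralizer (D : Set G) ≤ D)
    (hne : ¬ E ≤ D) : ∃ D s t, DS Z E D 2 ∧ Quat E D s t := by
  obtain ⟨t, ht, s, hs, hst⟩ : ∃ t ∈ E, ∃ s ∈ D, s * t ≠ t * s := by
    by_contra! hc
    exact hne fun a ha => hC ⟨ha, hc a ha⟩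
  wlog h2 : t ^ 2 = 1 generalizing t
  · refine this (s * t) (mul_mem (hD.le hs) ht) (by rwa [mul_assoc, Ne, mul_right_inj]) ?_
    rw [h.mul_pow (hE.le (hD.le hs)).1 (hE.le ht).1, hD.pow s hs, mul_one,
      show Nat.choose 2 2 = 1 from rfl, pow_one, h.sq_eq (h.comm _ (hE.le ht).1 _ (hE.le (hD.le hs)).1)
        (hE.le ht).2 (h.comm_pow (hE.le ht).1 (hE.le (hD.le hs)).1 (hE.le ht).2) (hE.four ht)
        (mt commutatorElement_eq_one_iff_mul_comm.1 hst.symm) h2, ← pow_two, hE.four ht]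
  have m : ∀ a, a ∈ D ⊓ centralizer {t} ↔ a ∈ D ∧ a * t = t * a := fun a =>
    and_congr_right fun _ => mem_centralizer_singleton_iff
  have k0 : ∀ a ∈ D, a * t ≠ t * a → s⁻¹ * a ∈ D ⊓ centralizer {t} := fun a ha e =>
    (m _).2 ⟨mul_mem (inv_mem hs) ha, (hE.comm_mul ht (inv_mem (hD.le hs)) (hD.le ha)
      (fun e => hst (Commute.inv_right_iff.1 e).symm) (Ne.symm e)).symm⟩
  have k1 : ∀ k ∈ E ⊓ centralizer ((D ⊓ centralizer {t} : Subgroup G) : Set G), s * k = k * s →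
      k ∈ D ⊓ centralizer {t} ∨ s⁻¹ * k ∈ D ⊓ centralizer {t} := fun k hk e => by
    have : k ∈ D := hC ⟨hk.1, fun a ha => by
      by_cases h1 : a * t = t * a
      · exact hk.2 a ((m a).2 ⟨ha, h1⟩)
      · have := Commute.mul_left e (hk.2 _ (k0 a ha h1))
        rwa [mul_inv_cancel_left] at this⟩
    exact or_iff_not_imp_left.2 fun e => k0 k this fun e' => e ((m k).2 ⟨this, e'⟩)
  have htC : t ∈ E ⊓ centralizer ((D ⊓ centralizer {t} : Subgroup G) : Set G) :=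
    ⟨ht, fun a ha => ((m a).1 ha).2⟩
  have hsC : s ∈ E ⊓ centralizer ((D ⊓ centralizer {t} : Subgroup G) : Set G) :=
    ⟨hD.le hs, fun a ha => hD.comm a ha.1 s hs⟩
  have hz : ∀ a ∈ E, a ∈ Z → a ∈ D ⊓ centralizer {t} := fun a ha hz =>
    (m a).2 ⟨hD.inter a ha hz, h.cent t (hE.le ht).1 a hz⟩
  refine ⟨D ⊓ centralizer {t}, s, t, ⟨inf_le_left.trans hD.le, fun a ha b hb => hD.comm a ha.1 b hb.1,
    fun a ha => hD.pow a ha.1, hz⟩, hsC, htC, hst, by rw [h2, hD.pow s hs], fun k hk => ?_⟩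
  by_cases e : s * k = k * s
  · exact (k1 k hk e).imp_right Or.inl
  refine Or.inr (Or.inr ((k1 _ (mul_mem (inv_mem htC) hk) (hE.comm_mul (hD.le hs) (inv_mem ht) hk.1
    (fun e => hst (Commute.inv_right_iff.1 e)) e)).imp_right fun e => ?_))
  have := mul_mem (hz ⁅t⁻¹, s⁻¹⁆ (mul_mem (mul_mem (mul_mem (inv_mem ht) (inv_mem (hD.le hs)))
    (inv_mem (inv_mem ht))) (inv_mem (inv_mem (hD.le hs))))
    (h.comm _ (inv_mem (hE.le ht).1) _ (inv_mem (hE.le (hD.le hs)).1))) e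
  convert this using 1
  simp only [commutatorElement_def]; group

theorem cases : ∃ D, DS Z E D 2 ∧ (E ≤ D ∨ ∃ s t, Quat E D s t) := by
  obtain ⟨D, hD, key⟩ := hE.exists_ds
  by_cases h1 : E ≤ D
  · exact ⟨D, hD, Or.inl h1⟩
  by_cases hC : E ⊓ centralizer (D : Set G) ≤ D
  · obtain ⟨D, s, t, h2, h3⟩ := hE.plus hD hC h1
    exact ⟨D, h2, Or.inr ⟨s, t, h3⟩⟩
  · obtain ⟨s, hs, hsD⟩ := SetLike.not_le_iff_exists.1 hC
    exact ⟨D, hD, Or.inr ⟨s, hE.minus hD key hs hsD⟩⟩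

end ES

theorem exists_eig {K V : Type*} [Field K] [AddCommGroup V] [Module K V] (f : Module.End K V)
    {U : Submodule K V} (hU : ∀ v ∈ U, f v ∈ U) (s : Finset K) : ∀ v ∈ U, v ≠ 0 →
      aeval f (∏ c ∈ s, (X - C c)) v = 0 → ∃ w ∈ U, w ≠ 0 ∧ ∃ c : K, f w = c • w := by
  classical
  induction s using Finset.induction_on with
  | empty => exact fun v _ h0 e => (h0 (by simpa using e)).elim
  | insert c s hc ih =>
    intro v hv h0 e
    by_cases h1 : f v - c • v = 0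
    · exact ⟨v, hv, h0, c, sub_eq_zero.1 h1⟩
    · refine ih _ (sub_mem (hU v hv) (U.smul_mem c hv)) h1 ?_
      rw [Finset.prod_insert hc, mul_comm, map_mul] at e
      simpa using e

namespace Scal

variable {K V : Type*} [Field K] [AddCommGroup V] [Module K V] [DistribMulAction G V]
  (s : Scal K G V)

theorem fpf : Fpf s.ι.range V := by
  rintro _ ⟨c, rfl⟩ v e
  rw [s.smul, ← sub_eq_zero, ← one_smul K v, smul_smul, mul_one, ← sub_smul, smul_eq_zero,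
    sub_eq_zero, Units.val_eq_one] at e
  exact e.imp_left fun e => by rw [e, map_one]

theorem fpf2 : Fpf s.ι.range (V × V) := fun z hz _ e => or_iff_not_imp_left.2 fun h =>
  Prod.ext ((s.fpf z hz _ (congrArg Prod.fst e)).resolve_left h)
    ((s.fpf z hz _ (congrArg Prod.snd e)).resolve_left h)

theorem semi (g : G) (c : Kˣ) : ∃ c' : Kˣ, s.ι c' = g * s.ι c * g⁻¹ ∧
    ∀ v : V, g • (c : K) • v = (c' : K) • g • v := by
  obtain ⟨c', e⟩ := s.normal.conj_mem _ ⟨c, rfl⟩ g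
  exact ⟨c', e, fun v => by rw [← s.smul, ← s.smul, e, mul_smul, mul_smul, inv_smul_smul]⟩

theorem lin {g : G} (hg : ∀ z ∈ s.ι.range, z * g = g * z) (c : K) (v : V) :
    g • c • v = c • g • v := by
  rcases eq_or_ne c 0 with rfl | hc
  · rw [zero_smul, zero_smul, smul_zero]
  · rw [← Units.val_mk0 hc, ← s.smul, ← s.smul, ← mul_smul, ← mul_smul, hg _ ⟨_, rfl⟩]

/-- An element centralizing the scalars as a linear map. -/
def toLin {g : G} (hg : ∀ z ∈ s.ι.range, z * g = g * z) : Module.End K V where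
  toFun v := g • v
  map_add' := smul_add g
  map_smul' := s.lin hg

theorem lin_of {c : Kˣ} (hc : ∀ a, a ∈ zpowers c) {g : G} {v : V} (h0 : v ≠ 0)
    (e : g • (c : K) • v = (c : K) • g • v) : ∀ z ∈ s.ι.range, z * g = g * z := by
  obtain ⟨c', e1, e2⟩ := s.semi g c
  rw [e2] at e
  rw [Units.ext (smul_left_injective K (mt (smul_eq_zero_iff_eq g).1 h0) e),
    eq_mul_inv_iff_mul_eq] at e1
  rintro _ ⟨a, rfl⟩
  obtain ⟨n, rfl⟩ := hc a
  rw [map_zpow]
  exact (Commute.zpow_left e1 n).eq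

theorem neg {z : G} (hz : z ∈ s.ι.range) (h2 : z ^ 2 = 1) (v : V) :
    (z = 1 ∧ z • v = v) ∨ z • v = -v := by
  obtain ⟨c, rfl⟩ := hz
  rcases eq_or_ne v 0 with rfl | h0
  · exact Or.inr (by rw [smul_zero, neg_zero])
  have : ((c : K) * c) • v = (1 : K) • v := by
    rw [mul_smul, ← s.smul, ← s.smul, ← mul_smul, ← pow_two, h2, one_smul, one_smul]
  rcases mul_self_eq_one_iff.1 (smul_left_injective K h0 this) with e | e
  · exact Or.inl (by rw [Units.val_eq_one.1 e, map_one, one_smul]; exact ⟨rfl, rfl⟩)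
  · exact Or.inr (by rw [s.smul, e, neg_one_smul])

theorem exists_dat [Finite G] [Finite V] [Nontrivial V] (h : NS s.ι.range N) {E2 D2 : Subgroup G}
    (hE : ES h 2 E2) (hD : DS s.ι.range E2 D2 2) : ∃ E D T, Dat h E D T ∧ E 2 = E2 ∧ D 2 = D2 ∧
      ∃ v : V, v ≠ 0 ∧ ∀ k ∈ T, k • v = v := by
  have : ∀ r : ℕ, ∃ E D : Subgroup G, (r = 2 → E = E2 ∧ D = D2) ∧ (r.Prime → ES h r E ∧
      DS s.ι.range E D r ∧ (r ≠ 2 → ∀ a ∈ E, a ∈ centralizer (D : Set G) → a ∈ D)) := fun r => by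
    by_cases h2 : r = 2
    · exact ⟨E2, D2, fun _ => ⟨rfl, rfl⟩, fun _ => ⟨h2 ▸ hE, h2 ▸ hD, fun e => (e h2).elim⟩⟩
    by_cases hr : r.Prime
    · obtain ⟨E, hE, e⟩ := h.exists_es_odd hr (hr.odd_of_ne_two h2)
      obtain ⟨D, hD, key⟩ := hE.exists_ds
      exact ⟨E, D, fun e => (h2 e).elim, fun _ => ⟨hE, hD, fun _ a ha hc => key a ⟨ha, hc⟩ (e a ha)⟩⟩
    · exact ⟨⊥, ⊥, fun e => (h2 e).elim, fun e => (hr e).elim⟩
  choose E D h1 h2 using this
  have hN : ∀ r, r.Prime → ∀ a ∈ D r, a ∈ N := fun r hr a ha => ((h2 r hr).1.le ((h2 r hr).2.1.le ha)).1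
  have hc : ∀ r, r.Prime → ∀ a ∈ D r, ∀ q, q.Prime → ∀ b ∈ D q, a * b = b * a :=
    fun r hr a ha q hq b hb => by
      by_cases e : r = q
      · exact (h2 q hq).2.1.comm a (e ▸ ha) b hb
      · have e1 := h.comm_pow (hN r hr a ha) (hN q hq b hb) ((h2 r hr).2.1.pow a ha ▸ one_mem _)
        have e2 := h.comm_pow (hN q hq b hb) (hN r hr a ha) ((h2 q hq).2.1.pow b hb ▸ one_mem _)
        rw [← commutatorElement_inv, inv_pow, inv_eq_one] at e2
        exact commutatorElement_eq_one_iff_mul_comm.1 ((pow_eq_one_iff_of_coprime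
          ((Nat.coprime_primes hr hq).2 e)).1 ⟨e1, e2⟩)
  obtain ⟨U, ⟨u1, u2⟩, umin⟩ := Set.Finite.exists_minimal
    (s := {U : Submodule K V | U ≠ ⊥ ∧ ∀ r, r.Prime → ∀ a ∈ D r, ∀ v ∈ U, a • v ∈ U})
    (Set.toFinite _) ⟨⊤, top_ne_bot, fun _ _ _ _ _ _ => trivial⟩
  obtain ⟨v, hv, h0⟩ := (Submodule.ne_bot_iff U).1 u1
  refine ⟨E, D, {k | k • v = v ∧ ∃ r, r.Prime ∧ ∃ d ∈ D r, ∃ z ∈ s.ι.range, k = d * z},
    ⟨fun r hr => (h2 r hr).1, fun r hr => (h2 r hr).2.1.le, fun r hr => (h2 r hr).2.1.comm,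
      fun r hr => (h2 r hr).2.1.pow, fun r hr => (h2 r hr).2.1.inter, fun r hr => (h2 r hr).2.2,
      fun r hr a ha => ?_, fun k hk => hk.2⟩, (h1 2 rfl).1, (h1 2 rfl).2, v, h0, fun k hk => hk.1⟩
  suffices ∃ z ∈ s.ι.range, a • v = z • v by
    obtain ⟨z, hz, e⟩ := this
    exact ⟨z⁻¹, inv_mem hz, by
      rw [← h.cent a (hN r hr a ha) _ (inv_mem hz), mul_smul, e, inv_smul_smul],
      r, hr, a, ha, _, inv_mem hz, rfl⟩
  by_cases hz : a ∈ s.ι.range
  · exact ⟨a, hz, rfl⟩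
  obtain ⟨b, hb, hab⟩ : ∃ b ∈ N, b * a ≠ a * b := by
    by_contra! e
    exact hz (h.n2 a e)
  obtain ⟨c, e⟩ := h.comm a (hN r hr a ha) b hb
  have := Fact.mk hr
  have hζ : IsPrimitiveRoot (c : K) r := by
    rw [IsPrimitiveRoot.coe_units_iff, IsPrimitiveRoot.iff_orderOf]
    refine orderOf_eq_prime (s.inj ?_) fun e' => hab ?_
    · rw [map_pow, e, h.comm_pow (hN r hr a ha) hb ((h2 r hr).2.1.pow a ha ▸ one_mem _), map_one]
    · rw [e', map_one] at e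
      exact (commutatorElement_eq_one_iff_mul_comm.1 e.symm).symm
  let f := s.toLin (h.cent a (hN r hr a ha))
  have hf : ∀ n : ℕ, ∀ v, (f ^ n) v = a ^ n • v := fun n => by
    induction n with
    | zero => simp
    | succ n ih => exact fun v => by rw [pow_succ, pow_succ, Module.End.mul_apply, ih, mul_smul]; rfl
  obtain ⟨w, hw, w0, c, e⟩ := exists_eig f (u2 r hr a ha) _ v hv h0 (by
    rw [← X_pow_sub_one_eq_prod hr.pos hζ]
    simp [hf, (h2 r hr).2.1.pow a ha])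
  have := umin (y := U ⊓ f.eigenspace c) ⟨(Submodule.ne_bot_iff _).2
    ⟨w, ⟨hw, Module.End.mem_eigenspace_iff.2 e⟩, w0⟩, fun q hq b hb x hx =>
      ⟨u2 q hq b hb x hx.1, Module.End.mem_eigenspace_iff.2 (by
        change a • b • x = _
        rw [← mul_smul, hc r hr a ha q hq b hb, mul_smul,
          show a • x = c • x from Module.End.mem_eigenspace_iff.1 hx.2,
          s.lin (h.cent b (hN q hq b hb))])⟩⟩ inf_le_left hv
  have e' : a • v = c • v := Module.End.mem_eigenspace_iff.1 this.2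
  have c0 : c ≠ 0 := fun e => h0 ((smul_eq_zero_iff_eq a).1 (by rw [e', e, zero_smul]))
  exact ⟨_, ⟨Units.mk0 c c0, rfl⟩, by rw [s.smul]; exact e'⟩

end Scal

end H33.Solv
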