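import Cfsg.Agent.H33.SolvDefs

/-! Base sizes of solvable linear groups: reduction to the quasi-primitive case. -/

set_option autoImplicit false

namespace H33.Solv

universe u

section

variable {G V : Type*} [Group G] [AddCommGroup V] [DistribMulAction G V]

theorem CR.sub (h : CR G V) {U : AddSubgroup V} (hU : Inv G U) :
    @CR G U _ _ (subAct U hU) := by
  intro A hA
  obtain ⟨W, hW, h1, h2⟩ := h (A.map U.subtype) (by
    rintro g _ ⟨a, ha, rfl⟩
    exact ⟨_, hA g a ha, rfl⟩)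
  refine ⟨W.comap U.subtype, fun g v hv => hW g v hv, eq_bot_iff.2 fun x hx => ?_,
    eq_top_iff.2 fun x _ => ?_⟩
  · have : (x : V) ∈ A.map U.subtype ⊓ W := ⟨⟨x, hx.1, rfl⟩, hx.2⟩
    rw [h1] at this
    exact Subtype.ext this
  · obtain ⟨_, ⟨a, ha, rfl⟩, w, hw, e⟩ := AddSubgroup.mem_sup.1 (h2 ▸ AddSubgroup.mem_top (x : V))
    refine AddSubgroup.mem_sup.2 ⟨a, ha, x - a, ?_, add_sub_cancel _ _⟩
    change ((x : V) - a) ∈ W
    rw [← e]
    simpa using hw

theorem base_of_sum {b : ℕ} {U W : AddSubgroup V} (hU : Inv G U) (hW : Inv G W) (h1 : U ⊓ W = ⊥)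
    (h2 : U ⊔ W = ⊤) (bU : @Base G U _ _ (subAct U hU) b) (bW : @Base G W _ _ (subAct W hW) b) :
    Base G V b := by
  obtain ⟨u, hu⟩ := bU
  obtain ⟨w, hw⟩ := bW
  refine ⟨fun i => u i + w i, fun g hg x => ?_⟩
  have key : ∀ i, g • (u i : V) = u i ∧ g • (w i : V) = w i := fun i => by
    have e := hg i
    rw [smul_add] at e
    have : g • (u i : V) - u i ∈ U ⊓ W := ⟨U.sub_mem (hU g _ (u i).2) (u i).2, by
      rw [show g • (u i : V) - u i = w i - g • (w i : V) by
        rw [sub_eq_sub_iff_add_eq_add, e, add_comm]]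
      exact W.sub_mem (w i).2 (hW g _ (w i).2)⟩
    rw [h1, AddSubgroup.mem_bot, sub_eq_zero] at this
    rw [this, add_right_inj] at e
    exact ⟨this, e⟩
  obtain ⟨a, ha, c, hc, rfl⟩ := AddSubgroup.mem_sup.1 (h2 ▸ AddSubgroup.mem_top x)
  rw [smul_add]
  exact congrArg₂ _ (congrArg Subtype.val (hu g (fun i => Subtype.ext (key i).1) ⟨a, ha⟩))
    (congrArg Subtype.val (hw g (fun i => Subtype.ext (key i).2) ⟨c, hc⟩))

/-- A system of imprimitivity with a maximal stabilizer. -/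
theorem coarsen [Finite G] (hi : Irr G V) (hq : ¬ QPrim G V) :
    ∃ (e : V →+ V) (H : Subgroup G), IsCoatom H ∧ e ≠ 0 ∧ (∀ v, e (e v) = e v) ∧
      (∀ h ∈ H, ∀ v, h • e v = e (h • v)) ∧ ∀ g ∉ H, ∀ v, e (g • e v) = 0 := by
  classical
  simp only [QPrim, not_forall, not_or] at hq
  obtain ⟨f, hf, hc, h0, h1⟩ := hq
  let S : Subgroup G :=
    { carrier := {g | ∀ v, g • f v = f (g • v)}
      one_mem' := fun v => by rw [one_smul, one_smul]
      mul_mem' := fun {a b} ha hb v => by rw [mul_smul, mul_smul, hb, ha]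
      inv_mem' := fun {a} ha v => by rw [inv_smul_eq_iff, ha, smul_inv_smul] }
  have hS : S ≠ ⊤ := fun e => by
    rcases hi f.range (by
      rintro g _ ⟨v, rfl⟩
      exact ⟨_, ((show g ∈ S from e ▸ trivial) v).symm⟩) with e | e
    · exact h0 (AddMonoidHom.range_eq_bot_iff.1 e)
    · refine h1 (AddMonoidHom.ext fun v => ?_)
      obtain ⟨w, rfl⟩ : v ∈ f.range := e ▸ trivial
      exact hf w
  obtain ⟨H, hH, hle⟩ := (eq_top_or_exists_le_coatom S).resolve_left hS
  have := Fintype.ofFinite (G ⧸ S)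
  let E : G ⧸ S → V →+ V := fun ω =>
    (DistribSMul.toAddMonoidHom V ω.out).comp (f.comp (DistribSMul.toAddMonoidHom V ω.out⁻¹))
  have hE : ∀ (g : G) v, E (g : G ⧸ S) v = g • f (g⁻¹ • v) := fun g v => by
    obtain ⟨s, hs⟩ := QuotientGroup.mk_out_eq_mul S g
    change (g : G ⧸ S).out • f ((g : G ⧸ S).out⁻¹ • v) = _
    rw [hs, mul_smul, s.2, mul_inv_rev, mul_smul, smul_inv_smul]
  have hE1 : ∀ (g : G) ω v, g • E ω v = E (g • ω) (g • v) := fun g ω v => by
    obtain ⟨k, rfl⟩ := QuotientGroup.mk_surjective ω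
    rw [MulAction.Quotient.smul_mk, hE, hE, smul_eq_mul, mul_inv_rev, mul_smul, mul_smul,
      inv_smul_smul]
  have hE2 : ∀ ω ω' v, E ω (E ω' v) = if ω = ω' then E ω v else 0 := fun ω ω' v => by
    obtain ⟨k, rfl⟩ := QuotientGroup.mk_surjective ω
    obtain ⟨l, rfl⟩ := QuotientGroup.mk_surjective ω'
    split_ifs with e
    · rw [← e, hE, hE, inv_smul_smul, hf]
    · rw [hE, hE, smul_smul, (hc _).resolve_left (fun h => e (QuotientGroup.eq.2 h)), smul_zero]
  let T : Finset (G ⧸ S) := Finset.univ.filter fun ω => ω.out ∈ H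
  have hT : ∀ g : G, (g : G ⧸ S) ∈ T ↔ g ∈ H := fun g => by
    obtain ⟨s, hs⟩ := QuotientGroup.mk_out_eq_mul S g
    rw [Finset.mem_filter, hs, mul_mem_cancel_right (hle s.2)]
    simp
  have hT1 : ∀ g : G, ∀ ω ∈ T, g • ω ∈ T ↔ g ∈ H := fun g ω hω => by
    obtain ⟨k, rfl⟩ := QuotientGroup.mk_surjective ω
    rw [MulAction.Quotient.smul_mk, hT, smul_eq_mul, mul_mem_cancel_right ((hT k).1 hω)]
  have he : ∀ ω v, E ω ((∑ ω' ∈ T, E ω') v) = if ω ∈ T then E ω v else 0 := fun ω v => by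
    rw [AddMonoidHom.finsetSum_apply, map_sum]
    simp only [hE2, Finset.sum_ite_eq]
  refine ⟨∑ ω ∈ T, E ω, H, hH, fun e => h0 (AddMonoidHom.ext fun v => ?_), fun v => ?_,
    fun h hh v => ?_, fun g hg v => ?_⟩
  · have := he (1 : G) v
    rw [e, if_pos ((hT 1).2 (one_mem H)), hE, hE] at this
    simpa using this.symm
  · conv_lhs => rw [AddMonoidHom.finsetSum_apply]
    rw [Finset.sum_congr rfl fun ω hω => (he ω v).trans (if_pos hω),
      AddMonoidHom.finsetSum_apply]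
  · rw [AddMonoidHom.finsetSum_apply, AddMonoidHom.finsetSum_apply, Finset.smul_sum]
    refine Finset.sum_bij (fun ω _ => h • ω) (fun ω hω => (hT1 h ω hω).2 hh)
      (fun _ _ _ _ e => smul_left_cancel h e)
      (fun ω hω => ⟨h⁻¹ • ω, (hT1 _ ω hω).2 (inv_mem hh), smul_inv_smul h ω⟩) fun ω _ => hE1 h ω v
  · rw [AddMonoidHom.finsetSum_apply (b := v), Finset.smul_sum, map_sum]
    refine Finset.sum_eq_zero fun ω hω => ?_
    rw [hE1, AddMonoidHom.finsetSum_apply]
    refine Finset.sum_eq_zero fun ω' hω' => ?_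
    rw [hE2, if_neg fun e : ω' = g • ω => hg ((hT1 g ω hω).1 (e ▸ hω'))]

variable {e : V →+ V} {H : Subgroup G}

theorem inv_range (h2 : ∀ h ∈ H, ∀ v, h • e v = e (h • v)) : Inv H e.range := by
  rintro h _ ⟨v, rfl⟩
  exact ⟨_, (h2 h h.2 v).symm⟩

theorem closure_eq_top (hi : Irr G V) {B : AddSubgroup V} (hB : B ≠ ⊥) {U : AddSubgroup V}
    (hU : ∀ g : G, ∀ b ∈ B, g • b ∈ U) : U = ⊤ := by
  have h1 : Inv G (AddSubgroup.closure {v | ∃ g : G, ∃ b ∈ B, g • b = v}) := fun g v hv => by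
    refine (AddSubgroup.closure_le (K := (AddSubgroup.closure _).comap
      (DistribSMul.toAddMonoidHom V g))).2 ?_ hv
    rintro _ ⟨k, b, hb, rfl⟩
    exact AddSubgroup.subset_closure ⟨g * k, b, hb, mul_smul g k b⟩
  rcases hi _ h1 with e | e
  · refine (hB (eq_bot_iff.2 fun b hb => ?_)).elim
    rw [← e]
    exact AddSubgroup.subset_closure ⟨1, b, hb, one_smul G b⟩
  · rw [eq_top_iff, ← e, AddSubgroup.closure_le]
    rintro _ ⟨g, b, hb, rfl⟩
    exact hU g b hb

theorem irr_range (hi : Irr G V) (h1 : ∀ v, e (e v) = e v) (h2 : ∀ h ∈ H, ∀ v, h • e v = e (h • v))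
    (h3 : ∀ g ∉ H, ∀ v, e (g • e v) = 0) : @Irr H e.range _ _ (subAct _ (inv_range h2)) := by
  intro A hA
  refine or_iff_not_imp_left.2 fun hne => eq_top_iff.2 fun x _ => ?_
  have := closure_eq_top hi (B := A.map e.range.subtype)
    (fun e' => hne ((AddSubgroup.map_eq_bot_iff_of_injective _ Subtype.val_injective).1 e'))
    (U := (A.map e.range.subtype).comap e) (by
      rintro g _ ⟨⟨_, v, rfl⟩, ha, rfl⟩
      change e (g • e v) ∈ A.map e.range.subtype
      by_cases hg : g ∈ H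
      · rw [← h2 g hg, h1]
        exact ⟨_, hA ⟨g, hg⟩ _ ha, rfl⟩
      · rw [h3 g hg]; exact zero_mem _)
  obtain ⟨_, v, rfl⟩ := x
  obtain ⟨a, ha, ea⟩ : v ∈ (A.map e.range.subtype).comap e := this ▸ trivial
  exact (show a = ⟨_, v, rfl⟩ from Subtype.ext ea) ▸ ha

theorem index_lt [Finite V] (h0 : e ≠ 0) (h1 : ∀ v, e (e v) = e v)
    (h3 : ∀ g ∉ H, ∀ v, e (g • e v) = 0) : H.index < Nat.card V := by
  obtain ⟨v, hv⟩ : ∃ v, e v ≠ 0 := by
    by_contra! h
    exact h0 (AddMonoidHom.ext h)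
  have hinj : Function.Injective fun ω : Option (G ⧸ H) => ω.elim 0 fun ω => ω.out • e v := by
    rintro (_ | a) (_ | b) h
    · rfl
    · exact (hv ((smul_eq_zero_iff_eq _).1 h.symm)).elim
    · exact (hv ((smul_eq_zero_iff_eq _).1 h)).elim
    · have h : a.out • e v = b.out • e v := h
      refine congrArg some ((QuotientGroup.out_eq' a).symm.trans
        ((QuotientGroup.eq.2 (by_contra fun hn => hv ?_)).trans (QuotientGroup.out_eq' b)))
      rw [← h3 _ hn v, mul_smul, ← h, inv_smul_smul, h1]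
  have : Finite (Option (G ⧸ H)) := Finite.of_injective _ hinj
  have : Finite (G ⧸ H) := Finite.of_injective _ (Option.some_injective _)
  have := Nat.card_le_card_of_injective _ hinj
  rw [Finite.card_option] at this
  exact this

theorem base_of_imprim [Finite G] {b c : ℕ} (hi : Irr G V) (h0 : e ≠ 0) (h1 : ∀ v, e (e v) = e v)
    (h2 : ∀ h ∈ H, ∀ v, h • e v = e (h • v)) (h3 : ∀ g ∉ H, ∀ v, e (g • e v) = 0)
    (hm : @Mult H e.range _ _ (subAct _ (inv_range h2)) b c) (hc : Col H c) : Base G V b := by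
  classical
  obtain ⟨u, hu1, hu2⟩ := hm
  obtain ⟨χ, c1, c2, c3⟩ := hc
  have := Fintype.ofFinite (G ⧸ H)
  have hfix : ∀ x : e.range, e x = x := by rintro ⟨_, v, rfl⟩; exact h1 v
  have comp : ∀ (g : G) (ω : G ⧸ H) i, e (g⁻¹ • ∑ ω : G ⧸ H, ω.out • (u (χ ω.out) i : V)) =
      if (g : G ⧸ H) = ω then (g⁻¹ * ω.out) • (u (χ ω.out) i : V) else
      e (g⁻¹ • ∑ ω : G ⧸ H, ω.out • (u (χ ω.out) i : V)) := fun g ω i => by
    split_ifs with e'
    · rw [Finset.smul_sum, map_sum, Finset.sum_eq_single ω (fun ω' _ hne => ?_) (by simp),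
        smul_smul, ← h2 _ (QuotientGroup.eq.1 (e'.trans ω.out_eq'.symm)), hfix]
      rw [smul_smul, ← hfix, h3]
      exact fun h => hne (ω'.out_eq'.symm.trans ((QuotientGroup.eq.2 h).symm.trans e'))
    · rfl
  refine ⟨fun i => ∑ ω : G ⧸ H, ω.out • (u (χ ω.out) i : V), fun g hg => ?_⟩
  have key : ∀ (ω : G ⧸ H) i,
      ((g • ω).out⁻¹ * g * ω.out) • (u (χ ω.out) i : V) = u (χ (g • ω).out) i := fun ω i => by
    have e1 := comp (g • ω).out (g • ω) i
    have e2 := comp (g⁻¹ * (g • ω).out) ω i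
    rw [if_pos (g • ω).out_eq', inv_mul_cancel, one_smul] at e1
    rw [if_pos (by rw [← smul_eq_mul, ← MulAction.Quotient.smul_mk, QuotientGroup.out_eq',
      inv_smul_smul]), mul_inv_rev, inv_inv, mul_smul, hg i, e1] at e2
    exact e2.symm
  have hmem : ∀ ω : G ⧸ H, (g • ω).out⁻¹ * g * ω.out ∈ H := fun ω => by
    rw [mul_assoc, ← QuotientGroup.eq, QuotientGroup.out_eq', ← smul_eq_mul,
      ← MulAction.Quotient.smul_mk, QuotientGroup.out_eq']
  have hχ : ∀ x : G, χ (x : G ⧸ H).out = χ x := fun x => by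
    obtain ⟨s, hs⟩ := QuotientGroup.mk_out_eq_mul H x
    rw [hs, c2 _ _ s.2]
  have h4 := c3 g fun x => by
    rw [← hχ, ← hχ x]
    exact (hu2 _ (c1 _) _ (c1 _) ⟨_, hmem x⟩ fun i => Subtype.ext (key x i)).symm
  have h5 : ∀ ω : G ⧸ H, g • ω = ω := fun ω => by
    obtain ⟨k, rfl⟩ := QuotientGroup.mk_surjective ω
    rw [MulAction.Quotient.smul_mk, eq_comm, QuotientGroup.eq, smul_eq_mul, ← mul_assoc]
    exact h4 k
  have h6 := closure_eq_top hi (B := e.range) (fun e' => h0 (AddMonoidHom.range_eq_bot_iff.1 e'))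
    (U := fix V g) fun k x hx => by
      obtain ⟨s, hs⟩ := QuotientGroup.mk_out_eq_mul H k
      have h7 := congrArg Subtype.val (hu1 _ (c1 _) ⟨_, hmem k⟩ (fun i => Subtype.ext (by
        have := key k i
        nth_rewrite 2 [h5] at this
        exact this)) ⟨_, inv_range h2 s⁻¹ x hx⟩)
      change ((g • (k : G ⧸ H)).out⁻¹ * g * (k : G ⧸ H).out) • ((s⁻¹ : H) : G) • x =
        ((s⁻¹ : H) : G) • x at h7
      rw [h5, hs, smul_smul, Subgroup.coe_inv, mul_inv_rev, mul_assoc, mul_assoc, mul_assoc,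
        mul_inv_cancel_right, mul_smul, smul_left_cancel_iff, mul_smul, inv_smul_eq_iff,
        mul_smul] at h7
      exact h7
  exact fun w => show w ∈ fix V g from h6 ▸ trivial

end

theorem reduce {b n : ℕ} {P : ℕ → ℕ → Prop}
    (hP : ∀ g v g' v', P g v → g' ∣ g → v' ∣ v → P g' v') (ih : Good.{u} b P n)
    (prim : ∀ (G V : Type u) [Group G] [Finite G] [AddCommGroup V] [Finite V] [Nontrivial V]
      [DistribMulAction G V], Nat.card V ≤ n → Group.IsSolvable G → P (Nat.card G) (Nat.card V) →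
      Irr G V → QPrim G V → Base G V b)
    (imp : ∀ (G W : Type u) [Group G] [Finite G] (H : Subgroup G) [AddCommGroup W] [Finite W]
      [Nontrivial W] [DistribMulAction H W], Group.IsSolvable G → P (Nat.card G) (Nat.card W) →
      IsCoatom H → H.index < n → Irr H W → Base H W b → ∃ c, Mult H W b c ∧ Col H c) :
    Good.{u} b P (n + 1) := by
  intro G V _ _ _ _ _ hn hs hp hcr
  have hlt : ∀ U : AddSubgroup V, U ≠ ⊤ → Nat.card U < n := fun U hU =>
    lt_of_lt_of_le (lt_of_le_of_ne (AddSubgroup.card_le_card_addGroup U) fun e =>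
      hU (AddSubgroup.eq_top_of_card_eq U e)) (Nat.lt_succ_iff.1 hn)
  by_cases hi : Irr G V
  · rcases subsingleton_or_nontrivial V with h | h
    · exact ⟨0, fun g _ w => Subsingleton.elim _ _⟩
    by_cases hq : QPrim G V
    · exact prim G V (Nat.lt_succ_iff.1 hn) hs hp hi hq
    obtain ⟨e, H, hH, h0, h1, h2, h3⟩ := coarsen hi hq
    let _ := subAct _ (inv_range h2)
    have hir := irr_range hi h1 h2 h3
    have hne : e.range ≠ ⊤ := fun e' => by
      obtain ⟨g, hg⟩ : ∃ g, g ∉ H := by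
        by_contra! h
        exact hH.1 (eq_top_iff.2 fun g _ => h g)
      refine h0 (AddMonoidHom.ext fun v => ?_)
      obtain ⟨w, hw⟩ : g⁻¹ • v ∈ e.range := e' ▸ trivial
      rw [← smul_inv_smul g v, ← hw, h3 g hg]
      rfl
    have : Nontrivial e.range := (AddSubgroup.nontrivial_iff_ne_bot _).2 fun e' =>
      h0 (AddMonoidHom.range_eq_bot_iff.1 e')
    have hd := AddSubgroup.card_addSubgroup_dvd_card e.range
    obtain ⟨c, hm, hc⟩ := imp G e.range H hs (hP _ _ _ _ hp dvd_rfl hd) hH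
      ((index_lt h0 h1 h3).trans_le (Nat.lt_succ_iff.1 hn)) hir
      (ih H e.range (hlt _ hne) inferInstance
        (hP _ _ _ _ hp (Subgroup.card_subgroup_dvd_card H) hd) hir.cr)
    exact base_of_imprim hi h0 h1 h2 h3 hm hc
  · simp only [Irr, not_forall, not_or] at hi
    obtain ⟨U, hU, h1, h2⟩ := hi
    obtain ⟨W, hW, h3, h4⟩ := hcr U hU
    refine base_of_sum hU hW h3 h4
      (@ih G U _ _ _ _ (subAct U hU) (hlt U h2) hs
        (hP _ _ _ _ hp dvd_rfl (AddSubgroup.card_addSubgroup_dvd_card U)) (hcr.sub hU))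
      (@ih G W _ _ _ _ (subAct W hW) (hlt W fun e => h1 (by rwa [e, inf_top_eq] at h3)) hs
        (hP _ _ _ _ hp dvd_rfl (AddSubgroup.card_addSubgroup_dvd_card W)) (hcr.sub hW))

end H33.Solv
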