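import Cfsg.Agent.H33.SolvQ
import Cfsg.Agent.H33.SolvMult

/-! Base sizes of solvable linear groups: the quasi-primitive case, explicit constructions. -/

set_option autoImplicit false

namespace H33.Solv

open Subgroup
open scoped commutatorElement

universe u

variable {G : Type u} [Group G] [Finite G] {N : Subgroup G} {K V : Type*} [Field K] [Finite K]
  [AddCommGroup V] [Module K V] [DistribMulAction G V] {s : Scal K G V} {h : NS s.ι.range N}
  {E D : ℕ → Subgroup G} {T : Set G}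

omit [Finite G] [Finite K] in
theorem neg_ne {x : V} (h2 : (2 : K) ≠ 0) (hx : x ≠ 0) : -x ≠ x := fun e =>
  hx ((smul_eq_zero.1 (show (2 : K) • x = 0 by
    rw [two_smul]; nth_rewrite 1 [← e]; rw [neg_add_cancel])).resolve_left h2)

/-- The colours in coordinates. -/
def wc (ξ : K) (i : ℕ) : K × K :=
  if i = 1 then (1, 0) else if i = 2 then (1, 1) else if i = 3 then (1, ξ) else (0, 0)

/-- The nontrivial cosets in coordinates. -/
def Fm (δ ε : K) (p p' : K × K) : Prop :=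
  p' = (δ * (ε * p.1), δ * -(ε * p.2)) ∨ p' = (δ * (ε ^ 2 * p.2), δ * p.1) ∨
    p' = (δ * (ε * (ε ^ 2 * p.2)), δ * -(ε * p.1))

omit [Finite K] in
theorem alg1 {δ ε ξ : K} (hδ : δ ^ 2 = 1) (hε : (ε ^ 2) ^ 2 = 1) (x0 : ξ ≠ 0) (x1 : ξ ^ 2 ≠ 1) :
    ∀ i < 4, ∀ j < 4, (wc ξ j = (δ * (wc ξ i).1, δ * (wc ξ i).2) ∨ Fm δ ε (wc ξ i) (wc ξ j)) →
      i = j := fun i hi j hj e => by
  interval_cases i <;> interval_cases j <;> simp [wc, Fm] at e ⊢ <;> grind

omit [Finite K] in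
theorem alg2 {δ ε η η' : K} (h2 : (2 : K) ≠ 0) (hη : η ^ 2 = 1) (hη' : η' ^ 2 = 1)
    (e1 : (δ * (ε * 1), δ * -(ε * 0)) = (η, 0) ∧ (δ * (ε * 1), δ * -(ε * 1)) = (η', η') ∨
      (δ * (ε ^ 2 * 0), δ * 1) = (η, 0) ∨ (δ * (ε * (ε ^ 2 * 0)), δ * -(ε * 1)) = (η, 0)) : False := by
  simp only [Prod.ext_iff] at e1
  grind

omit [Finite K] in
theorem alg3 {δ ε ξ η : K} (h2 : (2 : K) ≠ 0) (hδ : δ ^ 2 = 1) (hε : (ε ^ 2) ^ 2 = 1) (x0 : ξ ≠ 0)
    (x1 : ξ ^ 2 ≠ 1) (hη : η ^ 2 = 1) (e : Fm δ ε (1, ξ) (η * 1, η * ξ)) : False := by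
  simp only [Fm, Prod.ext_iff] at e
  grind

namespace Dat

variable (d : Dat h E D T)
include d

omit [Finite G] [Finite K] in
theorem linT {k : G} (hk : k ∈ T) (c : K) (v : V) : k • c • v = c • k • v :=
  s.lin (h.cent k (d.sub hk)) c v

omit [Finite G] [Finite K] in
theorem linE {k : G} (hk : k ∈ E 2) (c : K) (v : V) : k • c • v = c • k • v :=
  s.lin (h.cent k (d.EN Nat.prime_two hk)) c v

omit [Finite G] [Finite K] in
theorem fixC {v : V} (hv : ∀ k ∈ T, k • v = v) {c : G}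
    (hc : c ∈ E 2 ⊓ centralizer (D 2 : Set G)) : ∀ k ∈ T, k • c • v = c • v := fun k hk => by
  rw [← mul_smul, (d.cent Nat.prime_two hc.1).2 hc.2 k hk, mul_smul, hv k hk]

omit [Finite G] [Finite K] in
theorem sign {a : G} (ha : a ∈ D 2) :
    ∃ δ : K, δ ^ 2 = 1 ∧ ∀ v : V, (∀ k ∈ T, k • v = v) → a • v = δ • v := by
  obtain ⟨_, ⟨c, rfl⟩, e⟩ := d.t2 2 Nat.prime_two a ha
  have key : ∀ v : V, (∀ k ∈ T, k • v = v) → a • v = (c⁻¹ : Kˣ) • v := fun v hv => by
    rw [eq_inv_smul_iff, Units.smul_def, ← s.smul, ← mul_smul,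
      h.cent a (d.DN Nat.prime_two ha) _ ⟨c, rfl⟩, hv _ e]
  by_cases h0 : ∀ v : V, (∀ k ∈ T, k • v = v) → v = 0
  · exact ⟨1, one_pow 2, fun v hv => by rw [h0 v hv, smul_zero, smul_zero]⟩
  push Not at h0
  obtain ⟨v, hv, h0⟩ := h0
  refine ⟨(c⁻¹ : Kˣ), smul_left_injective K h0 ?_, key⟩
  beta_reduce
  rw [one_smul, pow_two, mul_smul, ← Units.smul_def c⁻¹ v, ← key v hv,
    ← d.linE (d.le 2 Nat.prime_two ha), ← Units.smul_def, ← key v hv, ← mul_smul, ← pow_two,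
    d.pow 2 Nat.prime_two a ha, one_smul]

omit [Finite K] in
theorem loc_neg {x : V} (hx0 : x ≠ 0) (hx : ∀ k ∈ T, k • x = x)
    (ho : Odd (Nat.card G) ∨ (2 : K) ≠ 0) {P : G → Prop}
    (hP : ∀ g, P g → (∀ z ∈ s.ι.range, z * g = g * z) ∧ g • x = x) {r : ℕ} (hr : r.Prime)
    (h2 : r ≠ 2) : Loc V (E r) (D r) T P :=
  d.loc_odd hr h2 s.fpf s.fpf hx0 hx hx0 hx (v := -x) (fun k hk => by rw [smul_neg, hx k hk])
    (ho.imp_right fun h0 => ⟨neg_ne_zero.2 hx0, fun z hz e1 e2 => by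
      have e3 := (s.fpf _ (pow_mem hz 2) x (by
        rw [pow_two, mul_smul, e2, smul_neg, e2, neg_neg])).resolve_right hx0
      rw [(pow_eq_one_iff_of_coprime ((Nat.coprime_primes hr Nat.prime_two).2 h2)).1 ⟨e1, e3⟩,
        one_smul] at e2
      exact neg_ne h0 hx0 e2.symm⟩)
    fun g hg => ⟨(hP g hg).1, (hP g hg).2, by rw [smul_neg, (hP g hg).2], (hP g hg).2⟩

theorem base_triv {x : V} (hx0 : x ≠ 0) (hx : ∀ k ∈ T, k • x = x) (hE : E 2 ≤ D 2)
    (ho : Odd (Nat.card G) ∨ (2 : K) ≠ 0) : Base G V 2 := by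
  obtain ⟨c, hc⟩ := IsCyclic.exists_generator (α := Kˣ)
  obtain ⟨y, hy⟩ := d.master s.fpf s.fpf hx0 hx (fun k hk _ _ _ _ _ => hE hk) (y := (c : K) • x)
    (fun k hk => by rw [d.linT hk, hx k hk])
    (P := fun g => (∀ z ∈ s.ι.range, z * g = g * z) ∧ g • x = x)
    (fun g e1 e2 _ _ _ => ⟨s.lin_of hc hx0 (by rw [e2, e1]), e1⟩) (fun g hg => hg.1) fun r hr => by
      by_cases h2 : r = 2
      · subst h2
        exact d.loc_triv hr (fun a ha b hb => d.comm 2 hr b hb a (hE ha)) hE fun g hg => hg.1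
      · exact d.loc_neg hx0 hx ho (fun g hg => hg) hr h2
  exact base_two.2 ⟨x, y, fun g e1 e2 v => by rw [hy g e1 e2, one_smul]⟩

variable {a b : G} (q : Quat (E 2) (D 2) a b)
include q

omit [Finite G] [Finite K] in
theorem act {k : G} (hk : k ∈ E 2 ⊓ centralizer (D 2 : Set G)) : ∃ δ : K, δ ^ 2 = 1 ∧
    ((k ∈ D 2 ∧ ∀ v : V, (∀ k ∈ T, k • v = v) → k • v = δ • v) ∨
      (∀ v : V, (∀ k ∈ T, k • v = v) → k • v = δ • a • v) ∨
      (∀ v : V, (∀ k ∈ T, k • v = v) → k • v = δ • b • v) ∨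
      ∀ v : V, (∀ k ∈ T, k • v = v) → k • v = δ • a • b • v) := by
  have key : ∀ c ∈ E 2, c⁻¹ * k ∈ D 2 → ∃ δ : K, δ ^ 2 = 1 ∧
      ∀ v : V, (∀ k ∈ T, k • v = v) → k • v = δ • c • v := fun c hc e =>
    let ⟨δ, h1, h2⟩ := d.sign e
    ⟨δ, h1, fun v hv => by rw [← d.linE hc, ← h2 v hv, mul_smul, smul_inv_smul]⟩
  rcases q.cov k hk with e | e | e | e
  · exact (d.sign e).imp fun δ h => ⟨h.1, Or.inl ⟨e, h.2⟩⟩
  · exact (key a q.hs.1 e).imp fun δ h => ⟨h.1, Or.inr (Or.inl h.2)⟩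
  · exact (key b q.ht.1 e).imp fun δ h => ⟨h.1, Or.inr (Or.inr (Or.inl h.2))⟩
  · exact (key _ (mul_mem q.hs q.ht).1 e).imp fun δ h =>
      ⟨h.1, Or.inr (Or.inr (Or.inr fun v hv => by rw [h.2 v hv, mul_smul]))⟩

omit [Finite G] [Finite K] in
theorem anti (v : V) : b • a • v = -(a • b • v) := by
  have hb := d.EN Nat.prime_two q.ht.1
  have ha := d.EN Nat.prime_two q.hs.1
  rw [← mul_smul, H9.mul_eq_commutatorElement_mul, mul_smul, mul_smul]
  exact (s.neg (h.comm b hb a ha) (h.comm_pow hb ha ((d.es 2 Nat.prime_two).le q.ht.1).2) _).resolve_left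
    fun e => q.ne (commutatorElement_eq_one_iff_mul_comm.1 e.1).symm

omit [Finite G] [Finite K] in
theorem sq_cases : (∀ v : V, a • a • v = v ∧ b • b • v = v) ∨
    ∀ v : V, a • a • v = -v ∧ b • b • v = -v := by
  have hE := d.es 2 Nat.prime_two
  by_cases e : a ^ 2 = 1
  · exact Or.inl fun v => by
      rw [← mul_smul, ← mul_smul, ← pow_two, ← pow_two, ← q.sq, e, one_smul]; exact ⟨rfl, rfl⟩
  · exact Or.inr fun v => by
      rw [← mul_smul, ← mul_smul, ← pow_two, ← pow_two, ← q.sq, and_self]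
      exact (s.neg (hE.le q.hs.1).2 (hE.four q.hs.1) v).resolve_left fun e' => e e'.1

omit [Finite K] in
theorem conj_a {g : G} (hg : ∀ a ∈ D 2, g * a * g⁻¹ ∈ D 2) :
    g * a * g⁻¹ ∈ E 2 ⊓ centralizer (D 2 : Set G) ∧ g * a * g⁻¹ ∉ D 2 := by
  have hn := mem_normalizer_iff.1 (mem_normalizer_fintype hg)
  refine ⟨⟨(d.es 2 Nat.prime_two).normal.conj_mem a q.hs.1 g, fun c hc => ?_⟩,
    fun e => q.ne (q.ht.2 a ((hn a).2 e))⟩
  have := q.hs.2 (g⁻¹ * c * g) ((hn _).2 (by simpa [mul_assoc] using hc))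
  rw [show c * (g * a * g⁻¹) = g * (g⁻¹ * c * g * a) * g⁻¹ by group, this]
  group

theorem base_b1 (h2 : (2 : K) ≠ 0) (hq : 3 < Nat.card K) {v : V} (v0 : v ≠ 0)
    (hv : ∀ k ∈ T, k • v = v) {ε : K} (hε : ε ^ 2 = 1 ∨ ε ^ 2 = -1)
    (hab : ∀ v : V, a • a • v = ε ^ 2 • v ∧ b • b • v = ε ^ 2 • v) : Base G V 2 := by
  classical
  have la := d.linE q.hs.1
  have lb := d.linE q.ht.1
  wlog he : a • v = ε • v generalizing v ε
  · by_cases h0 : a • v + ε • v = 0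
    · exact this v0 hv (ε := -ε) (by simpa using hε) (by simpa using hab)
        (by rw [neg_smul]; exact eq_neg_of_add_eq_zero_left h0)
    · refine this h0 (fun k hk => by rw [smul_add, d.fixC hv q.hs k hk, d.linT hk, hv k hk]) hε hab ?_
      rw [smul_add, (hab v).1, la, smul_add, smul_smul, pow_two, add_comm]
  obtain ⟨c, hc⟩ := IsCyclic.exists_generator (α := Kˣ)
  obtain ⟨ξ, x0, x1⟩ : ∃ ξ : K, ξ ≠ 0 ∧ ξ ^ 2 ≠ 1 := ⟨c, c.ne_zero, fun e => by
    have := orderOf_le_of_pow_eq_one two_pos (Units.ext e : c ^ 2 = 1)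
    rw [orderOf_eq_card_of_forall_mem_zpowers hc, Nat.card_units] at this
    omega⟩
  have e0 : ε ≠ 0 := by rintro rfl; simp at hε
  have e4 : (ε ^ 2) ^ 2 = 1 := by rcases hε with e | e <;> rw [e] <;> simp
  have hab' : a • b • v = -(ε • b • v) := by rw [← neg_inj, ← d.anti q, he, lb, neg_neg]
  have hb' := (hab v).2
  have hT' := d.fixC hv q.ht
  obtain ⟨v', hbv⟩ : ∃ v', b • v = v' := ⟨_, rfl⟩
  have v0' : v' ≠ 0 := by rwa [← hbv, Ne, smul_eq_zero_iff_eq]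
  rw [hbv] at hab' hb' hT'
  let φ : K × K → V := fun p => p.1 • v + p.2 • v'
  have fa : ∀ p, a • φ p = φ (ε * p.1, -(ε * p.2)) := fun p => by
    simp only [φ, smul_add, la, he, hab']; module
  have fb : ∀ p, b • φ p = φ (ε ^ 2 * p.2, p.1) := fun p => by
    simp only [φ, smul_add, lb, hb', hbv]; module
  have fs : ∀ (δ : K) p, δ • φ p = φ (δ * p.1, δ * p.2) := fun δ p => by simp only [φ]; module
  have fn : ∀ p, -φ p = φ (-p.1, -p.2) := fun p => by simp only [φ]; module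
  have fi : ∀ p p', φ p = φ p' → p = p' := fun p p' e => by
    have e' := congrArg (a • ·) e
    simp only [fa] at e'
    simp only [φ] at e e'
    have h1 : (2 * ε * (p.1 - p'.1)) • v = 0 := by linear_combination (norm := module) ε • e + e'
    have h3 : (2 * ε * (p.2 - p'.2)) • v' = 0 := by linear_combination (norm := module) ε • e - e'
    simpa [h2, e0, v0, v0', sub_eq_zero, Prod.ext_iff] using And.intro h1 h3
  have fT : ∀ p, ∀ k ∈ T, k • φ p = φ p := fun p k hk => by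
    simp only [φ, smul_add, d.linT hk, hv k hk, hT' k hk]
  have act : ∀ k ∈ E 2 ⊓ centralizer (D 2 : Set G), ∃ δ : K, δ ^ 2 = 1 ∧
      ((k ∈ D 2 ∧ ∀ p, k • φ p = φ (δ * p.1, δ * p.2)) ∨
      (∀ p, k • φ p = φ (δ * (ε * p.1), δ * -(ε * p.2))) ∨
      (∀ p, k • φ p = φ (δ * (ε ^ 2 * p.2), δ * p.1)) ∨
      ∀ p, k • φ p = φ (δ * (ε * (ε ^ 2 * p.2)), δ * -(ε * p.1))) := fun k hk =>
    (d.act q hk).imp fun δ h => ⟨h.1, h.2.imp (fun e => ⟨e.1, fun p => by rw [e.2 _ (fT p), fs]⟩)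
      (Or.imp (fun e p => by rw [e _ (fT p), fa, fs]) (Or.imp (fun e p => by rw [e _ (fT p), fb, fs])
        fun e p => by rw [e _ (fT p), fb, fa, fs]))⟩
  have hx0 : φ (1, ξ) ≠ 0 := fun e => one_ne_zero (congrArg Prod.fst (fi _ (0, 0) (by rw [e]; simp [φ])))
  have dx : ∀ k ∈ E 2 ⊓ centralizer (D 2 : Set G), ∀ η : K, η ^ 2 = 1 →
      k • φ (1, ξ) = η • φ (1, ξ) → k ∈ D 2 := fun k hk η hη e => by
    obtain ⟨δ, hδ, e' | e' | e' | e'⟩ := act k hk
    · exact e'.1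
    all_goals
      rw [e', fs] at e
      exact (alg3 h2 hδ e4 x0 x1 hη (by simp only [Fm, ← fi _ _ e, true_or, or_true])).elim
  let P := fun g : G => (∀ z ∈ s.ι.range, z * g = g * z) ∧ ∀ p, g • φ p = φ p
  obtain ⟨y, hy⟩ := d.master s.fpf s.fpf hx0 (fT _) (fun k hk hc z hz z2 e => by
      rcases s.neg hz z2 (φ (1, ξ)) with e' | e'
      · exact dx k ⟨hk, hc⟩ 1 (one_pow 2) (by rw [e, e'.2, one_smul])
      · exact dx k ⟨hk, hc⟩ (-1) (neg_one_sq) (by rw [e, e', neg_one_smul]))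
    (y := (c : K) • v) (fun k hk => by rw [d.linT hk, hv k hk]) (P := P)
    (fun g e1 e2 _ _ hg => by
      obtain ⟨a1, a2⟩ := d.conj_a q hg
      obtain ⟨ε', -, he'⟩ := s.semi g (Units.mk0 ε e0)
      simp only [Units.val_mk0] at he'
      have k1 : ∀ w : V, a • w = ε • w → (g * a * g⁻¹) • g • w = (ε' : K) • g • w := fun w e => by
        rw [mul_smul, inv_smul_smul, mul_smul, e, he']
      have k2 : ∀ w : V, a • w = -(ε • w) → (g * a * g⁻¹) • g • w = -((ε' : K) • g • w) :=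
        fun w e => by rw [mul_smul, inv_smul_smul, mul_smul, e, smul_neg, he']
      have k3 := k1 ((c : K) • v) (by rw [la, he, smul_comm])
      rw [e2, d.linE a1.1, smul_comm (ε' : K), smul_right_inj c.ne_zero] at k3
      have k4 : (g * a * g⁻¹) • v' = -((ε' : K) • v') := by
        have v1 : v = φ (1, 0) := by simp [φ]
        have v2 : v' = φ (0, 1) := by simp [φ]
        rw [v2, fs, fn]
        rw [v1, fs] at k3
        obtain ⟨δ, hδ, e' | e' | e' | e'⟩ := act _ a1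
        · exact (a2 e'.1).elim
        all_goals
          rw [e'] at k3 ⊢
          have k := congrArg Prod.fst (fi _ _ k3)
          simp only [mul_one, mul_zero, neg_zero] at k ⊢
        exacts [by rw [← k, mul_neg], (ε'.ne_zero k.symm).elim, (ε'.ne_zero k.symm).elim]
      have k5 := k2 (ξ • v') (by rw [la, hab', smul_neg, smul_comm])
      have k6 := k1 v he
      simp only [φ, one_smul, smul_add] at e1
      have k7 := congrArg ((g * a * g⁻¹) • ·) e1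
      simp only [smul_add, k5, k6, k3, d.linE a1.1, k4] at k7
      have k8 : (2 * (ε' : K)) • (g • v - v) = 0 := by
        generalize g • v = w1, g • ξ • v' = w2 at e1 k7 ⊢
        linear_combination (norm := module) (ε' : K) • e1 + k7
      have k9 : g • v = v := by simpa [h2, sub_eq_zero] using k8
      have gl := s.lin_of hc v0 (e2.trans (by rw [k9]))
      rw [k9, add_right_inj, s.lin gl, smul_right_inj x0] at e1
      exact ⟨gl, fun p => by simp only [φ, smul_add, s.lin gl, k9, e1]⟩)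
    (fun g hg => hg.1) fun r hr => by
      by_cases hr2 : r = 2
      swap
      · exact d.loc_neg hx0 (fT _) (Or.inr h2) (fun g hg => ⟨hg.1, hg.2 _⟩) hr hr2
      subst hr2
      refine d.loc_two s.fpf s.fpf hx0 (fT _) (fun k hk e => dx k hk 1 (one_pow 2) (by rwa [one_smul]))
        (u := fun i => φ (wc ξ i)) (by simp [φ, wc]) (fun i => fT _) (fun i hi j hj k hk e => ?_)
        (fun k hk e1 e2 => ?_) (fun k hk e => dx k hk 1 (one_pow 2) (by rwa [one_smul]))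
        (fun i k hk => ?_) fun g hg => ⟨hg.1, fun i => hg.2 _, fun k hk => ?_⟩
      · obtain ⟨δ, hδ, ⟨-, e'⟩ | e' | e' | e'⟩ := act k hk <;> rw [e'] at e <;>
          exact alg1 hδ e4 x0 x1 i hi j hj (by simp only [Fm, ← fi _ _ e, true_or, or_true])
      · obtain ⟨η, hη, e1⟩ : ∃ η : K, η ^ 2 = 1 ∧ k • φ (1, 0) = φ (η, 0) :=
          e1.elim (fun e => ⟨1, one_pow 2, e⟩) fun e => ⟨-1, neg_one_sq, by
            rw [← neg_zero, ← fn (1, 0), neg_zero]; exact e⟩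
        obtain ⟨η', hη', e2⟩ : ∃ η : K, η ^ 2 = 1 ∧ k • φ (1, 1) = φ (η, η) :=
          e2.elim (fun e => ⟨1, one_pow 2, e⟩) fun e => ⟨-1, neg_one_sq, e.trans (fn (1, 1))⟩
        obtain ⟨δ, hδ, e' | e' | e' | e'⟩ := act k hk
        · exact e'.1
        all_goals rw [e'] at e1 e2
        exacts [(alg2 h2 hη hη' (Or.inl ⟨fi _ _ e1, fi _ _ e2⟩)).elim,
          (alg2 h2 hη hη' (Or.inr (Or.inl (fi _ _ e1)))).elim,
          (alg2 h2 hη hη' (Or.inr (Or.inr (fi _ _ e1)))).elim]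
      · obtain ⟨δ, hδ, e⟩ := d.sign hk
        rw [e _ (fT _)]
        exact (sq_eq_one_iff.1 hδ).imp (fun e => by rw [e, one_smul])
          fun e => by rw [e, neg_one_smul]
      · obtain ⟨δ, -, ⟨-, e'⟩ | e' | e' | e'⟩ := act k hk <;> rw [e', hg.2]
  exact base_two.2 ⟨_, y, fun g e1 e2 v => by rw [hy g e1 e2, one_smul]⟩

end Dat

end H33.Solv
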