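import Cfsg.Agent.H33.SolvScal

/-! Base sizes of solvable linear groups: the quasi-primitive case, quaternion type and three
vectors. -/

set_option autoImplicit false

namespace H33.Solv

open Subgroup
open scoped commutatorElement

universe u

variable {G : Type u} [Group G] [Finite G] {N : Subgroup G} {K V : Type*} [Field K] [Finite K]
  [AddCommGroup V] [Module K V] [DistribMulAction G V] {s : Scal K G V} {h : NS s.ι.range N}
  {E D : ℕ → Subgroup G} {T : Set G}

theorem exists_sq_add (K : Type*) [Field K] [Finite K] : ∃ α β : K, α ^ 2 + β ^ 2 = -1 := by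
  obtain ⟨p, hp⟩ := CharP.exists K
  have := Fact.mk (CharP.char_is_prime K p)
  obtain ⟨a, b, e⟩ := CharP.sq_add_sq K p (-1)
  exact ⟨a, b, by simpa using e⟩

/-- Scalar colours. -/
def wd (c : K) (i : ℕ) : K := if i = 1 then 1 else if i = 2 then c else if i = 3 then c ^ 2 else 0

omit [Finite K] in
theorem alg4 {c : K} (c0 : c ≠ 0) (c2 : c ^ 2 ≠ 1) (c4 : (c ^ 2) ^ 2 ≠ 1) :
    ∀ i < 4, ∀ j < 4, wd c i ^ 2 = wd c j ^ 2 → i = j := fun i hi j hj e => by
  interval_cases i <;> interval_cases j <;> simp [wd] at e ⊢ <;> grind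

namespace Dat

variable (d : Dat h E D T) {a b : G} (q : Quat (E 2) (D 2) a b)
include d q

omit [Finite G] [Finite K] in
theorem jvec {v : V} (v0 : v ≠ 0) (hv : ∀ k ∈ T, k • v = v)
    (hab : ∀ v : V, a • a • v = -v ∧ b • b • v = -v) {α β : K} (e : α ^ 2 + β ^ 2 = -1) :
    ∃ x : V, x ≠ 0 ∧ (∀ k ∈ T, k • x = x) ∧ ∃ δ : K, δ ^ 2 = 1 ∧ α • a • x + β • b • x = δ • x := by
  by_cases h0 : α • a • v + β • b • v + v = 0
  · exact ⟨v, v0, hv, -1, neg_one_sq, by rw [neg_one_smul]; exact eq_neg_of_add_eq_zero_left h0⟩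
  refine ⟨_, h0, fun k hk => by
    simp only [smul_add, d.linT hk, d.fixC hv q.hs k hk, d.fixC hv q.ht k hk, hv k hk], 1, one_pow 2, ?_⟩
  simp only [smul_add, d.linE q.hs.1, d.linE q.ht.1, (hab v).1, (hab v).2, d.anti q v]
  generalize a • b • v = w
  generalize a • v = w1, b • v = w2
  linear_combination (norm := module) -e • v

omit [Finite G] [Finite K] in
theorem eigD (hab : ∀ v : V, a • a • v = -v ∧ b • b • v = -v) {k : G}
    (hk : k ∈ E 2 ⊓ centralizer (D 2 : Set G)) {v : V} (v0 : v ≠ 0) (hv : ∀ k ∈ T, k • v = v) {l : K}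
    (hl : l ^ 2 ≠ -1) (e : k • v = l • v) : k ∈ D 2 := by
  have e2 : k • k • v = l ^ 2 • v := by rw [e, d.linE hk.1, e, smul_smul, pow_two]
  have fin : ∀ δ : K, δ ^ 2 = 1 → k • k • v = δ • δ • -v → k ∈ D 2 := fun δ hδ e' =>
    (hl (smul_left_injective K v0 (by
      beta_reduce; rw [← e2, e', smul_smul, ← pow_two, hδ, one_smul, neg_one_smul]))).elim
  obtain ⟨δ, hδ, e' | e' | e' | e'⟩ := d.act q hk
  · exact e'.1
  all_goals refine fin δ hδ ?_
  · rw [e' _ (d.fixC hv hk), e' v hv, d.linE q.hs.1, (hab v).1]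
  · rw [e' _ (d.fixC hv hk), e' v hv, d.linE q.ht.1, (hab v).2]
  · rw [e' _ (d.fixC hv hk), e' v hv, d.linE q.ht.1, d.linE q.hs.1, d.anti q, smul_neg, (hab _).1,
      neg_neg, (hab v).2]

omit [Finite G] [Finite K] in
theorem gx {g : G} (gl : ∀ z ∈ s.ι.range, z * g = g * z) {x : V} (hx : ∀ k ∈ T, k • x = x)
    (e0 : g • x = x) (e1 : g • a • x = a • x) (e2 : g • b • x = b • x)
    (e3 : g • a • b • x = a • b • x) : ∀ c ∈ E 2 ⊓ centralizer (D 2 : Set G), g • c • x = c • x :=
  fun c hc => by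
    obtain ⟨δ, -, ⟨-, e⟩ | e | e | e⟩ := d.act q hc <;> rw [e x hx, s.lin gl]
    exacts [by rw [e0], by rw [e1], by rw [e2], by rw [e3]]

theorem base_b2 (h2 : (2 : K) ≠ 0) (hq : 3 < Nat.card K) {v : V} (v0 : v ≠ 0)
    (hv : ∀ k ∈ T, k • v = v) (hi : ∀ i : K, i ^ 2 ≠ -1)
    (hab : ∀ v : V, a • a • v = -v ∧ b • b • v = -v) : Base G V 2 := by
  obtain ⟨α, β, e⟩ := exists_sq_add K
  have α0 : α ≠ 0 := by rintro rfl; exact hi β (by simpa using e)
  have β0 : β ≠ 0 := by rintro rfl; exact hi α (by simpa using e)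
  obtain ⟨x, x0, hx, δ0, hδ0, ej⟩ := d.jvec q v0 hv hab e
  have δ00 : δ0 ≠ 0 := by rintro rfl; simp at hδ0
  obtain ⟨c, hc⟩ := IsCyclic.exists_generator (α := Kˣ)
  have c2 : (c : K) ^ 2 ≠ 1 := fun e => by
    have := orderOf_le_of_pow_eq_one two_pos (Units.ext e : c ^ 2 = 1)
    rw [orderOf_eq_card_of_forall_mem_zpowers hc, Nat.card_units] at this
    omega
  have c4 : ((c : K) ^ 2) ^ 2 ≠ 1 := fun e => (sq_eq_one_iff.1 e).elim c2 (hi c)
  have la := d.linE q.hs.1
  have ha2 := (hab x).1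
  have hT' := d.fixC hx q.hs
  obtain ⟨y, hy⟩ : ∃ y, a • x = y := ⟨_, rfl⟩
  rw [hy] at ej ha2 hT'
  have y0 : y ≠ 0 := by rwa [← hy, Ne, smul_eq_zero_iff_eq]
  have hb : b • x = (β⁻¹ * δ0) • x - (β⁻¹ * α) • y := by
    rw [mul_smul, mul_smul, ← smul_sub, ← ej, add_sub_cancel_left, inv_smul_smul₀ β0]
  have hab' : a • b • x = (β⁻¹ * α) • x + (β⁻¹ * δ0) • y := by
    rw [hb, smul_sub, la, la, hy, ha2]; module
  have ind : ∀ p r : K, p • x = r • y → p = 0 := fun p r e => by_contra fun hp => by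
    have e' := congrArg (a • ·) e
    simp only [la, hy, ha2] at e'
    have : (p ^ 2 + r ^ 2) • x = 0 := by linear_combination (norm := module) p • e + r • e'
    refine hi (r / p) ?_
    have := (smul_eq_zero.1 this).resolve_right x0
    field_simp
    linear_combination this
  have ed := fun k hk (v : V) v0 hv l => d.eigD q hab (k := k) hk (v := v) v0 hv (hi l)
  have hu : ∀ (l : K), ∀ k ∈ T, k • l • x = l • x := fun l k hk => by rw [d.linT hk, hx k hk]
  let P := fun g : G => (∀ z ∈ s.ι.range, z * g = g * z) ∧ g • x = x ∧ g • y = y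
  obtain ⟨y', hy'⟩ := d.master s.fpf s.fpf x0 hx (fun k hk hc z ⟨l, hl⟩ _ e =>
      ed k ⟨hk, hc⟩ x x0 hx l (by rw [e, ← hl, s.smul]))
    (y := (c : K) • y) (fun k hk => by rw [d.linT hk, hT' k hk]) (P := P)
    (fun g e1 e2 _ _ hg => by
      obtain ⟨a1, a2⟩ := d.conj_a q hg
      obtain ⟨c', e3, e4⟩ := s.semi g c
      have e5 : (c' : K) • (g * a * g⁻¹) • x = (c : K) • y := by
        rw [← e2, e4, mul_smul, mul_smul, inv_smul_eq_iff.2 e1.symm, hy]
      have : (c' : K) = c := by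
        obtain ⟨δ, hδ, e' | e' | e' | e'⟩ := d.act q a1
        · exact (a2 e'.1).elim
        · rw [e' x hx, hy, smul_smul] at e5
          have e6 := smul_left_injective K y0 e5
          rcases sq_eq_one_iff.1 hδ with rfl | rfl
          · simpa using e6
          obtain ⟨j, hj⟩ := hc (-1)
          beta_reduce at hj
          rcases Int.even_or_odd' j with ⟨i, rfl | rfl⟩
          · exact (hi (c ^ i : Kˣ) (by
              rw [← Units.val_pow_eq_pow_val, ← zpow_natCast, ← zpow_mul, mul_comm]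
              exact congrArg Units.val hj)).elim
          obtain ⟨b', e7, -⟩ := s.semi g⁻¹ (c ^ (i + 1))
          have := nontrivial_of_ne _ _ x0
          have e8 : c = b' ^ 2 := s.inj (by
            rw [map_pow, e7, conj_pow, ← map_pow, show (c ^ (i + 1)) ^ 2 = c' from by
              rw [← zpow_natCast, ← zpow_mul, show (i + 1) * (2 : ℕ) = 2 * i + 1 + 1 by push_cast; ring,
                zpow_add_one, hj]
              exact Units.ext (by simp [← e6]), e3]
            group)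
          exact (hi (b' ^ (2 * i + 1) : Kˣ) (by
            rw [← Units.val_pow_eq_pow_val, ← zpow_natCast, ← zpow_mul, mul_comm, zpow_mul,
              zpow_natCast, ← e8]
            exact congrArg Units.val hj)).elim
        · rw [e' x hx, hb] at e5
          have := ind (c' * δ * (β⁻¹ * δ0)) (c + c' * δ * (β⁻¹ * α)) (by
            linear_combination (norm := module) e5)
          simp [β0, δ00] at this
          simp [this] at hδ
        · rw [e' x hx, hab'] at e5
          have := ind (c' * δ * (β⁻¹ * α)) (c - c' * δ * (β⁻¹ * δ0)) (by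
            linear_combination (norm := module) e5)
          simp [β0, α0] at this
          simp [this] at hδ
      have gl := s.lin_of hc x0 (by rw [e4, this])
      exact ⟨gl, e1, by rwa [s.lin gl, smul_right_inj c.ne_zero] at e2⟩)
    (fun g hg => hg.1) fun r hr => by
      by_cases hr2 : r = 2
      swap
      · exact d.loc_neg x0 hx (Or.inr h2) (fun g hg => ⟨hg.1, hg.2.1⟩) hr hr2
      subst hr2
      let w : ℕ → K := wd (c : K)
      have sg : ∀ i, ∀ k ∈ D 2, k • w i • x = w i • x ∨ k • w i • x = -(w i • x) := fun i k hk => by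
        obtain ⟨δ, hδ, e⟩ := d.sign hk
        rw [e _ (hu _)]
        exact (sq_eq_one_iff.1 hδ).imp (fun e => by rw [e, one_smul]) fun e => by rw [e, neg_one_smul]
      refine d.loc_two s.fpf s.fpf x0 hx (fun k hk e => ed k hk x x0 hx 1 (by rwa [one_smul]))
        (u := fun i => w i • x) (by simp [w, wd]) (fun i => hu _) (fun i hi j hj k hk e => ?_)
        (fun k hk e1 _ => ?_) (fun k hk e => ed k hk (w 3 • x) (by simp [w, wd, x0]) (hu _) 1 (by rwa [one_smul]))
        sg fun g hg => ⟨hg.1, fun i => by rw [s.lin hg.1, hg.2.1], d.gx q hg.1 hx hg.2.1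
          (by rw [hy, hg.2.2]) (by simp only [hb, smul_sub, s.lin hg.1, hg.2.1, hg.2.2])
          (by simp only [hab', smul_add, s.lin hg.1, hg.2.1, hg.2.2])⟩
      · have key : (w i) ^ 2 = (w j) ^ 2 := by
          by_cases h0 : w i = 0
          · rw [h0, zero_smul, smul_zero, eq_comm, smul_eq_zero] at e
            rw [h0, e.resolve_right x0]
          have := sg i k (ed k hk _ (smul_ne_zero h0 x0) (hu _) (w j / w i) (by
            rw [e, smul_smul, div_mul_cancel₀ _ h0]))
          rw [e, ← neg_smul] at this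
          exact this.elim (fun e => by rw [smul_left_injective K x0 e])
            fun e => by rw [smul_left_injective K x0 e, neg_sq]
        exact alg4 c.ne_zero c2 c4 i hi j hj key
      · simp only [w, wd, if_true, one_smul] at e1
        exact e1.elim (fun e => ed k hk x x0 hx 1 (by rwa [one_smul]))
          fun e => ed k hk x x0 hx (-1) (by rwa [neg_one_smul])
  exact base_two.2 ⟨_, y', fun g e1 e2 v => by rw [hy' g e1 e2, one_smul]⟩

omit q in
theorem base_three {x w : V} (x0 : x ≠ 0) (hx : ∀ k ∈ T, k • x = x) (hw : ∀ k ∈ T, k • w = w)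
    (dx : ∀ k ∈ E 2 ⊓ centralizer (D 2 : Set G), k • x = x ∨ k • x = -x → k ∈ D 2)
    (gx : ∀ g : G, (∀ z ∈ s.ι.range, z * g = g * z) → g • x = x → g • w = w →
      ∀ c ∈ E 2 ⊓ centralizer (D 2 : Set G), g • c • x = c • x) : Base G V 3 := by
  obtain ⟨c, hc⟩ := IsCyclic.exists_generator (α := Kˣ)
  let P := fun g : G => (∀ z ∈ s.ι.range, z * g = g * z) ∧ g • x = x ∧ g • w = w
  obtain ⟨y, hy⟩ := d.master s.fpf s.fpf2 x0 hx (fun k hk hc z hz z2 e =>
      dx k ⟨hk, hc⟩ (e ▸ (s.neg hz z2 x).imp_left And.right))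
    (y := ((c : K) • x, w)) (fun k hk => by rw [Prod.smul_mk, d.linT hk, hx k hk, hw k hk]) (P := P)
    (fun g e1 e2 _ _ _ => ⟨s.lin_of hc x0 ((congrArg Prod.fst e2).trans (by rw [e1])), e1,
      congrArg Prod.snd e2⟩) (fun g hg => hg.1) fun r hr => by
      by_cases hr2 : r = 2
      swap
      · exact d.loc_odd hr hr2 s.fpf s.fpf2 x0 hx (u := (x, 0)) (v := (0, x)) (by simp [x0])
          (fun k hk => by simp [hx k hk]) (fun k hk => by simp [hx k hk])
          (Or.inr ⟨by simp [x0], fun z _ _ => by simp [x0.symm]⟩)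
          fun g hg => ⟨hg.1, by simp [hg.2.1], by simp [hg.2.1], hg.2.1⟩
      subst hr2
      refine d.loc_two s.fpf s.fpf2 x0 hx (fun k hk e => dx k hk (Or.inl e))
        (u := fun i => if i = 1 then (x, 0) else if i = 2 then (0, x) else
          if i = 3 then (x, x) else 0) rfl (fun i k hk => by split_ifs <;> simp [hx k hk])
        (fun i hi j hj k hk e => ?_)
        (fun k hk e _ => dx k hk (e.imp (congrArg Prod.fst) (congrArg Prod.fst)))
        (fun k hk e => dx k hk (Or.inl (congrArg Prod.fst e))) (fun i k hk => ?_)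
        fun g hg => ⟨hg.1, fun i => by split_ifs <;> simp [hg.2.1], gx g hg.1 hg.2.1 hg.2.2⟩
      · interval_cases i <;> interval_cases j <;>
          simp [x0, x0.symm, smul_eq_zero_iff_eq, Prod.ext_iff] at e ⊢
      · obtain ⟨δ, hδ, e⟩ := d.sign hk
        have := e x hx
        rcases sq_eq_one_iff.1 hδ with rfl | rfl
        · exact Or.inl (by split_ifs <;> simp [this])
        · exact Or.inr (by split_ifs <;> simp [this])
  exact Solv.base_three.2 ⟨x, y.1, y.2, fun g e1 e2 e3 v => by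
    rw [hy g e1 (Prod.ext e2 e3), one_smul]⟩

end Dat

variable [Finite V] [Nontrivial V] (s)
include s

theorem Scal.base_big (hs : Group.IsSolvable G) (h2 : (2 : K) ≠ 0) (hq : 3 < Nat.card K) :
    Base G V 2 := by
  obtain ⟨N, h⟩ := s.exists_ns hs
  obtain ⟨E2, hE⟩ := h.exists_es_two hs
  obtain ⟨D2, hD, hc⟩ := hE.cases
  obtain ⟨E, D, T, d, rfl, rfl, v, v0, hv⟩ := s.exists_dat h hE hD
  rcases hc with hc | ⟨a, b, q⟩
  · exact d.base_triv v0 hv hc (Or.inr h2)
  rcases d.sq_cases q with e | e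
  · exact d.base_b1 q h2 hq v0 hv (Or.inl (one_pow 2)) (by simpa using e)
  by_cases hi : ∃ i : K, i ^ 2 = -1
  · obtain ⟨i, hi⟩ := hi
    exact d.base_b1 q h2 hq v0 hv (Or.inr hi) (by simpa [hi] using e)
  · exact d.base_b2 q h2 hq v0 hv (not_exists.1 hi) e

theorem Scal.base_odd (hs : Group.IsSolvable G) (ho : Odd (Nat.card G)) : Base G V 2 := by
  obtain ⟨N, h⟩ := s.exists_ns hs
  obtain ⟨E2, hE⟩ := h.exists_es_two hs
  obtain ⟨D2, hD, key⟩ := hE.exists_ds
  obtain ⟨E, D, T, d, rfl, rfl, v, v0, hv⟩ := s.exists_dat h hE hD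
  refine d.base_triv v0 hv (fun a ha => ?_) (Or.inl ho)
  rw [(pow_eq_one_iff_of_coprime (Nat.Coprime.pow_left 2 (Nat.coprime_two_left.2 ho))).1
    ⟨(pow_mul a 2 2).trans (hE.four ha), pow_card_eq_one'⟩]
  exact one_mem _

theorem Scal.base_three (hs : Group.IsSolvable G) : Base G V 3 := by
  obtain ⟨N, h⟩ := s.exists_ns hs
  obtain ⟨E2, hE⟩ := h.exists_es_two hs
  obtain ⟨D2, hD, key⟩ := hE.exists_ds
  obtain ⟨E, D, T, d, rfl, rfl, v, v0, hv⟩ := s.exists_dat h hE hD
  by_cases hC : E 2 ⊓ centralizer (D 2 : Set G) ≤ D 2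
  · refine d.base_three v0 hv (w := 0) (fun _ _ => smul_zero _) (fun k hk _ => hC hk)
      fun g gl e _ c hc => ?_
    obtain ⟨δ, -, e'⟩ := d.sign (hC hc)
    rw [e' v hv, s.lin gl, e]
  obtain ⟨a, ha, haD⟩ := SetLike.not_le_iff_exists.1 hC
  obtain ⟨b, q⟩ := hE.minus hD key ha haD
  have dx : ∀ x : V, x ≠ 0 → ∀ k ∈ E 2 ⊓ centralizer (D 2 : Set G), k • x = x ∨ k • x = -x →
      k ∈ D 2 := fun x x0 k hk e => key k hk ((s.fpf _ (hE.le hk.1).2 x (by
    rcases e with e | e <;> simp [pow_two, mul_smul, e])).resolve_right x0)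
  have hab := (d.sq_cases q).resolve_left fun e => haD (key a ha
    ((s.fpf _ (hE.le ha.1).2 v (by rw [pow_two, mul_smul, (e v).1])).resolve_right v0))
  obtain ⟨α, β, e⟩ := exists_sq_add K
  obtain ⟨x, x0, hx, δ, -, ej⟩ := d.jvec q v0 hv hab e
  have la := d.linE q.hs.1
  by_cases β0 : β = 0
  · have α0 : α ≠ 0 := by rintro rfl; simp [β0] at e
    rw [β0, zero_smul, add_zero, ← eq_inv_smul_iff₀ α0] at ej
    refine d.base_three x0 hx (d.fixC hx q.ht) (dx x x0) fun g gl e1 e2 =>
      d.gx q gl hx e1 (by rw [ej, s.lin gl, s.lin gl, e1]) e2 ?_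
    rw [← neg_inj, ← smul_neg, ← d.anti q, ej, d.linE q.ht.1, d.linE q.ht.1, s.lin gl, s.lin gl, e2]
  · rw [← eq_sub_iff_add_eq', ← eq_inv_smul_iff₀ β0] at ej
    exact d.base_three x0 hx (d.fixC hx q.hs) (dx x x0) fun g gl e1 e2 =>
      d.gx q gl hx e1 e2 (by simp only [ej, smul_sub, s.lin gl, e1, e2]) (by
        simp only [ej, smul_sub, la, s.lin gl, (hab x).1, smul_neg, e1, e2])

end H33.Solv
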