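/- TE2 (blueprints/TE2.md): rescaling the frame so that both structure constants are one. -/
import Cfsg.Agent.H88.TELoc

set_option autoImplicit false

namespace H33.TR

open Subgroup Cfsg H98 H1.Gold H86.L34 H88.AS H14 H88.TE
open H6 (F4)

universe u
variable {G : Type u} [Group G] {d : Dt G} {big : Bool} {R O : Subgroup G} {r β : F4 → G}
  {γ γ₁ γ₂ : F4}

/-! ### Rescaling -/

def rs (d : Dt G) : Dt G :=
  ⟨d.A, fun a b c => d.u (F4.w * a) (F4.v * b) c, d.h, d.h * d.n * d.h⁻¹, d.h⁻¹ * d.m * d.h⟩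

theorem resc_u (a b c : F4) : (rs d).u a b c = d.u (F4.w * a) (F4.v * b) c := rfl
theorem resc_z (e : F4) : (rs d).z e = d.z e := by simp [Dt.z, resc_u]

/-- The braid relation determines the second reflection. -/
theorem br_gen [Finite G] {K : Subgroup G} {u : F4 → F4 → F4 → G} {n m : G} (hm : HM u) (nn : n * n = 1)
    (nu : ∀ a c, n * u a 0 c * n⁻¹ = u c 0 a) (mu : ∀ b c, m * u 0 b c * m⁻¹ = u 0 c b)
    (hV : K ≤ cen hm.A) (nm : (n * m) ^ 3 ∈ K) {x y : F4} (h : (n * m * u 0 x y) ^ 3 ∈ K) :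
    x = 0 := by
  set g := n * m * u 0 x y with hg
  have hn : n ∈ nor hm.A := by
    refine mem_normalizer_iff.2 fun a => ⟨?_, ?_⟩
    · rintro ⟨a, c, rfl⟩; exact ⟨_, _, (nu ..).symm⟩
    · rintro ⟨a', c, e⟩
      exact ⟨c, a', by rw [← nu, e, inv_eq_of_mul_eq_one_right nn]; simp [mul_assoc, nn, ← mul_assoc n n]⟩
  have hu : ∀ b c, u 0 b c ∈ nor hm.A := fun b c => hm.norA (hm.mem_S ..)
  have e1 : cj g hm.A = cj (n * m) hm.A := by rw [hg, ← cj_cj, cj_eq_self (hu x y)]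
  have e2 : cj (n * m) (cj (n * m) hm.A) = cj m⁻¹ hm.A := by
    rw [cj_cj, show n * m * (n * m) = m⁻¹ * (n⁻¹ * (n * m) ^ 3) by
        simp only [pow_succ, pow_zero]; group, ← cj_cj, ← cj_cj,
      cj_eq_self (centralizer_le_normalizer _ (hV nm)), cj_eq_self (inv_mem hn)]
  have e3 : cj g (cj g hm.A) = cj m⁻¹ hm.A := by
    rw [cj_cj, show g * g = m⁻¹ * ((m * u 0 x y * m⁻¹)⁻¹ * (n⁻¹ * g ^ 3)) by
        rw [hg]; simp only [pow_succ, pow_zero]; group, ← cj_cj,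
      ← cj_cj, ← cj_cj, cj_eq_self (centralizer_le_normalizer _ (hV h)), cj_eq_self (inv_mem hn), mu,
      cj_eq_self (inv_mem (hu y x))]
  rw [e1, ← e2, hg, ← cj_cj, cj_inj] at e3
  have m1 : n * u 0 1 0 * n⁻¹ ∈ cj (n * m) hm.A := by
    rw [← mu, show n * (m * u 0 0 1 * m⁻¹) * n⁻¹ = n * m * u 0 0 1 * (n * m)⁻¹ by group]
    exact conj_mem_cj ⟨_, _, rfl⟩
  have el : El (cj (n * m) hm.A) := El.cj (E := hm.A) (by
    rintro _ ⟨a, c, rfl⟩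
    rw [← pow_two, hm.sq, mul_zero, hm.one]) _
  have c := el.comm m1 (e3 ▸ conj_mem_cj (g := u 0 x y) m1)
  have aE : ∀ a e, n * u 0 1 0 * n⁻¹ * u a 0 e * (n * u 0 1 0 * n⁻¹)⁻¹ = u (a + e) 0 e := fun a e => by
    rw [show n * u 0 1 0 * n⁻¹ * u a 0 e * (n * u 0 1 0 * n⁻¹)⁻¹ =
      n * (u 0 1 0 * (n⁻¹ * u a 0 e * n) * (u 0 1 0)⁻¹) * n⁻¹ by group, ← nu e a,
      show n⁻¹ * (n * u e 0 a * n⁻¹) * n = u e 0 a by group, hm.conj, nu]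
    simp
  set E := n * u 0 1 0 * n⁻¹
  have aF : ∀ a e, u 0 x y * E * (u 0 x y)⁻¹ * u a 0 e * (u 0 x y * E * (u 0 x y)⁻¹)⁻¹ =
      u (a + (e + x * a)) 0 (e + x * a + x * (a + (e + x * a))) := fun a e => by
    rw [show u 0 x y * E * (u 0 x y)⁻¹ * u a 0 e * (u 0 x y * E * (u 0 x y)⁻¹)⁻¹ =
      u 0 x y * (E * ((u 0 x y)⁻¹ * u a 0 e * u 0 x y) * E⁻¹) * (u 0 x y)⁻¹ by group, hm.conj', aE,
      hm.conj]
    simp
  set F := u 0 x y * E * (u 0 x y)⁻¹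
  have : E * (F * u 1 0 0 * F⁻¹) * E⁻¹ = F * (E * u 1 0 0 * E⁻¹) * F⁻¹ := by
    rw [show E * (F * u 1 0 0 * F⁻¹) * E⁻¹ = E * F * u 1 0 0 * (E * F)⁻¹ by group, c.eq]; group
  rw [aF, aE, aE, aF] at this
  exact (by decide : ∀ x : F4, 1 + (0 + x * 1) + (0 + x * 1 + x * (1 + (0 + x * 1))) =
    1 + 0 + (0 + x * (1 + 0)) → x = 0) x (hm.ext this).1

theorem h_nor (f : Fr0 d) : d.h ∈ nor d.U := by
  refine mem_normalizer_iff.2 fun a => ⟨fun h => ?_, fun h => ?_⟩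
  · obtain ⟨a, b, c, rfl⟩ := f.mem_U.1 h; rw [f.hu]; exact f.uU _ _ _
  · obtain ⟨a', b, c, e⟩ := f.mem_U.1 h
    have := f.uU (F4.v * (F4.v * a')) (F4.v * (F4.v * b)) (F4.w * (F4.w * c))
    rwa [← f.hu, ← f.hu, e, show d.h * (d.h * (d.h * a * d.h⁻¹) * d.h⁻¹) * d.h⁻¹ =
      d.h ^ 3 * a * (d.h ^ 3)⁻¹ by simp only [pow_succ, pow_zero]; group, f.h3, one_mul, inv_one,
      mul_one] at this

theorem gen' (f : Fr0 d) {B : Subgroup G} (h1 : d.U ≤ B) (h2 : d.n ∈ B)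
    (h3 : d.h⁻¹ * d.h⁻¹ * d.m * (d.h⁻¹ * d.h⁻¹)⁻¹ ∈ B) : d.A ≤ B := by
  let t := d.u 0 F4.w 0 * d.n * d.u 0 F4.v 0 * d.n * d.u 0 F4.w 0 * d.n
  have u0 := fun a b c => (⟨h1 (f.uU a b c), f.uA ..⟩ : d.u a b c ∈ B ⊓ d.A)
  have n0 : d.n ∈ B ⊓ d.A := ⟨h2, f.nA⟩
  have ht : t ∈ B ⊓ d.A := mul_mem (mul_mem (mul_mem (mul_mem (mul_mem (u0 ..) n0) (u0 ..)) n0) (u0 ..)) n0
  have tz : t * d.z F4.v * t⁻¹ = d.z 1 := by
    rw [show t * d.z F4.v * t⁻¹ = d.u 0 F4.w 0 * (d.n * (d.u 0 F4.v 0 * (d.n * (d.u 0 F4.w 0 *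
      (d.n * d.z F4.v * d.n⁻¹) * (d.u 0 F4.w 0)⁻¹) * d.n⁻¹) * (d.u 0 F4.v 0)⁻¹) * d.n⁻¹) *
      (d.u 0 F4.w 0)⁻¹ by simp only [t]; group]
    simp only [f.nu, f.hm.conj]
    congr 1
  obtain ⟨k, hk, a, b, c, e⟩ := f.cenz (d.h * t⁻¹) (mul_mem f.hA (inv_mem ht.2)) (by
    rw [Commute, SemiconjBy, ← mul_inv_eq_iff_eq_mul, ← tz, show d.h * t⁻¹ * (t * d.z F4.v * t⁻¹) *
      (d.h * t⁻¹)⁻¹ = d.h * d.z F4.v * d.h⁻¹ by group, f.hz, tz]; rfl)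
  have kA : k ∈ d.A := by
    rw [eq_mul_inv_of_mul_eq e.symm]; exact mul_mem (mul_mem f.hA (inv_mem ht.2)) (inv_mem (f.uA ..))
  let C := (d.K ⊓ d.A) ⊔ (B ⊓ d.A)
  have hh : d.h ∈ C := by
    rw [eq_mul_of_mul_inv_eq e, mul_assoc]; exact mul_mem_sup ⟨hk, kA⟩ (mul_mem (u0 ..) ht)
  have hA : d.A ≤ C := f.gen C (fun x hx => mem_sup_right ⟨h1 hx, f.U_le hx⟩) (mem_sup_right n0) (by
    have hi : d.h⁻¹ * d.h⁻¹ ∈ d.A := mul_mem (inv_mem f.hA) (inv_mem f.hA)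
    have m0 : d.h⁻¹ * d.h⁻¹ * d.m * (d.h⁻¹ * d.h⁻¹)⁻¹ ∈ B ⊓ d.A :=
      ⟨h3, d.A.mul_mem (d.A.mul_mem hi f.mA) (d.A.inv_mem hi)⟩
    have := C.mul_mem (C.mul_mem (C.mul_mem hh hh) (mem_sup_right m0)) (C.inv_mem (C.mul_mem hh hh))
    simpa [mul_assoc] using this)
  have dec : ∀ x ∈ d.A, ∃ k ∈ d.K ⊓ d.A, ∃ y ∈ B ⊓ d.A, k * y = x := fun x hx =>
    mem_sup_of_commutator_eq_bot (commutator_eq_bot_iff_le_centralizer.2
      (inf_le_left.trans (centralizer_anti inf_le_right))) (hA hx)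
  rw [← quasi_sub_perfect f.std.1, commutator_le]
  intro x hx y hy
  obtain ⟨k, hk, x, hx', rfl⟩ := dec x hx
  obtain ⟨l, hl, y, hy', rfl⟩ := dec y hy
  have c1 := Fr0.comm hk.1 (mul_mem (mul_mem hx'.2 hy) (inv_mem hx'.2))
  have c2 := Fr0.comm hl.1 hx'.2
  have c3 := Fr0.comm hl.1 (mul_mem (mul_mem (mul_mem hx'.2 hy'.2) (inv_mem hx'.2)) (inv_mem hy'.2))
  rw [commutatorElement_def, show k * x * (l * y) * (k * x)⁻¹ = k * (x * (l * y) * x⁻¹) * k⁻¹ by group,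
    c1.eq, mul_inv_cancel_right, ← mul_assoc x, ← c2.eq, show l * x * y * x⁻¹ * (l * y)⁻¹ =
      l * (x * y * x⁻¹ * y⁻¹) * l⁻¹ by group, c3.eq, mul_inv_cancel_right]
  exact mul_mem (mul_mem (mul_mem hx'.1 hy'.1) (inv_mem hx'.1)) (inv_mem hy'.1)

theorem fr0_rs [Finite G] (f : Fr0 d) : Fr0 (rs d) := by
  have hm : HM (rs d).u := ⟨f.hm.two, fun a b c a' b' c' => by
      simp only [resc_u, f.hm.mul]; congr 1 <;> revert a b c a' b' c' <;> decide, fun {a b c} e => by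
      obtain ⟨h1, h2, h3⟩ := f.hm.inj e
      exact ⟨by simpa [show F4.w ≠ 0 by decide] using h1, by simpa [show F4.v ≠ 0 by decide] using h2, h3⟩⟩
  have sur : ∀ a b c, d.u a b c = (rs d).u (F4.v * a) (F4.w * b) c := fun a b c => by
    rw [resc_u]; congr 1 <;> revert a b <;> decide
  have hU : (rs d).U = d.U := congrArg Subgroup.closure (Set.ext fun x =>
    ⟨fun ⟨_, _, _, e⟩ => ⟨_, _, _, e⟩, fun ⟨_, _, _, e⟩ => ⟨_, _, _, (sur ..).symm.trans e⟩⟩)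
  have hi : ∀ a b c, d.h⁻¹ * d.u a b c * d.h = d.u (F4.w * a) (F4.w * b) (F4.v * c) := fun a b c => by
    rw [eq_comm, ← inv_inv d.h, ← mul_inv_eq_iff_eq_mul, inv_inv, eq_inv_mul_iff_mul_eq, ← mul_assoc,
      f.hu]
    congr 1 <;> revert a b c <;> decide
  have hN := Fr0.A_le f.hA
  have nn : (rs d).n * (rs d).n = 1 := by
    show d.h * d.n * d.h⁻¹ * (d.h * d.n * d.h⁻¹) = 1
    rw [conj_mul, f.nn]; simp
  have mm : (rs d).m * (rs d).m = 1 := by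
    show d.h⁻¹ * d.m * d.h * (d.h⁻¹ * d.m * d.h) = 1
    rw [show d.h⁻¹ * d.m * d.h * (d.h⁻¹ * d.m * d.h) = d.h⁻¹ * (d.m * d.m) * d.h by group, f.mm]; simp
  have nu : ∀ a c, (rs d).n * (rs d).u a 0 c * (rs d).n⁻¹ = (rs d).u c 0 a := fun a c => by
    show d.h * d.n * d.h⁻¹ * d.u _ _ _ * (d.h * d.n * d.h⁻¹)⁻¹ = d.u _ _ _
    rw [show ∀ x, d.h * d.n * d.h⁻¹ * x * (d.h * d.n * d.h⁻¹)⁻¹ =
      d.h * (d.n * (d.h⁻¹ * x * d.h) * d.n⁻¹) * d.h⁻¹ from fun x => by group, hi]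
    simp only [mul_zero, f.nu, f.hu]
    congr 1 <;> revert a c <;> decide
  have mu : ∀ b c, (rs d).m * (rs d).u 0 b c * (rs d).m⁻¹ = (rs d).u 0 c b := fun a c => by
    show d.h⁻¹ * d.m * d.h * d.u _ _ _ * (d.h⁻¹ * d.m * d.h)⁻¹ = d.u _ _ _
    rw [show ∀ x, d.h⁻¹ * d.m * d.h * x * (d.h⁻¹ * d.m * d.h)⁻¹ =
      d.h⁻¹ * (d.m * (d.h * x * d.h⁻¹) * d.m⁻¹) * d.h from fun x => by group, f.hu]
    simp only [mul_zero, f.mu, hi]
    congr 1 <;> revert a c <;> decide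
  have nA : (rs d).n ∈ d.A := mul_mem (mul_mem f.hA f.nA) (inv_mem f.hA)
  have mA : (rs d).m ∈ d.A := mul_mem (mul_mem (inv_mem f.hA) f.mA) f.hA
  have nm : ((rs d).n * (rs d).m) ^ 3 ∈ d.K := by
    have : (d.K.subgroupOf d.N).Normal := normal_subgroupOf_of_le_normalizer f.nK.le
    let q := QuotientGroup.mk' (d.K.subgroupOf d.N)
    have one : ∀ {x : d.N}, q x = 1 ↔ (x : G) ∈ d.K := fun {x} => QuotientGroup.eq_one_iff x
    let H : d.N := ⟨_, hN⟩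
    let N : d.N := ⟨_, Fr0.A_le f.nA⟩
    let M : d.N := ⟨_, Fr0.A_le f.mA⟩
    have k : ∀ X : d.N, (X : G) * X = 1 → (X : G) * d.h * X * d.h ∈ d.K →
        q X * q H = (q H)⁻¹ * q X := fun X h1 h2 => by
      have e1 : q X * q X = 1 := by rw [← map_mul, show X * X = 1 from Subtype.ext h1, map_one]
      have e2 : q X * q H * q X * q H = 1 := by
        rw [← map_mul, ← map_mul, ← map_mul]; exact one.2 h2
      rw [← mul_inv_eq_iff_eq_mul, inv_eq_of_mul_eq_one_right e1, eq_inv_of_mul_eq_one_left e2]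
    have k1 := k N f.nn f.nh
    have k2 := k M f.mm f.mh
    have h3 : q H ^ 3 = 1 := by rw [← map_pow, show H ^ 3 = 1 from Subtype.ext f.h3, map_one]
    have c : Commute (q N * q M) (q H) := by
      rw [Commute, SemiconjBy, mul_assoc, k2, ← mul_assoc, ← mul_assoc, mul_left_inj,
        mul_inv_eq_iff_eq_mul, mul_assoc, k1, mul_inv_cancel_left]
    refine (one (x := (H * N * H⁻¹ * (H⁻¹ * M * H)) ^ 3)).1 ?_
    simp only [map_pow, map_mul, map_inv]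
    rw [show q H * q N * (q H)⁻¹ * ((q H)⁻¹ * q M * q H) =
      q H * (q N * q H) * (q H ^ 3)⁻¹ * q M * q H by group, k1, h3, mul_inv_cancel_left, inv_one, mul_one,
      c.mul_pow, h3, mul_one, ← map_mul, ← map_pow]
    exact one.2 f.nm
  have hK : ∀ {V}, V ≤ hm.S → d.K ≤ cen V := fun h =>
    centralizer_anti (h.trans fun _ ⟨_, _, _, e⟩ => e ▸ f.uA ..)
  exact ⟨f.std, f.zodd, hm, fun _ _ _ => f.uA .., hU ▸ f.syl, f.hA, f.h3, fun a b c => by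
      simp only [resc_u]; rw [show (rs d).h = d.h from rfl, f.hu]; exact cg _ (by ring) (by ring) rfl, nA, nn, nu, mA, mm, mu,
    by have := Fr0.cjK hN f.nh
       rwa [show d.h * (d.n * d.h * d.n * d.h) * d.h⁻¹ =
         d.h * d.n * d.h⁻¹ * d.h * (d.h * d.n * d.h⁻¹) * d.h * (d.h⁻¹ * d.h) by group, inv_mul_cancel,
         mul_one] at this,
    by have := Fr0.cjK (inv_mem hN) f.mh
       rwa [show d.h⁻¹ * (d.m * d.h * d.m * d.h) * d.h⁻¹⁻¹ =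
         d.h⁻¹ * d.m * d.h * d.h * (d.h⁻¹ * d.m * d.h) * d.h by group] at this,
    by have := Fr0.cjK hN f.nv
       rwa [← conj_pow, ← conj_mul, f.hu] at this,
    by have := Fr0.cjK (inv_mem hN) f.mv
       rwa [← conj_pow, ← conj_mul, inv_inv, hi] at this,
    nm, fun x => br_gen hm nn nu mu (hK hm.A_le) nm,
    fun x h => br_gen hm.swap mm (fun a c => by simpa using mu a c)
      (fun a c => by simpa using nu a c) (hK (hm.swap_A ▸ hm.B_le)) (by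
        have := Fr0.cjK (Fr0.A_le mA) nm
        rwa [← conj_pow, ← mul_assoc, inv_eq_of_mul_eq_one_right mm, mul_assoc (_ * _), mm,
          mul_one] at this) (y := x) (by rw [zero_mul, add_zero]; exact h),
    fun B h1 h2 h3 => by
      have := gen' f (B := cj d.h⁻¹ B) (by
        rw [le_cj_iff, inv_inv, cj_eq_self (h_nor f)]; exact hU ▸ h1) (mem_cj.2 (by rwa [inv_inv]))
        (mem_cj.2 (by
          rwa [inv_inv, show d.h * (d.h⁻¹ * d.h⁻¹ * d.m * (d.h⁻¹ * d.h⁻¹)⁻¹) * d.h⁻¹ =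
            d.h⁻¹ * d.m * d.h by group]))
      rwa [le_cj_iff, inv_inv, cj_eq_self hN] at this,
    fun x hx h => by
      obtain ⟨k, hk, a, b, c, e⟩ := f.cenz x hx (by simpa only [resc_z] using h)
      exact ⟨k, hk, _, _, _, e.trans (by rw [sur])⟩⟩


theorem sd_resc {d' : Dt G} {l : F4} (s : Sd d true r β γ) (l3 : l ^ 3 = 1)
    (hw : ∀ y, d'.n * β y * d'.n⁻¹ = d.n * β (l * y) * d.n⁻¹)
    (h1 : ∀ a c, d'.u a 0 c = d.u (l * a) 0 c) (h2 : ∀ b, d'.u 0 b 0 = d.u 0 (l ^ 2 * b) 0) :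
    Sd d' true r β (l * γ) := by
  refine ⟨fun _ => .inl rfl, fun y x => ?_, fun y b => ?_⟩
  · rw [hw, s.wβ, h1]
    congr 2 <;> ring
  · rw [hw, h2, s.vw, h1, show l * y * (l ^ 2 * b) = y * b by linear_combination (y * b) * l3,
      show γ * (l * y) ^ 2 * (l ^ 2 * b) = l * γ * y ^ 2 * b by
        linear_combination (l * γ * y ^ 2 * b) * l3,
      show γ * (l * y) ^ 3 * (l ^ 2 * b) = l * (l * γ * y ^ 3 * b) by
        linear_combination (l ^ 2 * γ * y ^ 3 * b) * l3]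

variable [Finite G]

theorem step (f : Fr d) (p : Pr d true R r) (l : Loc d true R r O β γ₁ γ₂) :
    Fr (rs d) ∧ Pr (rs d) true R r ∧ Loc (rs d) true R r O β (F4.w * γ₁) (F4.v * γ₂) := by
  have f0 := f.toFr0
  have g1 := H33.TE.h_w f0 p l.od f.nA f.nn f.nh l.βO l.hβ
  have g2 := H33.TE.h_w f0 p l.od f.mA f.mm f.mh l.βO l.hβ
  have hi : ∀ y, d.h⁻¹ * β y * d.h = β (F4.v * y) := fun y => H33.TE.cj_inv (by
    rw [l.hβ, ← mul_assoc, show F4.w * F4.v = 1 from rfl, one_mul])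
  refine ⟨H44.Te.jobF2 G _ (fr0_rs f0), ⟨p.syl, p.mem, p.add, p.inj, p.noKI, ?_⟩,
    ⟨l.od.le, l.od.odd, l.od.mem, l.od.dec⟩, l.add, fun _ _ _ _ => l.βu .., l.βO, ?_, l.hβ,
    sd_resc l.s₁ rfl (fun y => ?_) (fun a c => ?_) fun b => ?_,
    sd_resc l.s₂ rfl (fun y => ?_) (fun a c => ?_) fun b => ?_⟩
  · simp only [resc_z]; exact p.tw
  · simp only [resc_z]; exact l.βr
  · change d.h * d.n * d.h⁻¹ * β y * (d.h * d.n * d.h⁻¹)⁻¹ = _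
    rw [show d.h * d.n * d.h⁻¹ * β y * (d.h * d.n * d.h⁻¹)⁻¹ =
      d.h * (d.n * (d.h⁻¹ * β y * d.h) * d.n⁻¹) * d.h⁻¹ by group, hi, g1, ← mul_assoc F4.v]
    rfl
  · rw [resc_u, mul_zero]
  · rw [resc_u, mul_zero]; rfl
  · change d.h⁻¹ * d.m * d.h * β y * (d.h⁻¹ * d.m * d.h)⁻¹ = d.m * _ * d.m⁻¹
    rw [show d.h⁻¹ * d.m * d.h * β y * (d.h⁻¹ * d.m * d.h)⁻¹ =
      d.h⁻¹ * (d.m * (d.h * β y * d.h⁻¹) * d.m⁻¹) * d.h by group, l.hβ]
    refine H33.TE.cj_inv ?_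
    rw [g2, ← mul_assoc F4.v]
    rfl
  · simp only [swap_u, resc_u, mul_zero]
  · simp only [swap_u, resc_u, mul_zero, zero_mul]; rfl

theorem resc (G : Type u) [Group G] [Finite G] (d : Dt G) (R : Subgroup G) (r : F4 → G)
    (O : Subgroup G) (β : F4 → G) (γ₁ γ₂ : F4) (f : Fr d) (p : Pr d true R r)
    (l : Loc d true R r O β γ₁ γ₂) (h : γ₁ * γ₂ = 1) : ∃ s : SD G, s.A = d.A ∧ Sz s := by
  obtain ⟨f1, p1, l1⟩ := step f p l
  obtain ⟨f2, p2, l2⟩ := step f1 p1 l1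
  rcases (by decide : ∀ a b : F4, a * b = 1 → (a = 1 ∧ b = 1) ∨ (F4.w * a = 1 ∧ F4.v * b = 1) ∨
    (F4.w * (F4.w * a) = 1 ∧ F4.v * (F4.v * b) = 1)) γ₁ γ₂ h with ⟨a, b⟩ | ⟨a, b⟩ | ⟨a, b⟩
  · exact ⟨⟨d, R, O, r, β⟩, rfl, f, p, by rwa [a, b] at l⟩
  · exact ⟨⟨rs d, R, O, r, β⟩, rfl, f1, p1, by rwa [a, b] at l1⟩
  · exact ⟨⟨rs (rs d), R, O, r, β⟩, rfl, f2, p2, by rwa [a, b] at l2⟩

end H33.TR
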