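import Cfsg.Agent.H86.TP.Spec
import Cfsg.Agent.H14.Std

/-! # S1308, tower TP, slot OD -/

set_option autoImplicit false

namespace H33.TpOD

open Cfsg Subgroup MulAction H14 H98 H1.Gold H31.S2 H14.GC H14.FE H14.NF H86.TP
open scoped commutatorElement

universe u

section dih

variable {X : Type*} [Group X] {a b c : X} (ha : a * a = 1) (hb : b * b = 1) (hc : c = a * b)
include ha hc

theorem d0 : a * c = b := by rw [hc, ← mul_assoc, ha, one_mul]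

include hb

theorem d1 (i : ℕ) : a * c ^ i = (c ^ i)⁻¹ * a := by
  have h1 : a * c * a⁻¹ = c⁻¹ := by
    rw [d0 ha hc, hc, mul_inv_rev, inv_eq_of_mul_eq_one_right hb]
  rw [← inv_pow, ← h1, conj_pow, inv_mul_cancel_right]

theorem d2 (n : ℕ) :
    ∃ i : ℕ, a * c ^ n = (c ^ i)⁻¹ * a * c ^ i ∨ a * c ^ n = (c ^ i)⁻¹ * b * c ^ i := by
  rcases Nat.even_or_odd' n with ⟨i, rfl | rfl⟩
  · exact ⟨i, Or.inl (by rw [← d1 ha hb hc, two_mul, pow_add, mul_assoc])⟩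
  · refine ⟨i, Or.inr ?_⟩
    rw [← d0 ha hc, ← mul_assoc, ← d1 ha hb hc, mul_assoc, mul_assoc, ← pow_succ', ← pow_add]
    congr 2
    ring

theorem d3 [Finite X] : (∃ k : ℕ, c ^ k * a * (c ^ k)⁻¹ = b) ∨ ∃ j : ℕ, c ^ j ≠ 1 ∧
    c ^ j * c ^ j = 1 ∧ Commute a (c ^ j) ∧ Commute b (c ^ j) ∧ b * c ^ j = a * c ^ (j + 1) := by
  rcases Nat.even_or_odd' (orderOf c) with ⟨k, hk | hk⟩
  · have h0 := orderOf_pos c
    have h1 : c ^ k * c ^ k = 1 := by rw [← pow_add, ← two_mul, ← hk, pow_orderOf_eq_one]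
    have h2 : Commute a (c ^ k) := by
      have := d1 ha hb hc k
      rwa [inv_eq_of_mul_eq_one_right h1] at this
    refine Or.inr ⟨k, pow_ne_one_of_lt_orderOf (by omega) (by omega), h1, h2, ?_, ?_⟩
    · rw [← d0 ha hc]
      exact h2.mul_left ((Commute.refl c).pow_right k)
    · rw [← d0 ha hc, mul_assoc, ← pow_succ']
  · refine Or.inl ⟨k, ?_⟩
    have h1 : c ^ k * c ^ k * c = 1 := by
      rw [← pow_add, ← pow_succ, ← two_mul, ← hk, pow_orderOf_eq_one]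
    have h2 : a * (c ^ k)⁻¹ = c ^ k * a := by
      rw [mul_inv_eq_iff_eq_mul, mul_assoc, d1 ha hb hc, mul_inv_cancel_left]
    have h3 := d1 ha hb hc 1
    rw [pow_one, d0 ha hc] at h3
    rw [mul_assoc, h2, ← mul_assoc, eq_inv_of_mul_eq_one_left h1, h3]

end dih

variable {G : Type u} [Group G]

/-- The fixed points of `α` are the elements of `W`. -/
def Fx {F : Subgroup G} (α : MulAut F) (W : Subgroup G) : Prop := ∀ f : F, α f = f ↔ (f : G) ∈ W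

theorem Fx.conj {F W : Subgroup G} {α : MulAut F} (h : Fx α W) (k : nor F) :
    Fx ((F.normalizerMonoidHom k)⁻¹ * α * F.normalizerMonoidHom k) (cj (k : G)⁻¹ W) := by
  intro f
  rw [MulAut.mul_apply, MulAut.mul_apply, MulAut.inv_apply, MulEquiv.symm_apply_eq, h, mem_cj,
    inv_inv]
  rfl

/-- One side of the configuration. -/
structure Sd (Q E F : Subgroup G) (y : G) : Prop where
  te : IsTightlyEmbedded Q
  EQ : E ≤ Q
  EF : E ≤ F
  inf : ∀ f ∈ F, f ∈ Q → f ∈ E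
  el : El E
  ab : E ≤ cen E
  ne : ∃ e ∈ E, e ≠ 1
  yN : y ∈ nor F
  y2 : y * y ∈ cen F
  fx : ∀ f ∈ F, y * f * y⁻¹ = f ↔ f ∈ E

theorem sd {Q Q' T R E P : Subgroup G} (h : LP Q Q' T R E P) {y : G} (hy : y ∈ P) (hn : y ∉ E) :
    Sd Q E (E ⊔ T) y := by
  have hEQ : E ≤ Q := (h.eq ▸ inf_le_left : E ≤ R).trans h.sylR.le
  have hET : E ≤ cen T := h.eq ▸ inf_le_right
  have hEE : E ≤ cen E := h.ltP.le.trans h.cenE
  refine ⟨h.tq.te, hEQ, le_sup_left, fun f hf hq => ?_, h.elE, hEE, ?_, (h.eqP ▸ hy).2,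
    fun f hf => ?_, fun f hf => ?_⟩
  · obtain ⟨r, hr, t, ht, rfl⟩ := (h.memF f).1 hf
    rw [h.dis t ht ((mul_mem_cancel_left (hEQ hr)).1 hq), mul_one]
    exact hr
  · obtain ⟨s, hs, -, -, h1, -⟩ := h.fourE
    exact ⟨s, hs, h1.1⟩
  · obtain ⟨r, hr, t, ht, rfl⟩ := (h.memF f).1 hf
    rw [mul_assoc, hET (h.sqE y hy) t ht, ← mul_assoc, hEE (h.sqE y hy) r hr, mul_assoc _ r]
  · obtain ⟨r, hr, t, ht, rfl⟩ := (h.memF f).1 hf
    have h1 : r * y = y * r := h.cenE hy r hr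
    refine ⟨fun e => ?_, fun e => ?_⟩
    · by_cases h2 : t = 1
      · rw [h2, mul_one]
        exact hr
      refine absurd (commutatorElement_eq_one_iff_mul_comm.2 ?_) (h.nd y hy hn t ht h2)
      rw [mul_inv_eq_iff_eq_mul, ← mul_assoc, ← h1, mul_assoc, mul_assoc] at e
      exact (mul_left_cancel e).symm
    · rw [← h.cenE hy _ e, mul_inv_cancel_right]

theorem key [Finite G] {Q E F W : Subgroup G} {y g : G} (h : Sd Q E F y) {α z : MulAut F}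
    (hα : Fx α E) (hz : z * z = 1) (hc : Commute α z) (hW : Fx (α * z) W) (hWF : W ≤ F)
    (hWQ : W ≤ cj g Q) (hcard : Nat.card W = Nat.card E) (f : F) (hf : (f : G) ∈ E) : z f = f := by
  have h1 : ∀ x : F, (x : G) ∈ E → (z x : G) ∈ E := by
    intro x hx
    rw [← hα, ← MulAut.mul_apply, hc.eq, MulAut.mul_apply, (hα x).2 hx]
  obtain ⟨e, he, he1, hez⟩ : ∃ e : F, (e : G) ∈ E ∧ (e : G) ≠ 1 ∧ z e = e := by
    obtain ⟨e, he, he1⟩ := h.ne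
    by_cases h2 : z ⟨e, h.EF he⟩ = ⟨e, h.EF he⟩
    · exact ⟨_, he, he1, h2⟩
    refine ⟨⟨e, h.EF he⟩ * z ⟨e, h.EF he⟩, mul_mem he (h1 _ he), fun h3 => h2 (Subtype.ext ?_), ?_⟩
    · exact mul_left_cancel (h3.trans (h.el e he).symm)
    · rw [map_mul, ← MulAut.mul_apply, hz, MulAut.one_apply]
      exact Subtype.ext (h.ab he _ (h1 _ he))
  have h2 : (e : G) ∈ W := by rw [← hW, MulAut.mul_apply, hez, (hα e).2 he]
  have h3 : cj g Q = Q :=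
    cj_eq_self (te_mem_normalizer h.te (inv_iff.1 ⟨he1, h.el _ he⟩) (h.EQ he) (hWQ h2))
  have h4 : W = E :=
    eq_of_le_of_card_ge (fun w hw => h.inf w (hWF hw) (h3 ▸ hWQ hw)) hcard.ge
  have h5 := (hW f).2 (h4 ▸ hf)
  rw [MulAut.mul_apply] at h5
  exact α.injective (h5.trans ((hα f).2 hf).symm)

theorem Sd.fxa {Q E F : Subgroup G} {y : G} (h : Sd Q E F y) :
    Fx (F.normalizerMonoidHom ⟨y, h.yN⟩) E ∧
      F.normalizerMonoidHom ⟨y, h.yN⟩ * F.normalizerMonoidHom ⟨y, h.yN⟩ = 1 := by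
  refine ⟨fun f => Subtype.ext_iff.trans (h.fx f f.2), ?_⟩
  rw [← map_mul, ← MonoidHom.mem_ker, normalizerMonoidHom_ker]
  exact h.y2

theorem jOD : H86.TP.JobOD.{u} := by
  intro G _ _ Q Q' T R E P R' P' h h' y hy hyE v hv hvT
  have s1 := sd h hy hyE
  have s2 := sd h' hv hvT
  rw [sup_comm] at s2
  have hF := h.memF
  obtain ⟨g₀, hg₀⟩ := h.vx
  obtain ⟨g₁, hg₁⟩ := h'.vx
  have hc := h.card
  generalize E ⊔ T = F at s1 s2 hF
  obtain ⟨fa, ha⟩ := s1.fxa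
  obtain ⟨fb, hb⟩ := s2.fxa
  set φ := F.normalizerMonoidHom with hφ
  set y' : nor F := ⟨y, s1.yN⟩ with hy'
  set v' : nor F := ⟨v, s2.yN⟩ with hv'
  have hd : φ (y' * v') = φ y' * φ v' := map_mul _ _ _
  rcases d3 ha hb hd with ⟨k, hk⟩ | ⟨j, h1, h2, h3, h4, h5⟩
  · refine ⟨((y' * v') ^ k : nor F), ((y' * v') ^ k).2, ?_⟩
    have h1 : v'⁻¹ * ((y' * v') ^ k * y' * ((y' * v') ^ k)⁻¹) ∈ φ.ker := by
      rw [MonoidHom.mem_ker, map_mul, map_mul, map_mul, map_inv, map_inv, map_pow, hk,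
        inv_mul_cancel]
    rw [hφ, normalizerMonoidHom_ker] at h1
    exact h1
  exfalso
  have hW : ∀ n : ℕ, ∃ W : Subgroup G, Fx (φ y' * φ (y' * v') ^ n) W ∧ W ≤ F ∧
      (∃ g, W ≤ cj g Q) ∧ (∃ g, W ≤ cj g Q') ∧ Nat.card W = Nat.card E := by
    intro n
    obtain ⟨i, e | e⟩ := d2 ha hb hd n
    · rw [e, ← map_pow]
      refine ⟨_, fa.conj _, cj_le_of_le s1.EF (inv_mem ((y' * v') ^ i).2), ⟨_, cj_mono _ s1.EQ⟩,
        ⟨_, (cj_mono _ (s1.EQ.trans hg₁.le)).trans (cj_cj _ _ _).le⟩, card_cj _ _⟩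
    · rw [e, ← map_pow]
      refine ⟨_, fb.conj _, cj_le_of_le s2.EF (inv_mem ((y' * v') ^ i).2),
        ⟨_, (cj_mono _ (s2.EQ.trans hg₀.le)).trans (cj_cj _ _ _).le⟩, ⟨_, cj_mono _ s2.EQ⟩,
        (card_cj _ _).trans hc.symm⟩
  obtain ⟨W, w1, w2, ⟨g, w3⟩, -, w4⟩ := hW j
  obtain ⟨W', u1, u2, -, ⟨g', u3⟩, u4⟩ := hW (j + 1)
  rw [← h5] at u1
  have k1 := key s1 fa h2 h3 w1 w2 w3 w4
  have k2 := key s2 fb h2 h4 u1 u2 u3 (u4.trans hc)
  refine h1 (MulEquiv.ext fun f => ?_)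
  obtain ⟨r, hr, t, ht, e⟩ := (hF f).1 f.2
  have e1 : f = ⟨r, s1.EF hr⟩ * ⟨t, s2.EF ht⟩ := Subtype.ext e
  rw [e1, map_mul, k1 _ hr, k2 _ ht]
  rfl

end H33.TpOD
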