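import Cfsg.Agent.H96.U2ISpec

/-! S3275, chapter U2I, slot `GB`. -/

set_option autoImplicit false

namespace H33.U2IGB

open H98 H96.U2I

universe u

theorem z2 : ∀ a : ZMod 2, a = 0 ∨ a = 1 := by decide

theorem four {W : Type u} [AddCommGroup W] (f : W → W → ZMod 2) (A : W → Prop)
    (two : ∀ w : W, w + w = 0) (add : ∀ a b c : W, f (a + b) c = f a c + f b c)
    (hadd : ∀ a b, A a → A b → A (a + b))
    (h : ∀ a b, A a → A b → a ≠ 0 → b ≠ 0 → a ≠ b → f a b = 1) :
    ∃ r r' : W, ∀ p, A p → p = 0 ∨ p = r ∨ p = r' ∨ p = r + r' := by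
  by_cases h1 : ∃ r, A r ∧ r ≠ 0
  swap
  · exact ⟨0, 0, fun p hp => .inl (by_contra fun h0 => h1 ⟨p, hp, h0⟩)⟩
  obtain ⟨r, hr, hr0⟩ := h1
  by_cases h2 : ∃ r', A r' ∧ r' ≠ 0 ∧ r' ≠ r
  swap
  · refine ⟨r, 0, fun p hp => ?_⟩
    by_cases h0 : p = 0
    · exact .inl h0
    · exact .inr (.inl (by_contra fun h3 => h2 ⟨p, hp, h0, h3⟩))
  obtain ⟨r', hr', hr'0, hrr⟩ := h2
  refine ⟨r, r', fun p hp => ?_⟩
  by_contra hc
  simp only [not_or] at hc
  obtain ⟨c0, c1, c2, c3⟩ := hc
  have s0 : r + r' ≠ 0 := fun e => hrr (by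
    have : r' + (r + r') = r' := by rw [e, add_zero]
    rw [← this, add_comm r r', ← add_assoc, two, zero_add])
  have k := h (r + r') p (hadd _ _ hr hr') hp s0 c0 (Ne.symm c3)
  rw [add, h r p hr hp hr0 c0 (Ne.symm c1), h r' p hr' hp hr'0 c0 (Ne.symm c2)] at k
  exact absurd k (by decide)

theorem jobGB : GB.{u} := by
  intro W _ _ f X T v u hG hX g hg hgv
  obtain ⟨two, add, sym, alt, -, inv, syl, uv, tr, sur⟩ := hG
  have add' : ∀ a b c : W, f a (b + c) = f a b + f a c := fun a b c => by
    rw [sym, add, sym b, sym c]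
  have pair : ∀ a ∈ X, ∀ b ∈ X, a • v ≠ b • v → f (a • v) (b • v) = 1 := by
    intro a ha b hb hab
    have e : a • v = b • ((b⁻¹ * a) • v) := by rw [mul_smul, smul_inv_smul]
    rw [e, inv b hb]
    refine hX _ (mul_mem (inv_mem hb) ha) fun h => hab ?_
    rw [e, h]
  obtain ⟨w, hw⟩ : ∃ w, w = g • v := ⟨_, rfl⟩
  have wv : f w v = 1 := hw ▸ hX g hg hgv
  have vw : f v w = 1 := by rw [sym, wv]
  have z11 : (1 : ZMod 2) + 1 = 0 := by decide
  have orb : ∀ r, f r v = 0 → f r w = 0 → r ≠ 0 → ∃ a ∈ X, a • v = w + r + v := by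
    intro r h1 h2 h0
    obtain ⟨t, ht, htu⟩ := sur r h1
    have hp : f (u + w) v = 0 := by rw [add, uv, wv, z11]
    have e : t • w = t • u + t • (u + w) := by
      rw [← smul_add, ← add_assoc, two, zero_add]
    have e2 : (t * g) • v = t • w := by rw [mul_smul, hw]
    have hm : t * g ∈ X := mul_mem (syl.le ht) hg
    have uu : ∀ x : W, u + x + (u + w) = w + x := fun x => by
      rw [show u + x + (u + w) = (u + u) + (w + x) by abel, two, zero_add]
    have no : t • w ≠ w + r := fun h => by
      have k := pair _ hm g hg (by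
        rw [e2, h, ← hw]
        intro h'
        exact h0 (add_eq_left.1 h'))
      rw [e2, h, ← hw, add, alt, h2, add_zero] at k
      exact absurd k (by decide)
    refine ⟨t * g, hm, ?_⟩
    rw [e2]
    rcases htu with h | h <;> rcases tr t ht _ hp with h' | h'
    · exact absurd (by rw [e, h, h', uu]) no
    · rw [e, h, h', ← add_assoc, uu]
    · rw [e, h, h', add_assoc u r v, uu, add_assoc]
    · refine absurd ?_ no
      rw [e, h, h', ← add_assoc, add_assoc u r v, uu, ← add_assoc, add_assoc, two, add_zero]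
  obtain ⟨r, r', hA⟩ := four f (fun p => f p v = 0 ∧ f p w = 0) two add
    (fun a b ha hb => ⟨by rw [add, ha.1, hb.1, add_zero], by rw [add, ha.2, hb.2, add_zero]⟩)
    (fun a b ha hb a0 b0 hab => by
      obtain ⟨x, hx, ex⟩ := orb a ha.1 ha.2 a0
      obtain ⟨y, hy, ey⟩ := orb b hb.1 hb.2 b0
      have k := pair x hx y hy (by
        rw [ex, ey]
        intro h
        exact hab (add_left_cancel (add_right_cancel h)))
      rw [ex, ey] at k
      simp only [add, add', alt, wv, vw, ha.1, ha.2, sym w b, sym v b, hb.1, hb.2, zero_add,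
        add_zero] at k
      rw [← k, add_comm 1 (f a b), add_assoc, z11, add_zero])
  let F : Bool × Bool × Bool × Bool → W := fun s =>
    (if s.1 then r else 0) + (if s.2.1 then r' else 0) + (if s.2.2.1 then v else 0) +
      (if s.2.2.2 then w else 0)
  have cov : ∀ (p : W) (c d : Bool), f (p + (if c then v else 0) + (if d then w else 0)) v = 0 →
      f (p + (if c then v else 0) + (if d then w else 0)) w = 0 → ∃ s, F s = p := by
    intro p c d h1 h2
    have back : ∀ x : W, p + (if c then v else 0) + (if d then w else 0) = x →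
        x + (if c then v else 0) + (if d then w else 0) = p := by
      rintro x rfl
      generalize (if c then v else 0) = a
      generalize (if d then w else 0) = b
      rw [show p + a + b + a + b = p + (a + a) + (b + b) by abel, two, two, add_zero, add_zero]
    rcases hA _ ⟨h1, h2⟩ with h | h | h | h
    · exact ⟨(false, false, c, d), by simpa [F] using back _ h⟩
    · exact ⟨(true, false, c, d), by simpa [F] using back _ h⟩
    · exact ⟨(false, true, c, d), by simpa [F] using back _ h⟩
    · exact ⟨(true, true, c, d), by simpa [F] using back _ h⟩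
  have hF : Function.Surjective F := fun p => by
    rcases z2 (f p v) with h | h <;> rcases z2 (f p w) with h' | h'
    · exact cov p false false (by simpa using h) (by simpa using h')
    · exact cov p true false (by simp [add, alt, h]) (by simp [add, vw, h', z11])
    · exact cov p false true (by simp [add, wv, h, z11]) (by simp [add, alt, h'])
    · exact cov p true true (by simp [add, alt, wv, h, z11]) (by simp [add, alt, vw, h', z11])
  have := Nat.card_le_card_of_surjective F hF
  simpa using this

end H33.U2IGB
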