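/- Groups of even characteristic containing `S₄ ≀ 2` with odd index are not quasithin. -/
import Cfsg.Agent.H33.W2a
import Cfsg.Agent.H78.ARL27
import Cfsg.Agent.H83.BSWD8
import Cfsg.Agent.H61.SubField

set_option autoImplicit false
set_option linter.unusedSectionVars false

open Equiv Subgroup H20.AR Cfsg

universe u

namespace H33.W2

theorem six {L : Type*} [Group L] [Finite L] (φ : D8 →* L) (hi : Function.Injective φ)
    (hC : ∀ g, Commute g (φ zD) → g ∈ φ.range) (hf : ∀ ε, IsConj (φ zD) (φ (uD ε))) :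
    Nonempty (L ≃* alternatingGroup (Fin 6)) ∨ (IsSimpleGroup L ∧ Nat.card L = 168) := by
  have := Fact.mk Nat.prime_two
  have zc : ∀ y, Commute (φ y) (φ zD) := fun y => (show Commute y zD from (cn_z.comm y).symm).map φ
  have e : centralizer {φ zD} = φ.range := le_antisymm
    (fun g hg => hC g (mem_centralizer_singleton_iff.1 hg))
    (by rintro _ ⟨y, rfl⟩; exact mem_centralizer_singleton_iff.2 (zc y))
  have p2 : IsPGroup 2 φ.range := IsPGroup.of_card (n := 3) (by
    rw [← Nat.card_congr (MonoidHom.ofInjective hi).toEquiv, Nat.card_eq_fintype_card]; rfl)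
  have hs : H98.IsSyl 2 φ.range ⊤ := H98.isSyl_of_isSyl_normalizer ⟨le_inf le_top le_normalizer, p2,
    fun R _ h1 h2 => le_antisymm (fun g hg => hC g (by
      have hN := mem_normalizer_iff.1 (h2 hg).2
      obtain ⟨y, hy⟩ := (hN _).1 ⟨zD, rfl⟩
      have c : Cn y := (by decide : ∀ y : D8, (∀ a, a * y = y * a) → Cn y) _ fun a => hi (by
        obtain ⟨b, hb⟩ := (hN (g⁻¹ * φ a * g)).2 ⟨a, by group⟩
        rw [map_mul, map_mul, hy, show φ a = g * φ b * g⁻¹ by rw [hb]; group, conj_mul, conj_mul,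
          (zc b).eq])
      rcases c with rfl | rfl
      · exact absurd (hi (by simpa using hy.symm : φ zD = φ 1)) zD_ne
      · exact mul_inv_eq_iff_eq_mul.1 hy.symm)) h1⟩
  rcases H83.alt6_or_psl7_of_centralizer (t := φ zD) (by rw [orderOf_injective φ hi]; exact orderOf_eq_prime (by decide) zD_ne)
    ((MulEquiv.subgroupCongr e).trans (MonoidHom.ofInjective hi).symm) fun N _ h2 => by
      have hz : φ zD ∈ N := by
        rw [show zD = uD false * uD true * (uD false * uD true) by decide, map_mul]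
        exact mul_self_mem_of_index_two h2 _
      have hu : ∀ ε, φ (uD ε) ∈ N := fun ε => by
        obtain ⟨c, hc⟩ := isConj_iff.1 (hf ε)
        exact hc ▸ (AR.conj_mem_iff2 h2 _ _).2 hz
      have : φ.range ≤ N := by
        rintro _ ⟨y, rfl⟩
        obtain ⟨a, b, ha, hb, rfl⟩ := exists_uu y
        have k : ∀ ε y, InU ε y → φ y ∈ N := by
          rintro ε _ (rfl | rfl | rfl | rfl)
          exacts [by simp, hz, hu ε, by rw [map_mul]; exact mul_mem (hu ε) hz]
        rw [map_mul]; exact mul_mem (k _ _ ha) (k _ _ hb)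
      exact hs.not_dvd_relIndex (by
        rw [relIndex_top_right]; exact dvd_trans h2.symm.dvd (index_dvd_of_le this))
    with h | ⟨F, _, _, c, ⟨ψ⟩⟩
  · exact Or.inl h
  · have c' : Nat.card F = 7 := by rw [Nat.card_eq_fintype_card, c]
    have := Matrix.ProjectiveSpecialLinearGroup.rank_two_simple (F := F) (by omega)
    have k := H61.two_mul_card_psl (F := F) (by rw [c']; decide)
    rw [c', ← Nat.card_congr ψ.toEquiv] at k
    exact Or.inr ⟨ψ.isSimpleGroup, by omega⟩

variable {G : Type u} [Group G] [Finite G] {κ : (Bool → D8) →* G} {t : G} {ρ : Bool → G} (w : W κ t ρ)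
include w

/-! ### The two blocks are linked -/

theorem W.pair (hU : ∀ x j, Root κ (κ x) → ¬ Cn (x j) → Cn (x (!j))) {y : Bool → D8}
    (r : Root κ (κ y)) (r' : Root κ (κ (y * zz Finset.univ))) : ∃ j, y = z1 j :=
  w.A.root_cn r fun l => by
    by_contra h
    exact w.B.u_gen w.A w.inj r r' h (Finset.mem_univ _) (hU y l r h)

theorem W.red (hn : NoI2 G) (hU : ∀ x j, Root κ (κ x) → ¬ Cn (x j) → Cn (x (!j))) (j : Bool)
    {y v : D8} (hy : y * y = 1) (hv : v * v = 1) :
    ∃ c, Cn c ∧ IsConj (κ (sg j y * sg (!j) v)) (κ (sg j c * sg (!j) v)) := by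
  by_cases cy : Cn y
  · exact ⟨y, cy, IsConj.refl _⟩
  have r := w.root_sg hn j hy fun e => cy (e ▸ cn_one)
  obtain ⟨g, -, -, h2, h3⟩ := w.B.rho _ j (sg_sq hy) r (by simpa using cy)
  refine ⟨zD, cn_z, isConj_iff.2 ⟨g, ?_⟩⟩
  rw [map_mul, ← conj_mul, h2, map_mul]
  congr 1
  by_cases v1 : v = 1
  · simp [v1]
  obtain ⟨c, hc, e⟩ := h3 _ (sg_comm_ne (not_ne j) v y)
  have r1 := (w.root_sg hn (!j) hv v1).of_conj e
  have k : ¬ Root κ (κ (sg (!j) v * sg j y)) := fun r2 => by
    have := hU _ j r2 (by simpa [sg_ne (ne_not j)] using cy)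
    simp only [Pi.mul_apply, sg_self, sg_ne (not_ne j), mul_one] at this
    rw [this.resolve_left v1, (sg_comm_ne (not_ne j) _ _).eq] at r2
    exact w.not_sg_z hn j hy cy r2
  rcases hc with rfl | rfl | rfl | rfl
  · rw [e, mul_one]
  · by_cases cv : Cn v
    · rw [cv.resolve_left v1] at r1
      exact absurd r1 (w.A.not_root_zz (not_ne j))
    · exact absurd (by rwa [Bool.not_not]) (w.not_sg_z hn (!j) hv cv)
  · exact absurd r1 k
  · have := r1.mul_z (j := j) (by simpa [sg_ne (ne_not j), cn_z.mul_iff] using cy)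
    rw [mul_assoc, mul_assoc, z1_sq, mul_one] at this
    exact absurd this k

theorem W.conj_t (x : Bool → D8) (h : κ x * t * (κ x * t) = 1) : IsConj t (κ x * t) := by
  have t1 : t⁻¹ = t := inv_eq_of_mul_eq_one_right w.tt
  have e : x * (fun j => x (!j)) = 1 := w.inj (by
    rw [map_mul, ← w.tx, map_one, ← h, t1]; group)
  refine isConj_iff.2 ⟨κ (sg false (x false)), ?_⟩
  rw [← map_inv, ← sg_inv, show ∀ a b, a * t * b = a * (t * b * t⁻¹) * t from fun a b => by group, w.tsg,
    ← map_mul, inv_eq_of_mul_eq_one_right (congrFun e false)]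
  exact congrArg (fun y => κ y * t) (eq_sg false x).symm

theorem W.tz : Commute t (κ (zz Finset.univ)) := mul_inv_eq_iff_eq_mul.1 (by
  rw [w.tx]; congr 1; funext l; simp [zz])

theorem W.cz (hE : IsOfEvenCharacteristic G) (g : G) (j : Bool) (a : Commute g (κ (z1 j)))
    (b : Commute g (κ (zz Finset.univ))) : g ∈ κ.range :=
  w.cenZ hE fun l => by
    by_cases e : l = j
    · rwa [e]
    · have := a.mul_right b
      rwa [← map_mul, zz_univ j, ← mul_assoc, z1_sq, one_mul, ← eq_not e] at this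

theorem W.not_root (hE : IsOfEvenCharacteristic G)
    (hU : ∀ x j, Root κ (κ x) → ¬ Cn (x j) → Cn (x (!j))) : ¬ Root κ t := by
  have := Fact.mk Nat.prime_two
  rintro ⟨j, h⟩
  obtain ⟨h, hh⟩ := isConj_iff.1 h.symm
  let a : Bool → D8 := fun _ => uD false * uD true
  have aa : a * a = zz Finset.univ := by
    funext l; rw [zz_of_mem (Finset.mem_univ l)]; exact (by decide : uD false * uD true * (uD false * uD true) = zD)
  have ta : Commute t (κ a) := mul_inv_eq_iff_eq_mul.1 (w.tx a)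
  have hs : H98.IsSyl 2 κ.range (centralizer {κ (z1 j)}) := ⟨by
    rintro _ ⟨x, rfl⟩; exact mem_centralizer_singleton_iff.2 ((z1_comm j x).map κ).symm,
    AR.isPGroup_range κ, fun R hR h1 h3 => le_antisymm (w.fr.syl R hR h1 fun g hg l => by
      obtain ⟨π, η, s⟩ := w.A.act g (w.A.nrm R hR h1 hg)
      have e := s.z j
      rw [mem_centralizer_singleton_iff.1 (h3 hg), mul_inv_cancel_right] at e
      have e1 := z1_inj (w.inj e)
      have e2 : π l = l := by
        by_cases c : l = j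
        · rw [c, ← e1]
        · rw [eq_not c]; exact eq_not fun e3 => not_ne j (π.injective (e3.trans e1))
      exact mul_inv_eq_iff_eq_mul.1 (by rw [s.z, e2])) h1⟩
  obtain ⟨c, hc, hle⟩ := hs.exists_cj_le (Q := zpowers (h * κ a * h⁻¹))
    (H98.isPGroup_zpowers (k := 2) (by
      rw [conj_pow, ← map_pow, show a ^ 2 ^ 2 = a * a * (a * a) by norm_num [pow_succ, mul_assoc], aa, zz_sq]
      simp))
    (zpowers_le.2 (mem_centralizer_singleton_iff.2 (hh ▸ (ta.symm.map (MulAut.conj h)))))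
  obtain ⟨b, hb⟩ := hle (H98.conj_mem_cj (mem_zpowers _))
  obtain ⟨A, hA⟩ := exists_zz (x := b * b) fun l => (by decide : ∀ y : D8, Cn (y * y)) (b l)
  have g1 : c * h * t * (c * h)⁻¹ = κ (z1 j) := by
    rw [show c * h * t * (c * h)⁻¹ = c * (h * t * h⁻¹) * c⁻¹ by group, hh,
      mem_centralizer_singleton_iff.1 hc, mul_inv_cancel_right]
  have g2 : c * h * κ (zz Finset.univ) * (c * h)⁻¹ = κ (zz A) := by
    rw [← hA, ← aa, map_mul, map_mul, hb]; group
  obtain rfl : A = Finset.univ := Finset.eq_univ_of_card _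
    (w.A.fusz _ _ (isConj_iff.2 ⟨_, g2⟩)).symm
  generalize c * h = g at g1 g2
  let e : Bool → D8 := fun _ => uD false
  have te : Commute t (κ e) := mul_inv_eq_iff_eq_mul.1 (w.tx e)
  have ee : κ e * t * (κ e * t) = 1 := by
    rw [mul_assoc, ← mul_assoc t, te.eq, mul_assoc, w.tt, mul_one, ← map_mul,
      show e * e = 1 from funext fun _ => uD_sq _, map_one]
  have ze := (zz_comm Finset.univ e).map κ
  obtain ⟨y, hy⟩ := w.cz hE (g * (κ e * t) * g⁻¹) j
    (g1 ▸ (te.symm.mul_left (Commute.refl t)).map (MulAut.conj g))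
    (g2 ▸ (ze.symm.mul_left w.tz).map (MulAut.conj g))
  have rt : Root κ t := (root_z κ j).of_conj' g1
  obtain ⟨l, rfl⟩ := w.pair hU (y := y) (hy ▸ (rt.of_isConj (w.conj_t e ee)).conj g) (by
    have : κ e * t * κ (zz Finset.univ) = κ (e * zz Finset.univ) * t := by
      rw [map_mul, mul_assoc, w.tz.eq, mul_assoc]
    rw [map_mul, hy, ← g2, conj_mul, this]
    refine (rt.of_isConj (w.conj_t _ ?_)).conj g
    rw [← this, (ze.mul_right w.tz.symm).mul_mul_mul_comm, ee, ← map_mul, zz_sq, map_one, mul_one])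
  by_cases c : l = j
  · rw [c, ← g1] at hy
    have : κ e = κ 1 := by simpa using hy.symm
    exact absurd (congrFun (w.inj this) true) (by decide)
  · have : κ (z1 l) = g * (κ (zz Finset.univ) * t) * g⁻¹ := by
      rw [← conj_mul, g1, g2, ← map_mul, zz_univ l, ← eq_not (Ne.symm c), mul_assoc, z1_sq, mul_one]
    rw [this] at hy
    have : κ (zz Finset.univ) = κ e := by simpa using hy
    exact absurd (congrFun (w.inj this) true) (by decide)

theorem W.t_ne : t ≠ 1 := fun e => w.not_comm 1 true (by simp [e])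

theorem W.invol (hn : NoI2 G) (hU : ∀ x j, Root κ (κ x) → ¬ Cn (x j) → Cn (x (!j))) {x : Bool → D8}
    (xx : x * x = 1) : κ x = 1 ∨ Root κ (κ x) ∨ IsConj (κ x) (κ (zz Finset.univ)) := by
  obtain ⟨c, hc, e1⟩ := w.red hn hU false (sq_apply xx false) (sq_apply xx (!false))
  obtain ⟨d, hd, e2⟩ := w.red hn hU (!false) (sq_apply xx (!false)) hc.sq
  rw [← eq_sg false x, (sg_comm_ne (ne_not false) _ _).eq] at e1
  rw [Bool.not_not] at e2
  have e3 := e1.trans e2
  clear e1 e2
  rcases hc with rfl | rfl <;> rcases hd with rfl | rfl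
  · rw [sg_one, sg_one, mul_one, map_one] at e3
    exact Or.inl (isConj_one_left.1 e3)
  · rw [sg_one, mul_one] at e3
    exact Or.inr (Or.inl ⟨_, e3.symm⟩)
  · rw [sg_one, one_mul] at e3
    exact Or.inr (Or.inl ⟨_, e3.symm⟩)
  · rw [(sg_comm_ne (not_ne false) _ _).eq, ← zz_univ] at e3
    exact Or.inr (Or.inr e3)

theorem W.conj_z (hn : NoI2 G) (hE : IsOfEvenCharacteristic G)
    (hU : ∀ x j, Root κ (κ x) → ¬ Cn (x j) → Cn (x (!j))) : IsConj t (κ (zz Finset.univ)) := by
  obtain ⟨S, -, -, h4, -⟩ := w.exists_sylow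
  have h0 : ¬ ∀ g, g * t * g⁻¹ ∉ κ.range := fun h => by
    have := Fact.mk Nat.prime_two
    have ho : Odd (S : Subgroup G).index := Nat.not_even_iff_odd.1 fun e => S.not_dvd_index e.two_dvd
    obtain ⟨N, -, h6, -⟩ := H8.thompson_transfer (S : Subgroup G) κ.range ho h4 t
      (by rw [pow_two, w.tt]) h
    exact hn N h6
  obtain ⟨g, hg⟩ := not_forall.1 h0
  obtain ⟨x, hx⟩ := MonoidHom.mem_range.1 (not_not.1 hg)
  have xx : x * x = 1 := w.inj (by rw [map_mul, hx, conj_mul, w.tt]; simp)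
  rcases w.invol hn hU xx with e | e | e
  · rw [e] at hx
    exact absurd (by simpa using hx.symm) w.t_ne
  · exact absurd (e.of_conj' hx.symm) (w.not_root hE hU)
  · exact (isConj_iff.2 ⟨g, hx.symm⟩).trans e

theorem W.link (hn : NoI2 G) (hE : IsOfEvenCharacteristic G) :
    ∃ x, Root κ (κ x) ∧ ∀ j, ¬ Cn (x j) := by
  have := Fact.mk Nat.prime_two
  by_contra hc
  have hU : ∀ x j, Root κ (κ x) → ¬ Cn (x j) → Cn (x (!j)) := fun x j r h => by
    by_contra h'
    refine hc ⟨x, r, fun l => ?_⟩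
    by_cases e : l = j
    · rwa [e]
    · rwa [eq_not e]
  obtain ⟨S, h1, h2, h4, h5⟩ := w.exists_sylow
  have nr := w.not_root hE hU
  obtain ⟨h, hh⟩ := isConj_iff.1 (w.conj_z hn hE hU)
  have z2 : κ (zz Finset.univ) ^ 2 ^ 1 = 1 := by rw [pow_one, pow_two, ← map_mul, zz_sq, map_one]
  have nz : ∀ g, Commute g (κ (zz Finset.univ)) →
      g ∈ normalizer (zpowers (κ (zz Finset.univ)) : Set G) := fun g c =>
    centralizer_le_normalizer _ (by rintro _ ⟨k, rfl⟩; exact (c.symm.zpow_left k).eq)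
  obtain ⟨Q, q1, q2, q3, q4⟩ := exists_core hE (H98.isPGroup_zpowers z2)
    (zpowers_ne_bot.2 fun e => w.t_ne (by rw [e] at hh; simpa using hh)) S fun s hs => nz s (by
      obtain ⟨y, rfl | rfl⟩ := h5 s hs
      exacts [((zz_comm _ y).map κ).symm, ((zz_comm _ y).map κ).symm.mul_left w.tz])
  have JQ : ∀ y, ∀ q ∈ Q, κ y * q * (κ y)⁻¹ * q⁻¹ ∈ Q := fun y q hq =>
    mul_mem ((mem_normalizer_iff.1 (q3 (nz _ ((zz_comm _ y).map κ).symm)) q).1 hq) (inv_mem hq)
  have zQ : κ (z1 false) ∈ Q := by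
    by_contra hz
    refine hz (q4 _ (nz _ ((zz_comm _ _).map κ).symm) fun q hq => ?_)
    obtain ⟨y, rfl | rfl⟩ := h5 q (q2 hq)
    · exact ((z1_comm _ y).map κ).symm
    have m1 := JQ (u1 false false) _ hq
    rw [show ∀ a, a * (κ y * t) * a⁻¹ * (κ y * t)⁻¹ = a * (κ y * (t * a * t⁻¹)⁻¹ * (κ y)⁻¹) from
      fun a => by group, w.tsg, ← map_inv, ← map_inv, ← map_mul, ← map_mul, ← map_mul] at m1
    have m2 := JQ (u1 false true) _ m1
    rw [← map_inv, ← map_inv, ← map_mul, ← map_mul, ← map_mul] at m2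
    refine absurd (?_ : κ _ ∈ Q) hz
    convert m2 using 2
    funext l
    cases l
    · simp [sg_apply]; decide
    · simp [sg_apply]
  -- the element of order three
  set n := h * (ρ true * ρ false) * h⁻¹ with hn'
  have nc : Commute n (κ (zz Finset.univ)) := hh ▸ (show Commute (ρ true * ρ false) t from
    (mul_inv_eq_iff_eq_mul.1 (by rw [← conj_mul, w.tρ, w.tρ]; exact w.ρρ.eq.symm)).symm).map (MulAut.conj h)
  have n3 : n ^ 3 = 1 := by rw [hn', conj_pow, w.ρρ.mul_pow, w.ρ3, w.ρ3]; simp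
  have key : ∀ m, Commute m (κ (zz Finset.univ)) → ∃ l, m * κ (z1 false) * m⁻¹ = κ (z1 l) := fun m c => by
    have r := (root_z κ false).conj m
    obtain ⟨y, e | e⟩ := h5 _ (q2 ((mem_normalizer_iff.1 (q3 (nz m c)) _).1 zQ))
    · obtain ⟨l, rfl⟩ := w.pair hU (e ▸ r) ((root_z κ true).of_conj (h := m) (by
        rw [map_mul, ← e, ← mul_inv_eq_iff_eq_mul.2 c.eq, conj_mul, ← map_mul, zz_univ false, ← mul_assoc,
          z1_sq, one_mul]; rfl))
      exact ⟨l, e⟩
    · exact absurd ((e ▸ r).of_isConj (w.conj_t y (e ▸ r.sq)).symm) nr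
  have n1 : Commute n (κ (z1 false)) := by
    obtain ⟨l, e⟩ := key n nc
    obtain ⟨l', e'⟩ := key (n * n) (nc.mul_left nc)
    have i3 : n * n = n⁻¹ := eq_inv_of_mul_eq_one_left (by rw [← n3, pow_three'])
    cases l
    · exact mul_inv_eq_iff_eq_mul.1 e
    cases l'
    · have := Commute.inv_left (mul_inv_eq_iff_eq_mul.1 e')
      rwa [i3, inv_inv] at this
    · have e5 : n * κ (z1 true) * n⁻¹ = κ (z1 true) := by
        conv_lhs => rw [← e]
        rw [← e']; group
      have : κ (z1 false) = κ (z1 true) := by simpa using e.trans e5.symm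
      exact absurd (z1_inj (w.inj this)) (by decide)
  obtain ⟨k, hk⟩ := H98.isPGroup_iff_forall.1 (AR.isPGroup_range κ) n (w.cz hE n false n1 nc)
  have n0 : n = 1 := orderOf_eq_one_iff.1 (Nat.eq_one_of_dvd_coprimes
    (show Nat.Coprime 3 (2 ^ k) from Nat.Coprime.pow_right k (by decide))
    (orderOf_dvd_of_pow_eq_one n3) (orderOf_dvd_of_pow_eq_one hk))
  have : ρ true = (ρ false)⁻¹ := eq_inv_of_mul_eq_one_left (by simpa [hn'] using n0)
  have e6 := w.ρz true
  rw [this, (show Commute _ (κ (z1 true)) from (w.ρc false zD).inv_left).eq, mul_inv_cancel_right] at e6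
  exact absurd (congrFun (w.inj e6) true) (by simp; decide)

end H33.W2
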