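/- Groups of even characteristic containing `S₄ ≀ 2` with odd index are not quasithin (end). -/
import Cfsg.Agent.H33.W2b

set_option autoImplicit false
set_option linter.unusedSectionVars false

open Equiv Subgroup H20.AR Cfsg

universe u

namespace H33.W2

theorem rank3 {N : Type*} [Group N] [Finite N] (h : PRankLE 3 2 N) (L : Subgroup N) {a b c : N}
    (a3 : a ^ 3 = 1) (b3 : b ^ 3 = 1) (c3 : c ^ 3 = 1) (ab : Commute a b) (ac : Commute a c)
    (bc : Commute b c) (a1 : a ≠ 1) (hb : b ∉ zpowers a) (aL : a ∈ L) (bL : b ∈ L) (cL : c ∉ L) :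
    False := by
  have := Fact.mk Nat.prime_three
  have cm : IsMulCommutative (closure {a, b, c}) := Subgroup.isMulCommutative_closure (by
    rintro _ (rfl | rfl | rfl) _ (rfl | rfl | rfl)
    exacts [rfl, ab, ac, ab.symm, rfl, bc, ac.symm, bc.symm, rfl])
  have ex : ∀ x ∈ closure {a, b, c}, x ^ 3 = 1 := fun x hx => by
    induction hx using closure_induction with
    | mem x hx => rcases hx with rfl | rfl | rfl <;> assumption
    | one => simp
    | mul x y hx hy h1 h2 => rw [Commute.mul_pow (setLike_mul_comm hx hy), h1, h2, mul_one]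
    | inv x _ h1 => rw [inv_pow, h1, inv_one]
  have h9 := h _ cm ex
  have l1 : closure {a, b} ≤ closure {a, b, c} := closure_mono (by
    rintro _ (rfl | rfl) <;> simp)
  have l2 : zpowers a ≤ closure {a, b} := zpowers_le.2 (subset_closure (by simp))
  have c1 : Nat.card (zpowers a) = 3 := by rw [Nat.card_zpowers, orderOf_eq_prime a3 a1]
  obtain ⟨k, hk⟩ := IsPGroup.iff_card.1 (H98.isPGroup_iff_forall.2 fun x hx =>
    ⟨1, by rw [pow_one, ex x (l1 hx)]⟩ : IsPGroup 3 (closure {a, b}))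
  have c2 : ¬ Nat.card (closure {a, b}) ≤ 3 := fun e =>
    hb ((eq_of_le_of_card_ge l2 (c1 ▸ e)).ge (subset_closure (by simp)))
  have c3 : 3 ^ 2 ≤ Nat.card (closure {a, b}) := by
    rw [hk] at c2 ⊢
    refine Nat.pow_le_pow_right (by decide) ?_
    by_contra hh
    have : k ≤ 1 := by omega
    exact c2 (by simpa using Nat.pow_le_pow_right (show 0 < 3 by decide) this)
  refine cL ((closure_le L).2 (by rintro _ (rfl | rfl) <;> assumption)
    ((eq_of_le_of_card_ge l1 (h9.trans c3)).ge (subset_closure (by simp))))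

theorem fixp {G : Type*} [Group G] {ρ σ b : G} (h3 : ρ ^ 3 = 1) (e : ρ * σ * ρ⁻¹ = σ * b)
    (bb : b * b = 1) : Commute (σ * (ρ * b * ρ⁻¹)) ρ := by
  have e1 : σ = σ * (b * (ρ * b * ρ⁻¹) * (ρ * (ρ * b * ρ⁻¹) * ρ⁻¹)) := by
    calc σ = ρ ^ 3 * σ * (ρ ^ 3)⁻¹ := by rw [h3]; group
      _ = ρ * (ρ * (ρ * σ * ρ⁻¹) * ρ⁻¹) * ρ⁻¹ := by rw [pow_three]; group
      _ = ρ * (ρ * σ * ρ⁻¹ * (ρ * b * ρ⁻¹)) * ρ⁻¹ := by rw [conj_mul, ← e]
      _ = ρ * σ * ρ⁻¹ * (ρ * b * ρ⁻¹) * (ρ * (ρ * b * ρ⁻¹) * ρ⁻¹) := by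
        conv_lhs => rw [e]
        group
      _ = _ := by rw [e]; group
  have e2 : b * (ρ * b * ρ⁻¹) * (ρ * (ρ * b * ρ⁻¹) * ρ⁻¹) = 1 := by simpa using e1.symm
  have e3 : ρ * (ρ * b * ρ⁻¹) * ρ⁻¹ * (ρ * (ρ * b * ρ⁻¹) * ρ⁻¹) = 1 := by
    rw [conj_mul, conj_mul, bb]; group
  have e4 : b * (ρ * b * ρ⁻¹) = ρ * (ρ * b * ρ⁻¹) * ρ⁻¹ := mul_right_cancel (e2.trans e3.symm)
  refine (mul_inv_eq_iff_eq_mul.1 ?_).symm
  rw [← conj_mul, e, ← e4, mul_assoc, ← mul_assoc b, bb, one_mul]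

variable {G : Type u} [Group G] [Finite G] {κ : (Bool → D8) →* G} {t : G} {ρ : Bool → G} (w : W κ t ρ)
include w

theorem W.ρvz (j : Bool) : ρ j * κ (u1 j true * z1 j) * (ρ j)⁻¹ = κ (z1 j) := by
  rw [map_mul, ← conj_mul, w.ρz, w.ρv, ← map_mul, mul_assoc, (z1_comm j _).eq, ← mul_assoc, u1_sq, one_mul]

theorem W.ρ_mem (j : Bool) : ρ j ∈ normalizer (WW κ j : Set G) := mem_normalizer_fintype (by
  rintro _ ⟨_, rfl | rfl | rfl | rfl, rfl⟩
  · rw [map_one, mul_one, mul_inv_cancel]; exact one_mem _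
  · exact ⟨_, inU_u true, (w.ρz j).symm⟩
  · exact ⟨uD true * zD, (inU_u true).mul (cn_z.inU _), (congrArg κ (sg_mul j _ _)).trans (w.ρv j).symm⟩
  · exact ⟨zD, cn_z.inU true, ((congrArg (ρ j * κ · * (ρ j)⁻¹) (sg_mul j _ _)).trans (w.ρvz j)).symm⟩)

theorem W.not_fix (j : Bool) {y : D8} (h : InU true y) (c : Commute (ρ j) (κ (sg j y))) : y = 1 := by
  have e := mul_inv_eq_iff_eq_mul.2 c.eq
  rcases h with rfl | rfl | rfl | rfl
  · rfl
  · exact absurd (sg_inj (w.inj ((w.ρz j).symm.trans e))) (by decide)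
  · exact absurd (sg_inj ((sg_mul j _ _).trans (w.inj ((w.ρv j).symm.trans e)))) (by decide)
  · rw [sg_mul] at e
    exact absurd (sg_inj ((w.inj ((w.ρvz j).symm.trans e)).trans (sg_mul j _ _).symm)) (by decide)

theorem W.exists_σ (hE : IsOfEvenCharacteristic G) (n : NF κ) : ∃ σ ∈ KK κ true, Commute σ (ρ true) ∧
    σ * κ (u1 false false) * σ⁻¹ = κ (z1 false) := by
  obtain ⟨σ, -, h1, h2, -, h3⟩ := n.exists_rho w.A w.B (n.ru false false) (j := false)
    (by simpa using not_cn_u false)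
  have hK : σ ∈ KK κ true := mem_KK.2 ⟨h3 _ _ (by simpa [sg_apply] using cn_one) (Or.inl (cn_z.inU _)),
    h3 _ _ (by simpa [sg_apply] using cn_one) (Or.inl (inU_u _))⟩
  have cK : ∀ k ∈ KK κ true, ρ true * k * (ρ true)⁻¹ ∈ KK κ true := fun k hk v hv => by
    have := hk _ ((mem_normalizer_iff.1 (inv_mem (w.ρ_mem true)) v).1 hv)
    calc v * (ρ true * k * (ρ true)⁻¹) = ρ true * ((ρ true)⁻¹ * v * (ρ true)⁻¹⁻¹ * k) * (ρ true)⁻¹ := by group
      _ = _ := by rw [this]; group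
  have cE : ∀ y y', σ * κ (sg false y) * σ⁻¹ = κ (sg false y') →
      Commute (σ⁻¹ * (ρ true * σ * (ρ true)⁻¹)) (κ (sg false y)) := fun y y' e => by
    have c1 : Commute (ρ true) (κ (sg false y)) := w.ρc true y
    have c2 : Commute (ρ true) (κ (sg false y')) := w.ρc true y'
    calc σ⁻¹ * (ρ true * σ * (ρ true)⁻¹) * κ (sg false y)
        = σ⁻¹ * (ρ true * (σ * κ (sg false y) * σ⁻¹)) * σ * (ρ true)⁻¹ := by
          rw [mul_assoc, mul_assoc, c1.inv_left.eq]; group
      _ = _ := by rw [e, c2.eq, ← e]; group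
  have b1 := cE zD (uD false * zD) (by rw [sg_mul]; exact h1)
  have b2 := cE _ _ h2
  have bK := mul_mem (inv_mem hK) (cK σ hK)
  obtain ⟨x, hx⟩ := w.cenZ hE (g := σ⁻¹ * (ρ true * σ * (ρ true)⁻¹)) fun j => by
    cases j
    exacts [b1, (mem_KK.1 bK).1]
  have xx : x * x = 1 := funext fun l => by
    have k : ∀ (ε : Bool) (y : D8), y * uD ε = uD ε * y → y * y = 1 := by decide
    cases l
    · rw [← hx] at b2
      exact k false _ (by simpa using congrFun (w.inj ((map_mul _ _ _).trans (b2.eq.trans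
        (map_mul _ _ _).symm))) false)
    · have b3 := (mem_KK.1 bK).2
      rw [← hx] at b3
      exact k true _ (by simpa using congrFun (w.inj ((map_mul _ _ _).trans (b3.eq.trans
        (map_mul _ _ _).symm))) true)
  refine ⟨σ * (ρ true * κ x * (ρ true)⁻¹), mul_mem hK (cK _ (hx ▸ bK)),
    fixp (w.ρ3 true) (by rw [hx]; group) (by rw [← map_mul, xx, map_one]), ?_⟩
  have c1 : Commute (ρ true) (κ (u1 false false)) := w.ρc true _
  have : Commute (ρ true * κ x * (ρ true)⁻¹) (κ (u1 false false)) :=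
    (c1.mul_left (hx ▸ b2)).mul_left c1.inv_left
  rw [← h2, mul_assoc σ, this.eq]; group

theorem W.elim (hn : NoI2 G) (hE : IsOfEvenCharacteristic G) (hQ : IsQuasithin G) : False := by
  obtain ⟨x, r, hx⟩ := w.link hn hE
  have n := w.nf hn r hx
  obtain ⟨σ, s1, s2, s3⟩ := w.exists_σ hE n
  let L : Subgroup G := KK κ true ⊓ centralizer {ρ true}
  have mL : ∀ g, g ∈ KK κ true → Commute g (ρ true) → g ∈ L := fun g h1 h2 =>
    ⟨h1, mem_centralizer_singleton_iff.2 h2⟩
  have DL : ∀ y, κ (sg false y) ∈ L := fun y =>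
    mL _ (mem_KK.2 ⟨(sg_comm_ne (by decide) _ _).map κ, (sg_comm_ne (by decide) _ _).map κ⟩)
      (w.ρc true y).symm
  have ρL : ρ false ∈ L := mL _ (mem_KK.2 ⟨w.ρc false _, w.ρc false _⟩) w.ρρ.symm
  let φ : D8 →* L := (κ.comp (MonoidHom.mulSingle (fun _ => D8) false)).codRestrict L DL
  have φi : Function.Injective φ := fun a b e => sg_inj (w.inj (congrArg Subtype.val e))
  have hC : ∀ g, Commute g (φ zD) → g ∈ φ.range := fun g c => by
    obtain ⟨y, hy⟩ := w.cenZ hE (g := g) fun j => by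
      cases j
      exacts [c.map L.subtype, (mem_KK.1 g.2.1).1]
    have c1 := (mem_KK.1 g.2.1).2
    have c2 : Commute (g : G) (ρ true) := mem_centralizer_singleton_iff.1 g.2.2
    rw [← hy] at c1 c2
    have c3 : InU true (y true) := (by decide : ∀ y : D8, y * uD true = uD true * y → InU true y) _
      (by simpa using congrFun (w.inj ((map_mul _ _ _).trans (c1.eq.trans (map_mul _ _ _).symm))) true)
    have c4 : y true = 1 := w.not_fix true c3 (by
      have := (w.ρc true (y false)).inv_right.mul_right c2.symm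
      rwa [show κ y = κ (sg false (y false)) * κ (sg true (y true)) from
        (congrArg κ (eq_sg false y)).trans (map_mul _ _ _), show (!true) = false from rfl,
        inv_mul_cancel_left] at this)
    refine ⟨y false, Subtype.ext ?_⟩
    rw [← hy, congrArg κ (eq_sg false y), show y (!false) = 1 from c4, sg_one, mul_one]; rfl
  have NV : KK κ true ≤ normalizer (WW κ true : Set G) := centralizer_le_normalizer _
  rcases six φ φi hC (fun ε => by
    cases ε
    · exact (isConj_iff.2 ⟨⟨σ, mL σ s1 s2⟩, Subtype.ext s3⟩).symm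
    · exact isConj_iff.2 ⟨⟨_, ρL⟩, Subtype.ext (w.ρz false)⟩) with ⟨⟨ψ⟩⟩ | ⟨hs, hc⟩
  · let a : alternatingGroup (Fin 6) := ⟨swap 0 1 * swap 1 2, Perm.mem_alternatingGroup.2 (by decide)⟩
    let b : alternatingGroup (Fin 6) := ⟨swap 3 4 * swap 4 5, Perm.mem_alternatingGroup.2 (by decide)⟩
    let f : alternatingGroup (Fin 6) →* normalizer (WW κ true : Set G) :=
      (inclusion (inf_le_left.trans NV)).comp ψ.symm.toMonoidHom
    have fi : Function.Injective f := (inclusion_injective (inf_le_left.trans NV)).comp ψ.symm.injective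
    have fc : ∀ x, Commute (f x) ⟨ρ true, w.ρ_mem true⟩ := fun x =>
      Subtype.ext (mem_centralizer_singleton_iff.1 (ψ.symm x).2.2)
    refine rank3 (hQ 3 Nat.prime_three (by decide) _ ⟨WW κ true, (AR.isPGroup_range κ).to_le (by
        rintro _ ⟨y, -, rfl⟩; exact ⟨_, rfl⟩), fun e => (root_z κ true).ne_one w.inj
        (mem_bot.1 (e ▸ mem_WW.2 ⟨_, cn_z.inU _, rfl⟩)), rfl⟩) ((KK κ true).subgroupOf _)
      (a := f a) (b := f b) (c := ⟨ρ true, w.ρ_mem true⟩) (by rw [← map_pow, show a ^ 3 = 1 from Subtype.ext (by decide), map_one])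
      (by rw [← map_pow, show b ^ 3 = 1 from Subtype.ext (by decide), map_one]) (Subtype.ext (w.ρ3 true))
      ((show Commute a b from Subtype.ext (by decide)).map f) (fc a) (fc b)
      (fun e => absurd (congrArg Subtype.val (fi (e.trans (map_one f).symm))) (by decide)) ?_ (ψ.symm a).2.1 (ψ.symm b).2.1
      fun h => zD_ne (w.not_fix true (cn_z.inU _) (mem_KK.1 h).1)
    rintro ⟨k, hk⟩
    have e : a ^ k = b := fi ((map_zpow f a k).trans hk)
    have := congrArg (fun x : alternatingGroup (Fin 6) => (x : Perm (Fin 6)) 3) e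
    simp only [coe_zpow] at this
    rw [Perm.zpow_apply_eq_self_of_apply_eq_self (by decide)] at this
    exact absurd this (by decide)
  -- the automorphism induced by `e₂`
  set e := κ (u1 true false) with he
  have ee : e * e = 1 := by rw [he, ← map_mul, u1_sq, map_one]
  have eN : e ∈ normalizer (L : Set G) := mem_normalizer_fintype fun g hg => by
    have c1 := mem_KK.1 hg.1
    have c2 : Commute g (ρ true) := mem_centralizer_singleton_iff.1 hg.2
    have k : ∀ a b, e * a * e⁻¹ = b → Commute g a → Commute (e * g * e⁻¹) b := fun a b h c =>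
      h ▸ c.map (MulAut.conj e)
    refine mL _ (mem_KK.2 ⟨k _ _ ?_ c1.1, k _ _ ?_ (c1.2.mul_right c1.1)⟩) ?_
    · rw [← ((z1_comm true _).map κ).eq, mul_inv_cancel_right]
    · rw [he, ← map_inv, ← map_mul, ← map_mul, ← map_mul, ← sg_inv, ← sg_mul, ← sg_mul, ← sg_mul]
      congr 2
    · simpa using (k _ _ (w.eρ true) c2).inv_right
  let α : MulAut L := L.normalizerMonoidHom ⟨e, eN⟩
  have αa : ∀ q : L, (α q : G) = e * q * e⁻¹ := fun _ => rfl
  let M := α.toMonoidHom.eqLocus (MonoidHom.id L)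
  have mM : ∀ q : L, Commute e q → q ∈ M := fun q c =>
    Subtype.ext ((αa q).trans (mul_inv_eq_iff_eq_mul.2 c.eq))
  have DM : φ.range ≤ M := by
    rintro _ ⟨y, rfl⟩; exact mM _ ((sg_comm_ne (by decide) _ _).map κ)
  have ρM : (⟨_, ρL⟩ : L) ∈ M := mM _ (w.ρc false _).symm
  have top : M ≠ ⊤ := fun h => by
    have c : e * σ * e⁻¹ = σ := congrArg Subtype.val (h.ge (mem_top (⟨σ, mL σ s1 s2⟩ : L)))
    refine w.not_sg_z hn true (uD_sq false) (not_cn_u _) ((n.re true false (by decide)).of_conj (h := σ) ?_)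
    rw [map_mul, ← conj_mul, s3, map_mul, ← mul_inv_eq_iff_eq_mul.1 c, mul_inv_cancel_right]; rfl
  have ρ1 : ¬ Commute (ρ false) (κ (z1 false)) := fun c => zD_ne (w.not_fix false (cn_z.inU _) c)
  have h8 : 8 ∣ Nat.card M := dvd_trans (by
    rw [← Nat.card_congr (MonoidHom.ofInjective φi).toEquiv, Nat.card_eq_fintype_card]; rfl)
    (card_dvd_of_le DM)
  have h3 : 3 ∣ Nat.card M := by
    have := Fact.mk Nat.prime_three
    have := orderOf_dvd_natCard M ρM
    rwa [orderOf_eq_prime (Subtype.ext (w.ρ3 false)) fun e => ρ1 (by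
      rw [show ρ false = 1 from congrArg Subtype.val e]; exact Commute.one_left _)] at this
  have h7 : M.index = 7 := by
    obtain ⟨k, hk⟩ := Nat.Coprime.mul_dvd_of_dvd_of_dvd (by decide) h8 h3
    have h1 := M.index_mul_card
    rw [hk, hc] at h1
    exact ((Nat.dvd_prime (by decide)).1 (Dvd.intro k (by linarith))).resolve_left
      fun e => top (index_eq_one.1 e)
  obtain ⟨c, -, -, c3⟩ := H78.AR.inner168 hc α (by
    rw [← map_mul, show (⟨e, eN⟩ * ⟨e, eN⟩ : normalizer (L : Set G)) = 1 from Subtype.ext ee, map_one])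
    (M := M) (fun _ => Iff.rfl) h7
  have c4 : ∀ x ∈ M, Commute c x := fun x hx => mul_inv_eq_iff_eq_mul.1 ((c3 x).symm.trans hx)
  obtain ⟨y, rfl⟩ := hC c (c4 _ (DM ⟨_, rfl⟩))
  rcases (by decide : ∀ y : D8, (∀ a, y * a = a * y) → Cn y) y fun a =>
    φi ((map_mul _ _ _).trans ((c4 _ (DM ⟨a, rfl⟩)).eq.trans (map_mul _ _ _).symm)) with rfl | rfl
  · exact top (eq_top_iff.2 fun x _ => show α x = x by simpa using c3 x)
  · exact ρ1 ((c4 _ ρM).map L.subtype).symm

end H33.W2
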