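import Cfsg.Agent.H46.Misc
import Cfsg.Agent.H85.E2

/-! QT tower, job Xf: a `p`-group of order `p ^ 2` or `p ^ 3` and a small 2-group acting on an elementary abelian
2-group. Lines and counting. -/

set_option autoImplicit false
set_option linter.unusedSectionVars false

namespace H33.QT

open Cfsg Subgroup H46 H85
open scoped commutatorElement

universe u

variable {G : Type u} [Group G] {p : ℕ} {U V E P A l m : Subgroup G} {a x : G}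

/-! ### elementary facts -/

theorem mem_of_pow_coprime {D : Subgroup G} {i j : ℕ} (h1 : x ^ i ∈ D) (h2 : x ^ j ∈ D) (h : i.Coprime j) :
    x ∈ D := by
  have e : x = (x ^ i) ^ Nat.gcdA i j * (x ^ j) ^ Nat.gcdB i j := by
    rw [← zpow_natCast, ← zpow_natCast, ← zpow_mul, ← zpow_mul, ← zpow_add, ← Nat.gcd_eq_gcd_ab, h.gcd_eq_one,
      Nat.cast_one, zpow_one]
  rw [e]; exact mul_mem (zpow_mem h1 _) (zpow_mem h2 _)

theorem inv_of_fpf [Finite G] (hs : a * a = 1) (hn : a ∈ Nrm A) (h : A ⊓ Cent1 a = ⊥) :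
    ∀ y ∈ A, a * y * a⁻¹ = y⁻¹ := by
  have hsi : a⁻¹ = a := inv_eq_of_mul_eq_one_right hs
  let f : A → A := fun x => ⟨(x : G)⁻¹ * (a * x * a⁻¹), mul_mem (inv_mem x.2) (conj_mem_of_mem_nrm hn x.2)⟩
  have hf : Function.Injective f := by
    intro x y e
    have e1 : (x : G)⁻¹ * (a * x * a⁻¹) = (y : G)⁻¹ * (a * y * a⁻¹) := congrArg Subtype.val e
    have e2 : (y : G) * (x : G)⁻¹ ∈ A ⊓ Cent1 a := ⟨A.mul_mem y.2 (A.inv_mem x.2), mem_cent1.2 (by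
      calc (y : G) * (x : G)⁻¹ * a = y * ((x : G)⁻¹ * (a * x * a⁻¹)) * a * (x : G)⁻¹ := by group
        _ = _ := by rw [e1]; group)⟩
    rw [h, mem_bot, mul_inv_eq_one] at e2
    exact Subtype.ext e2.symm
  intro y hy
  obtain ⟨x, hx⟩ := Finite.surjective_of_injective hf ⟨y, hy⟩
  have e : y = (x : G)⁻¹ * (a * x * a⁻¹) := (congrArg Subtype.val hx).symm
  rw [e, hsi]
  calc a * ((x : G)⁻¹ * (a * x * a)) * a = a * (x : G)⁻¹ * a * x * (a * a) := by group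
    _ = a⁻¹ * (x : G)⁻¹ * a⁻¹ * x := by rw [hs, hsi, mul_one]
    _ = _ := by group

/-- `[Y, a]` is generated by elements inverted by the involution `a`. -/
theorem comm_le_of_inv (ht : a * a = 1) {Y L : Subgroup G} (hn : a ∈ Nrm Y)
    (h : ∀ y ∈ Y, a * y * a⁻¹ = y⁻¹ → y ∈ L) : ⁅Y, zpowers a⁆ ≤ L := by
  refine commutator_le.2 fun y hy x hx => ?_
  rcases (mem_zpowers_of_sq ht).1 hx with rfl | rfl
  · simp
  · have ai := inv_eq_of_mul_eq_one_right ht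
    have hm := mul_mem hy (conj_mem_of_mem_nrm hn (inv_mem hy))
    refine h _ (by simpa only [commutatorElement_def, mul_assoc] using hm) ?_
    rw [commutatorElement_def, ai]
    calc _ = x * y * x * y⁻¹ * (x * x) := by group
      _ = x⁻¹ * y * x⁻¹ * y⁻¹ := by rw [ht, ai, mul_one]
      _ = _ := by group

theorem nrm_zpowers_of_inv (h : a * x * a⁻¹ = x⁻¹) : a ∈ Nrm (zpowers x) := by
  rw [mem_nrm_iff_cj, cj_zpowers, h, zpowers_inv]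

theorem coprime_e2 [Finite G] (hV : E2 V) (h : Odd (Nat.card P)) : (Nat.card P).Coprime (Nat.card V) := by
  obtain ⟨n, e⟩ := hV.exists_card
  rw [e]; exact Nat.Coprime.pow_right n (Nat.coprime_two_right.2 h)

theorem relIndex_two_pow [Finite G] (hU : E2 U) (D : Subgroup G) : ∃ k, D.relIndex U = 2 ^ k := by
  obtain ⟨n, e⟩ := hU.exists_card
  obtain ⟨k, -, hk⟩ := (Nat.dvd_prime_pow Nat.prime_two).1 (e ▸ Dvd.intro_left _ (card_inf_mul_relIndex D U))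
  exact ⟨k, hk⟩

theorem relIndex_le_of_le [Finite G] (h : U ≤ V) (D : Subgroup G) : D.relIndex U ≤ D.relIndex V :=
  relIndex_le_of_le_right h (relIndex_pos D V).ne'

/-- An involution inverting an element of odd order which is fixed point free on `U` is free on `U`. -/
theorem card_eq_sq [Finite G] (hU : E2 U) (ha : a * a = 1) (haU : a ∈ Nrm U) (hxU : x ∈ Nrm U)
    (hi : a * x * a⁻¹ = x⁻¹) (ho : Odd (orderOf x)) (hf : U ⊓ Cent1 x = ⊥) :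
    Nat.card U = (Cent1 a).relIndex U ^ 2 := by
  have h1 := hU.card_le_sq haU (by rw [ha]; exact one_mem _)
  have h2 := card_inf_mul_relIndex (Cent1 a) U
  rw [inf_comm] at h2
  have hd : (U ⊓ Cent1 a) ⊓ cj x (U ⊓ Cent1 a) = ⊥ := by
    rw [cj_inf, cj_of_mem_nrm hxU, cj_cent1, eq_bot_iff, ← hf]
    rintro u ⟨⟨hu, h3⟩, -, h4⟩
    refine ⟨hu, mem_cent1_comm.1 (mem_of_pow_coprime (i := 2) (j := orderOf x) ?_
      (by rw [pow_orderOf_eq_one]; exact one_mem _) (Nat.coprime_two_left.2 ho))⟩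
    have e : x ^ 2 = x * a * x⁻¹ * a⁻¹ := by
      calc _ = x * (a * x * a⁻¹)⁻¹ := by rw [hi, inv_inv, sq]
        _ = _ := by group
    rw [e]
    exact mul_mem (mem_cent1_comm.1 h4) (inv_mem (mem_cent1_comm.1 h3))
  have hle : cj x (U ⊓ Cent1 a) ≤ U := (cj_mono x inf_le_left).trans (cj_of_mem_nrm hxU).le
  have h3 := card_sup_of_disjoint (hle.trans (nrm_of_comm hU.isMulCommutative inf_le_left)) hd
  have h4 := card_le_of_le (sup_le (inf_le_left : U ⊓ Cent1 a ≤ U) hle)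
  rw [h3, card_cj] at h4
  have h5 := card_pos' (U ⊓ Cent1 a)
  change Nat.card U ≤ Nat.card ↥(U ⊓ Cent1 a) ^ 2 at h1
  generalize Nat.card ↥(U ⊓ Cent1 a) = c at *
  generalize (Cent1 a).relIndex U = i at *
  rw [← h2] at h1 h4 ⊢
  obtain rfl : c = i := le_antisymm (Nat.le_of_mul_le_mul_left h4 h5)
    (Nat.le_of_mul_le_mul_left (sq c ▸ h1) h5)
  rw [sq]

theorem relIndex_sd [Finite G] {K H X : Subgroup G} (h : IsSd K H X) (hK : a ∈ Nrm K) (hH : a ∈ Nrm H) :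
    (Cent1 a).relIndex X = (Cent1 a).relIndex K * (Cent1 a).relIndex H := by
  have h1 := (h.cent (zpowers_le.2 hK) (zpowers_le.2 hH)).card
  rw [cent_zpowers] at h1
  have h2 := h.card
  rw [← card_inf_mul_relIndex (Cent1 a) X, ← card_inf_mul_relIndex (Cent1 a) K,
    ← card_inf_mul_relIndex (Cent1 a) H, inf_comm _ X, inf_comm _ K, inf_comm _ H, ← h1] at h2
  refine Nat.eq_of_mul_eq_mul_left (Nat.mul_pos (card_pos' (K ⊓ Cent1 a)) (card_pos' (H ⊓ Cent1 a))) ?_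
  rw [← h2]; ring

theorem dvd_pred [Finite G] (hp : p.Prime) (hm : Nat.card m = p) (hn : m ≤ Nrm U) (h : U ⊓ Cent m = ⊥) :
    p ∣ Nat.card U - 1 := hm ▸ (semiregular_of_prime (hm ▸ hp) h).dvd_pred hn

theorem eight_le [Finite G] (h5 : 5 ≤ p) (hU : E2 U) (h1 : U ≠ ⊥) (h : p ∣ Nat.card U - 1) :
    8 ≤ Nat.card U := by
  obtain ⟨n, e⟩ := hU.exists_card
  have h2 := one_lt_card.2 h1
  have h3 := Nat.le_of_dvd (by omega) h
  rw [e] at h2 h3 ⊢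
  by_contra hn
  have : n < 3 := (Nat.pow_lt_pow_iff_right one_lt_two (m := 3)).1 (by omega)
  interval_cases n <;> omega

theorem four_le (hp : p.Prime) (h5 : 5 ≤ p) {i k : ℕ} (e : i = 2 ^ k) (h1 : 1 < i ^ 2) (h : p ∣ i ^ 2 - 1) :
    4 ≤ i ∧ (i ≤ 4 → p = 5) := by
  have h3 := Nat.le_of_dvd (by omega) h
  have h4 : 4 ≤ i := by
    by_contra hn
    have : k < 2 := (Nat.pow_lt_pow_iff_right one_lt_two (m := 2)).1 (by omega)
    interval_cases k <;> subst e <;> omega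
  refine ⟨h4, fun h6 => ?_⟩
  obtain rfl : i = 4 := le_antisymm h6 h4
  have : p ≤ 15 := h3
  interval_cases p <;> first | rfl | omega | exact absurd hp (by norm_num)

theorem not_sq_dvd (h5 : 5 ≤ p) {i k : ℕ} (e : i = 2 ^ k) (h1 : 1 < i ^ 2) (h16 : i ≤ 16)
    (h : p ^ 2 ∣ i ^ 2 - 1) : False := by
  have h3 := Nat.le_of_dvd (by omega) h
  have : k ≤ 4 := (Nat.pow_le_pow_iff_right one_lt_two (m := 4)).1 (by omega)
  have h4 : p < 16 := by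
    by_contra hn
    have : 16 ^ 2 ≤ p ^ 2 := Nat.pow_le_pow_left (by omega) 2
    have : i ^ 2 ≤ 16 ^ 2 := Nat.pow_le_pow_left h16 2
    omega
  subst e
  interval_cases k <;> interval_cases p <;> omega

/-! ### lines -/

/-- `l` is a line of `E` with fixed points on `[V, E]`. -/
def Good (p : ℕ) (V E l : Subgroup G) : Prop := ElemAb p 1 l E ∧ ⁅V, E⁆ ⊓ Cent l ≠ ⊥

theorem line_card (h : ElemAb p 1 l E) : Nat.card l = p := by rw [h.2.2, pow_one]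

theorem line_mk [Finite G] (hE : ElemAb p 2 E E) (h : l ≤ E) (hc : Nat.card l = p) : ElemAb p 1 l E :=
  ⟨h, ⟨comm_of_le hE.2.1.1 h, fun a ha => hE.2.1.2 a (h ha)⟩, by rw [hc, pow_one]⟩

theorem Good.cj {n : G} (h : Good p V E l) (h1 : n ∈ Nrm V) (h2 : n ∈ Nrm E) : Good p V E (cj n l) := by
  refine ⟨⟨(cj_mono n h.1.1).trans (cj_of_mem_nrm h2).le, ⟨comm_cj h.1.2.1.1 n, fun a ha => ?_⟩,
    by rw [card_cj, h.1.2.2]⟩, fun e => h.2 ?_⟩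
  · have := h.1.2.1.2 _ (mem_cj.1 ha)
    have e : n⁻¹ * a * n = n⁻¹ * a * n⁻¹⁻¹ := by rw [inv_inv]
    rwa [e, conj_pow, mul_inv_eq_one, mul_eq_left] at this
  · rwa [← cj_of_mem_nrm h1, ← cj_of_mem_nrm h2, ← cj_commutator, ← cj_cent, ← cj_inf, cj_eq_bot] at e

/-- The standing hypotheses on `V` and `E`. -/
structure Mod (p : ℕ) (V E : Subgroup G) : Prop where
  hp : p.Prime
  h5 : 5 ≤ p
  hV : E2 V
  hE : ElemAb p 2 E E
  nV : E ≤ Nrm V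
  ff : E ⊓ Cent V = ⊥

namespace Mod

variable [Finite G] (h : Mod p V E) {l₁ l₂ l₃ : Subgroup G}
include h

theorem odd : Odd (Nat.card E) := h.hE.2.2 ▸ (h.hp.odd_of_ne_two (by have := h.h5; omega)).pow
theorem cop (hl : l ≤ E) (hU : U ≤ V) : (Nat.card l).Coprime (Nat.card U) :=
  coprime_of_le (coprime_e2 h.hV h.odd) hl hU
theorem U_le : ⁅V, E⁆ ≤ V := commutator_le_left' h.nV
theorem W_le (l : Subgroup G) : ⁅V, E⁆ ⊓ Cent l ≤ V := inf_le_left.trans h.U_le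
theorem nW (hl : l ≤ E) : E ≤ Nrm (⁅V, E⁆ ⊓ Cent l) :=
  nrm_inf (nrm_commutator_right V E) (nrm_cent (nrm_of_comm h.hE.2.1.1 hl))

theorem ti (h1 : ElemAb p 1 l E) (h2 : ElemAb p 1 m E) (hne : l ≠ m) : ⁅V, E⁆ ⊓ Cent l ⊓ Cent m = ⊥ := by
  rw [inf_assoc, ← cent_sup, (h.hE.isDp_of_ne h.hp h1 h2 hne).sup]
  exact coprime_abel_cent_TI h.hV.isMulCommutative h.nV (h.cop le_rfl le_rfl)

theorem W_le_comm (h1 : ElemAb p 1 l E) (h2 : ElemAb p 1 m E) (hne : l ≠ m) : ⁅V, E⁆ ⊓ Cent l ≤ ⁅V, m⁆ := by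
  rw [← coprime_commutator_eq_self (h2.1.trans (h.nW h1.1)) (h.cop h2.1 (h.W_le l))
    (Or.inl (sol_of_comm h2.2.1.1)) (h.ti h1 h2 hne)]
  exact commutator_mono (h.W_le l) le_rfl

theorem exists_good (hm : ElemAb p 1 m E) : ∃ l, Good p V E l ∧ l ≠ m := by
  by_contra! hn
  have h1 : ⁅V, E⁆ ≤ Cent m := le_of_forall_cent_le h.hp h.hE (nrm_commutator_right V E)
    ((isPi_compl_singleton_iff_coprime h.hp).2 (line_card hm ▸ (h.cop hm.1 h.U_le).symm)) fun l hl => by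
      by_cases e : ⁅V, E⁆ ⊓ Cent l = ⊥
      · rw [e]; exact bot_le
      · rw [hn l ⟨hl, e⟩]; exact inf_le_right
  have h2 : m ≤ Cent V := coprime_commGG1P (hm.1.trans h.nV) (h.cop hm.1 le_rfl) (Or.inl (sol_of_comm hm.2.1.1))
    (le_cent_symm ((commutator_mono le_rfl hm.1).trans h1))
  exact ne_bot_of_card_prime (line_card hm ▸ h.hp) (eq_bot_of_le (le_inf hm.1 h2) h.ff)

theorem exists_line : ∃ m, ElemAb p 1 m E := by
  obtain ⟨m, h1, h2⟩ := exists_subgroup_card_prime (H := E) h.hp (h.hE.2.2 ▸ dvd_pow_self p two_ne_zero)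
  exact ⟨m, line_mk h.hE h1 h2⟩

theorem pred (hl : Good p V E l) : p ∣ Nat.card ↥(⁅V, E⁆ ⊓ Cent l) - 1 := by
  obtain ⟨m, hm, hne⟩ := h.exists_good hl.1
  exact dvd_pred h.hp (line_card hm.1) (hm.1.1.trans (h.nW hl.1.1)) (h.ti hl.1 hm.1 hne.symm)

theorem eight (hl : Good p V E l) : 8 ≤ Nat.card ↥(⁅V, E⁆ ⊓ Cent l) :=
  eight_le h.h5 (h.hV.mono (h.W_le l)) hl.2 (h.pred hl)

theorem sd2 (h1 : ElemAb p 1 l₁ E) (h2 : ElemAb p 1 l₂ E) (n12 : l₁ ≠ l₂) :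
    IsSd (⁅V, E⁆ ⊓ Cent l₁) (⁅V, E⁆ ⊓ Cent l₂) (⁅V, E⁆ ⊓ Cent l₁ ⊔ ⁅V, E⁆ ⊓ Cent l₂) :=
  isSd_sup ((h.W_le l₂).trans (nrm_of_comm h.hV.isMulCommutative (h.W_le l₁)))
    (eq_bot_of_le (inf_le_inf_left _ inf_le_right) (h.ti h1 h2 n12))

theorem sd3 (h1 : ElemAb p 1 l₁ E) (h2 : ElemAb p 1 l₂ E) (h3 : ElemAb p 1 l₃ E) (n12 : l₁ ≠ l₂)
    (n13 : l₁ ≠ l₃) (n23 : l₂ ≠ l₃) :
    IsSd (⁅V, E⁆ ⊓ Cent l₁ ⊔ ⁅V, E⁆ ⊓ Cent l₂) (⁅V, E⁆ ⊓ Cent l₃)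
      (⁅V, E⁆ ⊓ Cent l₁ ⊔ ⁅V, E⁆ ⊓ Cent l₂ ⊔ ⁅V, E⁆ ⊓ Cent l₃) := by
  refine isSd_sup ((h.W_le l₃).trans (nrm_of_comm h.hV.isMulCommutative (sup_le (h.W_le l₁) (h.W_le l₂))))
    (eq_bot_of_le (inf_le_inf_left _ inf_le_right) ?_)
  rw [← ((h.sd2 h1 h2 n12).cent (h3.1.trans (h.nW h1.1)) (h3.1.trans (h.nW h2.1))).sup, h.ti h1 h3 n13,
    h.ti h2 h3 n23, bot_sup_eq]

theorem two_lines (h1 : Good p V E l₁) (h2 : Good p V E l₂) (hm : ElemAb p 1 m E) (n12 : l₁ ≠ l₂)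
    (n1 : l₁ ≠ m) (n2 : l₂ ≠ m) : 64 ≤ Nat.card ↥⁅V, m⁆ := by
  have c := (h.sd2 h1.1 h2.1 n12).card
  have := card_le_of_le (sup_le (h.W_le_comm h1.1 hm n1) (h.W_le_comm h2.1 hm n2))
  have := Nat.mul_le_mul (h.eight h1) (h.eight h2)
  omega

theorem three_lines (h1 : Good p V E l₁) (h2 : Good p V E l₂) (h3 : Good p V E l₃) (hm : ElemAb p 1 m E)
    (n12 : l₁ ≠ l₂) (n13 : l₁ ≠ l₃) (n23 : l₂ ≠ l₃) (n1 : l₁ ≠ m) (n2 : l₂ ≠ m) (n3 : l₃ ≠ m) :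
    512 ≤ Nat.card ↥⁅V, m⁆ := by
  have c := (h.sd3 h1.1 h2.1 h3.1 n12 n13 n23).card
  rw [← (h.sd2 h1.1 h2.1 n12).card] at c
  have := card_le_of_le (sup_le (sup_le (h.W_le_comm h1.1 hm n1) (h.W_le_comm h2.1 hm n2))
    (h.W_le_comm h3.1 hm n3))
  have := Nat.mul_le_mul (Nat.mul_le_mul (h.eight h1) (h.eight h2)) (h.eight h3)
  omega

/-- The subgroup `[V, x]` for an inverted element `x`. -/
theorem card_comm (hx : x ∈ E) (x1 : x ≠ 1) (ha : a * a = 1) (haV : a ∈ Nrm V) (hi : a * x * a⁻¹ = x⁻¹) :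
    ∃ i k : ℕ, i = 2 ^ k ∧ 1 < i ^ 2 ∧ i ≤ (Cent1 a).relIndex V ∧ p ∣ i ^ 2 - 1 ∧
      Nat.card ↥⁅V, zpowers x⁆ = i ^ 2 := by
  have hm := elemAb_zpowers h.hp h.hE.2.1 hx x1
  have hle : ⁅V, zpowers x⁆ ≤ V := commutator_le_left' (hm.1.trans h.nV)
  have hti := coprime_abel_cent_TI h.hV.isMulCommutative (hm.1.trans h.nV) (h.cop hm.1 le_rfl)
  have e := card_eq_sq (h.hV.mono hle) ha (zpowers_le.1 (nrm_commutator (zpowers_le.2 haV)
    (zpowers_le.2 (nrm_zpowers_of_inv hi)))) (zpowers_le.1 (nrm_commutator_right _ _)) hi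
    (h.odd.of_dvd_nat (orderOf_dvd_card hx)) (by rwa [← cent_zpowers])
  obtain ⟨k, hk⟩ := relIndex_two_pow (h.hV.mono hle) (Cent1 a)
  refine ⟨_, k, hk, e ▸ one_lt_card.2 fun e1 => x1 (mem_bot.1 (h.ff ▸ mem_inf.2 ⟨hx, ?_⟩)),
    relIndex_le_of_le hle _, e ▸ dvd_pred h.hp (line_card hm) (nrm_commutator_right _ _) hti, e⟩
  exact zpowers_le.1 (commutator_eq_bot_iff'.1 e1)

/-- an involution with `|V : C_V(a)| ≤ 4` -/
theorem small (hx : x ∈ E) (x1 : x ≠ 1) (ha : a * a = 1) (haV : a ∈ Nrm V) (hi : a * x * a⁻¹ = x⁻¹)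
    (h4 : (Cent1 a).relIndex V ≤ 4) : p = 5 ∧ ∀ l₁ l₂ l₃, Good p V E l₁ → Good p V E l₂ → Good p V E l₃ →
      l₁ = l₂ ∨ l₁ = l₃ ∨ l₂ = l₃ := by
  obtain ⟨i, k, e, h1, h2, h3, hc⟩ := h.card_comm hx x1 ha haV hi
  have hm := elemAb_zpowers h.hp h.hE.2.1 hx x1
  refine ⟨(four_le h.hp h.h5 e h1 h3).2 (h2.trans h4), fun l₁ l₂ l₃ g1 g2 g3 => ?_⟩
  have h16 : i ^ 2 ≤ 4 ^ 2 := Nat.pow_le_pow_left (h2.trans h4) 2
  by_contra! hn
  have key : ∀ l l', Good p V E l → Good p V E l' → l ≠ l' → l ≠ zpowers x → l' ≠ zpowers x → False :=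
    fun l l' g g' n n1 n2 => by have := h.two_lines g g' hm n n1 n2; omega
  by_cases e1 : l₁ = zpowers x
  · exact key l₂ l₃ g2 g3 hn.2.2 (e1 ▸ hn.1.symm) (e1 ▸ hn.2.1.symm)
  · by_cases e2 : l₂ = zpowers x
    · exact key l₁ l₃ g1 g3 hn.2.1 e1 (e2 ▸ hn.2.2.symm)
    · exact key l₁ l₂ g1 g2 hn.1 e1 e2

/-- an involution inverting `E` -/
theorem invert (ha : a * a = 1) (haV : a ∈ Nrm V) (haE : a ∈ Nrm E) (hi : ∀ y ∈ E, a * y * a⁻¹ = y⁻¹)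
    (h16 : (Cent1 a).relIndex V ≤ 16) : p = 5 ∧ ∀ l₁ l₂ l₃, Good p V E l₁ → Good p V E l₂ → Good p V E l₃ →
      l₁ = l₂ ∨ l₁ = l₃ ∨ l₂ = l₃ := by
  have na : ∀ l, l ≤ E → a ∈ Nrm (⁅V, E⁆ ⊓ Cent l) := fun l hl =>
    zpowers_le.1 (nrm_inf (nrm_commutator (zpowers_le.2 haV) (zpowers_le.2 haE)) (nrm_cent (zpowers_le.2
      (mem_nrm_of_cj_le (by
        rintro _ ⟨y, hy, rfl⟩
        change a * y * a⁻¹ ∈ l
        rw [hi y (hl hy)]; exact inv_mem hy)))))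
  have four : ∀ l, Good p V E l → 4 ≤ (Cent1 a).relIndex (⁅V, E⁆ ⊓ Cent l) ∧
      ((Cent1 a).relIndex (⁅V, E⁆ ⊓ Cent l) ≤ 4 → p = 5) := fun l hl => by
    obtain ⟨m, hm, hne⟩ := h.exists_good hl.1
    obtain ⟨x, hx, x1⟩ := exists_ne_one_of_ne_bot (ne_bot_of_card_prime (line_card hm.1 ▸ h.hp))
    have e := card_eq_sq (h.hV.mono (h.W_le l)) ha (na l hl.1.1) (h.nW hl.1.1 (hm.1.1 hx)) (hi x (hm.1.1 hx))
      (h.odd.of_dvd_nat (orderOf_dvd_card (hm.1.1 hx))) (by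
        rw [← cent_zpowers, eq_zpowers_of_card_prime (line_card hm.1 ▸ h.hp) hx x1]
        exact h.ti hl.1 hm.1 hne.symm)
    obtain ⟨k, hk⟩ := relIndex_two_pow (h.hV.mono (h.W_le l)) (Cent1 a)
    exact four_le h.hp h.h5 hk (e ▸ one_lt_card.2 hl.2) (e ▸ h.pred hl)
  refine ⟨?_, fun l₁ l₂ l₃ g1 g2 g3 => ?_⟩
  · obtain ⟨m, hm⟩ := h.exists_line
    obtain ⟨l₁, g1, -⟩ := h.exists_good hm
    obtain ⟨l₂, g2, n⟩ := h.exists_good g1.1
    have c := relIndex_sd (h.sd2 g2.1 g1.1 n) (na _ g2.1.1) (na _ g1.1.1)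
    have := relIndex_le_of_le (sup_le (h.W_le l₂) (h.W_le l₁)) (Cent1 a)
    have := Nat.mul_le_mul_right ((Cent1 a).relIndex (⁅V, E⁆ ⊓ Cent l₁)) (four _ g2).1
    exact (four _ g1).2 (by omega)
  · by_contra! hn
    have c := relIndex_sd (h.sd3 g1.1 g2.1 g3.1 hn.1 hn.2.1 hn.2.2)
      (zpowers_le.1 (nrm_sup (zpowers_le.2 (na _ g1.1.1)) (zpowers_le.2 (na _ g2.1.1)))) (na _ g3.1.1)
    rw [relIndex_sd (h.sd2 g1.1 g2.1 hn.1) (na _ g1.1.1) (na _ g2.1.1)] at c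
    have := relIndex_le_of_le (sup_le (sup_le (h.W_le l₁) (h.W_le l₂)) (h.W_le l₃)) (Cent1 a)
    have := Nat.mul_le_mul (Nat.mul_le_mul (four _ g1).1 (four _ g2).1) (four _ g3).1
    omega

/-- With `p = 5` and two good lines, an automorphism of odd order is trivial. -/
theorem final (h5 : p = 5) (h3 : ∀ l₁ l₂ l₃, Good p V E l₁ → Good p V E l₂ → Good p V E l₃ →
      l₁ = l₂ ∨ l₁ = l₃ ∨ l₂ = l₃) {n : G} (h1 : n ∈ Nrm V) (h2 : n ∈ Nrm E) {r : ℕ} (hr : Odd r)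
    (hc : n ^ r ∈ Cent E) : n ∈ Cent E := by
  have key : ∀ l l', Good p V E l → Good p V E l' → l ≠ l' → n ∈ Cent l := fun l l' g g' hne => by
    have a1 : n ^ 2 ∈ Nrm l := by
      rw [mem_nrm_iff_cj, sq, cj_mul]
      rcases h3 _ _ _ g g' (g.cj h1 h2) with e | e | e
      · exact (hne e).elim
      · rw [← e, ← e]
      · rw [← e]
        rcases h3 _ _ _ g g' (g'.cj h1 h2) with e' | e' | e'
        · exact (hne e').elim
        · exact e'.symm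
        · exact (hne (cj_inj.1 (e.symm.trans e'))).elim
    have a2 : n ^ r ∈ Cent l := cent_anti g.1.1 hc
    have a3 : n ∈ Nrm l := mem_of_pow_coprime a1 (cent_le_nrm l a2) (Nat.coprime_two_left.2 hr)
    have := cyclic_of_card_prime (line_card g.1 ▸ h.hp)
    have a4 : l.normalizerMonoidHom (⟨n, a3⟩ ^ 4) = 1 := by
      have e : Nat.card (MulAut l) = 4 := by rw [IsCyclic.card_mulAut, line_card g.1, h5]; rfl
      rw [map_pow, ← e, pow_card_eq_one']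
    rw [← MonoidHom.mem_ker, normalizerMonoidHom_ker, mem_subgroupOf] at a4
    exact mem_of_pow_coprime (i := 2 ^ 2) a4 a2 (Nat.Coprime.pow_left 2 (Nat.coprime_two_left.2 hr))
  obtain ⟨m, hm⟩ := h.exists_line
  obtain ⟨l₁, g1, -⟩ := h.exists_good hm
  obtain ⟨l₂, g2, hne⟩ := h.exists_good g1.1
  rw [← (h.hE.isDp_of_ne h.hp g2.1 g1.1 hne).sup, cent_sup]
  exact mem_inf.2 ⟨key _ _ g2 g1 hne, key _ _ g1 g2 hne.symm⟩

end Mod

end H33.QT
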