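import Cfsg.Agent.H33.XfMod

/-! QT tower, job Xf: the module theorem. -/

set_option autoImplicit false
set_option linter.unusedSectionVars false

namespace H33.QT

open Cfsg Subgroup H46 H85
open scoped commutatorElement

universe u

variable {G : Type u} [Group G] [Finite G] {p : ℕ} {U V E P A l m : Subgroup G} {a x : G}

theorem elem_of_not_cyclic (hp : p.Prime) (hc : Nat.card E = p ^ 2) (h : ¬ IsCyclic E) : ElemAb p 2 E E := by
  have : Fact p.Prime := ⟨hp⟩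
  refine ⟨le_rfl, ⟨IsPGroup.isMulCommutative_of_card_eq_prime_sq hc, fun a ha => ?_⟩, hc⟩
  have := Monoid.pow_exponent_eq_one (⟨a, ha⟩ : E)
  rw [(not_isCyclic_iff_exponent_eq_prime hp hc).1 h] at this
  exact congrArg Subtype.val this

theorem coprime_e2' (hA : E2 A) (hp : p.Prime) (h2 : p ≠ 2) {n : ℕ} (hc : Nat.card P = p ^ n) :
    (Nat.card A).Coprime (Nat.card P) := (coprime_e2 hA (hc ▸ (hp.odd_of_ne_two h2).pow)).symm

/-- An elementary abelian 2-group acting faithfully on `E_{p²}`. -/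
theorem card_le_four (hp : p.Prime) (h2 : p ≠ 2) (hE : ElemAb p 2 E E) (hA : E2 A) (hn : A ≤ Nrm E)
    (hf : A ⊓ Cent E = ⊥) : Nat.card A ≤ 2 ∨ (Nat.card A ≤ 4 ∧ ∃ a ∈ A, E ⊓ Cent1 a = ⊥) := by
  classical
  by_cases hs : Semiregular E A
  · exact Or.inl (hA.card_le_two_of_isCyclic (hs.cyclic_of_comm hn
      (one_lt_card.1 (hE.2.2 ▸ one_lt_pow₀ hp.one_lt two_ne_zero)) hA.isMulCommutative))
  obtain ⟨a, ha, a1, hne⟩ : ∃ a ∈ A, a ≠ 1 ∧ E ⊓ Cent1 a ≠ ⊥ := by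
    by_contra! hh; exact hs hh
  have za : zpowers a ≤ A := zpowers_le.2 ha
  have hd := coprime_abelian_cent_dprod hE.2.1.1 (za.trans hn) (coprime_of_le (coprime_e2' hA hp h2 hE.2.2) za le_rfl)
  have nc : ¬ E ≤ Cent (zpowers a) := fun e => a1 (mem_bot.1 (hf ▸ mem_inf.2 ⟨ha, le_cent_symm e (mem_zpowers a)⟩))
  have c2 : Nat.card ↥(E ⊓ Cent (zpowers a)) = p :=
    card_eq_of_lt_sq hp hE.2.2 inf_le_left (by rwa [cent_zpowers]) fun e => nc (e ▸ inf_le_right)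
  have c1 : Nat.card ↥⁅E, zpowers a⁆ = p := by
    have := hd.card
    rw [c2, hE.2.2, sq] at this
    exact Nat.eq_of_mul_eq_mul_right hp.pos this
  have nz : A ≤ Nrm (zpowers a) := nrm_of_comm hA.isMulCommutative za
  have n1 : A ≤ Nrm ⁅E, zpowers a⁆ := nrm_commutator hn nz
  have n2 : A ≤ Nrm (E ⊓ Cent (zpowers a)) := nrm_inf hn (nrm_cent nz)
  generalize ⁅E, zpowers a⁆ = l₁ at hd c1 n1
  generalize E ⊓ Cent (zpowers a) = l₂ at hd c2 n2
  have fp : ∀ l : Subgroup G, Nat.card l = p → ∀ b, b ∉ Cent l → l ⊓ Cent1 b = ⊥ := fun l c b hb =>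
    inf_eq_bot_of_prime (c ▸ hp) fun e => hb (le_cent1_iff.1 e)
  have mul : ∀ l : Subgroup G, Nat.card l = p → A ≤ Nrm l → ∀ b ∈ A, ∀ c ∈ A, (b ∈ Cent l ↔ c ∈ Cent l) →
      b * c ∈ Cent l := fun l hl nl b hb c hc e => by
    by_cases hbc : b ∈ Cent l
    · exact mul_mem hbc (e.1 hbc)
    · refine mem_cent.2 fun y hy => ?_
      have e1 := inv_of_fpf (hA c hc) (nl hc) (fp l hl c (mt e.2 hbc)) y hy
      have e2 := inv_of_fpf (hA b hb) (nl hb) (fp l hl b hbc) _ (inv_mem hy)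
      calc y * (b * c) = b * y⁻¹ * b⁻¹ * (b * c) := by rw [e2, inv_inv]
        _ = b * (c * y * c⁻¹) * c := by rw [e1]; group
        _ = _ := by group
  let f : A → Bool × Bool := fun b => (decide ((b : G) ∈ Cent l₁), decide ((b : G) ∈ Cent l₂))
  have hfi : Function.Injective f := fun b c e => by
    have e1 := decide_eq_decide.1 (congrArg Prod.fst e)
    have e2 := decide_eq_decide.1 (congrArg Prod.snd e)
    have : (b : G) * c ∈ A ⊓ Cent E := mem_inf.2 ⟨mul_mem b.2 c.2, by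
      rw [← hd.sup, cent_sup]; exact mem_inf.2 ⟨mul _ c1 n1 _ b.2 _ c.2 e1, mul _ c2 n2 _ b.2 _ c.2 e2⟩⟩
    rw [hf, mem_bot] at this
    exact Subtype.ext (by rw [← hA.inv b.2]; exact inv_eq_of_mul_eq_one_right this)
  have c4 : Nat.card (Bool × Bool) = 4 := by simp
  have h4 : Nat.card A ≤ 4 := c4 ▸ Nat.card_le_card_of_injective f hfi
  by_cases hb : ∃ b : A, f b = (false, false)
  · obtain ⟨b, e⟩ := hb
    refine Or.inr ⟨h4, b, b.2, ?_⟩
    have := (hd.centr (zpowers_le.2 (n1 b.2)) (zpowers_le.2 (n2 b.2))).sup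
    rw [cent_zpowers, fp _ c1 _ (of_decide_eq_false (congrArg Prod.fst e)),
      fp _ c2 _ (of_decide_eq_false (congrArg Prod.snd e)), bot_sup_eq] at this
    exact this.symm
  · have h3 : Nat.card A ≠ 4 := fun e =>
      hb (((Nat.bijective_iff_injective_and_card f).2 ⟨hfi, e.trans c4.symm⟩).2 _)
    obtain ⟨n, e⟩ := hA.exists_card
    rw [e] at h3 h4 ⊢
    have : n < 2 := (Nat.pow_lt_pow_iff_right one_lt_two (m := 2)).1 (by omega)
    exact Or.inl (by interval_cases n <;> norm_num)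

theorem exists_inv (ha : a * a = 1) (hn : a ∈ Nrm P) (ho : Odd (Nat.card P)) {Z : Subgroup G}
    (hZ : Z ≤ frattiniOf P) (h : a ∉ Cent P) : ∃ x ∈ P, x ∉ Z ∧ a * x * a⁻¹ = x⁻¹ := by
  by_contra! hh
  exact h (coprime_cent_Phi (zpowers_le.2 hn) (coprime_e2 (e2_zpowers ha) ho).symm
    ((comm_le_of_inv ha hn fun y hy e => by_contra fun hy' => hh y hy hy' e).trans hZ) (mem_zpowers a))

/-- The centre of a non-abelian group of order `p ^ 3`. -/
theorem cube (hp : p.Prime) (hc : Nat.card P = p ^ 3) (hn : ¬ IsMulCommutative P) :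
    Nat.card (Zc P) = p ∧ ⁅P, P⁆ = Zc P ∧ ElemAb p 2 (P ⧸ₙ Zc P) (P ⧸ₙ Zc P) := by
  have nc : ¬ IsCyclic (P ⧸ₙ Zc P) := fun e => hn (comm_of_cyclic_quo inf_le_right e)
  have h1 := card_mul_card_quo (normalIn_zc P)
  have hP := isPi_of_card_pow hp hc
  have z1 := one_lt_card.2 (zc_ne_bot_of_nil hP.nil (one_lt_card.1 (hc ▸ one_lt_pow₀ hp.one_lt three_ne_zero)))
  obtain ⟨k, hk, e⟩ := (Nat.dvd_prime_pow hp).1 (hc ▸ Dvd.intro_left _ h1)
  have k2 : k = 2 := by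
    interval_cases k
    · exact (nc (by rw [card_eq_one.1 e]; infer_instance)).elim
    · exact (nc (cyclic_of_card_prime (by rwa [e, pow_one]))).elim
    · rfl
    · rw [e, hc] at h1
      have := Nat.eq_of_mul_eq_mul_right (pow_pos hp.pos 3) (h1.trans (one_mul _).symm)
      omega
  subst k2
  have cz : Nat.card (Zc P) = p := by
    rw [e, hc, pow_succ' p 2] at h1
    exact Nat.eq_of_mul_eq_mul_right (pow_pos hp.pos 2) h1
  have hE := elem_of_not_cyclic hp e nc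
  exact ⟨cz, (eq_bot_or_eq_of_prime (cz ▸ hp) ((comm_quo_iff (normalIn_zc P).2).1 hE.2.1.1)).resolve_left
    fun e => hn (der_eq_bot_iff.1 e), hE⟩

theorem card_le_four' (hp : p.Prime) (h2 : p ≠ 2) (hc : Nat.card P = p ^ 3) (hn : ¬ IsMulCommutative P)
    (hA : E2 A) (hAP : A ≤ Nrm P) (hf : A ⊓ Cent P = ⊥) : Nat.card A ≤ 4 := by
  obtain ⟨cz, hd, hE⟩ := cube hp hc hn
  have nZ : A ≤ Nrm (Zc P) := nrm_zc hAP
  have co := coprime_e2' hA hp h2 hc
  have e := card_quo_of_disjoint nZ (inf_eq_bot_of_coprime' (coprime_of_le co le_rfl inf_le_left).symm)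
  have := card_le_four hp h2 hE (A := A ⧸ₙ Zc P) ((hA.subgroupOf _).map _) (quo_nrm _ hAP) (by
    rw [eq_bot_iff]
    rintro z ⟨hz, hz'⟩
    obtain ⟨a, ha, -, rfl⟩ := mem_quo.1 hz
    have za := zpowers_le.2 ha
    have h1 : ⁅P, zpowers a⁆ ≤ Zc P := (quo_le_cent_iff' (za.trans nZ) (normalIn_zc P).2).1 (by
      rw [quo_zpowers (nZ ha)]; exact zpowers_le.2 hz')
    have h3 := coprime_cent_Phi (za.trans hAP) (coprime_of_le co za le_rfl)
      (h1.trans (hd ▸ der_le_frattiniOf_of_nil (isPi_of_card_pow hp hc).nil))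
    rw [show a = 1 from mem_bot.1 (hf ▸ mem_inf.2 ⟨ha, h3 (mem_zpowers a)⟩)]
    exact mem_bot.2 (mel_one _))
  omega

/-- The non-abelian case does not occur. -/
theorem not_cube (hp : p.Prime) (h5 : 5 ≤ p) (hV : E2 V) (nV : P ≤ Nrm V) (ff : P ⊓ Cent V = ⊥)
    (hc : Nat.card P = p ^ 3) (hn : ¬ IsMulCommutative P) (ha : a * a = 1) (haV : a ∈ Nrm V) (haP : a ∈ Nrm P)
    (hf : a ∉ Cent P) (h16 : (Cent1 a).relIndex V ≤ 16) : False := by
  obtain ⟨cz, hd, -⟩ := cube hp hc hn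
  have hP := isPi_of_card_pow hp hc
  have ho : Odd (Nat.card P) := hc ▸ (hp.odd_of_ne_two (by omega)).pow
  obtain ⟨x, hx, xZ, hi⟩ := exists_inv ha haP ho (hd ▸ der_le_frattiniOf_of_nil hP.nil) hf
  have zx := zpowers_le.2 hx
  have ZP : Zc P ≤ P := inf_le_left
  have Zp : (Nat.card (Zc P)).Prime := cz ▸ hp
  by_cases hZ : Zc P ≤ zpowers x
  · have co := coprime_of_le (coprime_e2 hV ho) ZP le_rfl
    have hti := coprime_abel_cent_TI hV.isMulCommutative (ZP.trans nV) co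
    have hle : ⁅V, Zc P⁆ ≤ V := commutator_le_left' (ZP.trans nV)
    have nW : P ≤ Nrm ⁅V, Zc P⁆ := nrm_commutator nV (normalIn_zc P).2
    have fp : ∀ y ∈ zpowers x, y ≠ 1 → ⁅V, Zc P⁆ ⊓ Cent1 y = ⊥ := fun y hy y1 => by
      refine eq_bot_of_le (inf_le_inf_left _ ?_) hti
      rw [← cent_zpowers]
      exact cent_anti (le_of_card_prime_of_cyclic (hP.of_le zx) inferInstance hZ (zpowers_le.2 hy) Zp
        (ne_bot_of_mem (mem_zpowers y) y1))
    have x1 : x ≠ 1 := fun e => xZ (e ▸ one_mem _)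
    have e := card_eq_sq (hV.mono hle) ha (zpowers_le.1 (nrm_commutator (zpowers_le.2 haV)
      (nrm_zc (zpowers_le.2 haP)))) (nW hx) hi (ho.of_dvd_nat (orderOf_dvd_card hx)) (fp x (mem_zpowers x) x1)
    obtain ⟨k, hk⟩ := relIndex_two_pow (hV.mono hle) (Cent1 a)
    refine not_sq_dvd h5 hk (e ▸ one_lt_card.2 fun e1 => ne_bot_of_card_prime Zp (eq_bot_of_le
      (le_inf ZP (commutator_eq_bot_iff'.1 e1)) ff)) ((relIndex_le_of_le hle _).trans h16) (e ▸ ?_)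
    refine Dvd.dvd.trans ?_ (Semiregular.dvd_pred fp (zx.trans nW))
    obtain ⟨j, hj⟩ := (hP.of_le zx).exists_pow hp
    have := card_lt_of_lt (lt_of_le_of_ne hZ fun e => xZ (e ▸ mem_zpowers x))
    rw [cz, hj] at this
    rw [hj]
    exact pow_dvd_pow p ((Nat.pow_lt_pow_iff_right hp.one_lt (n := 1)).1 (by rwa [pow_one]))
  have ti := inf_eq_bot_of_prime Zp hZ
  have cx : zpowers x ≤ Cent (Zc P) := le_cent_symm (inf_le_right.trans (cent_anti zx))
  have EP : Zc P ⊔ zpowers x ≤ P := sup_le ZP zx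
  have Ec := comm_sup (comm_zc P) (inferInstance : IsMulCommutative (zpowers x)) cx
  have cE := card_sup_of_disjoint (nrm_of_le_cent cx) ti
  have x1 : x ≠ 1 := fun e => xZ (e ▸ one_mem _)
  have cx1 : Nat.card (zpowers x) = p := by
    obtain ⟨j, hj⟩ := (hP.of_le zx).exists_pow hp
    have h1 := one_lt_card.2 (ne_bot_of_mem (mem_zpowers x) x1)
    have h2 := card_lt_of_lt (lt_of_le_of_ne EP fun e => hn (e ▸ Ec))
    rw [cE, cz, hj, hc, ← pow_succ'] at h2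
    have h3 := (Nat.pow_lt_pow_iff_right hp.one_lt).1 h2
    have h4 : j ≠ 0 := fun e => by rw [hj, e, pow_zero] at h1; omega
    rw [hj, show j = 1 by omega, pow_one]
  have el : ∀ l : Subgroup G, Nat.card l = p → IsElementaryAbelian p l := fun l c =>
    ⟨comm_of_cyclic (cyclic_of_card_prime (c ▸ hp)), fun a ha =>
      c ▸ congrArg Subtype.val (pow_card_eq_one' (x := (⟨a, ha⟩ : l)))⟩
  have hE : ElemAb p 2 (Zc P ⊔ zpowers x) (Zc P ⊔ zpowers x) :=
    ⟨le_rfl, elem_sup (el _ cz) (el _ cx1) cx, by rw [cE, cz, cx1, sq]⟩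
  have nE : P ≤ Nrm (Zc P ⊔ zpowers x) := nrm_of_der_le (hd ▸ le_sup_left) EP
  have lZ := line_mk hE le_sup_left cz
  have lx := line_mk hE le_sup_right cx1
  have xE : x ∈ Zc P ⊔ zpowers x := mem_sup_right (mem_zpowers x)
  generalize Zc P ⊔ zpowers x = E at *
  have h : Mod p V E := ⟨hp, h5, hV, hE, EP.trans nV, eq_bot_of_le (inf_le_inf_right _ EP) ff⟩
  obtain ⟨l, g, lZ', hl⟩ : ∃ l, Good p V E l ∧ l ≠ Zc P ∧ (l = zpowers x ∨ ¬ Good p V E (zpowers x)) := by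
    by_cases e : Good p V E (zpowers x)
    · exact ⟨_, e, fun e' => xZ (e' ▸ mem_zpowers x), Or.inl rfl⟩
    · obtain ⟨l, g, n⟩ := h.exists_good lZ
      exact ⟨l, g, n, Or.inr e⟩
  have lp : (Nat.card l).Prime := line_card g.1 ▸ hp
  obtain ⟨y, hy, yn⟩ : ∃ y ∈ P, y ∉ Nrm l := by
    by_contra! hh
    exact lZ' (eq_of_le_of_card_eq (nil_le_zc_of_prime hP.nil ⟨g.1.1.trans EP, hh⟩ lp) (by rw [cz, line_card g.1]))
  have yk : ∀ k, 0 < k → k < p → cj (y ^ k) l ≠ l := fun k k0 kp e => yn (mem_of_pow_coprime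
    (mem_nrm_iff_cj.2 e) (j := p ^ 3) (by
      rw [show y ^ p ^ 3 = 1 from hc ▸ congrArg Subtype.val (pow_card_eq_one' (x := (⟨y, hy⟩ : P)))]
      exact one_mem _) (Nat.Coprime.pow_right 3 (Nat.coprime_of_lt_prime k0.ne' kp hp).symm))
  have gk : ∀ k, Good p V E (cj (y ^ k) l) := fun k => g.cj (nV (pow_mem hy k)) (nE (pow_mem hy k))
  have ne : ∀ j k, 0 < k → k < p → cj (y ^ j) l ≠ cj (y ^ (j + k)) l := fun j k k0 kp e => by
    rw [pow_add, cj_mul, cj_inj] at e; exact yk k k0 kp e.symm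
  have nx : ∀ k, 0 < k → k < p → cj (y ^ k) l ≠ zpowers x := fun k k0 kp e =>
    hl.elim (fun e' => yk k k0 kp (e.trans e'.symm)) fun e' => e' (e ▸ gk k)
  have h3 := h.three_lines (gk 1) (gk 2) (gk 3) lx (ne 1 1 one_pos (by omega)) (ne 1 2 two_pos (by omega))
    (ne 2 1 one_pos (by omega)) (nx 1 one_pos (by omega)) (nx 2 two_pos (by omega)) (nx 3 (by omega) (by omega))
  obtain ⟨i, k, -, -, h2, -, e⟩ := h.card_comm xE x1 ha haV hi
  have : i ^ 2 ≤ 16 ^ 2 := Nat.pow_le_pow_left (h2.trans h16) 2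
  omega

/-- The module theorem. -/
theorem mod (hp : p.Prime) (h5 : 5 ≤ p) (hV : E2 V) (nV : P ≤ Nrm V) (ff : P ⊓ Cent V = ⊥) (hA : E2 A)
    (A1 : A ≠ ⊥) (hAV : A ≤ Nrm V) (hAP : A ≤ Nrm P) (hf : A ⊓ Cent P = ⊥)
    (hq : (Cent A).relIndex V ≤ Nat.card A ^ 2)
    (hP : (Nat.card P = p ^ 2 ∧ ¬ IsCyclic P) ∨ (Nat.card P = p ^ 3 ∧ ¬ IsMulCommutative P)) :
    p = 5 ∧ ∀ n ∈ Nrm V, n ∈ Nrm P → ∀ r : ℕ, Odd r → n ^ r ∈ Cent P → n ∈ Cent P := by
  have idx : ∀ a ∈ A, ∀ k, Nat.card A ≤ k → (Cent1 a).relIndex V ≤ k ^ 2 := fun a ha k hk =>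
    ((relIndex_le_of_le_left (cent_le_cent1 ha) (relIndex_pos _ _).ne').trans hq).trans (Nat.pow_le_pow_left hk 2)
  obtain ⟨a, ha, a1⟩ := exists_ne_one_of_ne_bot A1
  have na : a ∉ Cent P := fun e => a1 (mem_bot.1 (hf ▸ mem_inf.2 ⟨ha, e⟩))
  rcases hP with ⟨hc, nc⟩ | ⟨hc, nc⟩
  · have hE := elem_of_not_cyclic hp hc nc
    have h : Mod p V P := ⟨hp, h5, hV, hE, nV, ff⟩
    have key : p = 5 ∧ ∀ l₁ l₂ l₃, Good p V P l₁ → Good p V P l₂ → Good p V P l₃ →
        l₁ = l₂ ∨ l₁ = l₃ ∨ l₂ = l₃ := by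
      rcases card_le_four hp (by omega) hE hA hAP hf with h2 | ⟨h4, b, hb, e⟩
      · obtain ⟨x, hx, x1, hi⟩ := exists_inv (hA a ha) (hAP ha) h.odd bot_le na
        exact h.small hx (fun e => x1 (mem_bot.2 e)) (hA a ha) (hAV ha) hi (idx a ha 2 h2)
      · exact h.invert (hA b hb) (hAV hb) (hAP hb) (inv_of_fpf (hA b hb) (hAP hb) e) (idx b hb 4 h4)
    exact ⟨key.1, fun n h1 h2 r hr e => h.final key.1 key.2 h1 h2 hr e⟩
  · exact (not_cube hp h5 hV nV ff hc nc (hA a ha) (hAV ha) (hAP ha) na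
      (idx a ha 4 (card_le_four' hp (by omega) hc nc hA hAP hf))).elim

/-- The faithful ambient group `V ⋊ Aut V`. -/
theorem exists_faithful (hV : E2 V) : ∃ (Γ : Type u) (_ : Group Γ) (_ : Finite Γ) (f : Nrm V →* Γ)
    (W : Subgroup Γ), W.Normal ∧ E2 W ∧ mker f = Cent V ∧ mim f (Nrm V) ⊓ Cent W = ⊥ ∧
      ∀ B ≤ Nrm V, (Cent (mim f B)).relIndex W = (Cent B).relIndex V := by
  let Γ := V ⋊[MonoidHom.id (MulAut V)] MulAut V
  have : Finite Γ := Finite.of_equiv _ SemidirectProduct.equivProd.symm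
  let i : V →* Γ := SemidirectProduct.inl
  let f : Nrm V →* Γ := SemidirectProduct.inr.comp V.normalizerMonoidHom
  have hi : Function.Injective i := SemidirectProduct.inl_injective
  have cm : ∀ (g : Nrm V) (v : V), i v * f g = f g * i v ↔ (v : G) * g = g * v := fun g v => by
    have e : f g * i v * (f g)⁻¹ = i (V.normalizerMonoidHom g v) := by
      have := (SemidirectProduct.inl_aut (φ := MonoidHom.id (MulAut V)) (V.normalizerMonoidHom g) v).symm
      rwa [map_inv] at this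
    rw [eq_comm, ← mul_inv_eq_iff_eq_mul, e, hi.eq_iff, Subtype.ext_iff,
      eq_comm (a := (v : G) * g), ← mul_inv_eq_iff_eq_mul]
    rfl
  have hk : mker f = Cent V := by
    rw [mker, MonoidHom.ker_comp_of_injective _ _ SemidirectProduct.inr_injective, normalizerMonoidHom_ker,
      map_subgroupOf_eq_of_le (cent_le_nrm V)]
  refine ⟨Γ, inferInstance, inferInstance, f, i.range, ?_, ?_, hk, ?_, fun B hB => ?_⟩
  · rw [SemidirectProduct.range_inl_eq_ker_rightHom]; infer_instance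
  · rintro _ ⟨v, rfl⟩
    rw [← map_mul, show v * v = 1 from Subtype.ext (hV v v.2), map_one]
  · rw [eq_bot_iff]
    rintro z ⟨hz, hz'⟩
    obtain ⟨g, -, hg, rfl⟩ := mem_mim.1 hz
    refine mem_bot.2 ((mel_eq_one_iff hg).2 (hk ▸ mem_cent.2 fun v hv => (cm ⟨g, hg⟩ ⟨v, hv⟩).1 ?_))
    rw [← mel_of_mem f hg]
    exact mem_cent.1 hz' _ ⟨_, rfl⟩
  · have e : (Cent (mim f B)).comap i = (Cent B).subgroupOf V := by
      ext v
      rw [mem_comap, mem_subgroupOf, mem_cent, mem_cent]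
      constructor
      · intro h b hb
        exact ((cm ⟨b, hB hb⟩ v).1 (by rw [← mel_of_mem f (hB hb)]; exact (h _ (mel_mem_mim f hb)).symm)).symm
      · intro h z hz
        obtain ⟨b, hb, hb', rfl⟩ := mem_mim.1 hz
        rw [mel_of_mem f hb']
        exact ((cm ⟨b, hb'⟩ v).2 (h b hb).symm).symm
    rw [MonoidHom.range_eq_map, ← relIndex_comap, e, relIndex_top_right]
    rfl

end H33.QT
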