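import Cfsg.Agent.H33.XfMod2
import Cfsg.Agent.H97.QTSpec

/-! QT tower, job Xf: S1852 from S1822 and S1824. -/

set_option autoImplicit false
set_option linter.unusedSectionVars false

namespace H33.QT

open Cfsg Subgroup H46 H85
open scoped commutatorElement

universe u

variable {G : Type u} [Group G] [Finite G] {p : ℕ} {T X N S : Subgroup G}

/-- `O_{2,Φ}(X)`. -/
abbrev Phi (X : Subgroup G) : Subgroup G := qpre (Op 2 X) (frattiniOf (X ⧸ₙ Op 2 X))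
/-- `C_{N(X)}(X / O_2(X))`. -/
abbrev CC (X : Subgroup G) : Subgroup G := centMod (Nrm X) X (Op 2 X)
/-- `Ω₁(Z(O_2(X T)))`. -/
abbrev VV (T X : Subgroup G) : Subgroup G := omegaOne 2 (Zc (Op 2 (X ⊔ T)))

theorem nQ (X : Subgroup G) : Nrm X ≤ Nrm (Op 2 X) := nrm_le_nrm_piCoreOf _ X
theorem nQ' (X : Subgroup G) : X ≤ Nrm (Op 2 X) := le_nrm_piCoreOf _ X

theorem exists_equiv (X : Subgroup G) : ∃ e : (X ⧸ pCore 2 X) ≃* (X ⧸ₙ Op 2 X),
    ∀ x : X, (e (QuotientGroup.mk x) : Quo (Op 2 X)) = qel (Op 2 X) x := by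
  have hk : pCore 2 X = (mres (qmap (Op 2 X)) (nQ' X)).ker := by
    rw [ker_mres, mker_qmap, Op_eq_pCore Nat.prime_two, subgroupOf_map_subtype_self]
  exact ⟨(QuotientGroup.quotientMulEquivOfEq hk).trans
    (QuotientGroup.quotientKerEquivOfSurjective _ (mres_surjective _ _)), fun x => mres_apply _ (nQ' X) x⟩

theorem twoPhiCore_eq (X : Subgroup G) : twoPhiCore X = Phi X := by
  obtain ⟨e, he⟩ := exists_equiv X
  have key : ∀ x : X, (QuotientGroup.mk x : X ⧸ pCore 2 X) ∈ frattini _ ↔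
      qel (Op 2 X) x ∈ frattiniOf (X ⧸ₙ Op 2 X) := fun x => by
    rw [← he, ← mem_subgroupOf, frattiniOf_subgroupOf]
    refine ⟨fun h => frattini_le_comap_frattini_of_surjective (φ := e.toMonoidHom) e.surjective h, fun h => ?_⟩
    simpa using frattini_le_comap_frattini_of_surjective (φ := e.symm.toMonoidHom) e.symm.surjective h
  ext x
  rw [mem_qpre]
  constructor
  · rintro ⟨y, hy, rfl⟩
    exact ⟨nQ' X y.2, (key y).1 hy⟩
  · rintro ⟨h1, h2⟩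
    have hx : x ∈ X := (qel_mem_quo_iff h1 (piCoreOf_le _ X)).1 (frattiniOf_le _ h2)
    exact ⟨⟨x, hx⟩, (key ⟨x, hx⟩).2 h2, rfl⟩

theorem Phi_le (X : Subgroup G) : Phi X ≤ X := (qpre_le_iff (piCoreOf_normalIn _ X)).2 (frattiniOf_le _)
theorem nPhi (X : Subgroup G) : Nrm X ≤ Nrm (Phi X) := le_nrm_qpre (nQ X) (nrm_frattiniOf (quo_nrm _ le_rfl))

theorem eq_of_Phi (h1 : S ≤ X) (h : X ≤ Phi X ⊔ S) : X ⧸ₙ Op 2 X = S ⧸ₙ Op 2 X := by
  refine (eq_of_frattiniOf_sup (quo_mono _ h1) ((quo_mono _ h).trans ?_)).symm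
  rw [quo_sup (qpre_le_nrm _) (h1.trans (nQ' X))]
  exact sup_le_sup_right (mim_mpre_le _ _) _

theorem le_CC (h : S ≤ Nrm X) : S ≤ CC X ↔ ⁅S, X⁆ ≤ Op 2 X := by
  rw [le_centMod_iff (nQ' X) (h.trans (nQ X)), and_iff_right h]

theorem CC_normalIn (X : Subgroup G) : CC X ⊴ Nrm X :=
  normalIn_inf_of_nrm (le_nrm_qpre (nQ X) (nrm_cent (quo_nrm _ le_rfl)))

theorem le_of_odd {K : Subgroup G} (hX : oddGenerated X = X) (hN : N ⊴ K) (h : X ≤ K) (hi : PNat {2} (N.relIndex K)) :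
    X ≤ N := by
  rw [← hX]
  refine (closure_le _).2 fun x hx => zpowers_le.1 (IsPi.le_of_idx (π := {2}ᶜ) (isPi_zpowers.2 ?_) hN
    (zpowers_le.2 (h hx.1)) hi.compl_compl)
  exact (pnat_compl_singleton Nat.prime_two).2 hx.2.not_two_dvd_nat

/-- The data of a member of `Ξ(G, T) ∩ 𝒳_f`. -/
structure XS (p : ℕ) (T X : Subgroup G) : Prop where
  hp : p.Prime
  h2 : p ≠ 2
  syl : IsSylowOf 2 T ⊤
  odd : oddGenerated X = X
  nX : T ≤ Nrm X
  shape : (Nat.card (X ⧸ₙ Op 2 X) = p ^ 2 ∧ ¬ IsCyclic (X ⧸ₙ Op 2 X)) ∨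
    (Nat.card (X ⧸ₙ Op 2 X) = p ^ 3 ∧ ¬ IsMulCommutative (X ⧸ₙ Op 2 X))
  irr : ∀ Y, Phi X ≤ Y → Y ≤ X → T ≤ Nrm Y → Y = Phi X ∨ Y = X
  ff : ⁅omegaOne 2 (Zc (Op 2 X)), X⁆ ≠ ⊥

namespace XS

variable (h : XS p T X)
include h

theorem n0 : X ⊔ T ≤ Nrm X := sup_le le_nrm_self h.nX
theorem X_normal : X ⊴ X ⊔ T := normalIn_sup_left h.nX
theorem syl0 : IsSylowOf 2 T (X ⊔ T) := h.syl.of_le le_sup_right le_top
theorem sylM : IsSylowOf 2 T (Nrm X) := h.syl.of_le h.nX le_top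
theorem Q_le : Op 2 X ≤ Op 2 (X ⊔ T) := h.X_normal.piCoreOf_le
theorem R_le : Op 2 (X ⊔ T) ≤ T := h.syl0.piCoreOf_le
theorem isPi : IsPi {p} (X ⧸ₙ Op 2 X) := h.shape.elim (fun e => isPi_of_card_pow h.hp e.1)
  fun e => isPi_of_card_pow h.hp e.1
theorem not_cyclic : ¬ IsCyclic (X ⧸ₙ Op 2 X) := h.shape.elim (·.2) fun e c => e.2 (comm_of_cyclic c)

theorem inf_le_Phi (hN : X ⊔ T ≤ Nrm N) (hX : ¬ X ≤ N) : N ⊓ X ≤ Phi X := by
  rcases h.irr (Phi X ⊔ N ⊓ X) le_sup_left (sup_le (Phi_le X) inf_le_right)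
    (nrm_sup (h.nX.trans (nPhi X)) (nrm_inf (le_sup_right.trans hN) h.nX)) with e | e
  · exact le_sup_right.trans e.le
  · have nN : N ⊓ X ⊴ X := ⟨inf_le_right, nrm_inf (le_sup_left.trans hN) le_nrm_self⟩
    have e1 : X ≤ Op 2 X ⊔ N ⊓ X := (quo_le_quo_iff (nQ' X) (inf_le_right.trans (nQ' X))).1
      (eq_of_Phi inf_le_right e.ge).le
    have e2 : N ⊓ X ⊔ Op 2 X = X := le_antisymm (sup_le inf_le_right (piCoreOf_le _ _)) (e1.trans (sup_comm _ _).le)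
    refine (hX ((le_of_odd h.odd nN le_rfl ?_).trans inf_le_left)).elim
    have := relIndex_sup_of_nrm ((piCoreOf_le {2} X).trans nN.2)
    rw [e2] at this
    rw [this]; exact (isPi_piCoreOf _ _).relIndex _

theorem le_CC_of_Phi (hS : S ≤ Nrm X) (hc : ¬ p ∣ Nat.card (S ⧸ₙ Op 2 X)) (h1 : ⁅S, X⁆ ≤ Phi X) : S ≤ CC X := by
  rw [le_CC hS, ← quo_le_cent_iff (hS.trans (nQ X)) (nQ' X)]
  refine coprime_cent_Phi (quo_nrm _ hS) (((isPi_compl_singleton h.hp).2 hc).coprime' h.isPi) ?_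
  rw [commutator_comm, ← quo_commutator (hS.trans (nQ X)) (nQ' X)]
  exact (quo_mono _ h1).trans (mim_mpre_le _ _)

theorem R_eq : T ⊓ CC X = Op 2 (X ⊔ T) := by
  have hR := piCoreOf_normalIn {2} (X ⊔ T)
  refine le_antisymm (le_piCoreOf h.syl.isPi.inf_left ⟨inf_le_left.trans le_sup_right, sup_le ?_
    (nrm_inf le_nrm_self (h.nX.trans (CC_normalIn X).2))⟩) (le_inf h.R_le ((le_CC (hR.1.trans h.n0)).2 ?_))
  · refine commutator_le_left_iff.1 (((le_CC (inf_le_left.trans h.nX)).1 inf_le_right).trans (le_inf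
      (h.Q_le.trans h.R_le) ((le_CC ((piCoreOf_le _ _).trans le_nrm_self)).2 (commutator_le_left' (nQ' X)))))
  · exact (le_inf (commutator_le_left' (le_sup_left.trans hR.2)) (commutator_le_right' (hR.1.trans h.n0))).trans
      h.X_normal.piCoreOf_inf.le

theorem le_R (hS : S ≤ T) (h1 : ⁅S, X⁆ ≤ Phi X) : S ≤ Op 2 (X ⊔ T) :=
  h.R_eq ▸ le_inf hS (h.le_CC_of_Phi (hS.trans h.nX) (fun e => h.h2 ((h.syl.isPi.of_le hS).quo _ p h.hp e)) h1)

theorem inf_T_le (hN : X ⊔ T ≤ Nrm N) (hX : ¬ X ≤ N) : T ⊓ N ≤ Op 2 (X ⊔ T) :=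
  h.le_R inf_le_left ((le_inf ((commutator_mono inf_le_right le_rfl).trans (commutator_le_left'
    (le_sup_left.trans hN))) (commutator_le_right' (inf_le_left.trans h.nX))).trans (h.inf_le_Phi hN hX))

omit h in
theorem nV : Nrm (Op 2 (X ⊔ T)) ≤ Nrm (VV T X) := nrm_omegaOne 2 (nrm_zc le_rfl)
omit h in
theorem nV0 : X ⊔ T ≤ Nrm (VV T X) := (le_nrm_piCoreOf _ _).trans nV
omit h in
theorem R_cent : Op 2 (X ⊔ T) ≤ Cent (VV T X) := le_cent_symm ((omegaOne_le _ _).trans inf_le_right)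
omit h in
theorem elemV : IsElementaryAbelian 2 (VV T X) := elem_omegaOne_of_comm 2 (comm_zc _)

theorem not_cent : ¬ X ≤ Cent (VV T X) := fun hc => by
  obtain ⟨P, hP⟩ := exists_sylow h.hp X
  have e := hP.sup_eq_of_idx (piCoreOf_le {2} X) ((isPi_quo_iff (nQ' X)).1 h.isPi)
  have hU : IsElementaryAbelian 2 (omegaOne 2 (Zc (Op 2 X))) := elem_omegaOne_of_comm 2 (comm_zc _)
  have nU : Nrm X ≤ Nrm (omegaOne 2 (Zc (Op 2 X))) := nrm_omegaOne 2 (nrm_zc (nQ X))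
  have UQ : omegaOne 2 (Zc (Op 2 X)) ≤ Zc (Op 2 X) := omegaOne_le _ _
  have hf := h.ff
  generalize omegaOne 2 (Zc (Op 2 X)) = U at hU nU UQ hf
  have e1 : ⁅U, X⁆ = ⁅U, P⁆ := by
    rw [commutator_comm U, commutator_comm U, ← commutator_sup_cent' (hP.le.trans (nQ' X))
      (le_cent_symm (UQ.trans inf_le_right)), sup_comm, e]
  have ti := coprime_abel_cent_TI hU.1 (hP.le.trans (le_nrm_self.trans nU))
    ((hP.isPi.compl_singleton (Ne.symm h.h2)).coprime' (isPi_of_elem Nat.prime_two hU))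
  have WU : ⁅U, X⁆ ≤ U := commutator_le_left' (le_nrm_self.trans nU)
  have nR := (piCoreOf_le {2} (X ⊔ T)).trans h.n0
  refine nil_meet_zc (isPi_piCoreOf {2} (X ⊔ T)).nil ⟨WU.trans (UQ.trans (inf_le_left.trans h.Q_le)),
    nrm_commutator (nR.trans nU) nR⟩ hf (eq_bot_of_le (le_inf (inf_le_left.trans e1.le) ?_) ti)
  exact (le_omegaOne inf_le_right fun a ha => hU.2 a (WU ha.1)).trans (le_cent_symm (hP.le.trans hc))

theorem cent_le_Phi : Cent (VV T X) ⊓ X ≤ Phi X := h.inf_le_Phi (nrm_cent nV0) h.not_cent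

theorem T_cent : Op 2 (X ⊔ T) = T ⊓ Cent (VV T X) :=
  le_antisymm (le_inf h.R_le R_cent) (h.inf_T_le (nrm_cent nV0) h.not_cent)

theorem mem_calR2 : VV T X ∈ calR2 (X ⊔ T) := by
  refine ⟨(omegaOne_le _ _).trans (inf_le_left.trans (piCoreOf_le _ _)), nV0, elemV, fun N h1 h2 h3 ⟨k, hk⟩ => ?_⟩
  have hi : PNat {2} (((X ⊔ T) ⊓ Cent (VV T X)).relIndex N) := hk ▸ pnat_singleton_pow Nat.prime_two k
  have hX : ¬ X ≤ N := fun e => h.not_cent ((le_of_odd h.odd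
    ⟨h3, h1.trans (nrm_inf le_nrm_self (nrm_cent nV0))⟩ e hi).trans inf_le_right)
  have e := (h.syl0.inf_normal ⟨h1, h2⟩).sup_eq_of_idx h3 hi
  rw [← e]
  exact sup_eq_left.2 ((h.inf_T_le h2 hX).trans (le_inf (piCoreOf_le _ _) R_cent))

theorem oddGenerated_eq : oddGenerated (X ⊔ T) = X := by
  refine le_antisymm ((closure_le _).2 fun x hx => zpowers_le.1 (IsPi.le_of_idx (π := {2}ᶜ) (isPi_zpowers.2
    ((pnat_compl_singleton Nat.prime_two).2 hx.2.not_two_dvd_nat)) h.X_normal (zpowers_le.2 hx.1) ?_))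
    (h.odd.ge.trans (closure_mono fun x hx => ⟨mem_sup_left hx.1, hx.2⟩))
  rw [relIndex_sup_of_nrm h.nX]
  exact (h.syl.isPi.relIndex _).compl_compl

/-- The consequence of the module theorem. -/
theorem main (h5 : 5 ≤ p) {B : Subgroup G} (hB : B ≤ X ⊔ T) (hi : InducesElemAbelianTwoGroupOn B (VV T X))
    (hq : (VV T X ⊓ Cent B).relIndex (VV T X) ≤ (Cent (VV T X)).relIndex B ^ 2) :
    p = 5 ∧ ∀ n ∈ Nrm (VV T X), n ∈ Nrm X → ∀ r : ℕ, Odd r → n ^ r ∈ CC X → ⁅zpowers n, X⁆ ≤ Phi X := by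
  obtain ⟨Γ, _, _, f, W, hW, eW, hk, hf, hr⟩ := exists_faithful (e2_iff.2 (elemV (T := T) (X := X)))
  have n0 : X ⊔ T ≤ Nrm (VV T X) := nV0
  have nx := le_sup_left.trans n0
  have nt := le_sup_right.trans n0
  have nb := hB.trans n0
  have nW : ∀ Y : Subgroup Γ, Y ≤ Nrm W := fun Y => le_top.trans (normalIn_top_iff.2 hW).2
  have toPhi : ∀ S, S ≤ Nrm (VV T X) → S ≤ Nrm X → mim f S ≤ Cent (mim f X) → ⁅S, X⁆ ≤ Phi X :=
    fun S h1 h2 h3 => (le_inf (hk ▸ (mim_le_cent_iff h1 nx).1 h3) (commutator_le_right' h2)).trans h.cent_le_Phi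
  have hA : E2 (mim f B) := fun z hz => by
    obtain ⟨b, hb, hb', rfl⟩ := mem_mim.1 hz
    rw [← mel_mul f hb' hb', mel_eq_one_iff (mul_mem hb' hb'), hk, ← sq]
    exact hi.2.1 b hb
  have hK : mim f T ⊓ (mim f (X ⊔ T) ⊓ Cent (mim f X)) = ⊥ := by
    rw [eq_bot_iff]
    rintro z ⟨hz, -, hz'⟩
    obtain ⟨t, ht, ht', rfl⟩ := mem_mim.1 hz
    have zt := zpowers_le.2 ht
    refine mem_bot.2 ((mel_eq_one_iff ht').2 (hk ▸ R_cent (h.le_R zt (toPhi _ (zt.trans nt) (zt.trans h.nX) ?_)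
      (mem_zpowers t))))
    rw [mim_zpowers f ht']; exact zpowers_le.2 hz'
  have hodd := ((h.syl0.mim f n0).inf_normal (h.X_normal.mim f).cent).isPi_compl_of_eq_bot hK
  have nc : ¬ IsCyclic (mim f X) := fun c => by
    obtain ⟨z, hz⟩ := cyclic_iff_exists_zpowers.1 c
    obtain ⟨y, hy, hy', rfl⟩ := mem_mim.1 (hz ▸ mem_zpowers z)
    have zy := zpowers_le.2 hy
    rw [← mim_zpowers f hy'] at hz
    have e := (mim_le_mim_iff nx (zy.trans nx)).1 hz.ge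
    rw [hk] at e
    have e1 := modr (nrm_cent (zy.trans nx)) zy
    rw [inf_eq_right.2 e] at e1
    exact h.not_cyclic (eq_of_Phi zy (e1.le.trans (sup_le_sup_right h.cent_le_Phi _)) ▸ cyclic_quo inferInstance _)
  obtain ⟨φ, hφ, -⟩ := exists_surj_mim (qmap (Op 2 X)) f (nQ' X) nx (by
    rw [mker_qmap, hk]; exact inf_le_left.trans (h.Q_le.trans R_cent))
  have hd := card_dvd_of_surjective φ hφ
  have shape : (Nat.card (mim f X) = p ^ 2 ∧ ¬ IsCyclic (mim f X)) ∨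
      (Nat.card (mim f X) = p ^ 3 ∧ ¬ IsMulCommutative (mim f X)) := by
    obtain ⟨k, k3, e⟩ := (Nat.dvd_prime_pow (m := 3) h.hp).1 (hd.trans (h.shape.elim
      (fun e => e.1 ▸ pow_dvd_pow p (by norm_num)) fun e => e.1.dvd))
    interval_cases k
    · exact (nc (by rw [card_eq_one.1 e]; infer_instance)).elim
    · exact (nc (cyclic_of_card_prime (by rw [e, pow_one]; exact h.hp))).elim
    · exact Or.inl ⟨e, nc⟩
    · rcases h.shape with e' | e'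
      · rw [e, e'.1, Nat.pow_dvd_pow_iff_le_right h.hp.one_lt] at hd
        omega
      · refine Or.inr ⟨e, fun c => e'.2 ⟨⟨fun a b => ?_⟩⟩⟩
        refine ((Nat.bijective_iff_surjective_and_card φ).2 ⟨hφ, e'.1.trans e.symm⟩).1 ?_
        rw [map_mul, map_mul, c.is_comm.comm]
  obtain ⟨e5, hn⟩ := mod h.hp h5 eW (nW _) (eq_bot_of_le (inf_le_inf_right _ (mim_mono f nx)) hf) hA
    (fun e => hi.1 (((mim_eq_bot_iff nb).1 e).trans hk.le)) (nW _) (mim_nrm f (hB.trans h.n0))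
    ((isPi_of_isPGroup Nat.prime_two hA.isPGroup).inf_left.eq_bot
      (hodd.of_le (inf_le_inf_right _ (mim_mono f hB))))
    (by rw [hr B nb, card_mim f nb, hk, ← inf_relIndex_left]; exact hq) shape
  refine ⟨e5, fun n h1 h2 r hr' hc => toPhi _ (zpowers_le.2 h1) (zpowers_le.2 h2) ?_⟩
  rw [mim_zpowers f h1, zpowers_le]
  refine hn _ (nW ⊤ trivial) (mel_mem_nrm f h2) r hr' ?_
  rw [← mel_pow f h1, ← zpowers_le, ← mim_zpowers f (pow_mem h1 r),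
    mim_le_cent_iff (zpowers_le.2 (pow_mem h1 r)) nx, hk]
  exact ((mem_centMod (nQ' X)).1 hc).2.2.trans (h.Q_le.trans R_cent)

/-- The Frattini argument and the coprime step. -/
theorem final {r : ℕ} (hr : r.Coprime p)
    (hn : ∀ n ∈ Nrm (VV T X), n ∈ Nrm X → n ^ r ∈ CC X → ⁅zpowers n, X⁆ ≤ Phi X)
    {g : G} (hg : g ∈ Nrm X) (hc : g ^ r ∈ CC X) : g ∈ CC X := by
  have hC := CC_normalIn X
  have hS := h.sylM.inf_normal hC
  rw [h.R_eq] at hS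
  have e := frattini_arg Nat.prime_two hC hS
  obtain ⟨c, hc1, n, ⟨hn1, hn2⟩, rfl⟩ := (mem_sup_of_nrm (inf_le_left.trans hC.2)).1 (e.ge hg)
  refine mul_mem hc1 ?_
  have nC : n ∈ Nrm (CC X) := hC.2 hn1
  have h1 : n ^ r ∈ CC X := by
    have e1 : mel (qmap (CC X)) c = 1 := qel_of_mem hc1
    rw [← qel_eq_one_iff (hC.2 (pow_mem hg r)), qel, mel_pow _ (hC.2 hg), mel_mul _ (le_nrm_self hc1) nC,
      e1, one_mul, ← mel_pow _ nC] at hc
    exact (qel_eq_one_iff (pow_mem nC r)).1 hc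
  have h2 := hn n (nV hn2) hn1 h1
  obtain ⟨k, m, hm, em⟩ := Nat.exists_eq_pow_mul_and_not_dvd (orderOf_pos n).ne' p h.hp.ne_one
  have z : zpowers (n ^ p ^ k) ≤ zpowers n := zpowers_le.2 (pow_mem (mem_zpowers n) _)
  refine mem_of_pow_coprime h1 (h.le_CC_of_Phi (z.trans (zpowers_le.2 hn1)) (fun d => hm ?_)
    ((commutator_mono z le_rfl).trans h2) (mem_zpowers _)) (hr.pow_right k)
  refine (d.trans (card_quo_dvd _ _)).trans ?_
  rw [card_zpowers', orderOf_dvd_iff_pow_eq_one, ← pow_mul, ← em, pow_orderOf_eq_one]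

end XS

theorem xs_of_mem (T : Sylow 2 G) (hX : X ∈ Xi (T : Subgroup G)) (hf : X ∈ calXf G) :
    ∃ p, XS p (T : Subgroup G) X ∧ IsPGroup p (X ⧸ pCore 2 X) := by
  obtain ⟨h1, h2, -, ⟨p, hp, p2, hs⟩, h5⟩ := hX
  obtain ⟨e, -⟩ := exists_equiv X
  have c := Nat.card_congr e.toEquiv
  refine ⟨p, ⟨hp, p2, isSylowOf_top T, h1, h2, hs.imp (fun s => ⟨c ▸ s.1, fun cy => ?_⟩)
    (fun s => ⟨c ▸ s.1, fun cm => s.2 ⟨⟨fun a b => e.injective ?_⟩⟩⟩), twoPhiCore_eq X ▸ h5, ?_⟩,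
    hs.elim (fun s => IsPGroup.of_card s.1) fun s => IsPGroup.of_card s.1⟩
  · have := (e.isCyclic.2 cy).exponent_eq_card
    have h3 := Monoid.exponent_dvd_of_forall_pow_eq_one s.2.2
    rw [this, s.1] at h3
    have := (Nat.pow_dvd_pow_iff_le_right hp.one_lt (k := 2) (l := 1)).1 (by rwa [pow_one])
    omega
  · rw [map_mul, map_mul, cm.is_comm.comm]
  · rw [Op_eq_pCore Nat.prime_two]; exact hf.2

theorem mem_CC_iff {g : G} (hg : g ∈ Nrm X) : g ∈ CC X ↔ ∀ x ∈ X, g * x * g⁻¹ * x⁻¹ ∈ pCoreTwoOf X := by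
  have e : pCoreTwoOf X = Op 2 X := (Op_eq_pCore Nat.prime_two X).symm
  have g' := nQ X hg
  have key : ∀ x ∈ X, (g * x * g⁻¹ * x⁻¹ ∈ Op 2 X ↔
      qel (Op 2 X) x * qel (Op 2 X) g = qel (Op 2 X) g * qel (Op 2 X) x) := fun x hx => by
    have x' := nQ' X hx
    rw [← qel_eq_one_iff (mul_mem (mul_mem (mul_mem g' x') (inv_mem g')) (inv_mem x')), qel,
      mel_mul _ (mul_mem (mul_mem g' x') (inv_mem g')) (inv_mem x'), mel_conj _ g' x', mel_inv _ x',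
      mul_inv_eq_one, mul_inv_eq_iff_eq_mul, eq_comm]
  rw [e, CC, centMod, mem_inf, mem_qpre, and_iff_right hg, and_iff_right g', mem_cent]
  refine ⟨fun h x hx => (key x hx).2 (h _ (qel_mem_quo _ hx)), fun h z hz => ?_⟩
  obtain ⟨x, hx, -, rfl⟩ := mem_quo.1 hz
  exact (key x hx).1 (h x hx)

theorem jobXf : H97.QT.JobXf.{u} := by
  intro h1822 h1824 G _ _ _ hG hQ T X hT hX hXf
  obtain ⟨p, h, hP⟩ := xs_of_mem T hX.1 hXf
  have hU := h1822 hG hQ T X hX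
  have hM : Nrm X ∈ maxTwoLocalsContaining (X ⊔ (T : Subgroup G)) := hU ▸ Set.mem_singleton _
  by_cases h3 : p = 3
  · refine Or.inl fun q hq hd => ?_
    rw [← card_mul_card_quo (piCoreOf_normalIn {2} X)] at hd
    exact ((Nat.Prime.dvd_mul hq).1 hd).imp (isPi_piCoreOf _ _ q hq) fun d => h3 ▸ h.isPi q hq d
  have h5 : 5 ≤ p := h.hp.five_le_of_ne_two_of_ne_three h.h2 h3
  obtain ⟨M', hM', hne⟩ : ∃ M' ∈ maxTwoLocalsContaining (T : Subgroup G), M' ≠ Nrm X := by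
    obtain ⟨M₁, M₂, a, b, c⟩ := hT
    by_cases e : M₁ = Nrm X
    · exact ⟨M₂, b, fun e' => c (e.trans e'.symm)⟩
    · exact ⟨M₁, a, e⟩
  have hM'' : M' ∈ calHOverNotLE (T : Subgroup G) (Nrm X) := by
    refine ⟨⟨fun e => ?_, hM'.2⟩, fun e => hne (hM'.1.2 _ hM.1.1 e).symm⟩
    obtain ⟨S, s1, s2, rfl⟩ := hM'.1.1
    refine s2 (eq_bot_of_le (le_piCoreOf (isPi_of_isPGroup Nat.prime_two s1) (normalIn_nrm S)) ?_)
    rw [← Subgroup.map_bot (Nrm S).subtype, ← e]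
    exact Op_eq_pCore Nat.prime_two _
  obtain ⟨H, -, hH⟩ := Finite.exists_le_minimal (p := (· ∈ calHOverNotLE (T : Subgroup G) (Nrm X))) hM''
  have eR := (Op_eq_pCore Nat.prime_two (X ⊔ (T : Subgroup G))).symm
  obtain ⟨B, hB, hi, hq⟩ : ∃ B ≤ X ⊔ (T : Subgroup G), InducesElemAbelianTwoGroupOn B (VV T X) ∧
      (VV T X ⊓ Cent B).relIndex (VV T X) ≤ (Cent (VV T X)).relIndex B ^ 2 := by
    rcases h1824 hG hQ T (Nrm X) (X ⊔ T) H (VV T X) ⟨hM.1, h.nX⟩ le_sup_right h.n0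
      ⟨hH.1, fun K hK e => le_antisymm e (hH.2 hK e)⟩ h.mem_calR2 (eR.trans h.T_cent)
      (Or.inl (h.oddGenerated_eq.symm ▸ inf_le_right)) with ⟨R₀, r1, r2, r3⟩ | ⟨-, B, a, b, -, c⟩ | ⟨B, a, b, -, c⟩
    · obtain ⟨M, m1, m2⟩ := Finite.exists_le_maximal (p := fun N : Subgroup G => IsTwoLocal N) (a := Nrm R₀)
        ⟨R₀, (isPGroup_Op Nat.prime_two _).to_le (r2.trans eR.le), r1, rfl⟩
      have : M ∈ maxTwoLocalsContaining (X ⊔ (T : Subgroup G)) :=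
        ⟨⟨m2.1, fun N hN e => le_antisymm (m2.2 hN e) e⟩, le_sup_left.trans (r3.trans m1)⟩
      rw [hU, Set.mem_singleton_iff] at this
      exact (hH.1.2 (le_sup_right.trans (r3.trans (m1.trans this.le)))).elim
    · exact ⟨B, a, b, c⟩
    · exact ⟨B, a, b, c⟩
  obtain ⟨rfl, hn⟩ := h.main h5 hB hi hq
  refine Or.inr ⟨hP, fun r hr r2 r5 g hg hc => (mem_CC_iff hg).1 (h.final
    ((Nat.coprime_primes hr h.hp).2 r5) (fun n a b => hn n a b r (hr.odd_of_ne_two r2)) hg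
    ((mem_CC_iff (pow_mem hg r)).2 hc))⟩

end H33.QT
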